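import Mathlib
import Cfsg.Prelude.Def_SporadicCombinatorics
import Cfsg.Agent.Lib.Helper7.M24Trans
import Cfsg.Agent.Lib.Helper7.M24OctStab
import Cfsg.Agent.Lib.Helper26.GolayBitsWeights

/-!
# Orbit certificates for subgroups of `M24` acting on subsets of the 24 points

Generic checker: given tables of some elements of a subgroup `H` of `Perm GolayPt`, a certificate is
a list of triples `(target, source, k)` of masks and a generator index; it is accepted when every
source has been reached before and the `k`-th table maps the source onto the target.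
-/

set_option autoImplicit false

namespace Cfsg.Agent.Lib.Helper27

open Cfsg Cfsg.Agent.Lib.Helper7
open scoped Pointwise

/-- the two bitmask libraries agree on `idx` -/
theorem idx_eq_idx26 (p : GolayPt) : Cfsg.Agent.Lib.Helper7.idx p = Cfsg.Agent.Lib.Helper26.idx p := by
  cases p <;> rfl

/-- the two bitmask libraries agree on `setOf` -/
theorem setOf_eq_setOf26 (m : ℕ) :
    Cfsg.Agent.Lib.Helper7.setOf m = Cfsg.Agent.Lib.Helper26.setOf m := by
  unfold Cfsg.Agent.Lib.Helper7.setOf Cfsg.Agent.Lib.Helper26.setOf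
  ext p
  simp only [Finset.mem_filter, Finset.mem_univ, true_and, idx_eq_idx26]

/-- the orbit checker -/
def orbCheck (ts : List (List ℕ)) : List ℕ → List (ℕ × ℕ × ℕ) → Bool
  | _, [] => true
  | reached, (t, s, k) :: rest =>
    reached.contains s && mapsInto (ts.getD k idT) s t && decide (pc t ≤ pc s) &&
      orbCheck ts (t :: reached) rest

theorem orbCheck_sound (H : Subgroup (Equiv.Perm GolayPt)) (gs : List (Equiv.Perm GolayPt))
    (ts : List (List ℕ)) (hM : List.Forall₂ Matches gs ts) (hH : ∀ g ∈ gs, g ∈ H) (b : ℕ) :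
    ∀ (cert : List (ℕ × ℕ × ℕ)) (reached : List ℕ),
      (∀ r ∈ reached, ∃ g ∈ H, g • setOf b = setOf r) → orbCheck ts reached cert = true →
      ∀ e ∈ cert, ∃ g ∈ H, g • setOf b = setOf e.1 := by
  intro cert
  induction cert with
  | nil => intro _ _ _ e he; exact absurd he (List.not_mem_nil)
  | cons c rest ih =>
    intro reached hr hc e he
    obtain ⟨t, s, k⟩ := c
    simp only [orbCheck, Bool.and_eq_true, decide_eq_true_eq] at hc
    obtain ⟨⟨⟨hs, hmap⟩, hpc⟩, hrest⟩ := hc
    have hs' : s ∈ reached := by simpa using hs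
    obtain ⟨g, hg, hgs⟩ := hr s hs'
    have hk : gs.getD k 1 ∈ H := getD_mem_of_forall hH k
    have hmk : Matches (gs.getD k 1) (ts.getD k idT) := forall₂_getD hM matches_one k
    have ht : ∃ g' ∈ H, g' • setOf b = setOf t := by
      refine ⟨gs.getD k 1 * g, H.mul_mem hk hg, ?_⟩
      rw [mul_smul, hgs]
      exact smul_setOf_eq_of_mapsInto hmk hmap hpc
    rcases List.mem_cons.mp he with rfl | he'
    · exact ht
    · refine ih (t :: reached) ?_ hrest e he'
      intro r hr'
      rcases List.mem_cons.mp hr' with rfl | hr''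
      · exact ht
      · exact hr r hr''

/-- all masks reached by a certificate starting from `b` -/
def reachedOf (b : ℕ) (cert : List (ℕ × ℕ × ℕ)) : List ℕ := b :: cert.map (fun e => e.1)

theorem orbit_of_cert (H : Subgroup (Equiv.Perm GolayPt)) (gs : List (Equiv.Perm GolayPt))
    (ts : List (List ℕ)) (hM : List.Forall₂ Matches gs ts) (hH : ∀ g ∈ gs, g ∈ H) (b : ℕ)
    (cert : List (ℕ × ℕ × ℕ)) (hc : orbCheck ts [b] cert = true) :
    ∀ m ∈ reachedOf b cert, ∃ g ∈ H, g • setOf b = setOf m := by
  intro m hm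
  unfold reachedOf at hm
  rcases List.mem_cons.mp hm with rfl | hm'
  · exact ⟨1, H.one_mem, one_smul _ _⟩
  · rw [List.mem_map] at hm'
    obtain ⟨e, he, rfl⟩ := hm'
    refine orbCheck_sound H gs ts hM hH b cert [b] ?_ hc e he
    intro r hr
    rw [List.mem_singleton] at hr
    subst hr
    exact ⟨1, H.one_mem, one_smul _ _⟩

/-- two masks reached from the same base are in one orbit -/
theorem orbit_pair (H : Subgroup (Equiv.Perm GolayPt)) {b m m' : ℕ}
    (h : ∃ g ∈ H, g • setOf b = setOf m) (h' : ∃ g ∈ H, g • setOf b = setOf m') :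
    ∃ g ∈ H, g • setOf m = setOf m' := by
  obtain ⟨g, hg, hgm⟩ := h
  obtain ⟨g', hg', hgm'⟩ := h'
  refine ⟨g' * g⁻¹, H.mul_mem hg' (H.inv_mem hg), ?_⟩
  rw [mul_smul, ← hgm, inv_smul_smul, hgm']

end Cfsg.Agent.Lib.Helper27
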