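import Mathlib
import Cfsg.Prelude.Def_SporadicCombinatorics
import Cfsg.Agent.Lib.Helper27.M24Orbit

/-!
# Orbits of subgroups of `M24` on classes of octads, by certificates

A *class* is a triple `(invariant value, base mask, certificate)`; when all certificates are accepted
and every selected octad mask lies in the class of its invariant, two selected octads with equal
invariant are conjugate under the subgroup.  Also: counting octads with a decidable property, and
transport of such counts / conjugacy statements along an element of `M24`.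
-/

set_option autoImplicit false

namespace Cfsg.Agent.Lib.Helper27

open Cfsg Cfsg.Agent.Lib.Helper7
open scoped Pointwise

/-- the literal list of the 759 octad masks -/
abbrev octL : List ℕ := Cfsg.Agent.Lib.Helper26.octadMasks

theorem forall_octads7 {P : Finset GolayPt → Prop} (h : ∀ m ∈ octL, P (setOf m)) :
    ∀ o ∈ octads, P o := by
  apply Cfsg.Agent.Lib.Helper26.forall_octads
  intro m hm
  rw [← setOf_eq_setOf26]
  exact h m hm

theorem setOf_mem_octads7 {m : ℕ} (h : m ∈ octL) : setOf m ∈ octads := by
  rw [setOf_eq_setOf26]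
  exact Cfsg.Agent.Lib.Helper26.setOf_mem_octads h

theorem octL_lt {m : ℕ} (h : m ∈ octL) : m < 2 ^ 24 := Cfsg.Agent.Lib.Helper26.octadMasks_lt h

/-- counting octads with a property that is decided on masks by `q` -/
theorem ncard_octads_filter (P : Finset GolayPt → Prop) (q : ℕ → Bool)
    (h : ∀ m ∈ octL, (P (setOf m) ↔ q m = true)) :
    {o : Finset GolayPt | o ∈ octads ∧ P o}.ncard = (octL.filter q).length := by
  classical
  have hset : {o : Finset GolayPt | o ∈ octads ∧ P o} =
      ↑((octL.filter q).toFinset.image Cfsg.Agent.Lib.Helper7.setOf) := by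
    ext o
    simp only [Set.mem_ofPred_eq, Finset.coe_image, Set.mem_image, Finset.mem_coe,
      List.mem_toFinset, List.mem_filter]
    constructor
    · rintro ⟨ho, hP⟩
      have hm := (Cfsg.Agent.Lib.Helper26.mem_octads_iff_mem_list o).1 ho
      have hs : setOf (Cfsg.Agent.Lib.Helper26.maskOfSet o) = o := by
        rw [setOf_eq_setOf26, Cfsg.Agent.Lib.Helper26.setOf_maskOfSet]
      refine ⟨_, ⟨hm, ?_⟩, hs⟩
      rw [← h _ hm, hs]
      exact hP
    · rintro ⟨m, ⟨hm, hq⟩, rfl⟩
      exact ⟨setOf_mem_octads7 hm, (h m hm).2 hq⟩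
  rw [hset, Set.ncard_coe_finset, Finset.card_image_of_injOn, List.toFinset_card_of_nodup]
  · exact Cfsg.Agent.Lib.Helper26.octadMasks_nodup.filter _
  · intro m hm n hn hmn
    rw [Finset.mem_coe, List.mem_toFinset, List.mem_filter] at hm hn
    exact setOf_injOn (octL_lt hm.1) (octL_lt hn.1) hmn

/-- invariant, base mask, certificate -/
abbrev OrbClass := ℕ × ℕ × List (ℕ × ℕ × ℕ)

/-- all certificates are accepted -/
def classesOK (ts : List (List ℕ)) (classes : List OrbClass) : Bool :=
  classes.all fun c => orbCheck ts [c.2.1] c.2.2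

/-- every selected octad mask lies in the class of its invariant -/
def coverOK (sel : ℕ → Bool) (inv : ℕ → ℕ) (classes : List OrbClass) : Bool :=
  octL.all fun m => !sel m || classes.any fun c => inv m == c.1 && (reachedOf c.2.1 c.2.2).contains m

theorem orbits_of_classes (H : Subgroup (Equiv.Perm GolayPt)) (gs : List (Equiv.Perm GolayPt))
    (ts : List (List ℕ)) (hM : List.Forall₂ Matches gs ts) (hH : ∀ g ∈ gs, g ∈ H)
    (sel : ℕ → Bool) (inv : ℕ → ℕ) (classes : List OrbClass)
    (hnd : (classes.map fun c => c.1).Nodup)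
    (hc : classesOK ts classes = true) (hall : coverOK sel inv classes = true) :
    ∀ m ∈ octL, ∀ m' ∈ octL, sel m = true → sel m' = true → inv m = inv m' →
      ∃ g ∈ H, g • setOf m = setOf m' := by
  intro m hm m' hm' hs hs' hinv
  have key : ∀ n ∈ octL, sel n = true → ∃ c ∈ classes, inv n = c.1 ∧
      ∃ g ∈ H, g • setOf c.2.1 = setOf n := by
    intro n hn hsn
    have h1 := List.all_eq_true.1 hall n hn
    rw [hsn] at h1
    simp only [Bool.not_true, Bool.false_or, List.any_eq_true, Bool.and_eq_true, beq_iff_eq,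
      List.contains_iff_mem] at h1
    obtain ⟨c, hcm, hic, hr⟩ := h1
    refine ⟨c, hcm, hic, ?_⟩
    have h2 := List.all_eq_true.1 hc c hcm
    exact orbit_of_cert H gs ts hM hH c.2.1 c.2.2 h2 n hr
  obtain ⟨c, hcm, hic, hg⟩ := key m hm hs
  obtain ⟨c', hcm', hic', hg'⟩ := key m' hm' hs'
  have hcc : c = c' := by
    have h1 : c.1 = c'.1 := by rw [← hic, ← hic', hinv]
    exact List.inj_on_of_nodup_map hnd hcm hcm' h1
  subst hcc
  exact orbit_pair H hg hg'

/-! ### transport along a permutation -/

theorem ncard_smul_transport (g : Equiv.Perm GolayPt) (P Q : Finset GolayPt → Prop)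
    (h : ∀ s, P s ↔ Q (g • s)) : {s | P s}.ncard = {s | Q s}.ncard := by
  have himg : {s | Q s} = (fun s : Finset GolayPt => g • s) '' {s | P s} := by
    ext s
    simp only [Set.mem_ofPred_eq, Set.mem_image]
    constructor
    · intro hs
      refine ⟨g⁻¹ • s, ?_, smul_inv_smul g s⟩
      rw [h, smul_inv_smul]
      exact hs
    · rintro ⟨t, ht, rfl⟩
      exact (h t).1 ht
  rw [himg, Set.ncard_image_of_injective _ (MulAction.injective g)]

theorem smul_mem_octads_iff {g : Equiv.Perm GolayPt} (hg : g ∈ M24) {s : Finset GolayPt} :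
    g • s ∈ octads ↔ s ∈ octads := by
  constructor
  · intro h
    have := smul_mem_octads (M24.inv_mem hg) h
    rwa [inv_smul_smul] at this
  · exact smul_mem_octads hg

theorem perm_apply_mem_smul_iff (g : Equiv.Perm GolayPt) {x : GolayPt} {s : Finset GolayPt} :
    g x ∈ g • s ↔ x ∈ s := by
  rw [← Equiv.Perm.smul_def, Finset.smul_mem_smul_finset_iff]

theorem card_smul_inter_smul (g : Equiv.Perm GolayPt) (s t : Finset GolayPt) :
    ((g • s) ∩ (g • t)).card = (s ∩ t).card := by
  rw [← Finset.smul_finset_inter, Finset.card_smul_finset]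

theorem card_setOf_inter (a b : ℕ) : (setOf a ∩ setOf b).card = pc (a &&& b) := by
  rw [← setOf_and, card_setOf]

theorem pt_mem_setOf {i m : ℕ} (hi : i < 24) : pt i ∈ setOf m ↔ m.testBit i = true := by
  rw [mem_setOf, idx_pt hi]

end Cfsg.Agent.Lib.Helper27
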