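import Mathlib
import Cfsg.Prelude.Def_SporadicCombinatorics
import Cfsg.Agent.Lib.Helper27.M24Classes

/-!
# Stabilizers of configurations (points and sets) in `M24`, given by straight-line programs

`cfgStab ps ss` is the subgroup of `M24` fixing every point of the list `ps` and every finset of the
list `ss`.  Elements are produced by a straight-line program in the three generators of `M24`; their
tables are checked against literal tables, the tables are checked to fix the configuration, and
orbit certificates then give conjugacy under `cfgStab`.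
-/

set_option autoImplicit false

namespace Cfsg.Agent.Lib.Helper27

open Cfsg Cfsg.Agent.Lib.Helper7
open scoped Pointwise

/-- subgroup of `M24` fixing the listed points and the listed sets -/
def cfgStab (ps : List GolayPt) (ss : List (Finset GolayPt)) : Subgroup (Equiv.Perm GolayPt) where
  carrier := {g | g ∈ M24 ∧ (∀ p ∈ ps, g p = p) ∧ ∀ s ∈ ss, g • s = s}
  one_mem' := ⟨M24.one_mem, fun _ _ => rfl, fun _ _ => one_smul _ _⟩
  mul_mem' := by
    rintro a b ⟨ha, hap, has⟩ ⟨hb, hbp, hbs⟩
    refine ⟨M24.mul_mem ha hb, fun p hp => ?_, fun s hs => ?_⟩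
    · rw [Equiv.Perm.mul_apply, hbp p hp, hap p hp]
    · rw [mul_smul, hbs s hs, has s hs]
  inv_mem' := by
    rintro a ⟨ha, hap, has⟩
    refine ⟨M24.inv_mem ha, fun p hp => ?_, fun s hs => ?_⟩
    · rw [Equiv.Perm.inv_eq_iff_eq, hap p hp]
    · rw [inv_smul_eq_iff, has s hs]

theorem mem_cfgStab {ps : List GolayPt} {ss : List (Finset GolayPt)} {g : Equiv.Perm GolayPt} :
    g ∈ cfgStab ps ss ↔ g ∈ M24 ∧ (∀ p ∈ ps, g p = p) ∧ ∀ s ∈ ss, g • s = s := Iff.rfl

/-- the permutations at the stack positions `idxs` of the program -/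
noncomputable def slpP (prog : List (ℕ × ℕ)) (idxs : List ℕ) : List (Equiv.Perm GolayPt) :=
  idxs.map fun i => (runP prog gensP).getD i 1

/-- the tables at the stack positions `idxs` of the program -/
def slpT (prog : List (ℕ × ℕ)) (idxs : List ℕ) : List (List ℕ) :=
  idxs.map fun i => (runT prog gensT).getD i idT

theorem slp_match (prog : List (ℕ × ℕ)) (idxs : List ℕ) :
    List.Forall₂ Matches (slpP prog idxs) (slpT prog idxs) := by
  unfold slpP slpT
  rw [List.forall₂_map_left_iff, List.forall₂_map_right_iff, List.forall₂_same]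
  intro i _
  exact forall₂_getD (forall₂_runP_runT prog gensP gensT gens_match) matches_one i

theorem slpP_mem_M24 (prog : List (ℕ × ℕ)) (idxs : List ℕ) : ∀ g ∈ slpP prog idxs, g ∈ M24 := by
  intro g hg
  unfold slpP at hg
  rw [List.mem_map] at hg
  obtain ⟨i, _, rfl⟩ := hg
  exact genH_le_M24 (getD_mem_of_forall (runP_mem genH prog gensP gensP_mem_genH) i)

/-- the table fixes the points with indices `pis` and the sets with masks `ms` -/
def fixesOK (pis ms : List ℕ) (t : List ℕ) : Bool :=
  (pis.all fun i => t.getD i 0 == i) && ms.all fun m => mapsInto t m m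

theorem mem_cfgStab_of_fixesOK {g : Equiv.Perm GolayPt} {t : List ℕ} (hm : Matches g t)
    (hg : g ∈ M24) (pis ms : List ℕ) (hpis : ∀ i ∈ pis, i < 24) (h : fixesOK pis ms t = true) :
    g ∈ cfgStab (pis.map pt) (ms.map setOf) := by
  unfold fixesOK at h
  rw [Bool.and_eq_true, List.all_eq_true, List.all_eq_true] at h
  refine ⟨hg, ?_, ?_⟩
  · intro p hp
    rw [List.mem_map] at hp
    obtain ⟨i, hi, rfl⟩ := hp
    have := h.1 i hi
    rw [beq_iff_eq] at this
    exact matches_apply hm (hpis i hi) (hpis i hi) this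
  · intro s hs
    rw [List.mem_map] at hs
    obtain ⟨m, hmm, rfl⟩ := hs
    exact smul_setOf_eq_of_mapsInto hm (h.2 m hmm) le_rfl

theorem exists_of_forall₂_mem {α β : Type*} {R : α → β → Prop} {l1 : List α} {l2 : List β}
    (h : List.Forall₂ R l1 l2) {a : α} (ha : a ∈ l1) : ∃ b ∈ l2, R a b := by
  induction h with
  | nil => exact absurd ha List.not_mem_nil
  | cons hab _ ih =>
    rcases List.mem_cons.1 ha with rfl | ha'
    · exact ⟨_, List.mem_cons_self, hab⟩
    · obtain ⟨b, hb, hR⟩ := ih ha'
      exact ⟨b, List.mem_cons_of_mem _ hb, hR⟩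

theorem slpP_mem_cfgStab (prog : List (ℕ × ℕ)) (idxs : List ℕ) (T : List (List ℕ))
    (hT : slpT prog idxs = T) (pis ms : List ℕ) (hpis : ∀ i ∈ pis, i < 24)
    (hfix : T.all (fixesOK pis ms) = true) :
    ∀ g ∈ slpP prog idxs, g ∈ cfgStab (pis.map pt) (ms.map setOf) := by
  have hM := slp_match prog idxs
  rw [hT] at hM
  intro g hg
  obtain ⟨t, ht, hgt⟩ : ∃ t ∈ T, Matches g t := exists_of_forall₂_mem hM hg
  exact mem_cfgStab_of_fixesOK hgt (slpP_mem_M24 prog idxs g hg) pis ms hpis
    (List.all_eq_true.1 hfix t ht)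

/-- **Main tool**: conjugacy of selected octads with equal invariant under a configuration
stabilizer. -/
theorem cfg_orbits (prog : List (ℕ × ℕ)) (idxs : List ℕ) (T : List (List ℕ))
    (hT : slpT prog idxs = T) (pis ms : List ℕ) (hpis : ∀ i ∈ pis, i < 24)
    (hfix : T.all (fixesOK pis ms) = true)
    (sel : ℕ → Bool) (inv : ℕ → ℕ) (classes : List OrbClass)
    (hnd : (classes.map fun c => c.1).Nodup)
    (hc : classesOK T classes = true) (hall : coverOK sel inv classes = true) :
    ∀ m ∈ octL, ∀ m' ∈ octL, sel m = true → sel m' = true → inv m = inv m' →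
      ∃ g ∈ cfgStab (pis.map pt) (ms.map setOf), g • setOf m = setOf m' := by
  have hM := slp_match prog idxs
  rw [hT] at hM
  exact orbits_of_classes _ (slpP prog idxs) T hM
    (slpP_mem_cfgStab prog idxs T hT pis ms hpis hfix) sel inv classes hnd hc hall

/-- orbit of a single mask under a configuration stabilizer -/
theorem cfg_orbit_cert (prog : List (ℕ × ℕ)) (idxs : List ℕ) (T : List (List ℕ))
    (hT : slpT prog idxs = T) (pis ms : List ℕ) (hpis : ∀ i ∈ pis, i < 24)
    (hfix : T.all (fixesOK pis ms) = true) (b : ℕ) (cert : List (ℕ × ℕ × ℕ))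
    (hc : orbCheck T [b] cert = true) :
    ∀ m ∈ reachedOf b cert, ∃ g ∈ cfgStab (pis.map pt) (ms.map setOf),
      g • setOf b = setOf m := by
  have hM := slp_match prog idxs
  rw [hT] at hM
  exact orbit_of_cert _ (slpP prog idxs) T hM
    (slpP_mem_cfgStab prog idxs T hT pis ms hpis hfix) b cert hc

theorem setOf_two_pow {i : ℕ} (hi : i < 24) : setOf (2 ^ i) = {pt i} := by
  ext p
  rw [mem_setOf, Finset.mem_singleton, Nat.testBit_two_pow, decide_eq_true_eq]
  constructor
  · intro h
    rw [← pt_idx p, ← h]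
  · intro h
    rw [h, idx_pt hi]

/-- transitivity on points from a certificate on singleton masks -/
theorem cfg_point_orbit (prog : List (ℕ × ℕ)) (idxs : List ℕ) (T : List (List ℕ))
    (hT : slpT prog idxs = T) (pis ms : List ℕ) (hpis : ∀ i ∈ pis, i < 24)
    (hfix : T.all (fixesOK pis ms) = true) (b : ℕ) (hb : b < 24) (cert : List (ℕ × ℕ × ℕ))
    (hc : orbCheck T [2 ^ b] cert = true) (i : ℕ) (hi : i < 24)
    (hr : (reachedOf (2 ^ b) cert).contains (2 ^ i) = true) :
    ∃ g ∈ cfgStab (pis.map pt) (ms.map setOf), g (pt b) = pt i := by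
  rw [List.contains_iff_mem] at hr
  obtain ⟨g, hg, hgb⟩ := cfg_orbit_cert prog idxs T hT pis ms hpis hfix (2 ^ b) cert hc _ hr
  refine ⟨g, hg, ?_⟩
  rw [setOf_two_pow hb, setOf_two_pow hi, Finset.smul_finset_singleton,
    Finset.singleton_inj] at hgb
  exact hgb

end Cfsg.Agent.Lib.Helper27
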