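import Cfsg.Agent.Lib.Helper27.SpecS8

/-!
# Cycle types in the symmetric group of degree 8 determined by the order
-/

set_option autoImplicit false

namespace Cfsg.Agent.Lib.Helper27.SpecS8

theorem list_facts : ∀ l : List ℕ, (∀ x ∈ l, 2 ≤ x) → l.sum ≤ 8 →
    (l.foldr Nat.lcm 1 = 7 → l = [7]) ∧
    (l.foldr Nat.lcm 1 = 15 → l = [3, 5] ∨ l = [5, 3]) ∧
    (l.foldr Nat.lcm 1 = 8 ∨ l.foldr Nat.lcm 1 = 10 ∨ l.foldr Nat.lcm 1 = 12 →
      Odd (l.sum + l.length)) := by
  intro l h2 hs
  match l, h2, hs with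
  | [], _, _ => simp
  | [a], h2, hs =>
    have ha := h2 a (by simp)
    simp only [List.sum_cons, List.sum_nil] at hs
    have : a ≤ 8 := by omega
    interval_cases a <;> simp <;> decide
  | [a, b], h2, hs =>
    have ha := h2 a (by simp)
    have hb := h2 b (by simp)
    simp only [List.sum_cons, List.sum_nil] at hs
    have : a ≤ 6 := by omega
    have : b ≤ 6 := by omega
    interval_cases a <;> interval_cases b <;> first | omega | (simp [Nat.lcm]; done) | (simp [Nat.lcm]; decide)
  | [a, b, c], h2, hs =>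
    have ha := h2 a (by simp)
    have hb := h2 b (by simp)
    have hc := h2 c (by simp)
    simp only [List.sum_cons, List.sum_nil] at hs
    have : a ≤ 4 := by omega
    have : b ≤ 4 := by omega
    have : c ≤ 4 := by omega
    interval_cases a <;> interval_cases b <;> interval_cases c <;>
      first | omega | (simp [Nat.lcm]; done) | (simp [Nat.lcm]; decide)
  | [a, b, c, d], h2, hs =>
    have ha := h2 a (by simp)
    have hb := h2 b (by simp)
    have hc := h2 c (by simp)
    have hd := h2 d (by simp)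
    simp only [List.sum_cons, List.sum_nil] at hs
    obtain rfl : a = 2 := by omega
    obtain rfl : b = 2 := by omega
    obtain rfl : c = 2 := by omega
    obtain rfl : d = 2 := by omega
    simp [Nat.lcm]
  | a :: b :: c :: d :: e :: l, h2, hs =>
    exfalso
    have ha := h2 a (by simp)
    have hb := h2 b (by simp)
    have hc := h2 c (by simp)
    have hd := h2 d (by simp)
    have he := h2 e (by simp)
    simp only [List.sum_cons] at hs
    omega

theorem multiset_facts (m : Multiset ℕ) (h2 : ∀ x ∈ m, 2 ≤ x) (hs : m.sum ≤ 8) :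
    (m.lcm = 7 → m = {7}) ∧ (m.lcm = 15 → m = {3, 5}) ∧
    (m.lcm = 8 ∨ m.lcm = 10 ∨ m.lcm = 12 → Odd (m.sum + Multiset.card m)) := by
  induction m using Quotient.inductionOn with
  | _ l =>
    have e' : Multiset.lcm (Quotient.mk (List.isSetoid ℕ) l) = l.foldr Nat.lcm 1 := coe_lcm l
    rw [e']
    obtain ⟨f1, f2, f3⟩ := list_facts l (fun x hx => h2 x (by simpa using hx)) (by simpa using hs)
    refine ⟨fun h => ?_, fun h => ?_, fun h => ?_⟩
    · rw [f1 h]; rfl
    · rcases f2 h with e | e
      · rw [e]; rfl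
      · rw [e]
        change ((↑[5, 3] : Multiset ℕ)) = ↑[3, 5]
        rw [Multiset.coe_eq_coe]
        exact List.Perm.swap 3 5 []
    · have := f3 h
      simpa using this

theorem perm8_facts (σ : Equiv.Perm (Fin 8)) :
    (orderOf σ = 7 → σ.cycleType = {7}) ∧ (orderOf σ = 15 → σ.cycleType = {3, 5}) ∧
    (orderOf σ = 8 ∨ orderOf σ = 10 ∨ orderOf σ = 12 → Equiv.Perm.sign σ = -1) := by
  have h := multiset_facts σ.cycleType (fun x hx => Equiv.Perm.two_le_of_mem_cycleType hx)
    (by simpa using Equiv.Perm.sum_cycleType_le σ)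
  rw [Equiv.Perm.lcm_cycleType] at h
  refine ⟨h.1, h.2.1, fun h3 => ?_⟩
  rw [Equiv.Perm.sign_of_cycleType]
  exact (h.2.2 h3).neg_one_pow

end Cfsg.Agent.Lib.Helper27.SpecS8
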