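import Cfsg.Agent.Lib.Helper27.SemiSpec
import Cfsg.Agent.Lib.Helper27.SpecA8

/-!
# The groups `2^{6k} : A₈` and their element orders
-/

set_option autoImplicit false

namespace Cfsg.Agent.Lib.Helper27.A8Ext
open Cfsg.Agent.Lib.Helper27.SemiSpec Cfsg.Agent.Lib.Helper27.SpecS8

/-- functions of two points of `Fin 8` with values in `𝔽₂` -/
def F8 : Type := Fin 8 → Fin 8 → ZMod 2

instance : AddCommGroup F8 := inferInstanceAs (AddCommGroup (Fin 8 → Fin 8 → ZMod 2))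
instance : DecidableEq F8 := inferInstanceAs (DecidableEq (Fin 8 → Fin 8 → ZMod 2))
instance : Fintype F8 := inferInstanceAs (Fintype (Fin 8 → Fin 8 → ZMod 2))

@[ext] theorem F8.ext {f g : F8} (h : ∀ i j, f i j = g i j) : f = g := funext fun i => funext (h i)

theorem F8.add_apply (f g : F8) (i j : Fin 8) : (f + g) i j = f i j + g i j := rfl
theorem F8.zero_apply (i j : Fin 8) : (0 : F8) i j = 0 := rfl

instance : DistribMulAction (Equiv.Perm (Fin 8)) F8 where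
  smul σ f := fun i j => f (σ⁻¹ i) (σ⁻¹ j)
  one_smul f := rfl
  mul_smul σ τ f := by
    ext i j
    change f ((σ * τ)⁻¹ i) ((σ * τ)⁻¹ j) = f (τ⁻¹ (σ⁻¹ i)) (τ⁻¹ (σ⁻¹ j))
    rw [mul_inv_rev]; rfl
  smul_zero σ := rfl
  smul_add σ f g := rfl

theorem F8.smul_apply (σ : Equiv.Perm (Fin 8)) (f : F8) (i j : Fin 8) :
    (σ • f) i j = f (σ⁻¹ i) (σ⁻¹ j) := rfl

theorem F8.add_self (f : F8) : f + f = 0 := by
  ext i j
  rw [F8.add_apply, F8.zero_apply]
  exact CharTwo.add_self_eq_zero _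

/-- the coboundary of a vector -/
def dlF (v : Fin 8 → ZMod 2) : F8 := fun i j => v i + v j

/-- the coboundaries of the even vectors: a copy of the 6-dimensional module `E/⟨1⟩` -/
def IsDl (f : F8) : Prop := ∃ v : Fin 8 → ZMod 2, ∑ i, v i = 0 ∧ f = dlF v

theorem isDl_zero : IsDl 0 := ⟨0, by simp, by ext i j; simp [dlF, F8.zero_apply]⟩

theorem IsDl.add {f g : F8} (hf : IsDl f) (hg : IsDl g) : IsDl (f + g) := by
  obtain ⟨v, hv, rfl⟩ := hf
  obtain ⟨w, hw, rfl⟩ := hg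
  refine ⟨v + w, by simp [Finset.sum_add_distrib, hv, hw], ?_⟩
  ext i j
  simp only [dlF, F8.add_apply, Pi.add_apply]
  ring

theorem IsDl.neg {f : F8} (hf : IsDl f) : IsDl (-f) := by
  have : -f = f := by
    rw [neg_eq_iff_add_eq_zero]; exact F8.add_self f
  rw [this]; exact hf

theorem IsDl.smul {f : F8} (hf : IsDl f) (σ : Equiv.Perm (Fin 8)) : IsDl (σ • f) := by
  obtain ⟨v, hv, rfl⟩ := hf
  refine ⟨fun i => v (σ⁻¹ i), ?_, rfl⟩
  rw [← hv]
  exact Equiv.sum_comp σ⁻¹ v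

/-- the ambient group `F8^k ⋊ S₈` -/
abbrev Hk (k : ℕ) : Type := Semi (Equiv.Perm (Fin 8)) (Fin k → F8)

instance (k : ℕ) : Finite (Hk k) := Finite.of_equiv _ SemidirectProduct.equivProd.symm

theorem Vk_add_self (k : ℕ) (w : Fin k → F8) : w + w = 0 := by
  funext i
  exact F8.add_self (w i)

/-- the subgroup `2^{6k} : A₈` -/
def K (k : ℕ) : Subgroup (Hk k) where
  carrier := {x | (∀ i, IsDl (x.left.toAdd i)) ∧ x.right ∈ alternatingGroup (Fin 8)}
  mul_mem' := by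
    rintro x y ⟨hx1, hx2⟩ ⟨hy1, hy2⟩
    refine ⟨fun i => ?_, Subgroup.mul_mem _ hx2 hy2⟩
    change IsDl (x.left.toAdd i + x.right • y.left.toAdd i)
    exact (hx1 i).add ((hy1 i).smul _)
  one_mem' := ⟨fun i => isDl_zero, Subgroup.one_mem _⟩
  inv_mem' := by
    rintro x ⟨hx1, hx2⟩
    refine ⟨fun i => ?_, Subgroup.inv_mem _ hx2⟩
    change IsDl (x.right⁻¹ • (-(x.left.toAdd i)))
    exact ((hx1 i).neg).smul _

theorem mk_mem_K {k : ℕ} {w : Fin k → F8} {σ : Equiv.Perm (Fin 8)} :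
    mk w σ ∈ K k ↔ (∀ i, IsDl (w i)) ∧ σ ∈ alternatingGroup (Fin 8) := Iff.rfl

end Cfsg.Agent.Lib.Helper27.A8Ext
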