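import Cfsg.Agent.Lib.Helper27.A8ExtSpec

/-!
# `2^{6k} : A₈`: all the orders occur, and the groups are arbitrarily large
-/

set_option autoImplicit false

namespace Cfsg.Agent.Lib.Helper27.A8Ext
open Cfsg.Agent.Lib.Helper27.SemiSpec Cfsg.Agent.Lib.Helper27.SpecS8

theorem normSum_zero {k : ℕ} (σ : Equiv.Perm (Fin 8)) (n : ℕ) : normSum σ n (0 : Fin k → F8) = 0 := by
  simp [normSum]

theorem exists_of_even {k : ℕ} {σ : Equiv.Perm (Fin 8)} (hσ : σ ∈ alternatingGroup (Fin 8)) :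
    ∃ x ∈ K k, orderOf x = orderOf σ :=
  ⟨mk 0 σ, mk_mem_K.2 ⟨fun _ => isDl_zero, hσ⟩, orderOf_mk_of_zero 0 σ (normSum_zero σ _)⟩

def v8 : Fin 8 → ZMod 2 := Pi.single 0 1 + Pi.single 7 1
def v10 : Fin 8 → ZMod 2 := Pi.single 5 1 + Pi.single 6 1
def v12 : Fin 8 → ZMod 2 := Pi.single 3 1 + Pi.single 7 1

theorem v_even : ∑ i, v8 i = 0 ∧ ∑ i, v10 i = 0 ∧ ∑ i, v12 i = 0 := by decide +kernel

theorem normSum_ne : normSum c4 4 (dlF v8) ≠ 0 ∧ normSum c5 5 (dlF v10) ≠ 0 ∧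
    normSum c6 6 (dlF v12) ≠ 0 := by decide +kernel

theorem exists_double {k : ℕ} (hk : 0 < k) {σ : Equiv.Perm (Fin 8)} {v : Fin 8 → ZMod 2} {m : ℕ}
    (hσ : σ ∈ alternatingGroup (Fin 8)) (hm : orderOf σ = m) (hv : ∑ i, v i = 0)
    (hne : normSum σ m (dlF v) ≠ 0) : ∃ x ∈ K k, orderOf x = 2 * m := by
  refine ⟨mk (fun _ => dlF v) σ, mk_mem_K.2 ⟨fun _ => ⟨v, hv, rfl⟩, hσ⟩, ?_⟩
  rw [orderOf_mk_of_ne (Vk_add_self k) _ σ (orderOf_pos σ), hm]
  rw [hm]
  intro h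
  apply hne
  have := congrFun h ⟨0, hk⟩
  rwa [normSum_pi] at this

theorem exists_orderOf_K {k : ℕ} (hk : 0 < k) {n : ℕ}
    (hn : n ∈ ({1, 2, 3, 4, 5, 6, 7, 8, 10, 12, 15} : Set ℕ)) : ∃ x ∈ K k, orderOf x = n := by
  obtain ⟨e2, e3, e4, e5, e6, e7, e35⟩ := even_c
  simp only [Set.mem_insert_iff, Set.mem_singleton_iff] at hn
  rcases hn with rfl | rfl | rfl | rfl | rfl | rfl | rfl | rfl | rfl | rfl | rfl
  · exact ⟨1, Subgroup.one_mem _, orderOf_one⟩
  · rw [← orderOf_c2]; exact exists_of_even e2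
  · rw [← orderOf_c3]; exact exists_of_even e3
  · rw [← orderOf_c4]; exact exists_of_even e4
  · rw [← orderOf_c5]; exact exists_of_even e5
  · rw [← orderOf_c6]; exact exists_of_even e6
  · rw [← orderOf_c7]; exact exists_of_even e7
  · exact exists_double hk e4 orderOf_c4 v_even.1 normSum_ne.1
  · exact exists_double hk e5 orderOf_c5 v_even.2.1 normSum_ne.2.1
  · exact exists_double hk e6 orderOf_c6 v_even.2.2 normSum_ne.2.2
  · rw [← orderOf_c35]; exact exists_of_even e35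

/-- the set of element orders of `2^{6k} : A₈`, `k ≥ 1` -/
theorem range_orderOf_K {k : ℕ} (hk : 0 < k) :
    Set.range (orderOf : K k → ℕ) = {1, 2, 3, 4, 5, 6, 7, 8, 10, 12, 15} := by
  ext n
  constructor
  · rintro ⟨x, rfl⟩
    rw [← Subgroup.orderOf_coe]
    exact orderOf_mem_of_mem_K x.2
  · intro hn
    obtain ⟨x, hx, rfl⟩ := exists_orderOf_K hk hn
    exact ⟨⟨x, hx⟩, by rw [← Subgroup.orderOf_coe]⟩

def f0 : F8 := dlF (Pi.single 0 1 + Pi.single 1 1)

theorem f0_ne : f0 ≠ 0 := by decide +kernel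

theorem isDl_f0 : IsDl f0 := ⟨_, by decide +kernel, rfl⟩

theorem two_pow_le_card (k : ℕ) : 2 ^ k ≤ Nat.card (K k) := by
  let φ : (Fin k → Bool) → K k := fun b =>
    ⟨mk (fun i => if b i then f0 else 0) 1, mk_mem_K.2 ⟨fun i => by
      by_cases h : b i
      · simp only [h, if_true]; exact isDl_f0
      · simp only [h]; exact isDl_zero, Subgroup.one_mem _⟩⟩
  have hφ : Function.Injective φ := by
    intro b b' h
    have h1 := (mk_inj.1 (congrArg Subtype.val h)).1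
    funext i
    have h2 : (if b i then f0 else 0) = (if b' i then f0 else 0) := congrFun h1 i
    by_cases hb : b i <;> by_cases hb' : b' i
    · rw [hb, hb']
    · exfalso; rw [if_pos hb, if_neg hb'] at h2; exact f0_ne h2
    · exfalso; rw [if_neg hb, if_pos hb'] at h2; exact f0_ne h2.symm
    · simp only [Bool.not_eq_true] at hb hb'; rw [hb, hb']
  have := Nat.card_le_card_of_injective φ hφ
  simpa using this

end Cfsg.Agent.Lib.Helper27.A8Ext
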