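import Cfsg.Agent.Lib.Helper27.A8Ext

/-!
# The element orders of `2^{6k} : A₈` are `1, 2, 3, 4, 5, 6, 7, 8, 10, 12, 15`
-/

set_option autoImplicit false

namespace Cfsg.Agent.Lib.Helper27.A8Ext
open Cfsg.Agent.Lib.Helper27.SemiSpec Cfsg.Agent.Lib.Helper27.SpecS8

/-! ### explicit permutations -/

def c2 : Equiv.Perm (Fin 8) := ⟨![1,0,3,2,4,5,6,7], ![1,0,3,2,4,5,6,7], by decide, by decide⟩
def c3 : Equiv.Perm (Fin 8) := ⟨![1,2,0,3,4,5,6,7], ![2,0,1,3,4,5,6,7], by decide, by decide⟩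
def c4 : Equiv.Perm (Fin 8) := ⟨![1,2,3,0,5,4,6,7], ![3,0,1,2,5,4,6,7], by decide, by decide⟩
def c5 : Equiv.Perm (Fin 8) := ⟨![1,2,3,4,0,5,6,7], ![4,0,1,2,3,5,6,7], by decide, by decide⟩
def c6 : Equiv.Perm (Fin 8) := ⟨![1,2,0,4,3,6,5,7], ![2,0,1,4,3,6,5,7], by decide, by decide⟩
def c7 : Equiv.Perm (Fin 8) := ⟨![1,2,3,4,5,6,0,7], ![6,0,1,2,3,4,5,7], by decide, by decide⟩
def c35 : Equiv.Perm (Fin 8) := ⟨![1,2,0,4,5,6,7,3], ![2,0,1,7,3,4,5,6], by decide, by decide⟩

theorem orderOf_c2 : orderOf c2 = 2 := by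
  have : Fact (Nat.Prime 2) := ⟨by norm_num⟩
  exact orderOf_eq_prime (by decide) (by decide)

theorem orderOf_c3 : orderOf c3 = 3 := by
  have : Fact (Nat.Prime 3) := ⟨by norm_num⟩
  exact orderOf_eq_prime (by decide) (by decide)

theorem orderOf_c5 : orderOf c5 = 5 := by
  have : Fact (Nat.Prime 5) := ⟨by norm_num⟩
  exact orderOf_eq_prime (by decide) (by decide)

theorem orderOf_c7 : orderOf c7 = 7 := by
  have : Fact (Nat.Prime 7) := ⟨by norm_num⟩
  exact orderOf_eq_prime (by decide) (by decide)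

theorem prime_dvd_cases {n p : ℕ} (hn : n = 4 ∨ n = 6 ∨ n = 15) (hp : p.Prime) (hd : p ∣ n) :
    p = 2 ∨ p = 3 ∨ p = 5 := by
  have h15 : p ≤ 15 := by
    rcases hn with rfl | rfl | rfl <;> exact (Nat.le_of_dvd (by norm_num) hd).trans (by norm_num)
  interval_cases p <;> first | (left; rfl) | (right; left; rfl) | (right; right; rfl) | (exfalso; rcases hn with rfl | rfl | rfl <;> omega) | (exfalso; norm_num at hp; done)

theorem orderOf_c4 : orderOf c4 = 4 := by
  apply orderOf_eq_of_pow_and_pow_div_prime (by norm_num) (by decide)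
  intro p hp hd
  rcases prime_dvd_cases (Or.inl rfl) hp hd with rfl | rfl | rfl
  · decide
  · omega
  · omega

theorem orderOf_c6 : orderOf c6 = 6 := by
  apply orderOf_eq_of_pow_and_pow_div_prime (by norm_num) (by decide)
  intro p hp hd
  rcases prime_dvd_cases (Or.inr (Or.inl rfl)) hp hd with rfl | rfl | rfl
  · decide
  · decide
  · omega

theorem orderOf_c35 : orderOf c35 = 15 := by
  apply orderOf_eq_of_pow_and_pow_div_prime (by norm_num) (by decide)
  intro p hp hd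
  rcases prime_dvd_cases (Or.inr (Or.inr rfl)) hp hd with rfl | rfl | rfl
  · omega
  · decide
  · decide

theorem even_c : c2 ∈ alternatingGroup (Fin 8) ∧ c3 ∈ alternatingGroup (Fin 8) ∧
    c4 ∈ alternatingGroup (Fin 8) ∧ c5 ∈ alternatingGroup (Fin 8) ∧ c6 ∈ alternatingGroup (Fin 8) ∧
    c7 ∈ alternatingGroup (Fin 8) ∧ c35 ∈ alternatingGroup (Fin 8) := by
  simp only [Equiv.Perm.mem_alternatingGroup]
  decide +kernel

/-! ### the norm sums of the elements of order 7 and 15 vanish -/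

theorem normSum_c7 : ∀ v : Fin 8 → ZMod 2, ∑ i, v i = 0 → normSum c7 7 (dlF v) = 0 := by
  decide +kernel

theorem normSum_c35 : ∀ v : Fin 8 → ZMod 2, ∑ i, v i = 0 → normSum c35 15 (dlF v) = 0 := by
  decide +kernel

theorem normSum_conj {V : Type*} [AddCommGroup V] [DistribMulAction (Equiv.Perm (Fin 8)) V]
    (τ c : Equiv.Perm (Fin 8)) (n : ℕ) (w : V) :
    normSum (τ * c * τ⁻¹) n w = τ • normSum c n (τ⁻¹ • w) := by
  simp only [normSum, Finset.smul_sum]
  apply Finset.sum_congr rfl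
  intro i _
  rw [conj_pow, mul_smul, mul_smul]

theorem normSum_eq_zero_of_conj {k : ℕ} {σ c : Equiv.Perm (Fin 8)} {n : ℕ}
    (hc : ∀ v : Fin 8 → ZMod 2, ∑ i, v i = 0 → normSum c n (dlF v) = 0)
    (hconj : σ.cycleType = c.cycleType) (w : Fin k → F8) (hw : ∀ i, IsDl (w i)) :
    normSum σ n w = 0 := by
  obtain ⟨τ, hτ⟩ := isConj_iff.1 (Equiv.Perm.isConj_iff_cycleType_eq.2 hconj.symm)
  rw [← hτ, normSum_conj]
  have : normSum c n (τ⁻¹ • w) = 0 := by
    funext i
    rw [normSum_pi]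
    obtain ⟨v, hv, hvw⟩ := (hw i).smul τ⁻¹
    change normSum c n (τ⁻¹ • w i) = 0
    rw [hvw]
    exact hc v hv
  rw [this, smul_zero]

/-! ### the orders of the elements of `2^{6k} : A₈` -/

theorem orderOf_mem_of_mem_K {k : ℕ} {x : Hk k} (hx : x ∈ K k) :
    orderOf x ∈ ({1, 2, 3, 4, 5, 6, 7, 8, 10, 12, 15} : Set ℕ) := by
  obtain ⟨w, σ, rfl⟩ := exists_mk x
  obtain ⟨hw, hσ⟩ := mk_mem_K.1 hx
  have hm : orderOf σ ∈ ({1, 2, 3, 4, 5, 6, 7, 8, 10, 12, 15} : Set ℕ) := by
    rw [← range_orderOf_perm8]; exact Set.mem_range_self σ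
  obtain ⟨f7, f15, fodd⟩ := perm8_facts σ
  have hsign : Equiv.Perm.sign σ = 1 := Equiv.Perm.mem_alternatingGroup.1 hσ
  by_cases h0 : normSum σ (orderOf σ) w = 0
  · rw [orderOf_mk_of_zero w σ h0]; exact hm
  · rw [orderOf_mk_of_ne (Vk_add_self k) w σ (orderOf_pos σ) h0]
    simp only [Set.mem_insert_iff, Set.mem_singleton_iff] at hm ⊢
    rcases hm with h | h | h | h | h | h | h | h | h | h | h
    · rw [h]; norm_num
    · rw [h]; norm_num
    · rw [h]; norm_num
    · rw [h]; norm_num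
    · rw [h]; norm_num
    · rw [h]; norm_num
    · exfalso
      apply h0
      rw [h]
      have hct : σ.cycleType = c7.cycleType := by
        rw [f7 h, (perm8_facts c7).1 orderOf_c7]
      exact normSum_eq_zero_of_conj normSum_c7 hct w hw
    · exfalso
      rw [fodd (Or.inl h)] at hsign
      exact absurd hsign (by decide)
    · exfalso
      rw [fodd (Or.inr (Or.inl h))] at hsign
      exact absurd hsign (by decide)
    · exfalso
      rw [fodd (Or.inr (Or.inr h))] at hsign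
      exact absurd hsign (by decide)
    · exfalso
      apply h0
      rw [h]
      have hct : σ.cycleType = c35.cycleType := by
        rw [f15 h, (perm8_facts c35).2.1 orderOf_c35]
      exact normSum_eq_zero_of_conj normSum_c35 hct w hw

end Cfsg.Agent.Lib.Helper27.A8Ext
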