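import Mathlib
import Cfsg.Agent.Lib.Helper75.Clifford2
import Cfsg.Agent.Lib.Helper78.CharMore
import Cfsg.Agent.Lib.Helper77.Linear
import Cfsg.Agent.S0148

/-!
# The affine group of a finite commutative ring, and an irreducible character of large degree

For a finite commutative ring `R` the group `R ⋊ Rˣ` is solvable of order `|R| · |Rˣ|`.  An additive character of
`R` fixed by no unit other than one induces to an irreducible character of degree `|Rˣ|`.
-/

set_option autoImplicit false

namespace Cfsg.Agent.Lib.Helper27.Affine
open Cfsg

variable (R : Type) [CommRing R]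

/-- multiplication by a unit, on the multiplicative copy of the additive group -/
def actAut (u : Rˣ) : MulAut (Multiplicative R) where
  toFun x := Multiplicative.ofAdd ((u : R) * Multiplicative.toAdd x)
  invFun x := Multiplicative.ofAdd (((u⁻¹ : Rˣ) : R) * Multiplicative.toAdd x)
  left_inv x := by simp
  right_inv x := by simp
  map_mul' x y := by simp [mul_add]

/-- the action of the units -/
def actHom : Rˣ →* MulAut (Multiplicative R) where
  toFun := actAut R
  map_one' := by
    ext x
    simp [actAut]
  map_mul' u v := by
    ext x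
    simp [actAut, mul_assoc]

theorem actHom_apply (u : Rˣ) (x : Multiplicative R) :
    actHom R u x = Multiplicative.ofAdd ((u : R) * Multiplicative.toAdd x) := rfl

/-- the affine group -/
abbrev AGL : Type := Multiplicative R ⋊[actHom R] Rˣ

variable {R}

/-- the translations -/
def trans : Subgroup (AGL R) := (SemidirectProduct.rightHom : AGL R →* Rˣ).ker

instance : (trans (R := R)).Normal := MonoidHom.normal_ker _

theorem mem_trans {g : AGL R} : g ∈ trans ↔ g.right = 1 := by
  rw [trans, MonoidHom.mem_ker]
  rfl

/-- the translation vector of a translation -/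
def transVec : (trans (R := R)) →* Multiplicative R where
  toFun x := x.1.left
  map_one' := rfl
  map_mul' x y := by
    show (x.1 * y.1).left = x.1.left * y.1.left
    rw [SemidirectProduct.mul_left, mem_trans.1 x.2, map_one]
    rfl

theorem conj_left (g : AGL R) (n : AGL R) (hn : n ∈ trans) :
    (g * n * g⁻¹).left = actHom R g.right n.left := by
  have hn1 : n.right = 1 := mem_trans.1 hn
  rw [SemidirectProduct.mul_left, SemidirectProduct.mul_left, SemidirectProduct.mul_right, hn1, mul_one,
    SemidirectProduct.inv_left, ← MulAut.mul_apply, ← map_mul, mul_inv_cancel, map_one, MulAut.one_apply]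
  rw [mul_comm g.left, mul_assoc, mul_inv_cancel, mul_one]

section fin

variable [Fintype R]

noncomputable instance instFintypeAGL : Fintype (AGL R) := by
  classical
  exact Fintype.ofEquiv _ SemidirectProduct.equivProd.symm

theorem card_AGL : Nat.card (AGL R) = Nat.card R * Nat.card Rˣ := by
  rw [Nat.card_congr (SemidirectProduct.equivProd (φ := actHom R)), Nat.card_prod]
  rfl

theorem isSolvable_AGL : Group.IsSolvable (AGL R) := by
  apply Group.isSolvable_of_ker_le_range (SemidirectProduct.inl : Multiplicative R →* AGL R)
    (SemidirectProduct.rightHom : AGL R →* Rˣ)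
  rw [SemidirectProduct.range_inl_eq_ker_rightHom]

theorem index_trans : (trans (R := R)).index = Nat.card Rˣ := by
  rw [trans, Subgroup.index_ker, MonoidHom.range_eq_top.2 SemidirectProduct.rightHom_surjective]
  exact Nat.card_congr (Equiv.Set.univ _) |>.trans rfl

/-- the linear character of the translations attached to an additive character -/
noncomputable def transChar (ψ : AddChar R ℂ) : (trans (R := R)) →* ℂˣ :=
  (ψ.toMonoidHom.toHomUnits).comp transVec

theorem transChar_apply (ψ : AddChar R ℂ) (x : trans (R := R)) :
    ((transChar ψ x : ℂˣ) : ℂ) = ψ (Multiplicative.toAdd x.1.left) := rfl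

/-- **an additive character fixed by no unit other than one induces to an irreducible character of degree
`|Rˣ|`** -/
theorem exists_irr (ψ : AddChar R ℂ) (hψ : ∀ u : Rˣ, (∀ r : R, ψ ((u : R) * r) = ψ r) → u = 1) :
    ∃ χ : AGL R → ℂ, IsIrrCharacter (AGL R) χ ∧ charDegree χ = Nat.card Rˣ := by
  classical
  haveI : Fintype (trans (R := R)) := Fintype.ofFinite _
  set θ : trans (R := R) → ℂ := fun x => ((transChar ψ x : ℂˣ) : ℂ) with hθdef
  have hθ : IsIrrCharacter (trans (R := R)) θ :=
    Cfsg.Agent.Lib.Helper77.isIrrCharacter_of_monoidHom (transChar ψ)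
  have hθc : IsCharacter (trans (R := R)) θ := Cfsg.Agent.Lib.Helper78.IsIrrCharacter.isCharacter hθ
  have hT : ∀ g : AGL R, g ∈ trans (R := R) ↔ Cfsg.Agent.Lib.Helper75.conjFun trans g θ = θ := by
    intro g
    constructor
    · intro hg
      exact Cfsg.Agent.Lib.Helper75.conjFun_of_mem trans
        (Cfsg.Agent.Lib.Helper78.IsCharacter.isClassFunction hθc) ⟨g, hg⟩
    · intro hfix
      rw [mem_trans]
      apply hψ
      intro r
      have h1 := congrFun hfix ⟨SemidirectProduct.inl (Multiplicative.ofAdd r), by
        rw [mem_trans]; rfl⟩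
      rw [Cfsg.Agent.Lib.Helper75.conjFun_apply] at h1
      simp only [hθdef, transChar_apply] at h1
      rw [conj_left g _ (by rw [mem_trans]; rfl)] at h1
      exact h1
  have hnorm := Cfsg.Agent.Lib.Helper75.classInner_indFun_self trans trans hθ hT
  have hne : (Nat.card (trans (R := R)) : ℂ) ≠ 0 := by
    exact_mod_cast (Nat.card_pos (α := trans (R := R))).ne'
  rw [div_self hne] at hnorm
  have hchar : IsCharacter (AGL R) (indFun trans θ) := Cfsg.Agent.S0148.result _ _ hθc
  refine ⟨indFun trans θ, Cfsg.Agent.Lib.Helper78.isIrrCharacter_of_classInner_self_eq_one hchar hnorm, ?_⟩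
  have h1 : indFun trans θ 1 = ((Nat.card Rˣ : ℕ) : ℂ) := by
    rw [Cfsg.Agent.Lib.Helper75.indFun_one, index_trans]
    have : θ 1 = 1 := by
      simp only [hθdef, map_one, Units.val_one]
    rw [this, mul_one]
  unfold charDegree
  rw [h1]
  simp

end fin

end Cfsg.Agent.Lib.Helper27.Affine
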