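import Cfsg.Agent.Lib.Helper27.AffineChar

/-!
# A solvable group of order `6048` with an irreducible character of degree `42`

The affine group of the ring `𝔽₈ × ℤ/9 × ℤ/2`, whose group of units is cyclic of order `42`.
-/

set_option autoImplicit false

namespace Cfsg.Agent.Lib.Helper27.Affine
open Cfsg

/-- the ring `𝔽₈ × ℤ/9 × ℤ/2` -/
abbrev R0 : Type := GaloisField 2 3 × ZMod 9 × ZMod 2

noncomputable instance instFintypeF8 : Fintype (GaloisField 2 3) := Fintype.ofFinite _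

noncomputable instance instFintypeR0 : Fintype R0 := by
  classical
  exact inferInstance

theorem card_R0 : Nat.card R0 = 144 := by
  rw [Nat.card_prod, Nat.card_prod, GaloisField.card 2 3 (by norm_num), Nat.card_zmod, Nat.card_zmod]
  norm_num

theorem card_units_R0 : Nat.card R0ˣ = 42 := by
  rw [Nat.card_congr (MulEquiv.prodUnits (M := GaloisField 2 3) (N := ZMod 9 × ZMod 2)).toEquiv, Nat.card_prod,
    Nat.card_congr (MulEquiv.prodUnits (M := ZMod 9) (N := ZMod 2)).toEquiv, Nat.card_prod,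
    Nat.card_units, GaloisField.card 2 3 (by norm_num), Nat.card_eq_fintype_card (α := (ZMod 9)ˣ),
    ZMod.card_units_eq_totient 9, Nat.card_eq_fintype_card (α := (ZMod 2)ˣ), ZMod.card_units_eq_totient 2]
  decide

theorem zmod2_unit_val (u : (ZMod 2)ˣ) : (u : ZMod 2) = 1 := by
  have h : ∀ x : ZMod 2, x = 0 ∨ x = 1 := by decide
  rcases h (u : ZMod 2) with h0 | h1
  · exact absurd h0 u.ne_zero
  · exact h1

theorem exists_unitFree : ∃ ψ : AddChar R0 ℂ, ∀ u : R0ˣ, (∀ r : R0, ψ ((u : R0) * r) = ψ r) → u = 1 := by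
  obtain ⟨ψ1, hψ1⟩ := (AddChar.exists_apply_ne_zero (α := GaloisField 2 3) (a := 1)).2 one_ne_zero
  set ψ2 : AddChar (ZMod 9) ℂ := ZMod.stdAddChar with hψ2
  refine ⟨(ψ1.compAddMonoidHom (AddMonoidHom.fst _ _)) *
    (ψ2.compAddMonoidHom ((AddMonoidHom.fst _ _).comp (AddMonoidHom.snd _ _))), ?_⟩
  intro u hu
  have hval : ∀ a b c, ((ψ1.compAddMonoidHom (AddMonoidHom.fst (GaloisField 2 3) (ZMod 9 × ZMod 2))) *
      (ψ2.compAddMonoidHom ((AddMonoidHom.fst (ZMod 9) (ZMod 2)).comp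
        (AddMonoidHom.snd (GaloisField 2 3) (ZMod 9 × ZMod 2))))) (a, b, c) = ψ1 a * ψ2 b := by
    intro a b c
    rfl
  -- the three components of the unit
  rcases hu' : (u : R0) with ⟨u1, u2, u3⟩
  rcases hv' : ((u⁻¹ : R0ˣ) : R0) with ⟨v1, v2, v3⟩
  have hmul : (u : R0) * ((u⁻¹ : R0ˣ) : R0) = 1 := by
    rw [← Units.val_mul, mul_inv_cancel, Units.val_one]
  rw [hu', hv'] at hmul
  have hm1 : u1 * v1 = 1 := congrArg (fun x : R0 => x.1) hmul
  have hm3 : u3 * v3 = 1 := congrArg (fun x : R0 => x.2.2) hmul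
  -- the second component
  have h2 : u2 = 1 := by
    have h := hu (0, 1, 0)
    rw [hu'] at h
    have e1 : ((u1, u2, u3) : R0) * (0, 1, 0) = (0, u2, 0) := by
      ext <;> simp
    rw [e1, hval, hval, AddChar.map_zero_eq_one, one_mul, one_mul] at h
    exact ZMod.injective_stdAddChar h
  -- the third component
  have h3 : u3 = 1 := by
    have h : ∀ x y : ZMod 2, x * y = 1 → x = 1 := by decide
    exact h u3 v3 hm3
  -- the first component
  have h1 : u1 = 1 := by
    by_contra hne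
    have hd : u1 - 1 ≠ 0 := sub_ne_zero.2 hne
    have h := hu ((u1 - 1)⁻¹, 0, 0)
    rw [hu'] at h
    have e1 : ((u1, u2, u3) : R0) * ((u1 - 1)⁻¹, 0, 0) = (1 + (u1 - 1)⁻¹, 0, 0) := by
      ext
      · show u1 * (u1 - 1)⁻¹ = 1 + (u1 - 1)⁻¹
        field_simp
        ring
      · simp
      · simp
    rw [e1, hval, hval, AddChar.map_zero_eq_one, mul_one, mul_one, AddChar.map_add_eq_mul] at h
    apply hψ1
    have hne0 : ψ1 (u1 - 1)⁻¹ ≠ 0 := by
      intro h0
      have h4 := AddChar.map_add_eq_mul ψ1 (u1 - 1)⁻¹ (-(u1 - 1)⁻¹)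
      rw [add_neg_cancel, AddChar.map_zero_eq_one, h0, zero_mul] at h4
      exact one_ne_zero h4
    exact mul_right_cancel₀ hne0 (h.trans (one_mul _).symm)
  apply Units.ext
  rw [hu', h1, h2, h3]
  rfl

/-- **a solvable group of order `6048` with an irreducible character of degree `42`** -/
theorem exists_solvable_42 : ∃ (H : Type) (_ : Group H) (_ : Fintype H), Group.IsSolvable H ∧ Nat.card H = 6048 ∧
    ∃ χ : H → ℂ, IsIrrCharacter H χ ∧ charDegree χ = 42 := by
  obtain ⟨ψ, hψ⟩ := exists_unitFree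
  obtain ⟨χ, hχ, hd⟩ := exists_irr ψ hψ
  refine ⟨AGL R0, inferInstance, instFintypeAGL, isSolvable_AGL, ?_, χ, hχ, ?_⟩
  · rw [card_AGL, card_R0, card_units_R0]
  · rw [hd, card_units_R0]

end Cfsg.Agent.Lib.Helper27.Affine
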