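import Mathlib

set_option autoImplicit false

namespace Cfsg.Agent.Lib.Helper27

open Equiv Equiv.Perm

/-- a multiplicatively closed predicate on permutations that holds for all products of two
transpositions holds on the alternating group -/
theorem alternating_induction {α : Type*} [Fintype α] [DecidableEq α] (P : Perm α → Prop)
    (h1 : P 1) (hmul : ∀ σ τ, P σ → P τ → P (σ * τ))
    (hsw : ∀ a b c d : α, a ≠ b → c ≠ d → P (swap a b * swap c d))
    (σ : Perm α) (hσ : σ ∈ alternatingGroup α) : P σ := by
  suffices hind :
    ∀ (n : ℕ) (l : List (Perm α)) (_ : ∀ g, g ∈ l → IsSwap g) (_ : l.length = 2 * n),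
      P l.prod by
    obtain ⟨l, rfl, hl⟩ := truncSwapFactors σ
    obtain ⟨n, hn⟩ := (prod_list_swap_mem_alternatingGroup_iff_even_length hl).1 hσ
    rw [← two_mul] at hn
    exact hind n l hl hn
  intro n
  induction n with
  | zero =>
    intro l hl hn
    rw [List.length_eq_zero_iff.1 hn]
    simpa using h1
  | succ n ih =>
    intro l hl hn
    rw [Nat.mul_succ] at hn
    obtain ⟨a, l, rfl⟩ := l.exists_of_length_succ hn
    rw [List.length_cons, Nat.succ_inj] at hn
    obtain ⟨b, l, rfl⟩ := l.exists_of_length_succ hn
    rw [List.prod_cons, List.prod_cons, ← mul_assoc]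
    apply hmul
    · obtain ⟨x, y, hxy, rfl⟩ := hl a (by simp)
      obtain ⟨z, w, hzw, rfl⟩ := hl b (by simp)
      exact hsw x y z w hxy hzw
    · apply ih
      · intro g hg
        exact hl g (by simp [hg])
      · simpa using hn

end Cfsg.Agent.Lib.Helper27
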