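import Mathlib

/-!
# Sums over the conjugates of an element

If `S` consists of conjugates of `g`, `Z` of elements commuting with `g`, and `|S| · |Z| = |G|`, then `S` is the
conjugacy class of `g`, `|Z|` the order of its centraliser, and `∑ₓ f (x⁻¹ g x) = |Z| ∑_{y ∈ S} f y`.
-/

set_option autoImplicit false

namespace Cfsg.Agent.Lib.Helper27.ClassSum

open Finset

variable {G : Type*} [Group G] [Fintype G] [DecidableEq G]

/-- the fibre of `x ↦ x⁻¹ g x` over a conjugate has as many elements as the centraliser -/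
theorem card_fiber (g x₀ : G) :
    (univ.filter (fun x : G => x⁻¹ * g * x = x₀⁻¹ * g * x₀)).card =
      (univ.filter (fun z : G => z * g = g * z)).card := by
  apply Finset.card_bij (fun x _ => x * x₀⁻¹)
  · intro x hx
    simp only [mem_filter, mem_univ, true_and] at hx ⊢
    have h1 : g * x = x * (x₀⁻¹ * g * x₀) := by rw [← hx]; group
    calc x * x₀⁻¹ * g = x * (x₀⁻¹ * g * x₀) * x₀⁻¹ := by group
      _ = g * x * x₀⁻¹ := by rw [← h1]
      _ = g * (x * x₀⁻¹) := by group
  · intro a _ b _ h
    exact mul_right_cancel h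
  · intro z hz
    simp only [mem_coe, mem_filter, mem_univ, true_and] at hz
    refine ⟨z * x₀, ?_, by group⟩
    simp only [mem_coe, mem_filter, mem_univ, true_and]
    calc (z * x₀)⁻¹ * g * (z * x₀) = x₀⁻¹ * (z⁻¹ * (g * z)) * x₀ := by group
      _ = x₀⁻¹ * (z⁻¹ * (z * g)) * x₀ := by rw [hz]
      _ = x₀⁻¹ * g * x₀ := by group

theorem nat_eq_of_mul_eq {a b c d : ℕ} (hab : a ≤ b) (hcd : c ≤ d) (h : a * c = b * d) (hpos : 0 < b * d) :
    a = b ∧ c = d := by
  have hb : 0 < b := Nat.pos_of_mul_pos_right hpos |> fun _ => Nat.pos_of_ne_zero (by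
    rintro rfl; simp at hpos)
  have hd : 0 < d := Nat.pos_of_ne_zero (by rintro rfl; simp at hpos)
  have hc : 0 < c := Nat.pos_of_ne_zero (by rintro rfl; rw [mul_zero] at h; omega)
  have ha : 0 < a := Nat.pos_of_ne_zero (by rintro rfl; rw [zero_mul] at h; omega)
  constructor
  · by_contra hne
    have hlt : a < b := lt_of_le_of_ne hab hne
    have h1 : a * c < b * c := Nat.mul_lt_mul_of_pos_right hlt hc
    have h2 : b * c ≤ b * d := Nat.mul_le_mul_left b hcd
    omega
  · by_contra hne
    have hlt : c < d := lt_of_le_of_ne hcd hne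
    have h1 : a * c < a * d := Nat.mul_lt_mul_of_pos_left hlt ha
    have h2 : a * d ≤ b * d := Nat.mul_le_mul_right d hab
    omega

/-- sums over the conjugates of `g`, from a list of conjugates and a list of commuting elements -/
theorem sum_conj_eq (g : G) (S Z : Finset G) (hS : ∀ y ∈ S, ∃ x : G, x⁻¹ * g * x = y)
    (hZ : ∀ z ∈ Z, z * g = g * z) (hcard : S.card * Z.card = Fintype.card G) (f : G → ℂ) :
    ∑ x : G, f (x⁻¹ * g * x) = (Z.card : ℂ) * ∑ y ∈ S, f y := by
  classical
  set O : Finset G := univ.image (fun x : G => x⁻¹ * g * x) with hO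
  set Cn : Finset G := univ.filter (fun z : G => z * g = g * z) with hCn
  have hSO : S ⊆ O := by
    intro y hy
    obtain ⟨x, hx⟩ := hS y hy
    rw [hO, mem_image]
    exact ⟨x, mem_univ _, hx⟩
  have hZC : Z ⊆ Cn := by
    intro z hz
    rw [hCn, mem_filter]
    exact ⟨mem_univ _, hZ z hz⟩
  have hfib : ∀ y ∈ O, (univ.filter (fun x : G => x⁻¹ * g * x = y)).card = Cn.card := by
    intro y hy
    rw [hO, mem_image] at hy
    obtain ⟨x₀, _, rfl⟩ := hy
    exact card_fiber g x₀
  have htot : Fintype.card G = O.card * Cn.card := by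
    rw [← Finset.card_univ, Finset.card_eq_sum_card_image (fun x : G => x⁻¹ * g * x) univ,
      Finset.sum_congr rfl hfib, Finset.sum_const, smul_eq_mul]
  have hpos : 0 < O.card * Cn.card := by
    rw [← htot]
    exact Fintype.card_pos
  obtain ⟨h1, h2⟩ := nat_eq_of_mul_eq (card_le_card hSO) (card_le_card hZC) (hcard.trans htot) hpos
  have hSeq : S = O := eq_of_subset_of_card_le hSO (le_of_eq h1.symm)
  rw [hSeq, h2, ← Finset.sum_fiberwise_of_maps_to (s := univ) (t := O)
    (g := fun x : G => x⁻¹ * g * x) (fun x _ => by rw [hO, mem_image]; exact ⟨x, mem_univ _, rfl⟩)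
    (fun x => f (x⁻¹ * g * x)), Finset.mul_sum]
  apply Finset.sum_congr rfl
  intro y hy
  have h3 : ∀ x ∈ univ.filter (fun x : G => x⁻¹ * g * x = y), f (x⁻¹ * g * x) = f y := by
    intro x hx
    rw [(mem_filter.1 hx).2]
  rw [Finset.sum_congr rfl h3, Finset.sum_const, hfib y hy, nsmul_eq_mul]

end Cfsg.Agent.Lib.Helper27.ClassSum
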