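import Mathlib
import Cfsg.Agent.Lib.Helper8.Co2Orbits
import Cfsg.Agent.Lib.Helper8.Census
import Cfsg.Agent.Lib.Helper8.Census3
import Cfsg.Agent.Lib.Helper8.HSGroup
import Cfsg.Agent.S0397
import Cfsg.Agent.S0398
import Cfsg.Agent.S0400

/-!
# The action of `Co0 / {±1}` on the pairs `{v, -v}` of lattice vectors
-/

set_option autoImplicit false

namespace Cfsg.Agent.Lib.Helper27
open Cfsg Cfsg.Agent.Lib.Helper7 Cfsg.Agent.Lib.Helper8 Cfsg.Spor
open scoped Pointwise

/-- the relation `v = ± w` -/
def pmSetoid : Setoid leechLattice where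
  r v w := v = w ∨ v = -w
  iseqv := ⟨fun _ => Or.inl rfl,
    fun h => h.elim (fun h => Or.inl h.symm) (fun h => Or.inr (by rw [h, neg_neg])),
    fun h1 h2 => by
      rcases h1 with h1 | h1 <;> rcases h2 with h2 | h2
      · exact Or.inl (h1.trans h2)
      · exact Or.inr (h1.trans h2)
      · exact Or.inr (by rw [h1, h2])
      · exact Or.inl (by rw [h1, h2, neg_neg])⟩

/-- lattice vectors up to sign -/
abbrev PLat : Type := Quotient pmSetoid

/-- the class of a vector -/
def pmk (v : leechLattice) : PLat := Quotient.mk pmSetoid v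

theorem pmk_eq_iff {v w : leechLattice} : pmk v = pmk w ↔ v = w ∨ v = -w := Quotient.eq

theorem pmk_neg (v : leechLattice) : pmk (-v) = pmk v :=
  pmk_eq_iff.2 (Or.inr rfl)

theorem pmk_surjective : Function.Surjective pmk := Quotient.mk_surjective

instance instMulActionCo0PLat : MulAction Co0 PLat where
  smul g := Quotient.map (fun v => g • v) (by
    intro v w h
    rcases h with h | h
    · exact Or.inl (by rw [h])
    · exact Or.inr (by rw [h, co0_smul_neg]))
  one_smul := by
    intro ω
    obtain ⟨v, rfl⟩ := pmk_surjective ω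
    show pmk ((1 : Co0) • v) = pmk v
    rw [one_smul]
  mul_smul := by
    intro g h ω
    obtain ⟨v, rfl⟩ := pmk_surjective ω
    show pmk ((g * h) • v) = pmk (g • (h • v))
    rw [mul_smul]

theorem smul_pmk (g : Co0) (v : leechLattice) : g • pmk v = pmk (g • v) := rfl

theorem negCo0_smul (v : leechLattice) : Cfsg.Agent.S0398.negCo0 • v = -v := rfl

theorem center_smul (z : Co0) (hz : z ∈ Subgroup.center Co0) (ω : PLat) : z • ω = ω := by
  obtain ⟨v, rfl⟩ := pmk_surjective ω
  have hz' : z ∈ ((Subgroup.center Co0 : Subgroup Co0) : Set Co0) := hz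
  rw [Cfsg.Agent.S0398.center_eq] at hz'
  rcases hz' with rfl | hz'
  · rw [one_smul]
  · rw [Set.mem_singleton_iff] at hz'
    rw [hz', smul_pmk, negCo0_smul, pmk_neg]

/-- the quotient of the automorphism group by its centre -/
abbrev Co1q : Type := Co0 ⧸ Subgroup.center Co0

/-- the permutation representation of the quotient on the vectors up to sign -/
def actHom : Co1q →* Equiv.Perm PLat :=
  QuotientGroup.lift (Subgroup.center Co0) (MulAction.toPermHom Co0 PLat) (by
    intro z hz
    apply Equiv.ext
    intro ω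
    exact center_smul z hz ω)

instance instMulActionCo1qPLat : MulAction Co1q PLat := MulAction.compHom PLat actHom

theorem mk_smul (g : Co0) (ω : PLat) : (QuotientGroup.mk g : Co1q) • ω = g • ω := rfl

theorem co1q_surj (x : Co1q) : ∃ g : Co0, (QuotientGroup.mk g : Co1q) = x :=
  QuotientGroup.mk_surjective x

end Cfsg.Agent.Lib.Helper27
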