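import Mathlib
import Cfsg.Agent.Lib.Helper8.Rank3Simple

/-!
# Simplicity from a transitive action with simple point stabiliser and known suborbits

A finite group acting faithfully and transitively on a finite set `s`, with a simple point
stabiliser whose orbits on the other points have known sizes `c i`, is simple provided
* no `1 + ∑ i ∈ I, c i` with `∅ ≠ I ≠ univ` divides the group order (primitivity), and
* for two primes `p ≠ q` dividing `|s|` there are no disjoint nonempty `I`, `J` with
  `p ∣ 1 + ∑ i ∈ I, c i` and `q ∣ 1 + ∑ i ∈ J, c i` (no regular normal subgroup: the elements of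
  order dividing `p` in such a subgroup are counted by a multiple of `p`).
-/

set_option autoImplicit false

namespace Cfsg.Agent.Lib.Helper27
open scoped Pointwise

/-- **Frobenius for a prime** (McKay's proof of Cauchy's theorem): if `p` divides the order of a
finite group, the number of solutions of `m ^ p = 1` is divisible by `p`. -/
theorem prime_dvd_card_pow_eq_one {N : Type*} [Group N] [Fintype N] [DecidableEq N] (p : ℕ)
    [hp : Fact p.Prime] (hdvd : p ∣ Fintype.card N) :
    p ∣ (Finset.univ.filter fun m : N => m ^ p = 1).card := by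
  classical
  have hp' : p - 1 ≠ 0 := mt tsub_eq_zero_iff_le.mp (not_le_of_gt hp.out.one_lt)
  have Scard : p ∣ Fintype.card (Equiv.Perm.vectorsProdEqOne N p) := by
    rw [Equiv.Perm.VectorsProdEqOne.card]
    exact hdvd.trans (dvd_pow (dvd_refl _) hp')
  let f : ℕ → Equiv.Perm.vectorsProdEqOne N p → Equiv.Perm.vectorsProdEqOne N p := fun k v =>
    Equiv.Perm.VectorsProdEqOne.rotate v k
  have hf1 : ∀ v, f 0 v = v := Equiv.Perm.VectorsProdEqOne.rotate_zero
  have hf2 : ∀ j k v, f k (f j v) = f (j + k) v := fun j k v =>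
    Equiv.Perm.VectorsProdEqOne.rotate_rotate v j k
  have hf3 : ∀ v, f p v = v := Equiv.Perm.VectorsProdEqOne.rotate_length
  let σ : Equiv.Perm (Equiv.Perm.vectorsProdEqOne N p) :=
    Equiv.mk (f 1) (f (p - 1)) (fun s => by rw [hf2, add_tsub_cancel_of_le hp.out.one_lt.le, hf3])
      fun s => by rw [hf2, tsub_add_cancel_of_le hp.out.one_lt.le, hf3]
  have hσ : ∀ k v, (σ ^ k) v = f k v := fun k =>
    Nat.rec (fun v => (hf1 v).symm) (fun k hk v => by
      rw [pow_succ, Equiv.Perm.mul_apply, hk (σ v), Nat.succ_eq_one_add, ← hf2 1 k]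
      simp only [σ, Equiv.coe_fn_mk]) k
  have hσp : σ ^ p ^ 1 = 1 := Equiv.Perm.ext fun v => by
    rw [pow_one, hσ, hf3, Equiv.Perm.one_apply]
  have h1 := Equiv.Perm.card_compl_support_modEq hσp
  have h2 : (σ.support)ᶜ.card = (Finset.univ.filter fun m : N => m ^ p = 1).card := by
    symm
    refine Finset.card_bij (fun m hm => ⟨⟨List.replicate p m, List.length_replicate⟩, ?_⟩)
      ?_ ?_ ?_
    · rw [Finset.mem_filter] at hm
      show (List.replicate p m).prod = 1
      rw [List.prod_replicate]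
      exact hm.2
    · intro m hm
      rw [Finset.mem_compl, Equiv.Perm.mem_support, not_not]
      apply Subtype.ext
      apply Subtype.ext
      show (List.replicate p m).rotate 1 = List.replicate p m
      exact List.rotate_replicate m p 1
    · intro m hm m' hm' h
      have h' : List.replicate p m = List.replicate p m' :=
        congrArg (fun v : Equiv.Perm.vectorsProdEqOne N p => v.1.1) h
      have hpos : 0 < p := hp.out.pos
      have := congrArg (fun l : List N => l.head?) h'
      simp only [List.head?_replicate, Nat.ne_of_gt hpos, if_false] at this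
      exact Option.some.inj this
    · intro v hv
      rw [Finset.mem_compl, Equiv.Perm.mem_support, not_not] at hv
      have hv' : v.1.1.rotate 1 = v.1.1 :=
        congrArg (fun v : Equiv.Perm.vectorsProdEqOne N p => v.1.1) hv
      obtain ⟨g, hg⟩ := List.rotate_one_eq_self_iff_eq_replicate.mp hv'
      have hlen : v.1.1.length = p := v.1.2
      rw [hlen] at hg
      refine ⟨g, ?_, ?_⟩
      · rw [Finset.mem_filter]
        refine ⟨Finset.mem_univ _, ?_⟩
        have := v.2
        change v.1.1.prod = 1 at this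
        rw [hg, List.prod_replicate] at this
        exact this
      · apply Subtype.ext
        apply Subtype.ext
        exact hg.symm
  rw [h2] at h1
  exact (Nat.modEq_zero_iff_dvd.1 (h1.trans (Nat.modEq_zero_iff_dvd.2 Scard)))

section
variable {G Ω : Type*} [Group G] [MulAction G Ω]

/-- the cardinality of a disjoint union of finitely many finite sets -/
theorem ncard_biUnion_fin {k : ℕ} (O : Fin k → Set Ω) (c : Fin k → ℕ)
    (hfin : ∀ i, (O i).Finite) (hcard : ∀ i, (O i).ncard = c i)
    (hdisj : ∀ i j, i ≠ j → Disjoint (O i) (O j)) (I : Finset (Fin k)) :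
    (⋃ i ∈ I, O i).Finite ∧ (⋃ i ∈ I, O i).ncard = ∑ i ∈ I, c i := by
  classical
  induction I using Finset.induction_on with
  | empty => simp
  | insert j I hj ih =>
    rw [Finset.set_biUnion_insert, Finset.sum_insert hj]
    have hd : Disjoint (O j) (⋃ i ∈ I, O i) := by
      rw [Set.disjoint_iUnion₂_right]
      intro i hi
      exact hdisj j i (fun h => hj (h ▸ hi))
    exact ⟨(hfin j).union ih.1, by rw [Set.ncard_union_eq hd (hfin j) ih.1, hcard, ih.2]⟩

/-- a subset containing `a` invariant under the stabiliser of `a` is `a` together with some of the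
suborbits -/
theorem exists_index_of_invariant (s : Set Ω) (a : Ω) {k : ℕ} (O : Fin k → Set Ω) (c : Fin k → ℕ)
    (hcover : ∀ x ∈ s, x ≠ a → ∃ i, x ∈ O i) (haO : ∀ i, a ∉ O i)
    (hfin : ∀ i, (O i).Finite) (hcard : ∀ i, (O i).ncard = c i)
    (hdisj : ∀ i j, i ≠ j → Disjoint (O i) (O j))
    (hOtr : ∀ i, ∀ x ∈ O i, ∀ y ∈ O i, ∃ g : G, g • a = a ∧ g • x = y)
    (B : Set Ω) (hBs : B ⊆ s) (haB : a ∈ B)
    (hBinv : ∀ g : G, g • a = a → ∀ b ∈ B, g • b ∈ B) :
    ∃ I : Finset (Fin k), (∀ i, i ∈ I ↔ (B ∩ O i).Nonempty) ∧ B = insert a (⋃ i ∈ I, O i) ∧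
      B.ncard = 1 + ∑ i ∈ I, c i := by
  classical
  obtain ⟨I, hIdef⟩ : ∃ I : Finset (Fin k), I = Finset.univ.filter fun i => (B ∩ O i).Nonempty :=
    ⟨_, rfl⟩
  have hI : ∀ i, i ∈ I ↔ (B ∩ O i).Nonempty := by
    intro i; rw [hIdef, Finset.mem_filter]; simp
  have hBeq : B = insert a (⋃ i ∈ I, O i) := by
    ext x
    constructor
    · intro hx
      by_cases hxa : x = a
      · exact Or.inl hxa
      · right
        obtain ⟨i, hi⟩ := hcover x (hBs hx) hxa
        rw [Set.mem_iUnion₂]
        exact ⟨i, (hI i).2 ⟨x, hx, hi⟩, hi⟩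
    · rintro (hx | hx)
      · rw [hx]; exact haB
      · rw [Set.mem_iUnion₂] at hx
        obtain ⟨i, hiI, hxi⟩ := hx
        obtain ⟨y, hyB, hyi⟩ := (hI i).1 hiI
        obtain ⟨g, hga, hgy⟩ := hOtr i y hyi x hxi
        rw [← hgy]
        exact hBinv g hga y hyB
  refine ⟨I, hI, hBeq, ?_⟩
  have key := ncard_biUnion_fin O c hfin hcard hdisj I
  have hna : a ∉ ⋃ i ∈ I, O i := by
    rw [Set.mem_iUnion₂]
    rintro ⟨i, -, hi⟩
    exact haO i hi
  have h1 : B.ncard = (insert a (⋃ i ∈ I, O i)).ncard := congrArg Set.ncard hBeq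
  rw [h1, Set.ncard_insert_of_notMem hna key.1, key.2, add_comm]

/-- **Simplicity from the suborbits of a simple point stabiliser.** -/
theorem isSimpleGroup_of_suborbits [Finite G] (s : Set Ω) (hsfin : s.Finite)
    (hs : ∀ g : G, ∀ x ∈ s, g • x ∈ s)
    (hf : ∀ g : G, (∀ x ∈ s, g • x = x) → g = 1)
    (htr : ∀ x ∈ s, ∀ y ∈ s, ∃ g : G, g • x = y)
    (a : Ω) (ha : a ∈ s) (hsimple : IsSimpleGroup (MulAction.stabilizer G a))
    {k : ℕ} (O : Fin k → Set Ω) (c : Fin k → ℕ)
    (hcover : ∀ x ∈ s, x ≠ a → ∃ i, x ∈ O i) (hOs : ∀ i, O i ⊆ s) (haO : ∀ i, a ∉ O i)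
    (hcard : ∀ i, (O i).ncard = c i)
    (hdisj : ∀ i j, i ≠ j → Disjoint (O i) (O j))
    (hOtr : ∀ i, ∀ x ∈ O i, ∀ y ∈ O i, ∃ g : G, g • a = a ∧ g • x = y)
    (hprim : ∀ I : Finset (Fin k), (1 + ∑ i ∈ I, c i) ∣ Nat.card G → I = ∅ ∨ I = Finset.univ)
    (p q : ℕ) (hp : p.Prime) (hq : q.Prime) (hpq : p ≠ q) (hpn : p ∣ s.ncard) (hqn : q ∣ s.ncard)
    (hreg : ∀ I J : Finset (Fin k), p ∣ (1 + ∑ i ∈ I, c i) → q ∣ (1 + ∑ i ∈ J, c i) →
      ¬ Disjoint I J) :
    IsSimpleGroup G := by
  classical
  have hfin : ∀ i, (O i).Finite := fun i => hsfin.subset (hOs i)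
  have : Nontrivial G := by
    obtain ⟨x, y, hxy⟩ := hsimple.toNontrivial
    exact ⟨⟨x, y, fun h => hxy (Subtype.ext h)⟩⟩
  have hinv := exists_index_of_invariant (G := G) s a O c hcover haO hfin hcard hdisj hOtr
  -- the whole set
  have hsall : s = insert a (⋃ i ∈ (Finset.univ : Finset (Fin k)), O i) := by
    ext x
    constructor
    · intro hx
      by_cases hxa : x = a
      · exact Or.inl hxa
      · obtain ⟨i, hi⟩ := hcover x hx hxa
        exact Or.inr (Set.mem_iUnion₂.2 ⟨i, Finset.mem_univ _, hi⟩)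
    · rintro (hx | hx)
      · rw [hx]; exact ha
      · obtain ⟨i, -, hi⟩ := Set.mem_iUnion₂.1 hx
        exact hOs i hi
  refine ⟨fun N hN => ?_⟩
  by_cases hN1 : N = ⊥
  · exact Or.inl hN1
  right
  have hNnorm : ∀ g : G, g • a = a → ∀ x ∈ N, g * x * g⁻¹ ∈ N :=
    fun g _ x hx => hN.conj_mem x hx g
  have hBsub : MulAction.orbit N a ⊆ s := by
    rintro _ ⟨n, rfl⟩
    exact hs n a ha
  have hBa : a ∈ MulAction.orbit N a := MulAction.mem_orbit_self a
  obtain ⟨I, hI, hBeq, hBcard⟩ := hinv (MulAction.orbit N a) hBsub hBa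
    (fun g hg b hb => Cfsg.Agent.Lib.Helper8.smul_mem_orbit_of_normalized N a hNnorm g hg b hb)
  have hidxN : (MulAction.stabilizer N a).index = (MulAction.orbit N a).ncard :=
    MulAction.index_stabilizer N a
  have hdvd : (MulAction.orbit N a).ncard ∣ Nat.card G := by
    rw [← hidxN]
    exact (Subgroup.index_dvd_card _).trans (Subgroup.card_subgroup_dvd_card N)
  rw [hBcard] at hdvd
  rcases hprim I hdvd with hIe | hIu
  · -- `N` fixes `a`, hence every point
    exfalso
    apply hN1
    rw [Subgroup.eq_bot_iff_forall]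
    intro n hn
    apply hf
    intro x hx
    obtain ⟨g, rfl⟩ := htr a ha x hx
    have hfix : ∀ m ∈ N, m • a = a := by
      intro m hm
      have hm' : m • a ∈ MulAction.orbit N a := ⟨⟨m, hm⟩, rfl⟩
      rw [hBeq, hIe] at hm'
      simpa using hm'
    have hconj : g⁻¹ * n * g ∈ N := by
      have := hN.conj_mem n hn g⁻¹
      simpa using this
    have := hfix _ hconj
    calc n • g • a = g • ((g⁻¹ * n * g) • a) := by
          rw [← mul_smul, ← mul_smul]; congr 1; group
      _ = g • a := by rw [this]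
  · -- `N` is transitive
    have hBs : MulAction.orbit N a = s := by rw [hBeq, hIu, ← hsall]
    have ht : ∀ x ∈ s, ∃ n ∈ N, n • a = x := by
      intro x hx
      rw [← hBs] at hx
      obtain ⟨n, rfl⟩ := hx
      exact ⟨n, n.2, rfl⟩
    set K := MulAction.stabilizer G a with hK
    rcases hsimple.eq_bot_or_eq_top_of_normal (N.subgroupOf K) inferInstance with hbot | htop
    · -- a regular normal subgroup
      exfalso
      rw [Subgroup.subgroupOf_eq_bot] at hbot
      have hfree : ∀ x ∈ N, x • a = a → x = 1 := fun x hx hxa =>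
        Subgroup.disjoint_def.mp hbot hx (MulAction.mem_stabilizer_iff.mpr hxa)
      have hinj : ∀ x ∈ N, ∀ y ∈ N, x • a = y • a → x = y := by
        intro x hx y hy hxy
        have h1 : (y⁻¹ * x) • a = a := by rw [mul_smul, hxy, inv_smul_smul]
        have h2 := hfree _ (N.mul_mem (N.inv_mem hy) hx) h1
        calc x = y * (y⁻¹ * x) := by group
          _ = y := by rw [h2, mul_one]
      have hNcard : Nat.card N = s.ncard := by
        have h2 : MulAction.stabilizer N a = ⊥ := by
          rw [Subgroup.eq_bot_iff_forall]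
          intro n hn
          exact Subtype.ext (hfree n n.2 (MulAction.mem_stabilizer_iff.1 hn))
        have h3 := Subgroup.card_mul_index (MulAction.stabilizer N a)
        rw [hidxN, hBs, h2, Subgroup.card_bot] at h3
        omega
      have : Fintype N := Fintype.ofFinite N
      -- the points `m • a` with `m ^ r = 1`
      have hkey : ∀ r : ℕ, r.Prime → r ∣ s.ncard →
          ∃ J : Finset (Fin k), r ∣ (1 + ∑ i ∈ J, c i) ∧
            ∀ i ∈ J, ∃ x ∈ O i, ∃ m ∈ N, m ^ r = 1 ∧ m • a = x := by
        intro r hr hrn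
        have : Fact r.Prime := ⟨hr⟩
        have hdiv := prime_dvd_card_pow_eq_one (N := N) r (by
          rw [← Nat.card_eq_fintype_card, hNcard]; exact hrn)
        set F := Finset.univ.filter fun m : N => m ^ r = 1 with hF
        set Br : Set Ω := (fun m : N => (m : G) • a) '' (F : Set N) with hBr
        have hBrcard : Br.ncard = F.card := by
          rw [hBr, Set.ncard_image_of_injOn, Set.ncard_coe_finset]
          intro x _ y _ hxy
          exact Subtype.ext (hinj x x.2 y y.2 hxy)
        have hBrs : Br ⊆ s := by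
          rintro _ ⟨m, -, rfl⟩
          exact hs m a ha
        have haBr : a ∈ Br := by
          refine ⟨1, ?_, by simp⟩
          rw [Finset.mem_coe, hF, Finset.mem_filter]
          exact ⟨Finset.mem_univ _, one_pow r⟩
        have hBrinv : ∀ g : G, g • a = a → ∀ b ∈ Br, g • b ∈ Br := by
          rintro g hg _ ⟨m, hm, rfl⟩
          rw [Finset.mem_coe, hF, Finset.mem_filter] at hm
          refine ⟨⟨g * m * g⁻¹, hN.conj_mem m m.2 g⟩, ?_, ?_⟩
          · rw [Finset.mem_coe, hF, Finset.mem_filter]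
            refine ⟨Finset.mem_univ _, Subtype.ext ?_⟩
            have h1 : ((m ^ r : N) : G) = 1 := by rw [hm.2]; rfl
            rw [Subgroup.coe_pow] at h1
            show (g * (m : G) * g⁻¹) ^ r = 1
            rw [conj_pow, h1, mul_one, mul_inv_cancel]
          · show (g * (m : G) * g⁻¹) • a = g • ((m : G) • a)
            have hg' : g⁻¹ • a = a := by rw [inv_smul_eq_iff, hg]
            rw [mul_smul, mul_smul, hg']
        obtain ⟨J, hJ, hJeq, hJcard⟩ := hinv Br hBrs haBr hBrinv
        refine ⟨J, ?_, ?_⟩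
        · rw [← hJcard, hBrcard]; exact hdiv
        · intro i hi
          obtain ⟨x, hxB, hxO⟩ := (hJ i).1 hi
          obtain ⟨m, hm, rfl⟩ := hxB
          rw [Finset.mem_coe, hF, Finset.mem_filter] at hm
          refine ⟨_, hxO, m, m.2, ?_, rfl⟩
          have h1 : ((m ^ r : N) : G) = 1 := by rw [hm.2]; rfl
          rwa [Subgroup.coe_pow] at h1
      obtain ⟨I1, hI1, hI1m⟩ := hkey p hp hpn
      obtain ⟨I2, hI2, hI2m⟩ := hkey q hq hqn
      apply hreg I1 I2 hI1 hI2
      rw [Finset.disjoint_left]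
      intro i hi1 hi2
      obtain ⟨x, hx, m, hmN, hmp, hmx⟩ := hI1m i hi1
      obtain ⟨y, hy, m', hmN', hmq, hmy⟩ := hI2m i hi2
      obtain ⟨g, hga, hgxy⟩ := hOtr i x hx y hy
      -- conjugate `m` by `g`
      have hc : (g * m * g⁻¹) • a = y := by
        have hg' : g⁻¹ • a = a := by rw [inv_smul_eq_iff, hga]
        rw [mul_smul, mul_smul, hg', hmx, hgxy]
      have hcN : g * m * g⁻¹ ∈ N := hN.conj_mem m hmN g
      have heq : g * m * g⁻¹ = m' := hinj _ hcN _ hmN' (by rw [hc, hmy])
      have hcp : m' ^ p = 1 := by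
        rw [← heq, conj_pow, hmp, mul_one, mul_inv_cancel]
      have hm1 : m' = 1 := by
        have hcop : Nat.Coprime p q := (Nat.coprime_primes hp hq).2 hpq
        have h1 := orderOf_dvd_of_pow_eq_one hcp
        have h2 := orderOf_dvd_of_pow_eq_one hmq
        have h3 : orderOf m' ∣ 1 := by
          have := Nat.dvd_gcd h1 h2
          rwa [hcop.gcd_eq_one] at this
        exact orderOf_eq_one_iff.1 (Nat.dvd_one.1 h3)
      rw [hm1, one_smul] at hmy
      exact haO i (hmy ▸ hy)
    · rw [Subgroup.subgroupOf_eq_top] at htop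
      rw [eq_top_iff]
      intro g _
      obtain ⟨n, hn, hna⟩ := ht (g • a) (hs g a ha)
      have hmem : n⁻¹ * g ∈ K := by
        rw [hK, MulAction.mem_stabilizer_iff, mul_smul, ← hna, inv_smul_smul]
      have : g = n * (n⁻¹ * g) := by group
      rw [this]
      exact N.mul_mem hn (htop hmem)

end

end Cfsg.Agent.Lib.Helper27
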