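import Mathlib
import Cfsg.Agent.Lib.Helper27.Co1Action
import Cfsg.Agent.Lib.Helper27.SuborbitSimple

/-!
# `Co0 / {±1}` is simple of order 4157776806543360000, given that `Co2` is simple

The quotient acts faithfully and transitively on the 98280 pairs `{w, -w}` of minimal vectors; the
stabiliser of the pair of `leechU = (4,4,0^22)` is the stabiliser of `leechU` in `Co0`, with orbits
of sizes 4600, 47104, 46575 on the other pairs (inner products `∓16`, `∓8`, `0`).
-/

set_option autoImplicit false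

namespace Cfsg.Agent.Lib.Helper27
open Cfsg Cfsg.Agent.Lib.Helper7 Cfsg.Agent.Lib.Helper8 Cfsg.Spor
open scoped Pointwise

/-! ### automorphisms mapping every minimal vector to `±` itself -/

/-- `4 e_∞ + s e_j` as a lattice element -/
def pairL (j : GolayPt) (s : ℤ) (hs : s = 4 ∨ s = -4) : leechLattice :=
  ⟨Pi.single none 4 + Pi.single j s, pm4_pair_mem _ _ (Or.inl rfl) hs⟩

theorem sqNorm_pairL {j : GolayPt} (hj : j ≠ none) (s : ℤ) (hs : s = 4 ∨ s = -4) :
    sqNorm ((pairL j s hs : leechLattice) : GolayPt → ℤ) = 32 :=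
  sqNorm_pm4_pair (Ne.symm hj) (Or.inl rfl) hs

theorem b8_none_eq (j : GolayPt) (hj : j ≠ none) :
    b8 none = pairL j 4 (Or.inl rfl) + pairL j (-4) (Or.inr rfl) := by
  apply Subtype.ext
  funext i
  show e8 none i = (Pi.single none 4 + Pi.single j 4 : GolayPt → ℤ) i
    + (Pi.single none 4 + Pi.single j (-4) : GolayPt → ℤ) i
  unfold e8
  simp only [Pi.add_apply, Pi.single_apply]
  by_cases h1 : i = none
  · subst h1
    have h2 : ¬ (none = j) := fun h => hj h.symm
    simp only [if_true, if_neg h2]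
    norm_num
  · simp only [if_neg h1]
    split_ifs <;> norm_num

theorem b8_eq_sub (j : GolayPt) (hj : j ≠ none) :
    b8 j = pairL j 4 (Or.inl rfl) - pairL j (-4) (Or.inr rfl) := by
  apply Subtype.ext
  funext i
  show e8 j i = (Pi.single none 4 + Pi.single j 4 : GolayPt → ℤ) i
    - (Pi.single none 4 + Pi.single j (-4) : GolayPt → ℤ) i
  unfold e8
  simp only [Pi.add_apply, Pi.single_apply]
  by_cases h1 : i = j
  · subst h1
    simp only [if_true, if_neg hj]
    norm_num
  · simp only [if_neg h1]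
    split_ifs <;> norm_num

theorem b8_ne {i j : GolayPt} (hij : i ≠ j) : b8 i ≠ b8 j ∧ b8 i ≠ -b8 j := by
  constructor
  · intro h
    have := congrFun (congrArg Subtype.val h) i
    rw [b8_apply, b8_apply, if_pos rfl, if_neg hij] at this
    norm_num at this
  · intro h
    have := congrFun (congrArg Subtype.val h) i
    rw [AddSubgroup.coe_neg, Pi.neg_apply, b8_apply, b8_apply, if_pos rfl, if_neg hij] at this
    norm_num at this

theorem b8_ne_neg (i : GolayPt) : b8 i ≠ -b8 i := by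
  intro h
  have := congrFun (congrArg Subtype.val h) i
  rw [AddSubgroup.coe_neg, Pi.neg_apply, b8_apply, if_pos rfl] at this
  norm_num at this

/-- the four possibilities at one coordinate -/
theorem sign_cases (g : Co0)
    (hg : ∀ w : leechLattice, sqNorm (w : GolayPt → ℤ) = 32 → g • w = w ∨ g • w = -w)
    (j : GolayPt) (hj : j ≠ none) :
    (g • b8 none = b8 none ∧ g • b8 j = b8 j) ∨ (g • b8 none = -b8 none ∧ g • b8 j = -b8 j) ∨
      g • b8 none = b8 j ∨ g • b8 none = -b8 j := by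
  have e1 := b8_none_eq j hj
  have e2 := b8_eq_sub j hj
  rcases hg _ (sqNorm_pairL hj 4 (Or.inl rfl)) with h1 | h1 <;>
    rcases hg _ (sqNorm_pairL hj (-4) (Or.inr rfl)) with h2 | h2
  · left
    exact ⟨by rw [e1, co0_smul_add, h1, h2], by rw [e2, co0_smul_sub, h1, h2]⟩
  · right; right; left
    rw [e1, co0_smul_add, h1, h2, e2]; abel
  · right; right; right
    rw [e1, co0_smul_add, h1, h2, e2]; abel
  · right; left
    exact ⟨by rw [e1, co0_smul_add, h1, h2]; abel, by rw [e2, co0_smul_sub, h1, h2]; abel⟩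

/-- an automorphism fixing all `8 e_j` is the identity -/
theorem co0_eq_one_of_fix_b8' (g : Co0) (h : ∀ j, g • b8 j = b8 j) : g = 1 := by
  apply co0_ext
  intro x
  rw [one_smul]
  apply Cfsg.Agent.S0398.eight_smul_cancel
  have h1 : (8 : ℤ) • (g • x) = toAddHom g.1 g.2 ((8 : ℤ) • x) := by
    rw [map_zsmul]; rfl
  rw [h1, eight_smul_eq_sum x, map_sum]
  apply Finset.sum_congr rfl
  intro j _
  rw [map_zsmul, toAddHom_apply]
  congr 1
  exact h j

/-- an automorphism mapping every minimal vector to `±` itself is central -/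
theorem mem_center_of_pm (g : Co0)
    (hg : ∀ w : leechLattice, sqNorm (w : GolayPt → ℤ) = 32 → g • w = w ∨ g • w = -w) :
    g ∈ Subgroup.center Co0 := by
  have h0n : (some 0 : GolayPt) ≠ none := by decide
  have h1n : (some 1 : GolayPt) ≠ none := by decide
  have h01 : (some 0 : GolayPt) ≠ some 1 := by decide
  -- the image of `8 e_∞`
  have hB : g • b8 none = b8 none ∨ g • b8 none = -b8 none := by
    rcases sign_cases g hg (some 0) h0n with h | h | h | h
    · exact Or.inl h.1
    · exact Or.inr h.1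
    · exfalso
      rcases sign_cases g hg (some 1) h1n with h' | h' | h' | h'
      · rw [h] at h'; exact (b8_ne h0n).1 h'.1
      · rw [h] at h'; exact (b8_ne h0n).2 h'.1
      · rw [h] at h'; exact (b8_ne h01).1 h'
      · rw [h] at h'; exact (b8_ne h01).2 h'
    · exfalso
      rcases sign_cases g hg (some 1) h1n with h' | h' | h' | h'
      · rw [h] at h'; exact (b8_ne (Ne.symm h0n)).2 h'.1.symm
      · rw [h, neg_inj] at h'; exact (b8_ne h0n).1 h'.1
      · rw [h] at h'; exact (b8_ne (Ne.symm h01)).2 h'.symm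
      · rw [h, neg_inj] at h'; exact (b8_ne h01).1 h'
  have hz : ((Subgroup.center Co0 : Subgroup Co0) : Set Co0) = {1, Cfsg.Agent.S0398.negCo0} :=
    Cfsg.Agent.S0398.center_eq
  show g ∈ ((Subgroup.center Co0 : Subgroup Co0) : Set Co0)
  rw [hz]
  rcases hB with hB | hB
  · left
    apply co0_eq_one_of_fix_b8'
    intro j
    by_cases hj : j = none
    · rw [hj]; exact hB
    · rcases sign_cases g hg j hj with h | h | h | h
      · exact h.2
      · exfalso; rw [hB] at h; exact b8_ne_neg none h.1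
      · exfalso; rw [hB] at h; exact (b8_ne (Ne.symm hj)).1 h
      · exfalso; rw [hB] at h; exact (b8_ne (Ne.symm hj)).2 h
  · right
    rw [Set.mem_singleton_iff]
    have key : Cfsg.Agent.S0398.negCo0 * g = 1 := by
      apply co0_eq_one_of_fix_b8'
      intro j
      rw [mul_smul, negCo0_smul]
      by_cases hj : j = none
      · rw [hj, hB, neg_neg]
      · rcases sign_cases g hg j hj with h | h | h | h
        · exfalso; rw [hB] at h; exact b8_ne_neg none h.1.symm
        · rw [h.2, neg_neg]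
        · exfalso; rw [hB] at h
          exact (b8_ne hj).2 h.symm
        · exfalso; rw [hB, neg_inj] at h; exact (b8_ne (Ne.symm hj)).1 h
    have hsq : Cfsg.Agent.S0398.negCo0 * Cfsg.Agent.S0398.negCo0 = 1 := by
      apply co0_ext
      intro x
      rw [mul_smul, negCo0_smul, negCo0_smul, neg_neg, one_smul]
    calc g = (Cfsg.Agent.S0398.negCo0 * Cfsg.Agent.S0398.negCo0) * g := by rw [hsq, one_mul]
      _ = Cfsg.Agent.S0398.negCo0 * (Cfsg.Agent.S0398.negCo0 * g) := by rw [mul_assoc]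
      _ = Cfsg.Agent.S0398.negCo0 := by rw [key, mul_one]

/-! ### the pairs of minimal vectors -/

/-- the pairs of minimal vectors -/
def SP : Set PLat := {ω | ∃ w : leechLattice, sqNorm (w : GolayPt → ℤ) = 32 ∧ pmk w = ω}

/-- the base point: the pair of `(4,4,0^22)` -/
def aP : PLat := pmk leechU

theorem aP_mem : aP ∈ SP := ⟨leechU, sqNorm_vecU, rfl⟩

theorem smul_mem_SP (x : Co1q) {ω : PLat} (hω : ω ∈ SP) : x • ω ∈ SP := by
  obtain ⟨g, rfl⟩ := co1q_surj x
  obtain ⟨w, hw, rfl⟩ := hω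
  exact ⟨g • w, by rw [co0_sqNorm]; exact hw, rfl⟩

theorem co1q_transitive (ω ω' : PLat) (hω : ω ∈ SP) (hω' : ω' ∈ SP) :
    ∃ x : Co1q, x • ω = ω' := by
  obtain ⟨w, hw, rfl⟩ := hω
  obtain ⟨w', hw', rfl⟩ := hω'
  obtain ⟨g, hg⟩ := Cfsg.Agent.S0400.result w w' hw hw'
  exact ⟨QuotientGroup.mk g, by rw [mk_smul, smul_pmk, hg]⟩

theorem co1q_faithful (x : Co1q) (h : ∀ ω ∈ SP, x • ω = ω) : x = 1 := by
  obtain ⟨g, rfl⟩ := co1q_surj x
  rw [QuotientGroup.eq_one_iff]
  apply mem_center_of_pm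
  intro w hw
  have := h (pmk w) ⟨w, hw, rfl⟩
  rw [mk_smul, smul_pmk] at this
  exact pmk_eq_iff.1 this

/-- the absolute value of the inner product with `(4,4,0^22)` -/
def absDot : PLat → ℕ :=
  Quotient.lift (fun w : leechLattice => (dotInt vecU (w : GolayPt → ℤ)).natAbs) (by
    intro v w h
    rcases h with h | h
    · show (dotInt vecU (v : GolayPt → ℤ)).natAbs = (dotInt vecU (w : GolayPt → ℤ)).natAbs
      rw [h]
    · show (dotInt vecU (v : GolayPt → ℤ)).natAbs = (dotInt vecU (w : GolayPt → ℤ)).natAbs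
      rw [h, AddSubgroup.coe_neg, dotInt_neg_right, Int.natAbs_neg])

theorem absDot_pmk (w : leechLattice) :
    absDot (pmk w) = (dotInt vecU (w : GolayPt → ℤ)).natAbs := rfl

/-! ### the point stabiliser -/

/-- the stabiliser of `leechU` in `Co0` maps onto the stabiliser of its pair -/
noncomputable def psiCo1 : MulAction.stabilizer Co0 leechU →* MulAction.stabilizer Co1q aP where
  toFun h := ⟨QuotientGroup.mk h.1, by
    rw [MulAction.mem_stabilizer_iff]
    show (QuotientGroup.mk h.1 : Co1q) • pmk leechU = pmk leechU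
    rw [mk_smul, smul_pmk, MulAction.mem_stabilizer_iff.1 h.2]⟩
  map_one' := rfl
  map_mul' _ _ := rfl

theorem psiCo1_coe (h : MulAction.stabilizer Co0 leechU) :
    ((psiCo1 h : MulAction.stabilizer Co1q aP) : Co1q) = QuotientGroup.mk h.1 := rfl

theorem leechU_ne_neg : leechU ≠ -leechU := by
  intro h
  have := congrFun (congrArg Subtype.val h) none
  rw [AddSubgroup.coe_neg, Pi.neg_apply] at this
  change vecU none = -vecU none at this
  unfold vecU at this
  rw [if_pos (Or.inl rfl)] at this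
  norm_num at this

theorem psiCo1_injective : Function.Injective psiCo1 := by
  rw [injective_iff_map_eq_one]
  intro h hh
  have h1 : (QuotientGroup.mk h.1 : Co1q) = 1 := by
    rw [← psiCo1_coe, hh]; rfl
  rw [QuotientGroup.eq_one_iff] at h1
  have hz : h.1 ∈ ((Subgroup.center Co0 : Subgroup Co0) : Set Co0) := h1
  rw [Cfsg.Agent.S0398.center_eq] at hz
  rcases hz with hz | hz
  · exact Subtype.ext hz
  · exfalso
    rw [Set.mem_singleton_iff] at hz
    have := MulAction.mem_stabilizer_iff.1 h.2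
    rw [hz, negCo0_smul] at this
    exact leechU_ne_neg this.symm

theorem psiCo1_surjective : Function.Surjective psiCo1 := by
  rintro ⟨x, hx⟩
  obtain ⟨g, rfl⟩ := co1q_surj x
  rw [MulAction.mem_stabilizer_iff] at hx
  have hx' : pmk (g • leechU) = pmk leechU := hx
  rcases pmk_eq_iff.1 hx' with h | h
  · exact ⟨⟨g, MulAction.mem_stabilizer_iff.2 h⟩, rfl⟩
  · refine ⟨⟨Cfsg.Agent.S0398.negCo0 * g, MulAction.mem_stabilizer_iff.2 ?_⟩, ?_⟩
    · rw [mul_smul, negCo0_smul, h, neg_neg]
    · apply Subtype.ext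
      rw [psiCo1_coe]
      show (QuotientGroup.mk (Cfsg.Agent.S0398.negCo0 * g) : Co1q) = QuotientGroup.mk g
      rw [QuotientGroup.mk_mul]
      have : (QuotientGroup.mk Cfsg.Agent.S0398.negCo0 : Co1q) = 1 := by
        rw [QuotientGroup.eq_one_iff]
        exact Cfsg.Agent.S0398.negCo0_mem_center
      rw [this, one_mul]

/-- the point stabiliser is `Co2` -/
noncomputable def stabEquivCo1 :
    MulAction.stabilizer Co0 leechU ≃* MulAction.stabilizer Co1q aP :=
  MulEquiv.ofBijective psiCo1 ⟨psiCo1_injective, psiCo1_surjective⟩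

/-! ### the order -/

theorem card_Co1q : Nat.card Co1q = 4157776806543360000 := by
  have h : Nat.card Co0 = Nat.card Co1q * Nat.card (Subgroup.center Co0) :=
    Subgroup.card_eq_card_quotient_mul_card_subgroup (Subgroup.center Co0)
  rw [Cfsg.Agent.S0397.result, Cfsg.Agent.S0398.result] at h
  omega

instance : Finite Co1q := Nat.finite_of_card_ne_zero (by rw [card_Co1q]; norm_num)

theorem orbit_co1q : MulAction.orbit Co1q aP = SP := by
  ext ω
  constructor
  · rintro ⟨x, rfl⟩
    exact smul_mem_SP x aP_mem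
  · intro hω
    obtain ⟨x, hx⟩ := co1q_transitive aP ω aP_mem hω
    exact ⟨x, hx⟩

theorem finite_SP : SP.Finite := by
  rw [← orbit_co1q]
  exact Set.finite_range _

theorem ncard_SP (hCo2 : IsCo2 ↥(MulAction.stabilizer Co0 leechU)) : SP.ncard = 98280 := by
  have h1 : (MulAction.stabilizer Co1q aP).index = (MulAction.orbit Co1q aP).ncard :=
    MulAction.index_stabilizer Co1q aP
  have h2 := Subgroup.card_mul_index (MulAction.stabilizer Co1q aP)
  rw [h1, orbit_co1q, card_Co1q, ← Nat.card_congr stabEquivCo1.toEquiv, hCo2.2] at h2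
  omega

/-! ### the suborbits -/

/-- the three inner products -/
def dCo1 : Fin 3 → ℤ := ![-16, -8, 0]

/-- the three subdegrees -/
def cCo1 : Fin 3 → ℕ := ![4600, 47104, 46575]

/-- the minimal vectors at a given inner product with `(4,4,0^22)` -/
def LV (d : ℤ) : Set leechLattice :=
  {w | sqNorm (w : GolayPt → ℤ) = 32 ∧ dotInt vecU (w : GolayPt → ℤ) = d}

/-- the three suborbits -/
def OCo1 (i : Fin 3) : Set PLat := pmk '' LV (dCo1 i)

theorem OCo1_sub (i : Fin 3) : OCo1 i ⊆ SP := by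
  rintro _ ⟨w, hw, rfl⟩
  exact ⟨w, hw.1, rfl⟩

theorem absDot_OCo1 (i : Fin 3) {ω : PLat} (hω : ω ∈ OCo1 i) : absDot ω = (dCo1 i).natAbs := by
  obtain ⟨w, hw, rfl⟩ := hω
  rw [absDot_pmk, hw.2]

theorem absDot_aP : absDot aP = 32 := by
  show (dotInt vecU vecU).natAbs = 32
  rw [dotInt_vecU_vecU]; rfl

theorem natAbs_dCo1_injective : Function.Injective fun i => (dCo1 i).natAbs := by
  intro i j h
  fin_cases i <;> fin_cases j <;> simp [dCo1] at h ⊢

theorem natAbs_dCo1_ne (i : Fin 3) : (dCo1 i).natAbs ≠ 32 := by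
  fin_cases i <;> simp [dCo1]

theorem ncard_LV16 : (LV (-16)).ncard = 4600 := by
  unfold LV
  rw [ncard_XF_subtype vecU (-16)]
  exact (census leechU.2 sqNorm_vecU).1

theorem ncard_LV8 : (LV (-8)).ncard = 47104 := by
  unfold LV
  rw [ncard_XF_subtype vecU (-8)]
  exact (census leechU.2 sqNorm_vecU).2.1

theorem pmk_injOn_LV {d : ℤ} (hd : d ≠ 0) : Set.InjOn pmk (LV d) := by
  intro w hw w' hw' h
  rcases pmk_eq_iff.1 h with h | h
  · exact h
  · exfalso
    have h1 := hw.2
    rw [h, AddSubgroup.coe_neg, dotInt_neg_right, hw'.2] at h1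
    omega

theorem ncard_OCo1_0 : (OCo1 0).ncard = 4600 := by
  unfold OCo1
  rw [Set.ncard_image_of_injOn (pmk_injOn_LV (by simp [dCo1]))]
  exact ncard_LV16

theorem ncard_OCo1_1 : (OCo1 1).ncard = 47104 := by
  unfold OCo1
  rw [Set.ncard_image_of_injOn (pmk_injOn_LV (by simp [dCo1]))]
  exact ncard_LV8

theorem SP_cover (ω : PLat) (hω : ω ∈ SP) (hne : ω ≠ aP) : ∃ i, ω ∈ OCo1 i := by
  obtain ⟨w, hw, rfl⟩ := hω
  have hcases := dot_values leechU.2 sqNorm_vecU w.2 hw
  rw [show ((leechU : leechLattice) : GolayPt → ℤ) = vecU from rfl] at hcases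
  have hneg : sqNorm ((-w : leechLattice) : GolayPt → ℤ) = 32 := by
    rw [AddSubgroup.coe_neg, sqNorm_neg', hw]
  have hdneg : dotInt vecU ((-w : leechLattice) : GolayPt → ℤ)
      = - dotInt vecU (w : GolayPt → ℤ) := by
    rw [AddSubgroup.coe_neg, dotInt_neg_right]
  rcases hcases with ⟨-, h⟩ | h | h | h | h | h | ⟨-, h⟩
  · exfalso
    apply hne
    have : w = -leechU := Subtype.ext h
    rw [this, pmk_neg]
    rfl
  · exact ⟨0, w, ⟨hw, h⟩, rfl⟩
  · exact ⟨1, w, ⟨hw, h⟩, rfl⟩
  · exact ⟨2, w, ⟨hw, h⟩, rfl⟩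
  · exact ⟨1, -w, ⟨hneg, by rw [hdneg, h]; rfl⟩, pmk_neg w⟩
  · exact ⟨0, -w, ⟨hneg, by rw [hdneg, h]; rfl⟩, pmk_neg w⟩
  · exfalso
    apply hne
    have : w = leechU := Subtype.ext h
    rw [this]
    rfl

theorem OCo1_disjoint (i j : Fin 3) (hij : i ≠ j) : Disjoint (OCo1 i) (OCo1 j) := by
  rw [Set.disjoint_left]
  intro ω h1 h2
  exact hij (natAbs_dCo1_injective ((absDot_OCo1 i h1).symm.trans (absDot_OCo1 j h2)))

theorem aP_notMem (i : Fin 3) : aP ∉ OCo1 i := by
  intro h
  have := absDot_OCo1 i h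
  rw [absDot_aP] at this
  exact natAbs_dCo1_ne i this.symm

theorem ncard_OCo1_2 (hCo2 : IsCo2 ↥(MulAction.stabilizer Co0 leechU)) :
    (OCo1 2).ncard = 46575 := by
  have hfin : ∀ i, (OCo1 i).Finite := fun i => finite_SP.subset (OCo1_sub i)
  have hSP : SP = insert aP (OCo1 0 ∪ OCo1 1 ∪ OCo1 2) := by
    ext ω
    constructor
    · intro hω
      by_cases hne : ω = aP
      · exact Or.inl hne
      · obtain ⟨i, hi⟩ := SP_cover ω hω hne
        right
        fin_cases i
        · exact Or.inl (Or.inl hi)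
        · exact Or.inl (Or.inr hi)
        · exact Or.inr hi
    · rintro (h | (h | h) | h)
      · rw [h]; exact aP_mem
      · exact OCo1_sub 0 h
      · exact OCo1_sub 1 h
      · exact OCo1_sub 2 h
  have h1 := ncard_SP hCo2
  have hna : aP ∉ OCo1 0 ∪ OCo1 1 ∪ OCo1 2 := by
    rintro ((h | h) | h)
    · exact aP_notMem 0 h
    · exact aP_notMem 1 h
    · exact aP_notMem 2 h
  have hd01 : Disjoint (OCo1 0) (OCo1 1) := OCo1_disjoint 0 1 (by decide)
  have hd2 : Disjoint (OCo1 0 ∪ OCo1 1) (OCo1 2) := by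
    rw [Set.disjoint_union_left]
    exact ⟨OCo1_disjoint 0 2 (by decide), OCo1_disjoint 1 2 (by decide)⟩
  rw [hSP, Set.ncard_insert_of_notMem hna (((hfin 0).union (hfin 1)).union (hfin 2)),
    Set.ncard_union_eq hd2 ((hfin 0).union (hfin 1)) (hfin 2),
    Set.ncard_union_eq hd01 (hfin 0) (hfin 1), ncard_OCo1_0, ncard_OCo1_1] at h1
  omega

theorem ncard_OCo1 (hCo2 : IsCo2 ↥(MulAction.stabilizer Co0 leechU)) (i : Fin 3) :
    (OCo1 i).ncard = cCo1 i := by
  fin_cases i
  · exact ncard_OCo1_0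
  · exact ncard_OCo1_1
  · exact ncard_OCo1_2 hCo2

theorem OCo1_trans (i : Fin 3) : ∀ ω ∈ OCo1 i, ∀ ω' ∈ OCo1 i,
    ∃ x : Co1q, x • aP = aP ∧ x • ω = ω' := by
  rintro _ ⟨w, hw, rfl⟩ _ ⟨w', hw', rfl⟩
  have key : URel w w' := by
    fin_cases i
    · exact urel_of_dot16 w w' hw.1 hw'.1 hw.2 hw'.2
    · exact urel_of_dot8 w w' hw.1 hw'.1 hw.2 hw'.2
    · obtain ⟨g, g1, g2⟩ := orth_pair_trans leechU w leechU w' sqNorm_vecU hw.1 sqNorm_vecU hw'.1
        hw.2 hw'.2
      exact ⟨g, g1, g2⟩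
  obtain ⟨g, g1, g2⟩ := key
  refine ⟨QuotientGroup.mk g, ?_, ?_⟩
  · show (QuotientGroup.mk g : Co1q) • pmk leechU = pmk leechU
    rw [mk_smul, smul_pmk, g1]
  · rw [mk_smul, smul_pmk, g2]

/-- **`Co0 / {±1}` is simple of order 4157776806543360000 (given that `Co2` is).** -/
theorem isCo1_of_isCo2 (hCo2 : IsCo2 ↥(MulAction.stabilizer Co0 leechU)) : IsCo1 Co1q := by
  refine ⟨?_, card_Co1q⟩
  have hsimple : IsSimpleGroup (MulAction.stabilizer Co1q aP) := by
    have := hCo2.1
    exact MulEquiv.isSimpleGroup stabEquivCo1.symm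
  refine isSimpleGroup_of_suborbits (G := Co1q) (Ω := PLat) SP finite_SP
    (fun x ω hω => smul_mem_SP x hω) co1q_faithful
    (fun ω hω ω' hω' => co1q_transitive ω ω' hω hω') aP aP_mem hsimple
    OCo1 cCo1 SP_cover OCo1_sub aP_notMem (ncard_OCo1 hCo2) OCo1_disjoint OCo1_trans ?_ 7 13
    (by norm_num) (by norm_num) (by norm_num)
    (by rw [ncard_SP hCo2]; norm_num) (by rw [ncard_SP hCo2]; norm_num) ?_
  · rw [card_Co1q]
    unfold cCo1
    decide +kernel
  · unfold cCo1
    decide +kernel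

end Cfsg.Agent.Lib.Helper27
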