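import Mathlib
import Cfsg.Prelude.Def_SporadicCombinatorics
import Cfsg.Agent.Lib.Helper27.M24Cfg
import Cfsg.Agent.Lib.Helper27.M24FlagData

/-!
# Transitivity of `M24` on flags and related configurations

* `exists_M24_flag`: `M24` is transitive on pairs (point, octad through it);
* `exists_M24_flag2`: on triples (two points, octad through both);
* the stabilizer of the base flag `∞ ∈ setOf octO` is transitive on the 16 points outside the octad,
  hence `M24` is transitive on (octad, outside point) and on (point in, octad, point out);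
* `flag_orbits`: the flag stabilizer has orbits `1, 112, 140` on the octads through the point.
-/

set_option autoImplicit false

namespace Cfsg.Agent.Lib.Helper27

open Cfsg Cfsg.Agent.Lib.Helper7
open scoped Pointwise

theorem exists_emb5 (s : Finset GolayPt) (l : List GolayPt) (hl : l.Nodup) (hls : ∀ p ∈ l, p ∈ s)
    (hs : 5 ≤ s.card) (hlen : l.length ≤ 5) :
    ∃ X : Fin 5 ↪ GolayPt, (∀ i, X i ∈ s) ∧
      ∀ (i : Fin 5) (h : i.val < l.length), X i = l[i.val] := by
  classical
  have hsub : l.toFinset ⊆ s := by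
    intro p hp
    exact hls p (List.mem_toFinset.1 hp)
  have hcard : 5 - l.length ≤ (s \ l.toFinset).card := by
    rw [Finset.card_sdiff_of_subset hsub, List.toFinset_card_of_nodup hl]
    omega
  obtain ⟨t, hts, ht⟩ := Finset.exists_subset_card_eq hcard
  have hl' : (l ++ t.toList).Nodup := by
    refine List.Nodup.append hl (Finset.nodup_toList t) ?_
    intro p hp hp'
    have := hts (Finset.mem_toList.1 hp')
    rw [Finset.mem_sdiff, List.mem_toFinset] at this
    exact this.2 hp
  have hlen' : (l ++ t.toList).length = 5 := by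
    rw [List.length_append, Finset.length_toList, ht]
    omega
  refine ⟨⟨fun i => (l ++ t.toList)[i.val]'(by rw [hlen']; exact i.isLt), ?_⟩, ?_, ?_⟩
  · intro i j hij
    have := (List.Nodup.getElem_inj_iff hl').1 hij
    exact Fin.ext this
  · intro i
    have hm : (l ++ t.toList)[i.val]'(by rw [hlen']; exact i.isLt) ∈ l ++ t.toList :=
      List.getElem_mem _
    rw [List.mem_append] at hm
    rcases hm with hm | hm
    · exact hls _ hm
    · exact (Finset.mem_sdiff.1 (hts (Finset.mem_toList.1 hm))).1
  · intro i h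
    exact List.getElem_append_left h

/-- an element of `M24` mapping an injective 5-tuple inside the octad `o` to one inside `o'`
maps `o` to `o'` -/
theorem smul_octad_eq_of_emb {g : Equiv.Perm GolayPt} (hg : g ∈ M24) {o o' : Finset GolayPt}
    (ho : o ∈ octads) (ho' : o' ∈ octads) (X Y : Fin 5 ↪ GolayPt) (hX : ∀ i, X i ∈ o)
    (hY : ∀ i, Y i ∈ o') (hgXY : ∀ i, g (X i) = Y i) : g • o = o' := by
  refine smul_octad_eq_of_maps hg ho ho' (s := Finset.univ.map X) ?_ ?_ ?_
  · intro p hp
    rw [Finset.mem_map] at hp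
    obtain ⟨i, _, rfl⟩ := hp
    exact hX i
  · rw [Finset.card_map]; simp
  · intro p hp
    rw [Finset.mem_map] at hp
    obtain ⟨i, _, rfl⟩ := hp
    rw [hgXY i]
    exact hY i

/-- `M24` is transitive on flags (point, octad through it). -/
theorem exists_M24_flag {x x' : GolayPt} {o o' : Finset GolayPt} (ho : o ∈ octads)
    (ho' : o' ∈ octads) (hx : x ∈ o) (hx' : x' ∈ o') :
    ∃ g ∈ M24, g x = x' ∧ g • o = o' := by
  obtain ⟨X, hX, hX0⟩ := exists_emb5 o [x] (List.nodup_singleton x)
    (by intro p hp; rw [List.mem_singleton] at hp; rw [hp]; exact hx) (by rw [ho.2]; decide)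
    (by simp)
  obtain ⟨Y, hY, hY0⟩ := exists_emb5 o' [x'] (List.nodup_singleton x')
    (by intro p hp; rw [List.mem_singleton] at hp; rw [hp]; exact hx') (by rw [ho'.2]; decide)
    (by simp)
  obtain ⟨g, hg, hgXY⟩ := exists_M24_map_emb (le_refl 5) X Y
  refine ⟨g, hg, ?_, smul_octad_eq_of_emb hg ho ho' X Y hX hY hgXY⟩
  have h0 := hX0 0 (by simp)
  have h0' := hY0 0 (by simp)
  simp only [Fin.val_zero, List.getElem_cons_zero] at h0 h0'
  rw [← h0, hgXY, h0']

/-- `M24` is transitive on (two points, octad through both). -/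
theorem exists_M24_flag2 {p q p' q' : GolayPt} {o o' : Finset GolayPt} (ho : o ∈ octads)
    (ho' : o' ∈ octads) (hpq : p ≠ q) (hpq' : p' ≠ q') (hp : p ∈ o) (hq : q ∈ o) (hp' : p' ∈ o')
    (hq' : q' ∈ o') : ∃ g ∈ M24, g p = p' ∧ g q = q' ∧ g • o = o' := by
  obtain ⟨X, hX, hX0⟩ := exists_emb5 o [p, q] (by simp [hpq])
    (by intro r hr; simp only [List.mem_cons, List.not_mem_nil, or_false] at hr
        rcases hr with rfl | rfl <;> assumption) (by rw [ho.2]; decide) (by simp)
  obtain ⟨Y, hY, hY0⟩ := exists_emb5 o' [p', q'] (by simp [hpq'])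
    (by intro r hr; simp only [List.mem_cons, List.not_mem_nil, or_false] at hr
        rcases hr with rfl | rfl <;> assumption) (by rw [ho'.2]; decide) (by simp)
  obtain ⟨g, hg, hgXY⟩ := exists_M24_map_emb (le_refl 5) X Y
  refine ⟨g, hg, ?_, ?_, smul_octad_eq_of_emb hg ho ho' X Y hX hY hgXY⟩
  · have h0 := hX0 0 (by simp)
    have h0' := hY0 0 (by simp)
    simp only [Fin.val_zero, List.getElem_cons_zero] at h0 h0'
    rw [← h0, hgXY, h0']
  · have h1 := hX0 1 (by simp)
    have h1' := hY0 1 (by simp)
    simp only [Fin.val_one, List.getElem_cons_succ, List.getElem_cons_zero] at h1 h1'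
    rw [← h1, hgXY, h1']

/-! ### the base flag -/

theorem setOf_octO_mem : setOf octO ∈ octads := setOf_mem_octads isOctadMask_octO

theorem flagT_eq : slpT flagProg flagIdx = flagT := by decide +kernel

theorem flag_fix : flagT.all (fixesOK [23] [octO]) = true := by decide +kernel

theorem flag_classesOK : classesOK flagT flagClasses = true := by decide +kernel

/-- octads through the point `∞` -/
def flagSel (m : ℕ) : Bool := m.testBit 23

/-- size of the intersection with the base octad -/
def octInv (m : ℕ) : ℕ := pc (octO &&& m)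

theorem flag_coverOK : coverOK flagSel octInv flagClasses = true := by decide +kernel

theorem flag_out_ok : orbCheck flagT [2 ^ 4] flagCertOut = true := by decide +kernel

theorem flag_out_all : ∀ i < 24, octO.testBit i = false →
    (reachedOf (2 ^ 4) flagCertOut).contains (2 ^ i) = true := by decide +kernel

/-- the stabilizer in `M24` of the base flag -/
abbrev flagStab : Subgroup (Equiv.Perm GolayPt) := cfgStab [pt 23] [setOf octO]

theorem mem_flagStab {g : Equiv.Perm GolayPt} :
    g ∈ flagStab ↔ g ∈ M24 ∧ g (pt 23) = pt 23 ∧ g • setOf octO = setOf octO := by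
  rw [mem_cfgStab]
  simp

/-- orbits of the flag stabilizer on the octads through the point -/
theorem flag_orbits : ∀ m ∈ octL, ∀ m' ∈ octL, flagSel m = true → flagSel m' = true →
    octInv m = octInv m' → ∃ g ∈ flagStab, g • setOf m = setOf m' :=
  cfg_orbits flagProg flagIdx flagT flagT_eq [23] [octO] (by decide) flag_fix flagSel octInv
    flagClasses (by decide) flag_classesOK flag_coverOK

/-- the flag stabilizer is transitive on the points outside the octad -/
theorem flag_out_trans {q q' : GolayPt} (hq : q ∉ setOf octO) (hq' : q' ∉ setOf octO) :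
    ∃ g ∈ flagStab, g q = q' := by
  have key : ∀ r : GolayPt, r ∉ setOf octO → ∃ g ∈ flagStab, g (pt 4) = r := by
    intro r hr
    rw [mem_setOf, Bool.not_eq_true] at hr
    have := cfg_point_orbit flagProg flagIdx flagT flagT_eq [23] [octO] (by decide) flag_fix 4
      (by decide) flagCertOut flag_out_ok (idx r) (idx_lt r) (flag_out_all _ (idx_lt r) hr)
    rw [pt_idx] at this
    exact this
  obtain ⟨g, hg, hgq⟩ := key q hq
  obtain ⟨g', hg', hgq'⟩ := key q' hq'
  refine ⟨g' * g⁻¹, flagStab.mul_mem hg' (flagStab.inv_mem hg), ?_⟩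
  rw [Equiv.Perm.mul_apply, ← hgq]
  simp [hgq']

/-- `M24` is transitive on configurations (point in the octad, octad, point outside). -/
theorem exists_M24_flag_out {p q : GolayPt} {o : Finset GolayPt} (ho : o ∈ octads) (hp : p ∈ o)
    (hq : q ∉ o) : ∃ g ∈ M24, g p = pt 23 ∧ g q = pt 4 ∧ g • o = setOf octO := by
  have h23 : pt 23 ∈ setOf octO := by rw [pt_mem_setOf (by decide)]; decide
  have h16 : pt 4 ∉ setOf octO := by rw [pt_mem_setOf (by decide)]; decide
  obtain ⟨g, hg, hgp, hgo⟩ := exists_M24_flag ho setOf_octO_mem hp h23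
  have hgq : g q ∉ setOf octO := by
    rw [← hgo, perm_apply_mem_smul_iff]
    exact hq
  obtain ⟨f, hf, hfq⟩ := flag_out_trans hgq h16
  rw [mem_flagStab] at hf
  refine ⟨f * g, M24.mul_mem hf.1 hg, ?_, ?_, ?_⟩
  · rw [Equiv.Perm.mul_apply, hgp, hf.2.1]
  · rw [Equiv.Perm.mul_apply, hfq]
  · rw [mul_smul, hgo, hf.2.2]

/-- `M24` is transitive on configurations (octad, point outside). -/
theorem exists_M24_octad_out {q : GolayPt} {o : Finset GolayPt} (ho : o ∈ octads)
    (hq : q ∉ o) : ∃ g ∈ M24, g q = pt 4 ∧ g • o = setOf octO := by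
  have hne : o.Nonempty := by
    rw [← Finset.card_pos, ho.2]; decide
  obtain ⟨p, hp⟩ := hne
  obtain ⟨g, hg, _, hgq, hgo⟩ := exists_M24_flag_out ho hp hq
  exact ⟨g, hg, hgq, hgo⟩

end Cfsg.Agent.Lib.Helper27
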