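import Mathlib
import Cfsg.Agent.Lib.Helper27.M24Flag
import Cfsg.Agent.Lib.Helper27.M24OutData

/-!
# `M24` is transitive on (octad, two points outside) and on (octad, three points inside)
-/

set_option autoImplicit false

namespace Cfsg.Agent.Lib.Helper27
open Cfsg Cfsg.Agent.Lib.Helper7
open scoped Pointwise

theorem outT_eq2 : slpT outProg outIdx = outT := by decide +kernel

theorem out_fix2 : outT.all (fixesOK [4] [octO]) = true := by decide +kernel

/-- certificate: the stabilizer of (point 4, base octad) is transitive on the other fifteen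
points outside the octad -/
def outCertOut : List (ℕ × ℕ × ℕ) :=
  [(128, 64, 0), (4096, 64, 1), (256, 128, 0), (1048576, 128, 1), (2048, 4096, 0),
   (8192, 4096, 1), (1024, 256, 0), (512, 256, 1), (2097152, 2048, 0), (262144, 8192, 0),
   (4194304, 2097152, 0), (524288, 2097152, 1), (65536, 262144, 0), (32768, 4194304, 0)]

theorem out_out_ok : orbCheck outT [2 ^ 6] outCertOut = true := by decide +kernel

theorem out_out_all : ∀ i < 24, octO.testBit i = false → i ≠ 4 →
    (reachedOf (2 ^ 6) outCertOut).contains (2 ^ i) = true := by decide +kernel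

/-- the stabilizer in `M24` of (point 4, base octad) -/
abbrev outStab : Subgroup (Equiv.Perm GolayPt) := cfgStab [pt 4] [setOf octO]

theorem mem_outStab {g : Equiv.Perm GolayPt} :
    g ∈ outStab ↔ g ∈ M24 ∧ g (pt 4) = pt 4 ∧ g • setOf octO = setOf octO := by
  rw [mem_cfgStab]
  simp

theorem out_out_trans {r : GolayPt} (hr : r ∉ setOf octO) (hr4 : r ≠ pt 4) :
    ∃ g ∈ outStab, g (pt 6) = r := by
  rw [mem_setOf, Bool.not_eq_true] at hr
  have hne : idx r ≠ 4 := by
    intro h
    apply hr4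
    rw [← pt_idx r, h]
  have := cfg_point_orbit outProg outIdx outT outT_eq2 [4] [octO] (by decide)
    out_fix2 6 (by decide) outCertOut out_out_ok (idx r) (idx_lt r)
    (out_out_all _ (idx_lt r) hr hne)
  rw [pt_idx] at this
  exact this

/-- `M24` is transitive on configurations (octad, two ordered points outside). -/
theorem exists_M24_octad_out2 {q q2 : GolayPt} {o : Finset GolayPt} (ho : o ∈ octads)
    (hq : q ∉ o) (hq2 : q2 ∉ o) (hne : q ≠ q2) :
    ∃ g ∈ M24, g q = pt 4 ∧ g q2 = pt 6 ∧ g • o = setOf octO := by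
  obtain ⟨g, hg, hgq, hgo⟩ := exists_M24_octad_out ho hq
  have hr : g q2 ∉ setOf octO := by
    rw [← hgo, perm_apply_mem_smul_iff]
    exact hq2
  have hr4 : g q2 ≠ pt 4 := by
    rw [← hgq]
    intro h
    exact hne (g.injective h).symm
  obtain ⟨f, hf, hfr⟩ := out_out_trans hr hr4
  rw [mem_outStab] at hf
  have hfi : f⁻¹ ∈ M24 := M24.inv_mem hf.1
  refine ⟨f⁻¹ * g, M24.mul_mem hfi hg, ?_, ?_, ?_⟩
  · rw [Equiv.Perm.mul_apply, hgq, Equiv.Perm.inv_eq_iff_eq, hf.2.1]
  · rw [Equiv.Perm.mul_apply, Equiv.Perm.inv_eq_iff_eq, hfr]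
  · rw [mul_smul, hgo, inv_smul_eq_iff, hf.2.2]

/-- `M24` is transitive on (three points, octad through them). -/
theorem exists_M24_flag3 {p q r p' q' r' : GolayPt} {o o' : Finset GolayPt} (ho : o ∈ octads)
    (ho' : o' ∈ octads) (hpq : p ≠ q) (hpr : p ≠ r) (hqr : q ≠ r) (hpq' : p' ≠ q') (hpr' : p' ≠ r')
    (hqr' : q' ≠ r') (hp : p ∈ o) (hq : q ∈ o) (hr : r ∈ o) (hp' : p' ∈ o') (hq' : q' ∈ o')
    (hr' : r' ∈ o') : ∃ g ∈ M24, g p = p' ∧ g q = q' ∧ g r = r' ∧ g • o = o' := by
  obtain ⟨X, hX, hX0⟩ := exists_emb5 o [p, q, r] (by simp [hpq, hpr, hqr])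
    (by intro s hs; simp only [List.mem_cons, List.not_mem_nil, or_false] at hs
        rcases hs with rfl | rfl | rfl <;> assumption) (by rw [ho.2]; decide) (by simp)
  obtain ⟨Y, hY, hY0⟩ := exists_emb5 o' [p', q', r'] (by simp [hpq', hpr', hqr'])
    (by intro s hs; simp only [List.mem_cons, List.not_mem_nil, or_false] at hs
        rcases hs with rfl | rfl | rfl <;> assumption) (by rw [ho'.2]; decide) (by simp)
  obtain ⟨g, hg, hgXY⟩ := exists_M24_map_emb (le_refl 5) X Y
  refine ⟨g, hg, ?_, ?_, ?_, smul_octad_eq_of_emb hg ho ho' X Y hX hY hgXY⟩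
  · have h0 := hX0 0 (by simp)
    have h0' := hY0 0 (by simp)
    simp only [Fin.val_zero, List.getElem_cons_zero] at h0 h0'
    rw [← h0, hgXY, h0']
  · have h1 := hX0 1 (by simp)
    have h1' := hY0 1 (by simp)
    simp only [Fin.val_one, List.getElem_cons_succ, List.getElem_cons_zero] at h1 h1'
    rw [← h1, hgXY, h1']
  · have h2 := hX0 2 (by simp)
    have h2' := hY0 2 (by simp)
    simp only [Fin.val_two, List.getElem_cons_succ, List.getElem_cons_zero] at h2 h2'
    rw [← h2, hgXY, h2']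

end Cfsg.Agent.Lib.Helper27
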