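import Mathlib
import Cfsg.Agent.Lib.Helper27.M24Flag
import Cfsg.Agent.Lib.Helper27.M24InOutData

/-!
# `M24` is transitive on configurations (two points of an octad, the octad, a point outside)
-/

set_option autoImplicit false

namespace Cfsg.Agent.Lib.Helper27
open Cfsg Cfsg.Agent.Lib.Helper7
open scoped Pointwise

theorem inoutT_eq2 : slpT inoutProg inoutIdx = inoutT := by decide +kernel

theorem inout_fix2 : inoutT.all (fixesOK [23, 4] [octO]) = true := by decide +kernel

/-- certificate: the stabilizer of (∞, point 4, base octad) is transitive on the other seven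
points of the octad -/
def inoutCertIn : List (ℕ × ℕ × ℕ) :=
  [(2, 1, 0), (16384, 1, 1), (4, 2, 0), (131072, 2, 1), (8, 16384, 1), (32, 131072, 1)]

theorem inout_in_ok : orbCheck inoutT [2 ^ 0] inoutCertIn = true := by decide +kernel

theorem inout_in_all : ∀ i < 24, octO.testBit i = true → i ≠ 23 →
    (reachedOf (2 ^ 0) inoutCertIn).contains (2 ^ i) = true := by decide +kernel

/-- the stabilizer in `M24` of (∞, point 4, base octad) -/
abbrev inoutStab : Subgroup (Equiv.Perm GolayPt) := cfgStab [pt 23, pt 4] [setOf octO]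

theorem mem_inoutStab {g : Equiv.Perm GolayPt} :
    g ∈ inoutStab ↔ g ∈ M24 ∧ (g (pt 23) = pt 23 ∧ g (pt 4) = pt 4) ∧
      g • setOf octO = setOf octO := by
  rw [mem_cfgStab]
  simp

theorem inout_in_trans {r : GolayPt} (hr : r ∈ setOf octO) (hr23 : r ≠ pt 23) :
    ∃ g ∈ inoutStab, g (pt 0) = r := by
  rw [mem_setOf] at hr
  have hne : idx r ≠ 23 := by
    intro h
    apply hr23
    rw [← pt_idx r, h]
  have := cfg_point_orbit inoutProg inoutIdx inoutT inoutT_eq2 [23, 4] [octO] (by decide)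
    inout_fix2 0 (by decide) inoutCertIn inout_in_ok (idx r) (idx_lt r)
    (inout_in_all _ (idx_lt r) hr hne)
  rw [pt_idx] at this
  exact this

/-- `M24` is transitive on configurations (two points in the octad, octad, point outside). -/
theorem exists_M24_flag2_out {p p2 q : GolayPt} {o : Finset GolayPt} (ho : o ∈ octads)
    (hp : p ∈ o) (hp2 : p2 ∈ o) (hne : p ≠ p2) (hq : q ∉ o) :
    ∃ g ∈ M24, g p = pt 23 ∧ g p2 = pt 0 ∧ g q = pt 4 ∧ g • o = setOf octO := by
  obtain ⟨g, hg, hgp, hgq, hgo⟩ := exists_M24_flag_out ho hp hq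
  have hr : g p2 ∈ setOf octO := by
    rw [← hgo, perm_apply_mem_smul_iff]
    exact hp2
  have hr23 : g p2 ≠ pt 23 := by
    rw [← hgp]
    intro h
    exact hne (g.injective h).symm
  obtain ⟨f, hf, hfr⟩ := inout_in_trans hr hr23
  rw [mem_inoutStab] at hf
  have hfi : f⁻¹ ∈ M24 := M24.inv_mem hf.1
  refine ⟨f⁻¹ * g, M24.mul_mem hfi hg, ?_, ?_, ?_, ?_⟩
  · rw [Equiv.Perm.mul_apply, hgp, Equiv.Perm.inv_eq_iff_eq, hf.2.1.1]
  · rw [Equiv.Perm.mul_apply, Equiv.Perm.inv_eq_iff_eq, hfr]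
  · rw [Equiv.Perm.mul_apply, hgq, Equiv.Perm.inv_eq_iff_eq, hf.2.1.2]
  · rw [mul_smul, hgo, inv_smul_eq_iff, hf.2.2]

end Cfsg.Agent.Lib.Helper27
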