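import Mathlib
import Cfsg.Agent.Lib.Helper8.Co2Orbits
import Cfsg.Agent.S0433

/-!
# Vectors for the McLaughlin configuration in the standard frame

`uF = (5, 1^23)` (squared norm 48), `vecU = (4, 4, 0^22)`; the minimal vectors `x` with
`uF · x = 24` and `vecU · x = 16` are the `275` vectors `aF j`, `twoF O`, `oddF O`.
-/

set_option autoImplicit false

namespace Cfsg.Agent.Lib.Helper27
open Cfsg Cfsg.Agent.Lib.Helper7 Cfsg.Agent.Lib.Helper8 Cfsg.Spor

/-- `(5, 1^23)` -/
def uF : GolayPt → ℤ := fun p => if p = none then 5 else 1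

theorem uF_eq : uF = -vecV := by
  funext p
  simp only [uF, vecV, Pi.neg_apply]
  split_ifs <;> rfl

theorem uF_mem : uF ∈ leechLattice := by
  rw [uF_eq]
  exact leechLattice.neg_mem leechV.2

/-- `(5, 1^23)` as a lattice element -/
def uL : leechLattice := ⟨uF, uF_mem⟩

theorem sqNorm_uF : sqNorm uF = 48 := by decide +kernel

theorem dotInt_uF (x : GolayPt → ℤ) : dotInt uF x = 4 * x none + ∑ i, x i := by
  unfold dotInt
  have h : ∀ i : GolayPt, uF i * x i = (if i = none then 4 * x none else 0) + x i := by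
    intro i
    unfold uF
    split_ifs with hi
    · subst hi; ring
    · ring
  rw [Finset.sum_congr rfl fun i _ => h i, Finset.sum_add_distrib, Finset.sum_ite_eq']
  simp

/-- `2` on the set `O` -/
def twoF (O : Finset GolayPt) : GolayPt → ℤ := fun i => if i ∈ O then 2 else 0

/-- `-1` on `O`, `1` off `O`, and `4` added at `∞` -/
def oddF (O : Finset GolayPt) : GolayPt → ℤ :=
  fun i => (if i ∈ O then -1 else 1) + (if i = none then 4 else 0)

/-- `4 e_∞ + 4 e_j` -/
def aF (j : GolayPt) : GolayPt → ℤ := Pi.single none 4 + Pi.single j 4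

theorem sum_twoF (O : Finset GolayPt) : ∑ i, twoF O i = 2 * O.card := by
  unfold twoF
  rw [Finset.sum_ite_mem, Finset.univ_inter, Finset.sum_const]
  simp [mul_comm]

theorem dotInt_twoF_left (O : Finset GolayPt) (x : GolayPt → ℤ) :
    dotInt (twoF O) x = 2 * ∑ i ∈ O, x i := by
  unfold dotInt twoF
  have h : ∀ i : GolayPt, (if i ∈ O then (2 : ℤ) else 0) * x i = if i ∈ O then 2 * x i else 0 := by
    intro i; split_ifs <;> ring
  rw [Finset.sum_congr rfl fun i _ => h i, Finset.sum_ite_mem, Finset.univ_inter, Finset.mul_sum]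

theorem sqNorm_twoF (O : Finset GolayPt) : sqNorm (twoF O) = 4 * O.card := by
  unfold sqNorm twoF
  have h : ∀ i : GolayPt, (if i ∈ O then (2 : ℤ) else 0) ^ 2 = if i ∈ O then 4 else 0 := by
    intro i; split_ifs <;> norm_num
  rw [Finset.sum_congr rfl fun i _ => h i, Finset.sum_ite_mem, Finset.univ_inter, Finset.sum_const]
  simp [mul_comm]

theorem twoF_mem {O : Finset GolayPt} (hO : O ∈ supports (golayCode : Set (GolayPt → ZMod 2))) :
    twoF O ∈ leechLattice := by
  obtain ⟨w, hw, rfl⟩ := hO
  have : twoF (support₂ w) = Cfsg.Agent.S0393.twoVec w := by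
    funext i
    unfold twoF Cfsg.Agent.S0393.twoVec support₂
    simp only [Finset.mem_filter, Finset.mem_univ, true_and]
    have h01 : w i = 0 ∨ w i = 1 := by
      generalize w i = a
      revert a; decide
    rcases h01 with h | h <;> simp [h]
  rw [this]
  exact twoVec_mem_leech w hw

theorem oddF_eq_sign {O : Finset GolayPt} (h : none ∈ O) :
    oddF O = fun i => if i ∈ O then -vOdd i else vOdd i := by
  funext i
  unfold oddF vOdd
  by_cases hi : i = none
  · subst hi; simp [h]
  · simp [hi]

theorem oddF_mem {O : Finset GolayPt} (hO : O ∈ supports (golayCode : Set (GolayPt → ZMod 2)))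
    (h : none ∈ O) : oddF O ∈ leechLattice := by
  rw [oddF_eq_sign h]
  exact Cfsg.Agent.S0433.result O hO vOdd vOdd_mem

theorem sum_sign (O : Finset GolayPt) :
    ∑ i : GolayPt, (if i ∈ O then (-1 : ℤ) else 1) = 24 - 2 * O.card := by
  have h : ∀ i : GolayPt, (if i ∈ O then (-1 : ℤ) else 1) = 1 - (if i ∈ O then 2 else 0) := by
    intro i; split_ifs <;> norm_num
  rw [Finset.sum_congr rfl fun i _ => h i, Finset.sum_sub_distrib, Finset.sum_ite_mem,
    Finset.univ_inter, Finset.sum_const, Finset.sum_const, card_univ_golayPt]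
  simp [mul_comm]

theorem sum_oddF (O : Finset GolayPt) : ∑ i, oddF O i = 28 - 2 * O.card := by
  unfold oddF
  rw [Finset.sum_add_distrib, sum_sign, Finset.sum_ite_eq']
  simp
  ring

end Cfsg.Agent.Lib.Helper27
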