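import Mathlib
import Cfsg.Agent.Lib.Helper27.McLBase

/-!
# Classification of the 275 vectors of the McLaughlin configuration in the standard frame
-/

set_option autoImplicit false

namespace Cfsg.Agent.Lib.Helper27
open Cfsg Cfsg.Agent.Lib.Helper7 Cfsg.Agent.Lib.Helper8 Cfsg.Spor

theorem val_of_sq_one'' {a : ℤ} (h : a ^ 2 = 1) : a = 1 ∨ a = -1 := by
  have h' : (a - 1) * (a + 1) = 0 := by ring_nf; omega
  rcases mul_eq_zero.1 h' with h' | h'
  · left; omega
  · right; omega

theorem val_of_sq_nine'' {a : ℤ} (h : a ^ 2 = 9) : a = 3 ∨ a = -3 := by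
  have h' : (a - 3) * (a + 3) = 0 := by ring_nf; omega
  rcases mul_eq_zero.1 h' with h' | h'
  · left; omega
  · right; omega

/-- the three shapes of the vectors of the configuration -/
theorem p0_cases {x : GolayPt → ℤ} (hx : x ∈ leechLattice) (hn : sqNorm x = 32)
    (hu : dotInt uF x = 24) (hv : dotInt vecU x = 16) :
    (∃ j, j ≠ none ∧ j ≠ some 0 ∧ x = aF j) ∨
    (∃ O ∈ octads, none ∈ O ∧ some 0 ∈ O ∧ x = twoF O) ∨
    (∃ O ∈ octads, none ∈ O ∧ some 0 ∉ O ∧ x = oddF O) := by
  classical
  rw [dotInt_vecU] at hv
  rw [dotInt_uF] at hu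
  rcases min_shape hx hn with ⟨j, k, hjk, hj, hk, hother⟩ | ⟨hvals, hoct⟩ | ⟨hodd, j, hj9, hj1⟩
  · -- shape (±4, ±4, 0^22)
    left
    have hval : ∀ i, x i = 0 ∨ x i = 4 ∨ x i = -4 := by
      intro i
      by_cases hij : i = j
      · rw [hij]; exact Or.inr hj
      · by_cases hik : i = k
        · rw [hik]; exact Or.inr hk
        · exact Or.inl (hother i hij hik)
    have hsum : ∑ i, x i = x j + x k :=
      Finset.sum_eq_add j k hjk (fun c _ hc => hother c hc.1 hc.2)
        (fun h => absurd (Finset.mem_univ j) h) (fun h => absurd (Finset.mem_univ k) h)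
    have h4 : x none = 4 := by
      rcases hval none with h | h | h <;> rcases hval (some 0) with h' | h' | h' <;>
        rcases hj with h1 | h1 <;> rcases hk with h2 | h2 <;> omega
    have h0 : x (some 0) = 0 := by omega
    obtain ⟨j', hj', s, hs, hxs⟩ := half_of_e8 hx hn h4
    have hu' : dotInt uF x = 24 := by rw [dotInt_uF]; exact hu
    rw [dotInt_comm, hxs, dotInt_pair_left] at hu'
    have e1 : uF none = 5 := rfl
    have e2 : uF j' = 1 := by unfold uF; rw [if_neg hj']
    rw [e1, e2] at hu'
    have hs4 : s = 4 := by omega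
    refine ⟨j', hj', ?_, ?_⟩
    · intro hj0
      have := congrFun hxs (some 0)
      rw [hj0] at this
      simp only [Pi.add_apply, Pi.single_eq_same] at this
      rw [Pi.single_eq_of_ne (by decide : (some 0 : GolayPt) ≠ none)] at this
      omega
    · rw [hxs, hs4]; rfl
  · -- shape (±2^8, 0^16)
    right; left
    obtain ⟨S, hSdef⟩ : ∃ S : Finset GolayPt, S = Finset.univ.filter fun i => x i % 4 = 2 :=
      ⟨_, rfl⟩
    rw [← hSdef] at hoct
    have hmemS : ∀ i, i ∈ S ↔ x i % 4 = 2 := by
      intro i; rw [hSdef, Finset.mem_filter]; simp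
    have h2 : x none = 2 ∧ x (some 0) = 2 := by
      rcases hvals none with h | h | h <;> rcases hvals (some 0) with h' | h' | h' <;> omega
    have hoff : ∀ i, i ∉ S → x i = 0 := by
      intro i hi
      rw [hmemS] at hi
      rcases hvals i with h | h | h
      · exact h
      · rw [h] at hi; exact absurd rfl hi
      · rw [h] at hi; exact absurd rfl hi
    have hsumS : ∑ i, x i = ∑ i ∈ S, x i := by
      symm
      apply Finset.sum_subset (Finset.subset_univ S)
      intro i _ hi
      exact hoff i hi
    have hle : ∀ i, 0 ≤ 2 - x i := by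
      intro i; rcases hvals i with h | h | h <;> omega
    have hz : ∑ i ∈ S, (2 - x i) = 0 := by
      rw [Finset.sum_sub_distrib, Finset.sum_const, hoct.2, ← hsumS]
      simp only [nsmul_eq_mul]
      push_cast
      omega
    rw [Finset.sum_eq_zero_iff_of_nonneg (fun i _ => hle i)] at hz
    refine ⟨S, hoct, ?_, ?_, ?_⟩
    · rw [hmemS, h2.1]; rfl
    · rw [hmemS, h2.2]; rfl
    · funext i
      unfold twoF
      by_cases hi : i ∈ S
      · rw [if_pos hi]
        have := hz i hi
        omega
      · rw [if_neg hi]
        exact hoff i hi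
  · -- odd shape
    right; right
    obtain ⟨m, -, -, h3⟩ := (mem_leechLattice_iff _).1 hx
    obtain ⟨C, hCdef⟩ : ∃ C : Finset GolayPt, C = Finset.univ.filter fun i => x i ≡ 3 [ZMOD 4] :=
      ⟨_, rfl⟩
    have hCs : C ∈ supports (golayCode : Set (GolayPt → ZMod 2)) := by rw [hCdef]; exact h3 3
    have hmemC : ∀ i, i ∈ C ↔ x i % 4 = 3 := by
      intro i
      rw [hCdef, Finset.mem_filter]
      simp [Int.ModEq]
    have hval : ∀ i, x i = 1 ∨ x i = -1 ∨ x i = 3 ∨ x i = -3 := by
      intro i
      by_cases hij : i = j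
      · rw [hij]
        rcases val_of_sq_nine'' hj9 with h | h
        · exact Or.inr (Or.inr (Or.inl h))
        · exact Or.inr (Or.inr (Or.inr h))
      · rcases val_of_sq_one'' (hj1 i hij) with h | h
        · exact Or.inl h
        · exact Or.inr (Or.inl h)
    -- the position of the `3`
    have key : ∀ p : GolayPt, x p = 3 →
        (∀ i, x i = (if i ∈ C then -1 else 1) + (if i = p then 4 else 0)) := by
      intro p hp i
      have hpj : p = j := by
        by_contra hne
        have := hj1 p hne
        rw [hp] at this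
        omega
      by_cases hip : i = p
      · subst hip
        rw [if_pos ((hmemC i).2 (by rw [hp]; rfl)), if_pos rfl, hp]; rfl
      · rw [if_neg hip]
        have hij : i ≠ j := by rw [← hpj]; exact hip
        rcases val_of_sq_one'' (hj1 i hij) with h | h
        · rw [if_neg (fun hc => by have := (hmemC i).1 hc; rw [h] at this; omega), h]; rfl
        · rw [if_pos ((hmemC i).2 (by rw [h]; rfl)), h]; rfl
    have hsum : ∀ p : GolayPt, x p = 3 → ∑ i, x i = 28 - 2 * C.card := by
      intro p hp
      rw [Finset.sum_congr rfl fun i _ => key p hp i, Finset.sum_add_distrib, sum_sign,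
        Finset.sum_ite_eq']
      simp
      ring
    have h13 : (x none = 3 ∧ x (some 0) = 1) ∨ (x none = 1 ∧ x (some 0) = 3) := by
      rcases hval none with h | h | h | h <;> rcases hval (some 0) with h' | h' | h' | h' <;> omega
    rcases h13 with ⟨h3n, h10⟩ | ⟨h1n, h30⟩
    · have hs := hsum none h3n
      have hcard : C.card = 8 := by omega
      refine ⟨C, ⟨hCs, hcard⟩, (hmemC none).2 (by rw [h3n]; rfl), ?_, ?_⟩
      · intro hc
        have := (hmemC (some 0)).1 hc
        rw [h10] at this
        omega
      · funext i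
        exact key none h3n i
    · exfalso
      have hs := hsum (some 0) h30
      have hcard : C.card = 4 := by omega
      obtain ⟨w, hw, hwC⟩ := hCs
      have := golay_weight hw
      rw [← card_support₂_eq_hammingNorm, hwC, hcard] at this
      omega

end Cfsg.Agent.Lib.Helper27
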