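import Mathlib
import Cfsg.Agent.Lib.Helper27.McLShape
import Cfsg.Agent.Lib.Helper27.M24Classes

/-!
# The McLaughlin configuration has 275 points
-/

set_option autoImplicit false

namespace Cfsg.Agent.Lib.Helper27
open Cfsg Cfsg.Agent.Lib.Helper7 Cfsg.Agent.Lib.Helper8 Cfsg.Spor

/-- the configuration in the standard frame, as a set of integer vectors -/
def F0 : Set (GolayPt → ℤ) :=
  {x | x ∈ leechLattice ∧ sqNorm x = 32 ∧ dotInt uF x = 24 ∧ dotInt vecU x = 16}

theorem aF_none {j : GolayPt} (hj : j ≠ none) : aF j none = 4 := by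
  unfold aF
  rw [Pi.add_apply, Pi.single_eq_same, Pi.single_eq_of_ne (Ne.symm hj)]; rfl

theorem aF_apply_self {j : GolayPt} (hj : j ≠ none) : aF j j = 4 := by
  unfold aF
  rw [Pi.add_apply, Pi.single_eq_same, Pi.single_eq_of_ne hj]; rfl

theorem aF_apply_of_ne {j i : GolayPt} (hi : i ≠ none) (hij : i ≠ j) : aF j i = 0 := by
  unfold aF
  rw [Pi.add_apply, Pi.single_eq_of_ne hi, Pi.single_eq_of_ne hij]; rfl

theorem aF_mem_F0 {j : GolayPt} (hj : j ≠ none) (hj0 : j ≠ some 0) : aF j ∈ F0 := by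
  refine ⟨pm4_pair_mem _ _ (Or.inl rfl) (Or.inl rfl),
    sqNorm_pm4_pair (Ne.symm hj) (Or.inl rfl) (Or.inl rfl), ?_, ?_⟩
  · rw [dotInt_comm]
    unfold aF
    rw [dotInt_pair_left]
    have e1 : uF none = 5 := rfl
    have e2 : uF j = 1 := by unfold uF; rw [if_neg hj]
    rw [e1, e2]; norm_num
  · rw [dotInt_vecU, aF_none hj, aF_apply_of_ne (by decide) (Ne.symm hj0)]; norm_num

theorem twoF_mem_F0 {O : Finset GolayPt} (hO : O ∈ octads) (h1 : none ∈ O) (h2 : some 0 ∈ O) :
    twoF O ∈ F0 := by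
  refine ⟨twoF_mem hO.1, ?_, ?_, ?_⟩
  · rw [sqNorm_twoF, hO.2]; norm_num
  · rw [dotInt_uF, sum_twoF, hO.2]
    unfold twoF
    rw [if_pos h1]; norm_num
  · rw [dotInt_vecU]
    unfold twoF
    rw [if_pos h1, if_pos h2]; norm_num

theorem oddF_none {O : Finset GolayPt} (h1 : none ∈ O) : oddF O none = 3 := by
  unfold oddF
  rw [if_pos h1, if_pos rfl]; norm_num

theorem oddF_of_mem {O : Finset GolayPt} {i : GolayPt} (hi : i ≠ none) (h : i ∈ O) :
    oddF O i = -1 := by
  unfold oddF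
  rw [if_pos h, if_neg hi]; norm_num

theorem oddF_of_not_mem {O : Finset GolayPt} {i : GolayPt} (hi : i ≠ none) (h : i ∉ O) :
    oddF O i = 1 := by
  unfold oddF
  rw [if_neg h, if_neg hi]; norm_num

theorem sqNorm_oddF {O : Finset GolayPt} (h1 : none ∈ O) : sqNorm (oddF O) = 32 := by
  unfold sqNorm
  have h : ∀ i : GolayPt, oddF O i ^ 2 = 1 + (if i = none then 8 else 0) := by
    intro i
    by_cases hi : i = none
    · subst hi; rw [oddF_none h1, if_pos rfl]; norm_num
    · rw [if_neg hi]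
      by_cases hO : i ∈ O
      · rw [oddF_of_mem hi hO]; norm_num
      · rw [oddF_of_not_mem hi hO]; norm_num
  rw [Finset.sum_congr rfl fun i _ => h i, Finset.sum_add_distrib, Finset.sum_const,
    card_univ_golayPt, Finset.sum_ite_eq']
  simp

theorem oddF_mem_F0 {O : Finset GolayPt} (hO : O ∈ octads) (h1 : none ∈ O) (h2 : some 0 ∉ O) :
    oddF O ∈ F0 := by
  refine ⟨oddF_mem hO.1 h1, sqNorm_oddF h1, ?_, ?_⟩
  · rw [dotInt_uF, sum_oddF, hO.2, oddF_none h1]; norm_num
  · rw [dotInt_vecU, oddF_none h1, oddF_of_not_mem (by decide) h2]; norm_num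

/-- the three index sets -/
def JA : Set GolayPt := {j | j ≠ none ∧ j ≠ some 0}
def OB : Set (Finset GolayPt) := {O | O ∈ octads ∧ (none ∈ O ∧ some 0 ∈ O)}
def OC : Set (Finset GolayPt) := {O | O ∈ octads ∧ (none ∈ O ∧ some 0 ∉ O)}

theorem F0_eq : F0 = aF '' JA ∪ twoF '' OB ∪ oddF '' OC := by
  ext x
  constructor
  · rintro ⟨hx, hn, hu, hv⟩
    rcases p0_cases hx hn hu hv with ⟨j, hj, hj0, rfl⟩ | ⟨O, hO, h1, h2, rfl⟩ | ⟨O, hO, h1, h2, rfl⟩
    · exact Or.inl (Or.inl ⟨j, ⟨hj, hj0⟩, rfl⟩)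
    · exact Or.inl (Or.inr ⟨O, ⟨hO, h1, h2⟩, rfl⟩)
    · exact Or.inr ⟨O, ⟨hO, h1, h2⟩, rfl⟩
  · rintro ((⟨j, ⟨hj, hj0⟩, rfl⟩ | ⟨O, ⟨hO, h1, h2⟩, rfl⟩) | ⟨O, ⟨hO, h1, h2⟩, rfl⟩)
    · exact aF_mem_F0 hj hj0
    · exact twoF_mem_F0 hO h1 h2
    · exact oddF_mem_F0 hO h1 h2

theorem aF_injOn : Set.InjOn aF JA := by
  intro j hj j' hj' h
  by_contra hne
  have := congrFun h j
  rw [aF_apply_self hj.1, aF_apply_of_ne hj.1 hne] at this
  omega

theorem twoF_injective : Function.Injective twoF := by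
  intro O O' h
  ext i
  have := congrFun h i
  unfold twoF at this
  by_cases h1 : i ∈ O <;> by_cases h2 : i ∈ O' <;> simp_all

theorem oddF_injective : Function.Injective oddF := by
  intro O O' h
  ext i
  have := congrFun h i
  unfold oddF at this
  by_cases h1 : i ∈ O <;> by_cases h2 : i ∈ O' <;> simp_all

theorem ncard_JA : JA.ncard = 22 := by
  classical
  have : JA = ↑(Finset.univ.filter fun j : GolayPt => j ≠ none ∧ j ≠ some 0) := by
    ext j; simp [JA]
  rw [this, Set.ncard_coe_finset]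
  decide

theorem idx_none' : idx (none : GolayPt) = 23 := rfl
theorem idx_zero' : idx (some 0 : GolayPt) = 0 := rfl

theorem ncard_OB : OB.ncard = 77 := by
  have h := ncard_octads_filter (fun O => none ∈ O ∧ some 0 ∈ O)
    (fun m => m.testBit 23 && m.testBit 0) (by
      intro m _
      rw [mem_setOf, mem_setOf, idx_none', idx_zero', Bool.and_eq_true])
  have h2 : (octL.filter fun m => m.testBit 23 && m.testBit 0).length = 77 := by decide +kernel
  rw [h2] at h
  exact h

theorem ncard_OC : OC.ncard = 176 := by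
  have h := ncard_octads_filter (fun O => none ∈ O ∧ some 0 ∉ O)
    (fun m => m.testBit 23 && !m.testBit 0) (by
      intro m _
      rw [mem_setOf, mem_setOf, idx_none', idx_zero', Bool.and_eq_true]
      simp)
  have h2 : (octL.filter fun m => m.testBit 23 && !m.testBit 0).length = 176 := by decide +kernel
  rw [h2] at h
  exact h

theorem ncard_F0 : F0.ncard = 275 := by
  rw [F0_eq]
  have hA : (aF '' JA).ncard = 22 := by rw [Set.ncard_image_of_injOn aF_injOn, ncard_JA]
  have hB : (twoF '' OB).ncard = 77 := by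
    rw [Set.ncard_image_of_injective _ twoF_injective, ncard_OB]
  have hC : (oddF '' OC).ncard = 176 := by
    rw [Set.ncard_image_of_injective _ oddF_injective, ncard_OC]
  have hfinA : (aF '' JA).Finite := (Set.toFinite JA).image _
  have hfinB : (twoF '' OB).Finite := (Set.toFinite OB).image _
  have hfinC : (oddF '' OC).Finite := (Set.toFinite OC).image _
  have hdAB : Disjoint (aF '' JA) (twoF '' OB) := by
    rw [Set.disjoint_left]
    rintro x ⟨j, hj, rfl⟩ ⟨O, hO, h⟩
    have := congrFun h none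
    rw [aF_none hj.1] at this
    unfold twoF at this
    rw [if_pos hO.2.1] at this
    omega
  have hdABC : Disjoint (aF '' JA ∪ twoF '' OB) (oddF '' OC) := by
    rw [Set.disjoint_left]
    rintro x (⟨j, hj, rfl⟩ | ⟨O, hO, rfl⟩) ⟨O', hO', h⟩
    · have := congrFun h none
      rw [aF_none hj.1, oddF_none hO'.2.1] at this
      omega
    · have := congrFun h none
      rw [oddF_none hO'.2.1] at this
      unfold twoF at this
      rw [if_pos hO.2.1] at this
      omega
  rw [Set.ncard_union_eq hdABC (hfinA.union hfinB) hfinC, Set.ncard_union_eq hdAB hfinA hfinB,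
    hA, hB, hC]

end Cfsg.Agent.Lib.Helper27
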