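import Mathlib
import Cfsg.Agent.Lib.Helper27.McLCount

/-!
# Transitivity of the stabiliser of the standard pair on the 275 points
-/

set_option autoImplicit false

namespace Cfsg.Agent.Lib.Helper27
open Cfsg Cfsg.Agent.Lib.Helper7 Cfsg.Agent.Lib.Helper8 Cfsg.Spor

/-! ### auxiliary octads -/

theorem octB_check : octL.all (fun m => !(m.testBit 23 && m.testBit 0) ||
    octL.any (fun m' => !m'.testBit 23 && !m'.testBit 0 && pc (m &&& m') == 4)) = true := by
  decide +kernel

theorem octC_check : octL.all (fun m => !(m.testBit 23 && !m.testBit 0) ||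
    octL.any (fun m' => !m'.testBit 0 && pc (m &&& m') == 0)) = true := by
  decide +kernel

theorem exists_octB : ∀ O ∈ octads, none ∈ O → some 0 ∈ O →
    ∃ O' ∈ octads, none ∉ O' ∧ some 0 ∉ O' ∧ (O ∩ O').card = 4 := by
  apply forall_octads7
  intro m hm h1 h2
  rw [mem_setOf, idx_none'] at h1
  rw [mem_setOf, idx_zero'] at h2
  have h := List.all_eq_true.1 octB_check m hm
  rw [h1, h2] at h
  simp only [Bool.and_self, Bool.not_true, Bool.false_or, List.any_eq_true, Bool.and_eq_true,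
    Bool.not_eq_eq_eq_not, beq_iff_eq] at h
  obtain ⟨m', hm', ⟨h3, h4⟩, h5⟩ := h
  refine ⟨setOf m', setOf_mem_octads7 hm', ?_, ?_, ?_⟩
  · rw [mem_setOf, idx_none', h3]; simp
  · rw [mem_setOf, idx_zero', h4]; simp
  · rw [card_setOf_inter, h5]

theorem exists_octC : ∀ O ∈ octads, none ∈ O → some 0 ∉ O →
    ∃ O' ∈ octads, some 0 ∉ O' ∧ (O ∩ O').card = 0 := by
  apply forall_octads7
  intro m hm h1 h2
  rw [mem_setOf, idx_none'] at h1
  rw [mem_setOf, idx_zero', Bool.not_eq_true] at h2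
  have h := List.all_eq_true.1 octC_check m hm
  rw [h1, h2] at h
  simp only [Bool.not_false, Bool.and_self, Bool.not_true, Bool.false_or, List.any_eq_true,
    Bool.and_eq_true, Bool.not_eq_eq_eq_not, beq_iff_eq] at h
  obtain ⟨m', hm', h4, h5⟩ := h
  refine ⟨setOf m', setOf_mem_octads7 hm', ?_, ?_⟩
  · rw [mem_setOf, idx_zero', h4]; simp
  · rw [card_setOf_inter, h5]

/-! ### the auxiliary vector -/

theorem dotInt_twoF_twoF (O O' : Finset GolayPt) :
    dotInt (twoF O') (twoF O) = 4 * (O ∩ O').card := by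
  classical
  rw [dotInt_twoF_left]
  unfold twoF
  rw [Finset.sum_ite_mem, Finset.sum_const, Finset.inter_comm]
  simp only [nsmul_eq_mul]
  ring

theorem exists_aux {x : GolayPt → ℤ} (hx : x ∈ F0) :
    ∃ b ∈ leechLattice, sqNorm b = 32 ∧ dotInt vecU b = 0 ∧ dotInt uF b = 16 ∧
      dotInt b x = 16 := by
  classical
  obtain ⟨hxl, hn, hu, hv⟩ := hx
  rcases p0_cases hxl hn hu hv with ⟨j, hj, hj0, rfl⟩ | ⟨O, hO, h1, h2, rfl⟩ | ⟨O, hO, h1, h2, rfl⟩
  · refine ⟨_, yU.2, sqNorm_yU, dotInt_vecU_yU, ?_, ?_⟩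
    · rw [dotInt_comm, dotInt_yU]; rfl
    · rw [dotInt_yU, aF_none hj, aF_apply_of_ne (by decide) (Ne.symm hj0)]; norm_num
  · obtain ⟨O', hO', h3, h4, h5⟩ := exists_octB O hO h1 h2
    refine ⟨twoF O', twoF_mem hO'.1, by rw [sqNorm_twoF, hO'.2]; norm_num, ?_, ?_, ?_⟩
    · rw [dotInt_vecU]; unfold twoF; rw [if_neg h3, if_neg h4]; norm_num
    · rw [dotInt_uF, sum_twoF, hO'.2]; unfold twoF; rw [if_neg h3]; norm_num
    · rw [dotInt_twoF_twoF, h5]; norm_num
  · obtain ⟨O', hO', h4, h5⟩ := exists_octC O hO h1 h2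
    have h3 : none ∉ O' := by
      intro hc
      have : none ∈ O ∩ O' := Finset.mem_inter.2 ⟨h1, hc⟩
      rw [Finset.card_eq_zero] at h5
      rw [h5] at this
      exact absurd this (Finset.notMem_empty _)
    refine ⟨twoF O', twoF_mem hO'.1, by rw [sqNorm_twoF, hO'.2]; norm_num, ?_, ?_, ?_⟩
    · rw [dotInt_vecU]; unfold twoF; rw [if_neg h3, if_neg h4]; norm_num
    · rw [dotInt_uF, sum_twoF, hO'.2]; unfold twoF; rw [if_neg h3]; norm_num
    · rw [dotInt_twoF_left]
      have : ∀ i ∈ O', oddF O i = 1 := by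
        intro i hi
        have hiO : i ∉ O := by
          intro hc
          have : i ∈ O ∩ O' := Finset.mem_inter.2 ⟨hc, hi⟩
          rw [Finset.card_eq_zero] at h5
          rw [h5] at this
          exact absurd this (Finset.notMem_empty _)
        have hin : i ≠ none := fun h => h3 (h ▸ hi)
        exact oddF_of_not_mem hin hiO
      rw [Finset.sum_congr rfl this, Finset.sum_const, hO'.2]
      norm_num

/-! ### rigidity -/

theorem monoCo0_fix_yU (σ : Equiv.Perm GolayPt) (hσ : σ ∈ M24) (c : Finset GolayPt)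
    (hc : c ∈ supports (golayCode : Set (GolayPt → ZMod 2))) (h0 : σ none = none)
    (h1 : σ (some 0) = some 0) (hc0 : none ∉ c) (hc1 : some 0 ∉ c) :
    monoCo0 σ hσ c hc • yU = yU := by
  apply Subtype.ext
  rw [monoCo0_apply]
  show signedPerm σ c (Pi.single none 4 + Pi.single (some 0) (-4))
    = Pi.single none 4 + Pi.single (some 0) (-4)
  rw [signedPerm_add, signedPerm_single, signedPerm_single, h0, h1, if_neg hc0, if_neg hc1]

theorem dotInt_vecU_uF : dotInt vecU uF = 24 := by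
  rw [dotInt_vecU]; rfl

theorem rigid_u {u : GolayPt → ℤ} (hu : u ∈ leechLattice) (hn : sqNorm u = 48)
    (h1 : dotInt vecU u = 24) (h2 : dotInt (yU : GolayPt → ℤ) u = 16) :
    ∃ C ∈ supports (golayCode : Set (GolayPt → ZMod 2)), none ∉ C ∧ some 0 ∉ C ∧
      signedPerm 1 C u = uF := by
  classical
  rw [dotInt_vecU] at h1
  rw [dotInt_yU] at h2
  have h5 : u none = 5 := by omega
  have h01 : u (some 0) = 1 := by omega
  obtain ⟨m, hm, -, h3⟩ := (mem_leechLattice_iff _).1 hu
  have hodd : ∀ i, u i % 2 = 1 := by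
    intro i
    have a1 := hm none
    have a2 := hm i
    simp only [Int.ModEq] at a1 a2
    rw [h5] at a1
    omega
  have hge : ∀ j, 1 ≤ u j ^ 2 := by
    intro j
    rcases Cfsg.Agent.S0400.odd_sq_cases (u j) (hodd j) with h | h | h <;> omega
  have hsum : ∑ j, u j ^ 2 = 48 := hn
  have e1 : u none ^ 2 + ∑ j ∈ Finset.univ.erase (none : GolayPt), u j ^ 2 = ∑ j, u j ^ 2 :=
    Finset.add_sum_erase Finset.univ (fun j => u j ^ 2) (Finset.mem_univ none)
  have c1 : (Finset.univ.erase (none : GolayPt)).card = 23 := by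
    rw [Finset.card_erase_of_mem (Finset.mem_univ _), card_univ_golayPt]
  have hz : ∑ j ∈ Finset.univ.erase (none : GolayPt), (u j ^ 2 - 1) = 0 := by
    rw [Finset.sum_sub_distrib, Finset.sum_const, c1]
    simp only [nsmul_eq_mul, mul_one]
    rw [h5] at e1
    push_cast
    omega
  rw [Finset.sum_eq_zero_iff_of_nonneg (fun j _ => by have := hge j; omega)] at hz
  have hone : ∀ j, j ≠ none → u j = 1 ∨ u j = -1 := by
    intro j hj
    have := hz j (Finset.mem_erase.2 ⟨hj, Finset.mem_univ j⟩)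
    exact val_of_sq_one'' (by omega)
  obtain ⟨C, hCdef⟩ : ∃ C : Finset GolayPt, C = Finset.univ.filter fun i => u i ≡ 3 [ZMOD 4] :=
    ⟨_, rfl⟩
  have hCs : C ∈ supports (golayCode : Set (GolayPt → ZMod 2)) := by rw [hCdef]; exact h3 3
  have hmemC : ∀ i, i ∈ C ↔ u i % 4 = 3 := by
    intro i
    rw [hCdef, Finset.mem_filter]
    simp [Int.ModEq]
  refine ⟨C, hCs, ?_, ?_, ?_⟩
  · rw [hmemC, h5]; decide
  · rw [hmemC, h01]; decide
  · funext i
    show (if i ∈ C then -u i else u i) = uF i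
    unfold uF
    by_cases hi : i = none
    · subst hi
      rw [if_neg (by rw [hmemC, h5]; decide), if_pos rfl, h5]
    · rw [if_neg hi]
      rcases hone i hi with h | h
      · rw [if_neg (by rw [hmemC, h]; decide), h]
      · rw [if_pos (by rw [hmemC, h]; decide), h]; rfl

/-! ### normal form and transitivity -/

theorem leechU_coe : ((leechU : leechLattice) : GolayPt → ℤ) = vecU := rfl

theorem uL_coe : ((uL : leechLattice) : GolayPt → ℤ) = uF := rfl

theorem normalize (x : leechLattice) (hx : (x : GolayPt → ℤ) ∈ F0) :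
    ∃ h : Co0, h • uL = uL ∧ h • leechU = leechU ∧
      ∃ j : GolayPt, j ≠ none ∧ j ≠ some 0 ∧ ((h • x : leechLattice) : GolayPt → ℤ) = aF j := by
  obtain ⟨b, hb, hbn, hbv, hbu, hbx⟩ := exists_aux hx
  obtain ⟨g, hgu, hgb⟩ := exists_move_yU ⟨b, hb⟩ hbn hbv
  have k1 : dotInt vecU ((g • uL : leechLattice) : GolayPt → ℤ) = 24 := by
    have := co0_dotInt g leechU uL
    rw [hgu, leechU_coe, uL_coe, dotInt_vecU_uF] at this
    exact this
  have k2 : dotInt (yU : GolayPt → ℤ) ((g • uL : leechLattice) : GolayPt → ℤ) = 16 := by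
    have := co0_dotInt g ⟨b, hb⟩ uL
    rw [hgb, uL_coe] at this
    rw [this, dotInt_comm]
    exact hbu
  obtain ⟨C, hC, hCn, hC0, hCu⟩ := rigid_u (g • uL).2 (by rw [co0_sqNorm, uL_coe, sqNorm_uF]) k1 k2
  set m := monoCo0 1 M24.one_mem C hC with hm
  have e1 : (m * g) • uL = uL := by
    rw [mul_smul]
    apply Subtype.ext
    rw [monoCo0_apply]
    exact hCu
  have e2 : (m * g) • leechU = leechU := by
    rw [mul_smul, hgu]
    exact monoCo0_fix_U 1 M24.one_mem C hC rfl rfl hCn hC0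
  have e3 : (m * g) • (⟨b, hb⟩ : leechLattice) = yU := by
    rw [mul_smul, hgb]
    exact monoCo0_fix_yU 1 M24.one_mem C hC rfl rfl hCn hC0
  refine ⟨m * g, e1, e2, ?_⟩
  have d1 : dotInt vecU (((m * g) • x : leechLattice) : GolayPt → ℤ) = 16 := by
    have := co0_dotInt (m * g) leechU x
    rw [e2, leechU_coe] at this
    rw [this]
    exact hx.2.2.2
  have d2 : dotInt (yU : GolayPt → ℤ) (((m * g) • x : leechLattice) : GolayPt → ℤ) = 16 := by
    have := co0_dotInt (m * g) ⟨b, hb⟩ x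
    rw [e3] at this
    rw [this]
    exact hbx
  have d3 : dotInt uF (((m * g) • x : leechLattice) : GolayPt → ℤ) = 24 := by
    have := co0_dotInt (m * g) uL x
    rw [e1, uL_coe] at this
    rw [this]
    exact hx.2.2.1
  have hn2 : sqNorm (((m * g) • x : leechLattice) : GolayPt → ℤ) = 32 := by
    rw [co0_sqNorm]; exact hx.2.1
  generalize ((m * g) • x : leechLattice) = x2 at d1 d2 d3 hn2
  rw [dotInt_vecU] at d1
  rw [dotInt_yU] at d2
  have h4 : (x2 : GolayPt → ℤ) none = 4 := by omega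
  have h0 : (x2 : GolayPt → ℤ) (some 0) = 0 := by omega
  obtain ⟨j, hj, s, hs, hxs⟩ := half_of_e8 x2.2 hn2 h4
  rw [dotInt_comm, hxs, dotInt_pair_left] at d3
  have a1 : uF none = 5 := rfl
  have a2 : uF j = 1 := by unfold uF; rw [if_neg hj]
  rw [a1, a2] at d3
  have hs4 : s = 4 := by omega
  refine ⟨j, hj, ?_, ?_⟩
  · intro hj0
    have := congrFun hxs (some 0)
    rw [hj0, h0] at this
    simp only [Pi.add_apply, Pi.single_eq_same] at this
    rw [Pi.single_eq_of_ne (by decide : (some 0 : GolayPt) ≠ none)] at this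
    omega
  · rw [hxs, hs4]; rfl

/-- the stabiliser of `(5, 1^23)` and `(4, 4, 0^22)` is transitive on the 275 points -/
theorem std_trans (x x' : leechLattice) (hx : (x : GolayPt → ℤ) ∈ F0)
    (hx' : (x' : GolayPt → ℤ) ∈ F0) :
    ∃ g : Co0, g • uL = uL ∧ g • leechU = leechU ∧ g • x = x' := by
  classical
  obtain ⟨h, hu, hv, j, hj, hj0, hxj⟩ := normalize x hx
  obtain ⟨h', hu', hv', j', hj', hj0', hxj'⟩ := normalize x' hx'
  have hinj1 : Function.Injective (![none, some 0, j] : Fin 3 → GolayPt) := by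
    intro a b hab
    fin_cases a <;> fin_cases b <;> simp_all [Ne.symm hj, Ne.symm hj0]
  have hinj2 : Function.Injective (![none, some 0, j'] : Fin 3 → GolayPt) := by
    intro a b hab
    fin_cases a <;> fin_cases b <;> simp_all [Ne.symm hj', Ne.symm hj0']
  obtain ⟨σ, hσM, hσ⟩ := exists_M24_map_emb (k := 3) (by norm_num) ⟨_, hinj1⟩ ⟨_, hinj2⟩
  have hσ0 : σ none = none := hσ 0
  have hσ1 : σ (some 0) = some 0 := hσ 1
  have hσ2 : σ j = j' := hσ 2
  have hem : (∅ : Finset GolayPt) ∈ supports (golayCode : Set (GolayPt → ZMod 2)) :=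
    Cfsg.Spor.empty_mem_supports_golayCode
  set n := monoCo0 σ hσM ∅ hem with hn
  have n1 : n • uL = uL := by
    apply Subtype.ext
    rw [monoCo0_apply, uL_coe]
    funext i
    show (if i ∈ (∅ : Finset GolayPt) then -uF (σ.symm i) else uF (σ.symm i)) = uF i
    rw [if_neg (Finset.notMem_empty i)]
    unfold uF
    by_cases hi : i = none
    · subst hi
      rw [if_pos rfl, if_pos]
      rw [Equiv.symm_apply_eq, hσ0]
    · rw [if_neg hi, if_neg]
      intro hc
      rw [Equiv.symm_apply_eq, hσ0] at hc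
      exact hi hc
  have n2 : n • leechU = leechU :=
    monoCo0_fix_U σ hσM ∅ hem hσ0 hσ1 (Finset.notMem_empty _) (Finset.notMem_empty _)
  have n3 : n • (h • x) = h' • x' := by
    apply Subtype.ext
    rw [monoCo0_apply, hxj, hxj']
    unfold aF
    rw [signedPerm_add, signedPerm_single, signedPerm_single, hσ0, hσ2,
      if_neg (Finset.notMem_empty _), if_neg (Finset.notMem_empty _)]
  refine ⟨h'⁻¹ * n * h, ?_, ?_, ?_⟩
  · rw [mul_smul, mul_smul, hu, n1, inv_smul_eq_iff, hu']
  · rw [mul_smul, mul_smul, hv, n2, inv_smul_eq_iff, hv']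
  · rw [mul_smul, mul_smul, n3, inv_smul_smul]

end Cfsg.Agent.Lib.Helper27
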