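import Mathlib
import Cfsg.Agent.Lib.Helper27.McLTrans

/-!
# Suborbit sizes 112 and 162 of the McLaughlin configuration in the standard frame
-/

set_option autoImplicit false

namespace Cfsg.Agent.Lib.Helper27
open Cfsg Cfsg.Agent.Lib.Helper7 Cfsg.Agent.Lib.Helper8 Cfsg.Spor

/-- the third base point -/
abbrev j0 : GolayPt := some 1

theorem idx_j0 : idx j0 = 1 := rfl

theorem j0_ne_none : j0 ≠ none := by decide
theorem j0_ne_zero : j0 ≠ some 0 := by decide

theorem dotInt_aF_left (j : GolayPt) (y : GolayPt → ℤ) :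
    dotInt (aF j) y = 4 * y none + 4 * y j := by
  unfold aF
  rw [dotInt_pair_left]

/-- the vectors at inner product `8` with `aF j0` -/
def G8 : Set (GolayPt → ℤ) := {y | y ∈ F0 ∧ dotInt (aF j0) y = 8}

/-- the vectors other than `aF j0` at inner product `16` with `aF j0` -/
def G16 : Set (GolayPt → ℤ) := {y | y ∈ F0 ∧ y ≠ aF j0 ∧ dotInt (aF j0) y = 16}

def OB8 : Set (Finset GolayPt) := {O | O ∈ octads ∧ (none ∈ O ∧ some 0 ∈ O ∧ j0 ∉ O)}
def OC8 : Set (Finset GolayPt) := {O | O ∈ octads ∧ (none ∈ O ∧ some 0 ∉ O ∧ j0 ∈ O)}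
def JA16 : Set GolayPt := {j | j ≠ none ∧ j ≠ some 0 ∧ j ≠ j0}
def OB16 : Set (Finset GolayPt) := {O | O ∈ octads ∧ (none ∈ O ∧ some 0 ∈ O ∧ j0 ∈ O)}
def OC16 : Set (Finset GolayPt) := {O | O ∈ octads ∧ (none ∈ O ∧ some 0 ∉ O ∧ j0 ∉ O)}

theorem dot_aF_aF {j : GolayPt} (hj : j ≠ none) :
    dotInt (aF j0) (aF j) = if j = j0 then 32 else 16 := by
  rw [dotInt_aF_left, aF_none hj]
  by_cases h : j = j0
  · rw [if_pos h, h, aF_apply_self j0_ne_none]; norm_num
  · rw [if_neg h, aF_apply_of_ne j0_ne_none (Ne.symm h)]; norm_num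

theorem dot_aF_twoF {O : Finset GolayPt} (h1 : none ∈ O) :
    dotInt (aF j0) (twoF O) = if j0 ∈ O then 16 else 8 := by
  rw [dotInt_aF_left]
  unfold twoF
  rw [if_pos h1]
  split_ifs <;> norm_num

theorem dot_aF_oddF {O : Finset GolayPt} (h1 : none ∈ O) :
    dotInt (aF j0) (oddF O) = if j0 ∈ O then 8 else 16 := by
  rw [dotInt_aF_left, oddF_none h1]
  by_cases h : j0 ∈ O
  · rw [if_pos h, oddF_of_mem j0_ne_none h]; norm_num
  · rw [if_neg h, oddF_of_not_mem j0_ne_none h]; norm_num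

theorem G8_eq : G8 = twoF '' OB8 ∪ oddF '' OC8 := by
  ext y
  constructor
  · rintro ⟨⟨hx, hn, hu, hv⟩, hd⟩
    rcases p0_cases hx hn hu hv with ⟨j, hj, hj0, rfl⟩ | ⟨O, hO, h1, h2, rfl⟩ | ⟨O, hO, h1, h2, rfl⟩
    · rw [dot_aF_aF hj] at hd
      split_ifs at hd <;> omega
    · rw [dot_aF_twoF h1] at hd
      refine Or.inl ⟨O, ⟨hO, h1, h2, ?_⟩, rfl⟩
      intro hc; rw [if_pos hc] at hd; omega
    · rw [dot_aF_oddF h1] at hd
      refine Or.inr ⟨O, ⟨hO, h1, h2, ?_⟩, rfl⟩
      by_contra hc; rw [if_neg hc] at hd; omega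
  · rintro (⟨O, ⟨hO, h1, h2, h3⟩, rfl⟩ | ⟨O, ⟨hO, h1, h2, h3⟩, rfl⟩)
    · exact ⟨twoF_mem_F0 hO h1 h2, by rw [dot_aF_twoF h1, if_neg h3]⟩
    · exact ⟨oddF_mem_F0 hO h1 h2, by rw [dot_aF_oddF h1, if_pos h3]⟩

theorem G16_eq : G16 = aF '' JA16 ∪ twoF '' OB16 ∪ oddF '' OC16 := by
  ext y
  constructor
  · rintro ⟨⟨hx, hn, hu, hv⟩, hne, hd⟩
    rcases p0_cases hx hn hu hv with ⟨j, hj, hj0, rfl⟩ | ⟨O, hO, h1, h2, rfl⟩ | ⟨O, hO, h1, h2, rfl⟩
    · refine Or.inl (Or.inl ⟨j, ⟨hj, hj0, ?_⟩, rfl⟩)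
      intro hc; exact hne (by rw [hc])
    · rw [dot_aF_twoF h1] at hd
      refine Or.inl (Or.inr ⟨O, ⟨hO, h1, h2, ?_⟩, rfl⟩)
      by_contra hc; rw [if_neg hc] at hd; omega
    · rw [dot_aF_oddF h1] at hd
      refine Or.inr ⟨O, ⟨hO, h1, h2, ?_⟩, rfl⟩
      intro hc; rw [if_pos hc] at hd; omega
  · rintro ((⟨j, ⟨hj, hj0, hjj⟩, rfl⟩ | ⟨O, ⟨hO, h1, h2, h3⟩, rfl⟩) | ⟨O, ⟨hO, h1, h2, h3⟩, rfl⟩)
    · refine ⟨aF_mem_F0 hj hj0, ?_, by rw [dot_aF_aF hj, if_neg hjj]⟩
      intro hc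
      exact hjj (aF_injOn ⟨hj, hj0⟩ ⟨j0_ne_none, j0_ne_zero⟩ hc)
    · refine ⟨twoF_mem_F0 hO h1 h2, ?_, by rw [dot_aF_twoF h1, if_pos h3]⟩
      intro hc
      have := congrFun hc none
      rw [aF_none j0_ne_none] at this
      unfold twoF at this
      rw [if_pos h1] at this
      omega
    · refine ⟨oddF_mem_F0 hO h1 h2, ?_, by rw [dot_aF_oddF h1, if_neg h3]⟩
      intro hc
      have := congrFun hc none
      rw [aF_none j0_ne_none, oddF_none h1] at this
      omega

theorem ncard_JA16 : JA16.ncard = 21 := by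
  classical
  have : JA16 = ↑(Finset.univ.filter fun j : GolayPt => j ≠ none ∧ j ≠ some 0 ∧ j ≠ j0) := by
    ext j; simp [JA16]
  rw [this, Set.ncard_coe_finset]
  decide

theorem ncard_OB8 : OB8.ncard = 56 := by
  have h := ncard_octads_filter (fun O => none ∈ O ∧ some 0 ∈ O ∧ j0 ∉ O)
    (fun m => m.testBit 23 && m.testBit 0 && !m.testBit 1) (by
      intro m _
      rw [mem_setOf, mem_setOf, mem_setOf, idx_none', idx_zero', idx_j0]
      simp [and_assoc])
  have h2 : (octL.filter fun m => m.testBit 23 && m.testBit 0 && !m.testBit 1).length = 56 := by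
    decide +kernel
  rw [h2] at h
  exact h

theorem ncard_OC8 : OC8.ncard = 56 := by
  have h := ncard_octads_filter (fun O => none ∈ O ∧ some 0 ∉ O ∧ j0 ∈ O)
    (fun m => m.testBit 23 && !m.testBit 0 && m.testBit 1) (by
      intro m _
      rw [mem_setOf, mem_setOf, mem_setOf, idx_none', idx_zero', idx_j0]
      simp [and_assoc])
  have h2 : (octL.filter fun m => m.testBit 23 && !m.testBit 0 && m.testBit 1).length = 56 := by
    decide +kernel
  rw [h2] at h
  exact h

theorem ncard_OB16 : OB16.ncard = 21 := by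
  have h := ncard_octads_filter (fun O => none ∈ O ∧ some 0 ∈ O ∧ j0 ∈ O)
    (fun m => m.testBit 23 && m.testBit 0 && m.testBit 1) (by
      intro m _
      rw [mem_setOf, mem_setOf, mem_setOf, idx_none', idx_zero', idx_j0]
      simp [and_assoc])
  have h2 : (octL.filter fun m => m.testBit 23 && m.testBit 0 && m.testBit 1).length = 21 := by
    decide +kernel
  rw [h2] at h
  exact h

theorem ncard_OC16 : OC16.ncard = 120 := by
  have h := ncard_octads_filter (fun O => none ∈ O ∧ some 0 ∉ O ∧ j0 ∉ O)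
    (fun m => m.testBit 23 && !m.testBit 0 && !m.testBit 1) (by
      intro m _
      rw [mem_setOf, mem_setOf, mem_setOf, idx_none', idx_zero', idx_j0]
      simp [and_assoc])
  have h2 : (octL.filter fun m => m.testBit 23 && !m.testBit 0 && !m.testBit 1).length = 120 := by
    decide +kernel
  rw [h2] at h
  exact h

theorem ncard_G8 : G8.ncard = 112 := by
  rw [G8_eq]
  have hB : (twoF '' OB8).ncard = 56 := by
    rw [Set.ncard_image_of_injective _ twoF_injective, ncard_OB8]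
  have hC : (oddF '' OC8).ncard = 56 := by
    rw [Set.ncard_image_of_injective _ oddF_injective, ncard_OC8]
  have hfinB : (twoF '' OB8).Finite := (Set.toFinite OB8).image _
  have hfinC : (oddF '' OC8).Finite := (Set.toFinite OC8).image _
  have hd : Disjoint (twoF '' OB8) (oddF '' OC8) := by
    rw [Set.disjoint_left]
    rintro x ⟨O, hO, rfl⟩ ⟨O', hO', h⟩
    have := congrFun h none
    rw [oddF_none hO'.2.1] at this
    unfold twoF at this
    rw [if_pos hO.2.1] at this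
    omega
  rw [Set.ncard_union_eq hd hfinB hfinC, hB, hC]

theorem ncard_G16 : G16.ncard = 162 := by
  rw [G16_eq]
  have hA : (aF '' JA16).ncard = 21 := by
    have hsub : JA16 ⊆ JA := fun j hj => ⟨hj.1, hj.2.1⟩
    rw [Set.ncard_image_of_injOn (aF_injOn.mono hsub), ncard_JA16]
  have hB : (twoF '' OB16).ncard = 21 := by
    rw [Set.ncard_image_of_injective _ twoF_injective, ncard_OB16]
  have hC : (oddF '' OC16).ncard = 120 := by
    rw [Set.ncard_image_of_injective _ oddF_injective, ncard_OC16]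
  have hfinA : (aF '' JA16).Finite := (Set.toFinite JA16).image _
  have hfinB : (twoF '' OB16).Finite := (Set.toFinite OB16).image _
  have hfinC : (oddF '' OC16).Finite := (Set.toFinite OC16).image _
  have hdAB : Disjoint (aF '' JA16) (twoF '' OB16) := by
    rw [Set.disjoint_left]
    rintro x ⟨j, hj, rfl⟩ ⟨O, hO, h⟩
    have := congrFun h none
    rw [aF_none hj.1] at this
    unfold twoF at this
    rw [if_pos hO.2.1] at this
    omega
  have hdABC : Disjoint (aF '' JA16 ∪ twoF '' OB16) (oddF '' OC16) := by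
    rw [Set.disjoint_left]
    rintro x (⟨j, hj, rfl⟩ | ⟨O, hO, rfl⟩) ⟨O', hO', h⟩
    · have := congrFun h none
      rw [aF_none hj.1, oddF_none hO'.2.1] at this
      omega
    · have := congrFun h none
      rw [oddF_none hO'.2.1] at this
      unfold twoF at this
      rw [if_pos hO.2.1] at this
      omega
  rw [Set.ncard_union_eq hdABC (hfinA.union hfinB) hfinC, Set.ncard_union_eq hdAB hfinA hfinB,
    hA, hB, hC]

end Cfsg.Agent.Lib.Helper27
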