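import Mathlib
import Cfsg.Agent.Lib.Helper27.McLRankCount
import Cfsg.Agent.Lib.Helper27.M24Flag2Out

/-!
# The stabiliser of a point of the McLaughlin configuration has two orbits on the other points
-/

set_option autoImplicit false

namespace Cfsg.Agent.Lib.Helper27
open Cfsg Cfsg.Agent.Lib.Helper7 Cfsg.Agent.Lib.Helper8 Cfsg.Spor
open scoped Pointwise

theorem dotInt_sub_left (x y w : GolayPt → ℤ) : dotInt (x - y) w = dotInt x w - dotInt y w := by
  unfold dotInt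
  rw [← Finset.sum_sub_distrib]
  exact Finset.sum_congr rfl fun i _ => by simp only [Pi.sub_apply]; ring

/-! ### auxiliary octads -/

theorem oct16c_check : octL.all (fun m => !(m.testBit 23 && !m.testBit 0 && !m.testBit 1) ||
    octL.any (fun m' => m'.testBit 23 && m'.testBit 0 && m'.testBit 1 && pc (m &&& m') == 2))
      = true := by
  decide +kernel

theorem oct8b_check : octL.all (fun m => !(m.testBit 23 && !m.testBit 0 && m.testBit 1) ||
    octL.any (fun m' => m'.testBit 23 && m'.testBit 0 && m'.testBit 1 && pc (m &&& m') == 4))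
      = true := by
  decide +kernel

theorem exists_oct16c : ∀ O ∈ octads, none ∈ O → some 0 ∉ O → j0 ∉ O →
    ∃ O' ∈ octads, none ∈ O' ∧ some 0 ∈ O' ∧ j0 ∈ O' ∧ (O ∩ O').card = 2 := by
  apply forall_octads7
  intro m hm h1 h2 h3
  rw [mem_setOf, idx_none'] at h1
  rw [mem_setOf, idx_zero', Bool.not_eq_true] at h2
  rw [mem_setOf, idx_j0, Bool.not_eq_true] at h3
  have h := List.all_eq_true.1 oct16c_check m hm
  rw [h1, h2, h3] at h
  simp only [Bool.not_false, Bool.and_self, Bool.not_true, Bool.false_or, List.any_eq_true,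
    Bool.and_eq_true, beq_iff_eq] at h
  obtain ⟨m', hm', ⟨⟨h4, h5⟩, h6⟩, h7⟩ := h
  refine ⟨setOf m', setOf_mem_octads7 hm', ?_, ?_, ?_, ?_⟩
  · rw [mem_setOf, idx_none', h4]
  · rw [mem_setOf, idx_zero', h5]
  · rw [mem_setOf, idx_j0, h6]
  · rw [card_setOf_inter, h7]

theorem exists_oct8b : ∀ O ∈ octads, none ∈ O → some 0 ∉ O → j0 ∈ O →
    ∃ O' ∈ octads, none ∈ O' ∧ some 0 ∈ O' ∧ j0 ∈ O' ∧ (O ∩ O').card = 4 := by
  apply forall_octads7
  intro m hm h1 h2 h3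
  rw [mem_setOf, idx_none'] at h1
  rw [mem_setOf, idx_zero', Bool.not_eq_true] at h2
  rw [mem_setOf, idx_j0] at h3
  have h := List.all_eq_true.1 oct8b_check m hm
  rw [h1, h2, h3] at h
  simp only [Bool.not_false, Bool.and_self, Bool.not_true, Bool.false_or, List.any_eq_true,
    Bool.and_eq_true, beq_iff_eq] at h
  obtain ⟨m', hm', ⟨⟨h4, h5⟩, h6⟩, h7⟩ := h
  refine ⟨setOf m', setOf_mem_octads7 hm', ?_, ?_, ?_, ?_⟩
  · rw [mem_setOf, idx_none', h4]
  · rw [mem_setOf, idx_zero', h5]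
  · rw [mem_setOf, idx_j0, h6]
  · rw [card_setOf_inter, h7]

/-! ### the mixed vector -/

/-- the pair `4 e_0 + 4 e_q` -/
def pairF (q : GolayPt) : GolayPt → ℤ := Pi.single (some 0) 4 + Pi.single q 4

/-- `2` on the octad except `-2` at `0` and `q` -/
def mixF (O : Finset GolayPt) (q : GolayPt) : GolayPt → ℤ := twoF O - pairF q

theorem dotInt_pairF_left (q : GolayPt) (y : GolayPt → ℤ) :
    dotInt (pairF q) y = 4 * y (some 0) + 4 * y q := by
  unfold pairF
  rw [dotInt_pair_left]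

theorem dotInt_mixF_left (O : Finset GolayPt) (q : GolayPt) (y : GolayPt → ℤ) :
    dotInt (mixF O q) y = dotInt (twoF O) y - (4 * y (some 0) + 4 * y q) := by
  unfold mixF
  rw [dotInt_sub_left, dotInt_pairF_left]

theorem twoF_of_mem {O : Finset GolayPt} {i : GolayPt} (h : i ∈ O) : twoF O i = 2 := by
  unfold twoF; rw [if_pos h]

theorem mix_props {O : Finset GolayPt} {q : GolayPt} (hO : O ∈ octads) (h1 : none ∈ O)
    (h2 : some 0 ∈ O) (h3 : j0 ∈ O) (hq : q ∈ O) (hqn : q ≠ none) (hq0 : q ≠ some 0)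
    (hqj : q ≠ j0) :
    mixF O q ∈ leechLattice ∧ sqNorm (mixF O q) = 32 ∧ dotInt vecU (mixF O q) = 0 ∧
      dotInt uF (mixF O q) = 16 ∧ dotInt (mixF O q) (aF j0) = 16 := by
  refine ⟨?_, ?_, ?_, ?_, ?_⟩
  · exact leechLattice.sub_mem (twoF_mem hO.1) (pm4_pair_mem _ _ (Or.inl rfl) (Or.inl rfl))
  · unfold mixF
    rw [sqNorm_sub', sqNorm_twoF, hO.2, dotInt_comm, dotInt_pairF_left, twoF_of_mem h2,
      twoF_of_mem hq]
    unfold pairF
    rw [sqNorm_pm4_pair (Ne.symm hq0) (Or.inl rfl) (Or.inl rfl)]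
    norm_num
  · rw [dotInt_comm, dotInt_mixF_left, dotInt_comm, dotInt_vecU, twoF_of_mem h1, twoF_of_mem h2]
    have e1 : vecU (some 0) = 4 := rfl
    have e2 : vecU q = 0 := by
      unfold vecU
      rw [if_neg]
      rintro (h | h)
      · exact hqn h
      · exact hq0 h
    rw [e1, e2]; norm_num
  · rw [dotInt_comm, dotInt_mixF_left, dotInt_comm, dotInt_uF, sum_twoF, hO.2, twoF_of_mem h1]
    have e1 : uF (some 0) = 1 := rfl
    have e2 : uF q = 1 := by unfold uF; rw [if_neg hqn]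
    rw [e1, e2]; norm_num
  · rw [dotInt_mixF_left, dotInt_comm, dotInt_aF_left, twoF_of_mem h1, twoF_of_mem h3,
      aF_apply_of_ne (by decide) (Ne.symm j0_ne_zero), aF_apply_of_ne hqn hqj]
    norm_num

theorem sum_sign_on (O O₁ : Finset GolayPt) :
    ∑ i ∈ O, (if i ∈ O₁ then (-1 : ℤ) else 1) = O.card - 2 * (O₁ ∩ O).card := by
  classical
  have h : ∀ i : GolayPt, (if i ∈ O₁ then (-1 : ℤ) else 1) = 1 - (if i ∈ O₁ then 2 else 0) := by
    intro i; split_ifs <;> norm_num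
  rw [Finset.sum_congr rfl fun i _ => h i, Finset.sum_sub_distrib, Finset.sum_ite_mem,
    Finset.sum_const, Finset.sum_const, Finset.inter_comm]
  simp [mul_comm]

theorem dot_twoF_oddF {O O₁ : Finset GolayPt} (h : none ∈ O) :
    dotInt (twoF O) (oddF O₁) = 2 * (O.card - 2 * (O₁ ∩ O).card + 4) := by
  classical
  rw [dotInt_twoF_left]
  unfold oddF
  rw [Finset.sum_add_distrib, sum_sign_on, Finset.sum_ite_eq' O none, if_pos h]

/-! ### auxiliary vectors -/

theorem dotInt_yU_aF {k : GolayPt} (hk : k ≠ none) (hk0 : k ≠ some 0) :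
    dotInt (yU : GolayPt → ℤ) (aF k) = 16 := by
  rw [dotInt_yU, aF_none hk, aF_apply_of_ne (by decide) (Ne.symm hk0)]; norm_num

theorem dotInt_yU_twoF {O : Finset GolayPt} (h1 : none ∈ O) (h2 : some 0 ∈ O) :
    dotInt (yU : GolayPt → ℤ) (twoF O) = 0 := by
  rw [dotInt_yU, twoF_of_mem h1, twoF_of_mem h2]; norm_num

theorem dotInt_yU_oddF {O : Finset GolayPt} (h1 : none ∈ O) (h2 : some 0 ∉ O) :
    dotInt (yU : GolayPt → ℤ) (oddF O) = 8 := by
  rw [dotInt_yU, oddF_none h1, oddF_of_not_mem (by decide) h2]; norm_num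

theorem exists_aux16 {y : GolayPt → ℤ} (hy : y ∈ G16) :
    ∃ b ∈ leechLattice, sqNorm b = 32 ∧ dotInt vecU b = 0 ∧ dotInt uF b = 16 ∧
      dotInt b (aF j0) = 16 ∧ dotInt b y = 16 := by
  classical
  rw [G16_eq] at hy
  rcases hy with (⟨k, ⟨hk, hk0, hkj⟩, rfl⟩ | ⟨O, ⟨hO, h1, h2, h3⟩, rfl⟩) | ⟨O, ⟨hO, h1, h2, h3⟩, rfl⟩
  · exact ⟨_, yU.2, sqNorm_yU, dotInt_vecU_yU, by rw [dotInt_comm, dotInt_yU]; rfl,
      dotInt_yU_aF j0_ne_none j0_ne_zero, dotInt_yU_aF hk hk0⟩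
  · -- `q` in the octad, different from the three base points
    have hcard : 0 < (((O.erase none).erase (some 0)).erase j0).card := by
      rw [Finset.card_erase_of_mem, Finset.card_erase_of_mem, Finset.card_erase_of_mem h1, hO.2]
      · norm_num
      · exact Finset.mem_erase.2 ⟨by decide, h2⟩
      · exact Finset.mem_erase.2 ⟨j0_ne_zero, Finset.mem_erase.2 ⟨j0_ne_none, h3⟩⟩
    obtain ⟨q, hq⟩ := Finset.card_pos.1 hcard
    rw [Finset.mem_erase, Finset.mem_erase, Finset.mem_erase] at hq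
    obtain ⟨hqj, hq0, hqn, hqO⟩ := hq
    obtain ⟨p1, p2, p3, p4, p5⟩ := mix_props hO h1 h2 h3 hqO hqn hq0 hqj
    refine ⟨mixF O q, p1, p2, p3, p4, p5, ?_⟩
    rw [dotInt_mixF_left, dotInt_twoF_twoF, Finset.inter_self, hO.2, twoF_of_mem h2,
      twoF_of_mem hqO]
    norm_num
  · obtain ⟨O', hO', h4, h5, h6, h7⟩ := exists_oct16c O hO h1 h2 h3
    have hcard : 0 < ((O ∩ O').erase none).card := by
      rw [Finset.card_erase_of_mem (Finset.mem_inter.2 ⟨h1, h4⟩), h7]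
      norm_num
    obtain ⟨q, hq⟩ := Finset.card_pos.1 hcard
    rw [Finset.mem_erase, Finset.mem_inter] at hq
    obtain ⟨hqn, hqO, hqO'⟩ := hq
    have hq0 : q ≠ some 0 := fun h => h2 (h ▸ hqO)
    have hqj : q ≠ j0 := fun h => h3 (h ▸ hqO)
    obtain ⟨p1, p2, p3, p4, p5⟩ := mix_props hO' h4 h5 h6 hqO' hqn hq0 hqj
    refine ⟨mixF O' q, p1, p2, p3, p4, p5, ?_⟩
    rw [dotInt_mixF_left, dot_twoF_oddF h4, hO'.2, h7, oddF_of_not_mem (by decide) h2,
      oddF_of_mem hqn hqO]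
    norm_num

theorem exists_aux8 {y : GolayPt → ℤ} (hy : y ∈ G8) :
    ∃ b ∈ leechLattice, sqNorm b = 32 ∧ dotInt vecU b = 0 ∧ dotInt uF b = 16 ∧
      dotInt b (aF j0) = 16 ∧ dotInt b y = 0 := by
  classical
  rw [G8_eq] at hy
  rcases hy with ⟨O, ⟨hO, h1, h2, h3⟩, rfl⟩ | ⟨O, ⟨hO, h1, h2, h3⟩, rfl⟩
  · exact ⟨_, yU.2, sqNorm_yU, dotInt_vecU_yU, by rw [dotInt_comm, dotInt_yU]; rfl,
      dotInt_yU_aF j0_ne_none j0_ne_zero, dotInt_yU_twoF h1 h2⟩
  · obtain ⟨O', hO', h4, h5, h6, h7⟩ := exists_oct8b O hO h1 h2 h3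
    have hcard : 0 < ((O' \ O).erase (some 0)).card := by
      have hsd : (O' \ O).card = 4 := by
        have := Finset.card_sdiff_add_card_inter O' O
        rw [Finset.inter_comm, h7, hO'.2] at this
        omega
      rw [Finset.card_erase_of_mem (Finset.mem_sdiff.2 ⟨h5, h2⟩), hsd]
      norm_num
    obtain ⟨q, hq⟩ := Finset.card_pos.1 hcard
    rw [Finset.mem_erase, Finset.mem_sdiff] at hq
    obtain ⟨hq0, hqO', hqO⟩ := hq
    have hqn : q ≠ none := fun h => hqO (h ▸ h1)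
    have hqj : q ≠ j0 := fun h => hqO (h ▸ h3)
    obtain ⟨p1, p2, p3, p4, p5⟩ := mix_props hO' h4 h5 h6 hqO' hqn hq0 hqj
    refine ⟨mixF O' q, p1, p2, p3, p4, p5, ?_⟩
    rw [dotInt_mixF_left, dot_twoF_oddF h4, hO'.2, h7, oddF_of_not_mem (by decide) h2,
      oddF_of_not_mem hqn hqO]
    norm_num

end Cfsg.Agent.Lib.Helper27
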