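import Mathlib
import Cfsg.Agent.Lib.Helper27.McLRankTrans

/-!
# The McLaughlin configuration of 2025 points in the standard frame: vectors and classification

`vecU = (4, 4, 0^22)`, `wF = (1, -3, 1^22)`; the minimal vectors `x` with `vecU · x = 0` and
`wF · x = 16` are `yU = (4, -4, 0^22)`, `twoF O`, `mixF O p`, `oddP C p`.
-/

set_option autoImplicit false

namespace Cfsg.Agent.Lib.Helper27
open Cfsg Cfsg.Agent.Lib.Helper7 Cfsg.Agent.Lib.Helper8 Cfsg.Spor
open scoped Pointwise

/-- `1` everywhere except `-3` at `p` -/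
def vOddAt (p : GolayPt) : GolayPt → ℤ := fun i => if i = p then -3 else 1

theorem vOddAt_mem (p : GolayPt) : vOddAt p ∈ leechLattice := by
  apply AddSubgroup.subset_closure
  refine mem_leechSet_of_const_mod_four _ 1 1 (by decide) (fun i => ?_) ?_
  · unfold vOddAt
    split_ifs <;> decide
  · have h : ∀ i : GolayPt, vOddAt p i = 1 - (if i = p then 4 else 0) := by
      intro i; unfold vOddAt; split_ifs <;> norm_num
    rw [Finset.sum_congr rfl fun i _ => h i, Finset.sum_sub_distrib, Finset.sum_const,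
      card_univ_golayPt, Finset.sum_ite_eq']
    simp
    decide

/-- `(1, -3, 1^22)` -/
def wF : GolayPt → ℤ := vOddAt (some 0)

/-- `(1, -3, 1^22)` as a lattice element -/
def wL : leechLattice := ⟨wF, vOddAt_mem _⟩

theorem wL_coe : ((wL : leechLattice) : GolayPt → ℤ) = wF := rfl

theorem dotInt_wF (x : GolayPt → ℤ) : dotInt wF x = ∑ i, x i - 4 * x (some 0) := by
  unfold dotInt
  have h : ∀ i : GolayPt, wF i * x i = x i - (if i = some 0 then 4 * x (some 0) else 0) := by
    intro i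
    unfold wF vOddAt
    split_ifs with hi
    · subst hi; ring
    · ring
  rw [Finset.sum_congr rfl fun i _ => h i, Finset.sum_sub_distrib, Finset.sum_ite_eq']
  simp

theorem sqNorm_wF : sqNorm wF = 32 := by decide +kernel

theorem dotInt_vecU_wF : dotInt vecU wF = -8 := by
  rw [dotInt_vecU]; rfl

theorem dotInt_yU_wF : dotInt (yU : GolayPt → ℤ) wF = 16 := by
  rw [dotInt_yU]; rfl

/-- `-1` on `C`, `1` off `C`, and `4` added at `p` -/
def oddP (C : Finset GolayPt) (p : GolayPt) : GolayPt → ℤ :=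
  fun i => (if i ∈ C then -1 else 1) + (if i = p then 4 else 0)

theorem oddP_self {C : Finset GolayPt} {p : GolayPt} (hp : p ∈ C) : oddP C p p = 3 := by
  unfold oddP
  rw [if_pos hp, if_pos rfl]; norm_num

theorem oddP_of_mem {C : Finset GolayPt} {p i : GolayPt} (hi : i ≠ p) (h : i ∈ C) :
    oddP C p i = -1 := by
  unfold oddP
  rw [if_pos h, if_neg hi]; norm_num

theorem oddP_of_not_mem {C : Finset GolayPt} {p i : GolayPt} (hi : i ≠ p) (h : i ∉ C) :
    oddP C p i = 1 := by
  unfold oddP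
  rw [if_neg h, if_neg hi]; norm_num

theorem oddP_mem {C : Finset GolayPt} {p : GolayPt}
    (hC : C ∈ supports (golayCode : Set (GolayPt → ZMod 2))) (hp : p ∈ C) :
    oddP C p ∈ leechLattice := by
  have : oddP C p = fun i => if i ∈ C then -vOddAt p i else vOddAt p i := by
    funext i
    unfold oddP vOddAt
    by_cases hi : i = p
    · subst hi; simp [hp]
    · simp [hi]
  rw [this]
  exact Cfsg.Agent.S0433.result C hC (vOddAt p) (vOddAt_mem p)

theorem sum_oddP (C : Finset GolayPt) (p : GolayPt) : ∑ i, oddP C p i = 28 - 2 * C.card := by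
  unfold oddP
  rw [Finset.sum_add_distrib, sum_sign, Finset.sum_ite_eq']
  simp
  ring

theorem sqNorm_oddP {C : Finset GolayPt} {p : GolayPt} (hp : p ∈ C) : sqNorm (oddP C p) = 32 := by
  unfold sqNorm
  have h : ∀ i : GolayPt, oddP C p i ^ 2 = 1 + (if i = p then 8 else 0) := by
    intro i
    by_cases hi : i = p
    · subst hi; rw [oddP_self hp, if_pos rfl]; norm_num
    · rw [if_neg hi]
      by_cases hO : i ∈ C
      · rw [oddP_of_mem hi hO]; norm_num
      · rw [oddP_of_not_mem hi hO]; norm_num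
  rw [Finset.sum_congr rfl fun i _ => h i, Finset.sum_add_distrib, Finset.sum_const,
    card_univ_golayPt, Finset.sum_ite_eq']
  simp

/-- basic properties of the mixed vectors -/
theorem mix_basic {O : Finset GolayPt} {q : GolayPt} (hO : O ∈ octads) (h2 : some 0 ∈ O)
    (hq : q ∈ O) (hq0 : q ≠ some 0) : mixF O q ∈ leechLattice ∧ sqNorm (mixF O q) = 32 := by
  refine ⟨?_, ?_⟩
  · exact leechLattice.sub_mem (twoF_mem hO.1) (pm4_pair_mem _ _ (Or.inl rfl) (Or.inl rfl))
  · unfold mixF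
    rw [sqNorm_sub', sqNorm_twoF, hO.2, dotInt_comm, dotInt_pairF_left, twoF_of_mem h2,
      twoF_of_mem hq]
    unfold pairF
    rw [sqNorm_pm4_pair (Ne.symm hq0) (Or.inl rfl) (Or.inl rfl)]
    norm_num

theorem pairF_apply (q i : GolayPt) :
    pairF q i = (if i = some 0 then 4 else 0) + (if i = q then 4 else 0) := by
  unfold pairF
  rw [Pi.add_apply, Pi.single_apply, Pi.single_apply]

theorem mixF_apply (O : Finset GolayPt) (q i : GolayPt) :
    mixF O q i = (if i ∈ O then 2 else 0) - ((if i = some 0 then 4 else 0)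
      + (if i = q then 4 else 0)) := by
  unfold mixF
  rw [Pi.sub_apply, pairF_apply]
  rfl

theorem sum_pairF (q : GolayPt) : ∑ i, pairF q i = 8 := by
  rw [Finset.sum_congr rfl fun i _ => pairF_apply q i, Finset.sum_add_distrib,
    Finset.sum_ite_eq', Finset.sum_ite_eq']
  simp

theorem sum_mixF (O : Finset GolayPt) (q : GolayPt) : ∑ i, mixF O q i = 2 * O.card - 8 := by
  unfold mixF
  rw [Finset.sum_congr rfl fun i _ => Pi.sub_apply _ _ i, Finset.sum_sub_distrib, sum_twoF,
    sum_pairF]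

/-- the configuration in the standard frame -/
def F2 : Set (GolayPt → ℤ) :=
  {x | x ∈ leechLattice ∧ sqNorm x = 32 ∧ dotInt vecU x = 0 ∧ dotInt wF x = 16}

theorem yU_apply (i : GolayPt) :
    (yU : GolayPt → ℤ) i = (if i = none then 4 else 0) + (if i = some 0 then -4 else 0) := by
  show (Pi.single none 4 + Pi.single (some 0) (-4) : GolayPt → ℤ) i = _
  rw [Pi.add_apply, Pi.single_apply, Pi.single_apply]

theorem yU_mem_F2 : (yU : GolayPt → ℤ) ∈ F2 := by
  refine ⟨yU.2, sqNorm_yU, dotInt_vecU_yU, ?_⟩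
  rw [dotInt_comm, dotInt_yU_wF]

theorem twoF_mem_F2 {O : Finset GolayPt} (hO : O ∈ octads) (h1 : none ∉ O) (h2 : some 0 ∉ O) :
    twoF O ∈ F2 := by
  refine ⟨twoF_mem hO.1, by rw [sqNorm_twoF, hO.2]; norm_num, ?_, ?_⟩
  · rw [dotInt_vecU]; unfold twoF; rw [if_neg h1, if_neg h2]; norm_num
  · rw [dotInt_wF, sum_twoF, hO.2]; unfold twoF; rw [if_neg h2]; norm_num

theorem mixF_mem_F2 {O : Finset GolayPt} {p : GolayPt} (hO : O ∈ octads) (h1 : none ∈ O)
    (h2 : some 0 ∈ O) (hp : p ∈ O) (hpn : p ≠ none) (hp0 : p ≠ some 0) : mixF O p ∈ F2 := by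
  obtain ⟨m1, m2⟩ := mix_basic hO h2 hp hp0
  refine ⟨m1, m2, ?_, ?_⟩
  · rw [dotInt_vecU, mixF_apply, mixF_apply, if_pos h1, if_pos h2, if_neg (by decide),
      if_neg (Ne.symm hpn), if_pos rfl, if_neg (Ne.symm hp0)]
    norm_num
  · rw [dotInt_wF, sum_mixF, hO.2, mixF_apply, if_pos h2, if_pos rfl, if_neg (Ne.symm hp0)]
    norm_num

theorem oddP_mem_F2 {C : Finset GolayPt} {p : GolayPt} (hC : C ∈ octads) (h1 : none ∉ C)
    (h2 : some 0 ∈ C) (hp : p ∈ C) (hp0 : p ≠ some 0) : oddP C p ∈ F2 := by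
  have hpn : p ≠ none := fun h => h1 (h ▸ hp)
  refine ⟨oddP_mem hC.1 hp, sqNorm_oddP hp, ?_, ?_⟩
  · rw [dotInt_vecU, oddP_of_not_mem (Ne.symm hpn) h1, oddP_of_mem (Ne.symm hp0) h2]; norm_num
  · rw [dotInt_wF, sum_oddP, hC.2, oddP_of_mem (Ne.symm hp0) h2]; norm_num

end Cfsg.Agent.Lib.Helper27
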