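import Mathlib
import Cfsg.Agent.Lib.Helper27.McL2Base

/-!
# Classification of the 2025 vectors in the standard frame
-/

set_option autoImplicit false

namespace Cfsg.Agent.Lib.Helper27
open Cfsg Cfsg.Agent.Lib.Helper7 Cfsg.Agent.Lib.Helper8 Cfsg.Spor
open scoped Pointwise

theorem p2_cases {x : GolayPt → ℤ} (hx : x ∈ leechLattice) (hn : sqNorm x = 32)
    (hv : dotInt vecU x = 0) (hw : dotInt wF x = 16) :
    x = (yU : GolayPt → ℤ) ∨
    (∃ O ∈ octads, none ∉ O ∧ some 0 ∉ O ∧ x = twoF O) ∨
    (∃ O ∈ octads, none ∈ O ∧ some 0 ∈ O ∧ ∃ p ∈ O, p ≠ none ∧ p ≠ some 0 ∧ x = mixF O p) ∨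
    (∃ C ∈ octads, none ∉ C ∧ some 0 ∈ C ∧ ∃ p ∈ C, p ≠ some 0 ∧ x = oddP C p) := by
  classical
  rw [dotInt_vecU] at hv
  rw [dotInt_wF] at hw
  rcases min_shape hx hn with ⟨j, k, hjk, hj, hk, hother⟩ | ⟨hvals, hoct⟩ | ⟨hodd, j, hj9, hj1⟩
  · -- shape (±4, ±4, 0^22)
    left
    have hval : ∀ i, x i = 0 ∨ x i = 4 ∨ x i = -4 := by
      intro i
      by_cases hij : i = j
      · rw [hij]; exact Or.inr hj
      · by_cases hik : i = k
        · rw [hik]; exact Or.inr hk
        · exact Or.inl (hother i hij hik)
    have hsum : ∑ i, x i = x j + x k :=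
      Finset.sum_eq_add j k hjk (fun c _ hc => hother c hc.1 hc.2)
        (fun h => absurd (Finset.mem_univ j) h) (fun h => absurd (Finset.mem_univ k) h)
    have h4 : x none = 4 := by
      rcases hval none with h | h | h <;> rcases hj with h1 | h1 <;> rcases hk with h2 | h2 <;>
        omega
    have h0 : x (some 0) = -4 := by omega
    obtain ⟨j', hj', s, hs, hxs⟩ := half_of_e8 hx hn h4
    have h00 := congrFun hxs (some 0)
    rw [h0, Pi.add_apply, Pi.single_eq_of_ne (by decide : (some 0 : GolayPt) ≠ none),
      Pi.single_apply] at h00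
    have hj0 : j' = some 0 := by
      by_contra hne
      rw [if_neg (Ne.symm hne)] at h00
      omega
    rw [hj0, if_pos rfl] at h00
    have hs4 : s = -4 := by omega
    rw [hxs, hj0, hs4]
    rfl
  · -- shape (±2^8, 0^16)
    right
    obtain ⟨S, hSdef⟩ : ∃ S : Finset GolayPt, S = Finset.univ.filter fun i => x i % 4 = 2 :=
      ⟨_, rfl⟩
    rw [← hSdef] at hoct
    have hmemS : ∀ i, i ∈ S ↔ x i % 4 = 2 := by
      intro i; rw [hSdef, Finset.mem_filter]; simp
    have hoff : ∀ i, i ∉ S → x i = 0 := by
      intro i hi
      rw [hmemS] at hi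
      rcases hvals i with h | h | h
      · exact h
      · rw [h] at hi; exact absurd rfl hi
      · rw [h] at hi; exact absurd rfl hi
    have hon : ∀ i, i ∈ S → x i = 2 ∨ x i = -2 := by
      intro i hi
      rw [hmemS] at hi
      rcases hvals i with h | h | h
      · rw [h] at hi; omega
      · exact Or.inl h
      · exact Or.inr h
    have hsumS : ∑ i, x i = ∑ i ∈ S, x i := by
      symm
      apply Finset.sum_subset (Finset.subset_univ S)
      intro i _ hi
      exact hoff i hi
    have hle : ∀ i, 0 ≤ 2 - x i := by
      intro i; rcases hvals i with h | h | h <;> omega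
    have hdef : ∑ i ∈ S, (2 - x i) = 16 - ∑ i, x i := by
      rw [Finset.sum_sub_distrib, Finset.sum_const, hoct.2, ← hsumS]
      simp only [nsmul_eq_mul]
      push_cast
      ring
    have hnn : 0 ≤ ∑ i ∈ S, (2 - x i) := Finset.sum_nonneg fun i _ => hle i
    rcases hvals none with hn0 | hn2 | hnm
    · -- `x ∞ = 0`
      left
      have h00 : x (some 0) = 0 := by omega
      have hz : ∑ i ∈ S, (2 - x i) = 0 := by rw [hdef]; omega
      rw [Finset.sum_eq_zero_iff_of_nonneg (fun i _ => hle i)] at hz
      refine ⟨S, hoct, ?_, ?_, ?_⟩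
      · rw [hmemS, hn0]; decide
      · rw [hmemS, h00]; decide
      · funext i
        unfold twoF
        by_cases hi : i ∈ S
        · rw [if_pos hi]
          have := hz i hi
          omega
        · rw [if_neg hi]
          exact hoff i hi
    · -- `x ∞ = 2`
      right; left
      have h00 : x (some 0) = -2 := by omega
      have h1S : none ∈ S := by rw [hmemS, hn2]; rfl
      have h0S : some 0 ∈ S := by rw [hmemS, h00]; rfl
      have h8 : ∑ i ∈ S, (2 - x i) = 8 := by rw [hdef]; omega
      obtain ⟨N, hNdef⟩ : ∃ N : Finset GolayPt, N = S.filter fun i => x i = -2 := ⟨_, rfl⟩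
      have hterm : ∀ i ∈ S, (2 - x i) = if x i = -2 then 4 else 0 := by
        intro i hi
        rcases hon i hi with h | h
        · rw [if_neg (by omega), h]; norm_num
        · rw [if_pos h, h]; norm_num
      rw [Finset.sum_congr rfl hterm, ← Finset.sum_filter, ← hNdef, Finset.sum_const] at h8
      simp only [nsmul_eq_mul] at h8
      have hN2 : N.card = 2 := by
        have : (N.card : ℤ) = 2 := by linarith
        exact_mod_cast this
      have h0N : some 0 ∈ N := by
        rw [hNdef, Finset.mem_filter]; exact ⟨h0S, h00⟩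
      have hN1 : (N.erase (some 0)).card = 1 := by
        rw [Finset.card_erase_of_mem h0N, hN2]
      obtain ⟨p, hp⟩ := Finset.card_eq_one.1 hN1
      have hpN : p ∈ N.erase (some 0) := by rw [hp]; exact Finset.mem_singleton_self p
      rw [Finset.mem_erase, hNdef, Finset.mem_filter] at hpN
      obtain ⟨hp0, hpS, hpx⟩ := hpN
      have hpn : p ≠ none := by
        intro h; rw [h, hn2] at hpx; omega
      refine ⟨S, hoct, h1S, h0S, p, hpS, hpn, hp0, ?_⟩
      funext i
      rw [mixF_apply]
      by_cases hi : i ∈ S
      · rw [if_pos hi]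
        by_cases hi0 : i = some 0
        · rw [if_pos hi0, if_neg (by rw [hi0]; exact Ne.symm hp0), hi0, h00]; norm_num
        · rw [if_neg hi0]
          by_cases hip : i = p
          · rw [if_pos hip, hip, hpx]; norm_num
          · rw [if_neg hip]
            rcases hon i hi with h | h
            · rw [h]; norm_num
            · exfalso
              have : i ∈ N.erase (some 0) := by
                rw [Finset.mem_erase, hNdef, Finset.mem_filter]
                exact ⟨hi0, hi, h⟩
              rw [hp, Finset.mem_singleton] at this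
              exact hip this
      · have hi0 : i ≠ some 0 := fun h => hi (by rw [h]; exact h0S)
        have hip : i ≠ p := fun h => hi (by rw [h]; exact hpS)
        rw [if_neg hi, hoff i hi, if_neg hi0, if_neg hip]
        norm_num
    · -- `x ∞ = -2`
      exfalso
      have h00 : x (some 0) = 2 := by omega
      rw [hdef] at hnn
      omega
  · -- odd shape
    right; right; right
    obtain ⟨m, -, -, h3⟩ := (mem_leechLattice_iff _).1 hx
    obtain ⟨C, hCdef⟩ : ∃ C : Finset GolayPt, C = Finset.univ.filter fun i => x i ≡ 3 [ZMOD 4] :=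
      ⟨_, rfl⟩
    have hCs : C ∈ supports (golayCode : Set (GolayPt → ZMod 2)) := by rw [hCdef]; exact h3 3
    have hmemC : ∀ i, i ∈ C ↔ x i % 4 = 3 := by
      intro i
      rw [hCdef, Finset.mem_filter]
      simp [Int.ModEq]
    have hone : ∀ i, i ≠ j → x i = 1 ∨ x i = -1 := fun i hi => val_of_sq_one'' (hj1 i hi)
    have hnj : none ≠ j := by
      intro h
      have h0j : some 0 ≠ j := by rw [← h]; decide
      rcases hone (some 0) h0j with h' | h' <;> rcases val_of_sq_nine'' (h ▸ hj9) with h'' | h'' <;>
        omega
    have h0j : some 0 ≠ j := by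
      intro h
      rcases hone none hnj with h' | h' <;> rcases val_of_sq_nine'' (h ▸ hj9) with h'' | h'' <;>
        omega
    have keyP : x j = 3 →
        (∀ i, x i = (if i ∈ C then -1 else 1) + (if i = j then 4 else 0)) := by
      intro hp i
      by_cases hip : i = j
      · subst hip
        rw [if_pos ((hmemC i).2 (by rw [hp]; rfl)), if_pos rfl, hp]; rfl
      · rw [if_neg hip]
        rcases hone i hip with h | h
        · rw [if_neg (fun hc => by have := (hmemC i).1 hc; rw [h] at this; omega), h]; rfl
        · rw [if_pos ((hmemC i).2 (by rw [h]; rfl)), h]; rfl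
    have keyM : x j = -3 →
        (∀ i, x i = (if i ∈ C then -1 else 1) - (if i = j then 4 else 0)) := by
      intro hp i
      by_cases hip : i = j
      · subst hip
        rw [if_neg (fun hc => by have := (hmemC i).1 hc; rw [hp] at this; omega), if_pos rfl, hp]
        rfl
      · rw [if_neg hip]
        rcases hone i hip with h | h
        · rw [if_neg (fun hc => by have := (hmemC i).1 hc; rw [h] at this; omega), h]; rfl
        · rw [if_pos ((hmemC i).2 (by rw [h]; rfl)), h]; rfl
    have hsumP : x j = 3 → ∑ i, x i = 28 - 2 * C.card := by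
      intro hp
      rw [Finset.sum_congr rfl fun i _ => keyP hp i, Finset.sum_add_distrib, sum_sign,
        Finset.sum_ite_eq']
      simp
      ring
    have hsumM : x j = -3 → ∑ i, x i = 20 - 2 * C.card := by
      intro hp
      rw [Finset.sum_congr rfl fun i _ => keyM hp i, Finset.sum_sub_distrib, sum_sign,
        Finset.sum_ite_eq']
      simp
      ring
    have hno4 : C.card ≠ 4 := by
      intro hcard
      obtain ⟨w, hw', hwC⟩ := hCs
      have := golay_weight hw'
      rw [← card_support₂_eq_hammingNorm, hwC, hcard] at this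
      omega
    rcases hone none hnj with hn1 | hn1
    · -- `x ∞ = 1`, `x 0 = -1`
      have h00 : x (some 0) = -1 := by omega
      rcases val_of_sq_nine'' hj9 with hp | hp
      · have hs := hsumP hp
        have hcard : C.card = 8 := by omega
        refine ⟨C, ⟨hCs, hcard⟩, ?_, (hmemC _).2 (by rw [h00]; rfl), j,
          (hmemC _).2 (by rw [hp]; rfl), Ne.symm h0j, ?_⟩
        · intro hc
          have := (hmemC none).1 hc
          rw [hn1] at this
          omega
        · funext i
          exact keyP hp i
      · exfalso
        have hs := hsumM hp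
        exact hno4 (by omega)
    · -- `x ∞ = -1`, `x 0 = 1`
      exfalso
      have h00 : x (some 0) = 1 := by omega
      rcases val_of_sq_nine'' hj9 with hp | hp
      · have hs := hsumP hp
        exact hno4 (by omega)
      · have hs := hsumM hp
        have hcard : C.card = 0 := by omega
        have : none ∈ C := (hmemC none).2 (by rw [hn1]; rfl)
        rw [Finset.card_eq_zero] at hcard
        rw [hcard] at this
        exact absurd this (Finset.notMem_empty _)

end Cfsg.Agent.Lib.Helper27
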