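import Mathlib
import Cfsg.Agent.Lib.Helper27.McL2Shape

/-!
# Counting the 2025 vectors and the three suborbits 330, 462, 1232
-/

set_option autoImplicit false

namespace Cfsg.Agent.Lib.Helper27
open Cfsg Cfsg.Agent.Lib.Helper7 Cfsg.Agent.Lib.Helper8 Cfsg.Spor
open scoped Pointwise

/-! ### index sets -/

def OA2 : Set (Finset GolayPt) := {O | O ∈ octads ∧ (none ∉ O ∧ some 0 ∉ O)}
def OC2 : Set (Finset GolayPt) := {O | O ∈ octads ∧ (none ∉ O ∧ some 0 ∈ O)}

theorem ncard_OA2 : OA2.ncard = 330 := by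
  have h := ncard_octads_filter (fun O => none ∉ O ∧ some 0 ∉ O)
    (fun m => !m.testBit 23 && !m.testBit 0) (by
      intro m _
      rw [mem_setOf, mem_setOf, idx_none', idx_zero', Bool.and_eq_true]
      simp)
  have h2 : (octL.filter fun m => !m.testBit 23 && !m.testBit 0).length = 330 := by decide +kernel
  rw [h2] at h
  exact h

theorem ncard_OC2 : OC2.ncard = 176 := by
  have h := ncard_octads_filter (fun O => none ∉ O ∧ some 0 ∈ O)
    (fun m => !m.testBit 23 && m.testBit 0) (by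
      intro m _
      rw [mem_setOf, mem_setOf, idx_none', idx_zero', Bool.and_eq_true]
      simp)
  have h2 : (octL.filter fun m => !m.testBit 23 && m.testBit 0).length = 176 := by decide +kernel
  rw [h2] at h
  exact h

/-- the flags (octad through `∞` and `0`, a third point of it) -/
noncomputable def TB : Finset (Σ _ : Finset GolayPt, GolayPt) :=
  (Set.toFinite OB).toFinset.sigma fun O => (O.erase none).erase (some 0)

/-- the flags (octad through `0` avoiding `∞`, a second point of it) -/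
noncomputable def TC : Finset (Σ _ : Finset GolayPt, GolayPt) :=
  (Set.toFinite OC2).toFinset.sigma fun O => O.erase (some 0)

theorem mem_TB {s : Σ _ : Finset GolayPt, GolayPt} :
    s ∈ TB ↔ s.1 ∈ octads ∧ none ∈ s.1 ∧ some 0 ∈ s.1 ∧ s.2 ∈ s.1 ∧ s.2 ≠ none ∧ s.2 ≠ some 0 := by
  unfold TB
  rw [Finset.mem_sigma, Set.Finite.mem_toFinset, Finset.mem_erase, Finset.mem_erase]
  unfold OB
  simp only [Set.mem_setOf_eq]
  tauto

theorem mem_TC {s : Σ _ : Finset GolayPt, GolayPt} :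
    s ∈ TC ↔ s.1 ∈ octads ∧ none ∉ s.1 ∧ some 0 ∈ s.1 ∧ s.2 ∈ s.1 ∧ s.2 ≠ some 0 := by
  unfold TC
  rw [Finset.mem_sigma, Set.Finite.mem_toFinset, Finset.mem_erase]
  unfold OC2
  simp only [Set.mem_setOf_eq]
  tauto

theorem card_TB : TB.card = 462 := by
  unfold TB
  rw [Finset.card_sigma]
  have : ∀ O ∈ (Set.toFinite OB).toFinset, ((O.erase none).erase (some 0)).card = 6 := by
    intro O hO
    rw [Set.Finite.mem_toFinset] at hO
    obtain ⟨hO, h1, h2⟩ := hO
    rw [Finset.card_erase_of_mem (Finset.mem_erase.2 ⟨by decide, h2⟩),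
      Finset.card_erase_of_mem h1, hO.2]
  rw [Finset.sum_congr rfl this, Finset.sum_const, ← Set.ncard_eq_toFinset_card OB, ncard_OB]
  rfl

theorem card_TC : TC.card = 1232 := by
  unfold TC
  rw [Finset.card_sigma]
  have : ∀ O ∈ (Set.toFinite OC2).toFinset, (O.erase (some 0)).card = 7 := by
    intro O hO
    rw [Set.Finite.mem_toFinset] at hO
    obtain ⟨hO, h1, h2⟩ := hO
    rw [Finset.card_erase_of_mem h2, hO.2]
  rw [Finset.sum_congr rfl this, Finset.sum_const, ← Set.ncard_eq_toFinset_card OC2, ncard_OC2]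
  rfl

/-- the vector of a flag of the first kind -/
def mixS (s : Σ _ : Finset GolayPt, GolayPt) : GolayPt → ℤ := mixF s.1 s.2

/-- the vector of a flag of the second kind -/
def oddS (s : Σ _ : Finset GolayPt, GolayPt) : GolayPt → ℤ := oddP s.1 s.2

theorem mixF_ne_zero_iff {O : Finset GolayPt} {p : GolayPt} (h0 : some 0 ∈ O) (hp : p ∈ O)
    (i : GolayPt) : mixF O p i ≠ 0 ↔ i ∈ O := by
  rw [mixF_apply]
  by_cases hi : i ∈ O
  · simp only [hi, if_true, iff_true]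
    split_ifs <;> norm_num
  · have hi0 : i ≠ some 0 := fun h => hi (by rw [h]; exact h0)
    have hip : i ≠ p := fun h => hi (by rw [h]; exact hp)
    simp [hi, hi0, hip]

theorem mixS_injOn : Set.InjOn mixS (TB : Set (Σ _ : Finset GolayPt, GolayPt)) := by
  rintro ⟨O, p⟩ hs ⟨O', p'⟩ hs' h
  rw [Finset.mem_coe, mem_TB] at hs hs'
  simp only at hs hs'
  obtain ⟨-, -, h0, hp, -, hp0⟩ := hs
  obtain ⟨-, -, h0', hp', -, hp0'⟩ := hs'
  have hOO : O = O' := by
    ext i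
    rw [← mixF_ne_zero_iff h0 hp i, ← mixF_ne_zero_iff h0' hp' i]
    show mixS ⟨O, p⟩ i ≠ 0 ↔ mixS ⟨O', p'⟩ i ≠ 0
    rw [h]
  subst hOO
  have hpp : p = p' := by
    by_contra hne
    have := congrFun h p
    simp only [mixS] at this
    rw [mixF_apply, mixF_apply, if_pos hp, if_neg hp0, if_pos rfl, if_neg hne] at this
    omega
  subst hpp
  rfl

theorem oddS_injOn : Set.InjOn oddS (TC : Set (Σ _ : Finset GolayPt, GolayPt)) := by
  rintro ⟨C, p⟩ hs ⟨C', p'⟩ hs' h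
  rw [Finset.mem_coe, mem_TC] at hs hs'
  simp only at hs hs'
  obtain ⟨-, -, -, hp, -⟩ := hs
  obtain ⟨-, -, -, hp', -⟩ := hs'
  have hpp : p = p' := by
    by_contra hne
    have := congrFun h p
    simp only [oddS] at this
    rw [oddP_self hp] at this
    by_cases hc : p ∈ C'
    · rw [oddP_of_mem hne hc] at this; omega
    · rw [oddP_of_not_mem hne hc] at this; omega
  subst hpp
  have hCC : C = C' := by
    ext i
    by_cases hi : i = p
    · subst hi
      exact ⟨fun _ => hp', fun _ => hp⟩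
    · have := congrFun h i
      simp only [oddS] at this
      by_cases h1 : i ∈ C <;> by_cases h2 : i ∈ C'
      · exact ⟨fun _ => h2, fun _ => h1⟩
      · rw [oddP_of_mem hi h1, oddP_of_not_mem hi h2] at this; omega
      · rw [oddP_of_not_mem hi h1, oddP_of_mem hi h2] at this; omega
      · exact ⟨fun h => absurd h h1, fun h => absurd h h2⟩
  subst hCC
  rfl

/-! ### the level sets -/

/-- the vectors of the configuration at inner product `d` with `yU` -/
def H2 (d : ℤ) : Set (GolayPt → ℤ) := {x | x ∈ F2 ∧ dotInt (yU : GolayPt → ℤ) x = d}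

theorem dot_yU_yU : dotInt (yU : GolayPt → ℤ) (yU : GolayPt → ℤ) = 32 := by
  rw [dotInt_yU, yU_apply, yU_apply, if_pos rfl, if_pos rfl,
    if_neg (by decide : ¬ (none : GolayPt) = some 0), if_neg (by decide : ¬ (some 0 : GolayPt) = none)]
  norm_num

theorem dot_yU_twoF {O : Finset GolayPt} (h1 : none ∉ O) (h2 : some 0 ∉ O) :
    dotInt (yU : GolayPt → ℤ) (twoF O) = 0 := by
  rw [dotInt_yU]; unfold twoF; rw [if_neg h1, if_neg h2]; norm_num

theorem dot_yU_mixF {O : Finset GolayPt} {p : GolayPt} (h1 : none ∈ O) (h2 : some 0 ∈ O)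
    (hpn : p ≠ none) (hp0 : p ≠ some 0) : dotInt (yU : GolayPt → ℤ) (mixF O p) = 16 := by
  rw [dotInt_yU, mixF_apply, mixF_apply, if_pos h1, if_pos h2, if_neg (by decide),
    if_neg (Ne.symm hpn), if_pos rfl, if_neg (Ne.symm hp0)]
  norm_num

theorem dot_yU_oddP {C : Finset GolayPt} {p : GolayPt} (h1 : none ∉ C) (h2 : some 0 ∈ C)
    (hp : p ∈ C) (hp0 : p ≠ some 0) : dotInt (yU : GolayPt → ℤ) (oddP C p) = 8 := by
  have hpn : p ≠ none := fun h => h1 (h ▸ hp)
  rw [dotInt_yU, oddP_of_not_mem (Ne.symm hpn) h1, oddP_of_mem (Ne.symm hp0) h2]; norm_num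

theorem H2_0_eq : H2 0 = twoF '' OA2 := by
  ext x
  constructor
  · rintro ⟨⟨hx, hn, hv, hw⟩, hd⟩
    rcases p2_cases hx hn hv hw with rfl | ⟨O, hO, h1, h2, rfl⟩ |
      ⟨O, hO, h1, h2, p, hp, hpn, hp0, rfl⟩ | ⟨C, hC, h1, h2, p, hp, hp0, rfl⟩
    · rw [dot_yU_yU] at hd; omega
    · exact ⟨O, ⟨hO, h1, h2⟩, rfl⟩
    · rw [dot_yU_mixF h1 h2 hpn hp0] at hd; omega
    · rw [dot_yU_oddP h1 h2 hp hp0] at hd; omega
  · rintro ⟨O, ⟨hO, h1, h2⟩, rfl⟩
    exact ⟨twoF_mem_F2 hO h1 h2, dot_yU_twoF h1 h2⟩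

theorem H2_16_eq : H2 16 = mixS '' (TB : Set (Σ _ : Finset GolayPt, GolayPt)) := by
  ext x
  constructor
  · rintro ⟨⟨hx, hn, hv, hw⟩, hd⟩
    rcases p2_cases hx hn hv hw with rfl | ⟨O, hO, h1, h2, rfl⟩ |
      ⟨O, hO, h1, h2, p, hp, hpn, hp0, rfl⟩ | ⟨C, hC, h1, h2, p, hp, hp0, rfl⟩
    · rw [dot_yU_yU] at hd; omega
    · rw [dot_yU_twoF h1 h2] at hd; omega
    · exact ⟨⟨O, p⟩, by rw [Finset.mem_coe, mem_TB]; exact ⟨hO, h1, h2, hp, hpn, hp0⟩, rfl⟩
    · rw [dot_yU_oddP h1 h2 hp hp0] at hd; omega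
  · rintro ⟨⟨O, p⟩, hs, rfl⟩
    rw [Finset.mem_coe, mem_TB] at hs
    obtain ⟨hO, h1, h2, hp, hpn, hp0⟩ := hs
    exact ⟨mixF_mem_F2 hO h1 h2 hp hpn hp0, dot_yU_mixF h1 h2 hpn hp0⟩

theorem H2_8_eq : H2 8 = oddS '' (TC : Set (Σ _ : Finset GolayPt, GolayPt)) := by
  ext x
  constructor
  · rintro ⟨⟨hx, hn, hv, hw⟩, hd⟩
    rcases p2_cases hx hn hv hw with rfl | ⟨O, hO, h1, h2, rfl⟩ |
      ⟨O, hO, h1, h2, p, hp, hpn, hp0, rfl⟩ | ⟨C, hC, h1, h2, p, hp, hp0, rfl⟩
    · rw [dot_yU_yU] at hd; omega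
    · rw [dot_yU_twoF h1 h2] at hd; omega
    · rw [dot_yU_mixF h1 h2 hpn hp0] at hd; omega
    · exact ⟨⟨C, p⟩, by rw [Finset.mem_coe, mem_TC]; exact ⟨hC, h1, h2, hp, hp0⟩, rfl⟩
  · rintro ⟨⟨C, p⟩, hs, rfl⟩
    rw [Finset.mem_coe, mem_TC] at hs
    obtain ⟨hC, h1, h2, hp, hp0⟩ := hs
    exact ⟨oddP_mem_F2 hC h1 h2 hp hp0, dot_yU_oddP h1 h2 hp hp0⟩

theorem ncard_H2_0 : (H2 0).ncard = 330 := by
  rw [H2_0_eq, Set.ncard_image_of_injective _ twoF_injective, ncard_OA2]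

theorem ncard_H2_16 : (H2 16).ncard = 462 := by
  rw [H2_16_eq, Set.ncard_image_of_injOn mixS_injOn, Set.ncard_coe_finset, card_TB]

theorem ncard_H2_8 : (H2 8).ncard = 1232 := by
  rw [H2_8_eq, Set.ncard_image_of_injOn oddS_injOn, Set.ncard_coe_finset, card_TC]

theorem F2_eq : F2 = {(yU : GolayPt → ℤ)} ∪ H2 0 ∪ H2 16 ∪ H2 8 := by
  ext x
  constructor
  · intro hx
    obtain ⟨hxl, hn, hv, hw⟩ := hx
    rcases p2_cases hxl hn hv hw with rfl | ⟨O, hO, h1, h2, rfl⟩ |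
      ⟨O, hO, h1, h2, p, hp, hpn, hp0, rfl⟩ | ⟨C, hC, h1, h2, p, hp, hp0, rfl⟩
    · exact Or.inl (Or.inl (Or.inl rfl))
    · exact Or.inl (Or.inl (Or.inr ⟨⟨hxl, hn, hv, hw⟩, dot_yU_twoF h1 h2⟩))
    · exact Or.inl (Or.inr ⟨⟨hxl, hn, hv, hw⟩, dot_yU_mixF h1 h2 hpn hp0⟩)
    · exact Or.inr ⟨⟨hxl, hn, hv, hw⟩, dot_yU_oddP h1 h2 hp hp0⟩
  · rintro (((h | h) | h) | h)
    · rw [Set.mem_singleton_iff] at h
      rw [h]; exact yU_mem_F2
    · exact h.1
    · exact h.1
    · exact h.1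

theorem ncard_F2 : F2.ncard = 2025 := by
  rw [F2_eq]
  have hfin : ∀ d, (H2 d).Finite := by
    intro d
    have h8 : (H2 0).Finite := by rw [H2_0_eq]; exact (Set.toFinite OA2).image _
    have h16 : (H2 16).Finite := by rw [H2_16_eq]; exact (Finset.finite_toSet TB).image _
    have h8' : (H2 8).Finite := by rw [H2_8_eq]; exact (Finset.finite_toSet TC).image _
    have hall : (F2).Finite := by
      rw [F2_eq]
      exact (((Set.finite_singleton _).union h8).union h16).union h8'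
    exact hall.subset fun x hx => hx.1
  have hd1 : Disjoint ({(yU : GolayPt → ℤ)} : Set (GolayPt → ℤ)) (H2 0) := by
    rw [Set.disjoint_left]
    intro x hx hx'
    rw [Set.mem_singleton_iff] at hx
    have := hx'.2
    rw [hx, dot_yU_yU] at this
    omega
  have hd2 : Disjoint ({(yU : GolayPt → ℤ)} ∪ H2 0) (H2 16) := by
    rw [Set.disjoint_left]
    rintro x (hx | hx) hx'
    · rw [Set.mem_singleton_iff] at hx
      have := hx'.2
      rw [hx, dot_yU_yU] at this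
      omega
    · have := hx.2
      rw [hx'.2] at this
      omega
  have hd3 : Disjoint ({(yU : GolayPt → ℤ)} ∪ H2 0 ∪ H2 16) (H2 8) := by
    rw [Set.disjoint_left]
    rintro x ((hx | hx) | hx) hx'
    · rw [Set.mem_singleton_iff] at hx
      have := hx'.2
      rw [hx, dot_yU_yU] at this
      omega
    · have := hx.2
      rw [hx'.2] at this
      omega
    · have := hx.2
      rw [hx'.2] at this
      omega
  rw [Set.ncard_union_eq hd3 (((Set.finite_singleton _).union (hfin 0)).union (hfin 16)) (hfin 8),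
    Set.ncard_union_eq hd2 ((Set.finite_singleton _).union (hfin 0)) (hfin 16),
    Set.ncard_union_eq hd1 (Set.finite_singleton _) (hfin 0), Set.ncard_singleton, ncard_H2_0,
    ncard_H2_16, ncard_H2_8]

end Cfsg.Agent.Lib.Helper27
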