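import Mathlib
import Cfsg.Agent.Lib.Helper27.McLRankTrans

/-!
# Rank 3: transitivity of the triple stabiliser on each of the two suborbits (standard frame)
-/

set_option autoImplicit false

namespace Cfsg.Agent.Lib.Helper27
open Cfsg Cfsg.Agent.Lib.Helper7 Cfsg.Agent.Lib.Helper8 Cfsg.Spor
open scoped Pointwise

/-- the third base vector `4 e_∞ + 4 e_1` -/
def x0L : leechLattice := ⟨aF j0, (aF_mem_F0 j0_ne_none j0_ne_zero).1⟩

theorem x0L_coe : ((x0L : leechLattice) : GolayPt → ℤ) = aF j0 := rfl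

/-- a frame: an element of the stabiliser of the standard pair moving `b` to `(4, -4, 0^22)` -/
theorem exists_frame (b : GolayPt → ℤ) (hb : b ∈ leechLattice) (hbn : sqNorm b = 32)
    (hbv : dotInt vecU b = 0) (hbu : dotInt uF b = 16) :
    ∃ h : Co0, h • uL = uL ∧ h • leechU = leechU ∧ h • (⟨b, hb⟩ : leechLattice) = yU := by
  obtain ⟨g, hgu, hgb⟩ := exists_move_yU ⟨b, hb⟩ hbn hbv
  have k1 : dotInt vecU ((g • uL : leechLattice) : GolayPt → ℤ) = 24 := by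
    have := co0_dotInt g leechU uL
    rw [hgu, leechU_coe, uL_coe, dotInt_vecU_uF] at this
    exact this
  have k2 : dotInt (yU : GolayPt → ℤ) ((g • uL : leechLattice) : GolayPt → ℤ) = 16 := by
    have := co0_dotInt g ⟨b, hb⟩ uL
    rw [hgb, uL_coe] at this
    rw [this, dotInt_comm]
    exact hbu
  obtain ⟨C, hC, hCn, hC0, hCu⟩ := rigid_u (g • uL).2 (by rw [co0_sqNorm, uL_coe, sqNorm_uF]) k1 k2
  refine ⟨monoCo0 1 M24.one_mem C hC * g, ?_, ?_, ?_⟩
  · rw [mul_smul]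
    apply Subtype.ext
    rw [monoCo0_apply]
    exact hCu
  · rw [mul_smul, hgu]
    exact monoCo0_fix_U 1 M24.one_mem C hC rfl rfl hCn hC0
  · rw [mul_smul, hgb]
    exact monoCo0_fix_yU 1 M24.one_mem C hC rfl rfl hCn hC0

/-- the stabiliser of the standard pair preserves the configuration -/
theorem smul_mem_F0 {h : Co0} (hu : h • uL = uL) (hv : h • leechU = leechU) {z : leechLattice}
    (hz : (z : GolayPt → ℤ) ∈ F0) : ((h • z : leechLattice) : GolayPt → ℤ) ∈ F0 := by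
  refine ⟨(h • z).2, by rw [co0_sqNorm]; exact hz.2.1, ?_, ?_⟩
  · have := co0_dotInt h uL z
    rw [hu, uL_coe] at this
    rw [this]; exact hz.2.2.1
  · have := co0_dotInt h leechU z
    rw [hv, leechU_coe] at this
    rw [this]; exact hz.2.2.2

theorem aF_of_dot {y : GolayPt → ℤ} (hy : y ∈ F0) (hd : dotInt (yU : GolayPt → ℤ) y = 16) :
    ∃ j, j ≠ none ∧ j ≠ some 0 ∧ y = aF j := by
  obtain ⟨hx, hn, hu, hv⟩ := hy
  rcases p0_cases hx hn hu hv with ⟨j, hj, hj0, rfl⟩ | ⟨O, hO, h1, h2, rfl⟩ | ⟨O, hO, h1, h2, rfl⟩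
  · exact ⟨j, hj, hj0, rfl⟩
  · rw [dotInt_yU_twoF h1 h2] at hd; omega
  · rw [dotInt_yU_oddF h1 h2] at hd; omega

theorem twoF_of_dot {y : GolayPt → ℤ} (hy : y ∈ F0) (hd : dotInt (yU : GolayPt → ℤ) y = 0) :
    ∃ O ∈ octads, none ∈ O ∧ some 0 ∈ O ∧ y = twoF O := by
  obtain ⟨hx, hn, hu, hv⟩ := hy
  rcases p0_cases hx hn hu hv with ⟨j, hj, hj0, rfl⟩ | ⟨O, hO, h1, h2, rfl⟩ | ⟨O, hO, h1, h2, rfl⟩
  · rw [dotInt_yU_aF hj hj0] at hd; omega
  · exact ⟨O, hO, h1, h2, rfl⟩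
  · rw [dotInt_yU_oddF h1 h2] at hd; omega

theorem empty_mem_supp : (∅ : Finset GolayPt) ∈ supports (golayCode : Set (GolayPt → ZMod 2)) :=
  Cfsg.Spor.empty_mem_supports_golayCode

theorem mono_fix_uL (σ : Equiv.Perm GolayPt) (hσM : σ ∈ M24) (hσ0 : σ none = none) :
    monoCo0 σ hσM ∅ empty_mem_supp • uL = uL := by
  apply Subtype.ext
  rw [monoCo0_apply, uL_coe]
  funext i
  show (if i ∈ (∅ : Finset GolayPt) then -uF (σ.symm i) else uF (σ.symm i)) = uF i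
  rw [if_neg (Finset.notMem_empty i)]
  unfold uF
  by_cases hi : i = none
  · subst hi
    rw [if_pos rfl, if_pos]
    rw [Equiv.symm_apply_eq, hσ0]
  · rw [if_neg hi, if_neg]
    intro hc
    rw [Equiv.symm_apply_eq, hσ0] at hc
    exact hi hc

theorem mono_aF (σ : Equiv.Perm GolayPt) (hσ0 : σ none = none) (j : GolayPt) :
    signedPerm σ ∅ (aF j) = aF (σ j) := by
  unfold aF
  rw [signedPerm_add, signedPerm_single, signedPerm_single, hσ0,
    if_neg (Finset.notMem_empty _), if_neg (Finset.notMem_empty _)]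

theorem mono_twoF (σ : Equiv.Perm GolayPt) (O : Finset GolayPt) :
    signedPerm σ ∅ (twoF O) = twoF (σ • O) := by
  funext i
  show (if i ∈ (∅ : Finset GolayPt) then -twoF O (σ.symm i) else twoF O (σ.symm i)) = _
  rw [if_neg (Finset.notMem_empty i)]
  unfold twoF
  have : σ.symm i ∈ O ↔ i ∈ σ • O := by
    rw [← Finset.inv_smul_mem_iff]
    rfl
  by_cases h : σ.symm i ∈ O
  · rw [if_pos h, if_pos (this.1 h)]
  · rw [if_neg h, if_neg (fun hc => h (this.2 hc))]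

/-- normal form of a pair at inner product `16` -/
theorem normalize16 (y : leechLattice) (hy : (y : GolayPt → ℤ) ∈ G16) :
    ∃ h : Co0, h • uL = uL ∧ h • leechU = leechU ∧ ∃ j k : GolayPt, j ≠ none ∧ j ≠ some 0 ∧
      k ≠ none ∧ k ≠ some 0 ∧ j ≠ k ∧ ((h • x0L : leechLattice) : GolayPt → ℤ) = aF j ∧
      ((h • y : leechLattice) : GolayPt → ℤ) = aF k := by
  obtain ⟨b, hb, hbn, hbv, hbu, hbx, hby⟩ := exists_aux16 hy
  obtain ⟨h, hu, hv, hhb⟩ := exists_frame b hb hbn hbv hbu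
  have d1 : dotInt (yU : GolayPt → ℤ) ((h • x0L : leechLattice) : GolayPt → ℤ) = 16 := by
    have := co0_dotInt h ⟨b, hb⟩ x0L
    rw [hhb] at this
    rw [this]; exact hbx
  have d2 : dotInt (yU : GolayPt → ℤ) ((h • y : leechLattice) : GolayPt → ℤ) = 16 := by
    have := co0_dotInt h ⟨b, hb⟩ y
    rw [hhb] at this
    rw [this]; exact hby
  obtain ⟨j, hj, hj0, hxj⟩ := aF_of_dot (smul_mem_F0 hu hv (z := x0L)
    (aF_mem_F0 j0_ne_none j0_ne_zero)) d1
  obtain ⟨k, hk, hk0, hyk⟩ := aF_of_dot (smul_mem_F0 hu hv hy.1) d2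
  refine ⟨h, hu, hv, j, k, hj, hj0, hk, hk0, ?_, hxj, hyk⟩
  intro hjk
  have : h • x0L = h • y := Subtype.ext (by rw [hxj, hyk, hjk])
  have := MulAction.injective h this
  exact hy.2.1 (by rw [← this]; rfl)

/-- normal form of a pair at inner product `8` -/
theorem normalize8 (y : leechLattice) (hy : (y : GolayPt → ℤ) ∈ G8) :
    ∃ h : Co0, h • uL = uL ∧ h • leechU = leechU ∧ ∃ (j : GolayPt) (O : Finset GolayPt),
      j ≠ none ∧ j ≠ some 0 ∧ O ∈ octads ∧ none ∈ O ∧ some 0 ∈ O ∧ j ∉ O ∧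
      ((h • x0L : leechLattice) : GolayPt → ℤ) = aF j ∧
      ((h • y : leechLattice) : GolayPt → ℤ) = twoF O := by
  obtain ⟨b, hb, hbn, hbv, hbu, hbx, hby⟩ := exists_aux8 hy
  obtain ⟨h, hu, hv, hhb⟩ := exists_frame b hb hbn hbv hbu
  have d1 : dotInt (yU : GolayPt → ℤ) ((h • x0L : leechLattice) : GolayPt → ℤ) = 16 := by
    have := co0_dotInt h ⟨b, hb⟩ x0L
    rw [hhb] at this
    rw [this]; exact hbx
  have d2 : dotInt (yU : GolayPt → ℤ) ((h • y : leechLattice) : GolayPt → ℤ) = 0 := by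
    have := co0_dotInt h ⟨b, hb⟩ y
    rw [hhb] at this
    rw [this]; exact hby
  obtain ⟨j, hj, hj0, hxj⟩ := aF_of_dot (smul_mem_F0 hu hv (z := x0L)
    (aF_mem_F0 j0_ne_none j0_ne_zero)) d1
  obtain ⟨O, hO, h1, h2, hyO⟩ := twoF_of_dot (smul_mem_F0 hu hv hy.1) d2
  refine ⟨h, hu, hv, j, O, hj, hj0, hO, h1, h2, ?_, hxj, hyO⟩
  intro hjO
  have := co0_dotInt h x0L y
  rw [hxj, hyO, x0L_coe, hy.2, dotInt_aF_left, twoF_of_mem h1, twoF_of_mem hjO] at this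
  omega

theorem std_trans16 (y y' : leechLattice) (hy : (y : GolayPt → ℤ) ∈ G16)
    (hy' : (y' : GolayPt → ℤ) ∈ G16) :
    ∃ g : Co0, g • uL = uL ∧ g • leechU = leechU ∧ g • x0L = x0L ∧ g • y = y' := by
  classical
  obtain ⟨h, hu, hv, j, k, hj, hj0, hk, hk0, hjk, hxj, hyk⟩ := normalize16 y hy
  obtain ⟨h', hu', hv', j', k', hj', hj0', hk', hk0', hjk', hxj', hyk'⟩ := normalize16 y' hy'
  have hinj1 : Function.Injective (![none, some 0, j, k] : Fin 4 → GolayPt) := by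
    intro a b hab
    fin_cases a <;> fin_cases b <;>
      simp_all [Ne.symm hj, Ne.symm hj0, Ne.symm hk, Ne.symm hk0, Ne.symm hjk]
  have hinj2 : Function.Injective (![none, some 0, j', k'] : Fin 4 → GolayPt) := by
    intro a b hab
    fin_cases a <;> fin_cases b <;>
      simp_all [Ne.symm hj', Ne.symm hj0', Ne.symm hk', Ne.symm hk0', Ne.symm hjk']
  obtain ⟨σ, hσM, hσ⟩ := exists_M24_map_emb (k := 4) (by norm_num) ⟨_, hinj1⟩ ⟨_, hinj2⟩
  have hσ0 : σ none = none := hσ 0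
  have hσ1 : σ (some 0) = some 0 := hσ 1
  have hσ2 : σ j = j' := hσ 2
  have hσ3 : σ k = k' := hσ 3
  set n := monoCo0 σ hσM ∅ empty_mem_supp with hn
  have n1 : n • uL = uL := mono_fix_uL σ hσM hσ0
  have n2 : n • leechU = leechU :=
    monoCo0_fix_U σ hσM ∅ empty_mem_supp hσ0 hσ1 (Finset.notMem_empty _) (Finset.notMem_empty _)
  have n3 : n • (h • x0L) = h' • x0L := by
    apply Subtype.ext
    rw [monoCo0_apply, hxj, hxj', mono_aF σ hσ0, hσ2]
  have n4 : n • (h • y) = h' • y' := by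
    apply Subtype.ext
    rw [monoCo0_apply, hyk, hyk', mono_aF σ hσ0, hσ3]
  refine ⟨h'⁻¹ * n * h, ?_, ?_, ?_, ?_⟩
  · rw [mul_smul, mul_smul, hu, n1, inv_smul_eq_iff, hu']
  · rw [mul_smul, mul_smul, hv, n2, inv_smul_eq_iff, hv']
  · rw [mul_smul, mul_smul, n3, inv_smul_smul]
  · rw [mul_smul, mul_smul, n4, inv_smul_smul]

theorem std_trans8 (y y' : leechLattice) (hy : (y : GolayPt → ℤ) ∈ G8)
    (hy' : (y' : GolayPt → ℤ) ∈ G8) :
    ∃ g : Co0, g • uL = uL ∧ g • leechU = leechU ∧ g • x0L = x0L ∧ g • y = y' := by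
  classical
  obtain ⟨h, hu, hv, j, O, hj, hj0, hO, h1, h2, hjO, hxj, hyO⟩ := normalize8 y hy
  obtain ⟨h', hu', hv', j', O', hj', hj0', hO', h1', h2', hjO', hxj', hyO'⟩ := normalize8 y' hy'
  obtain ⟨g1, hg1, a1, a2, a3, a4⟩ :=
    exists_M24_flag2_out hO h1 h2 (by decide : (none : GolayPt) ≠ some 0) hjO
  obtain ⟨g2, hg2, b1, b2, b3, b4⟩ :=
    exists_M24_flag2_out hO' h1' h2' (by decide : (none : GolayPt) ≠ some 0) hjO'
  have hσM : g2⁻¹ * g1 ∈ M24 := M24.mul_mem (M24.inv_mem hg2) hg1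
  have hσ0 : (g2⁻¹ * g1) none = none := by
    rw [Equiv.Perm.mul_apply, a1, Equiv.Perm.inv_eq_iff_eq, b1]
  have hσ1 : (g2⁻¹ * g1) (some 0) = some 0 := by
    rw [Equiv.Perm.mul_apply, a2, Equiv.Perm.inv_eq_iff_eq, b2]
  have hσ2 : (g2⁻¹ * g1) j = j' := by
    rw [Equiv.Perm.mul_apply, a3, Equiv.Perm.inv_eq_iff_eq, b3]
  have hσ3 : (g2⁻¹ * g1) • O = O' := by
    rw [mul_smul, a4, inv_smul_eq_iff, b4]
  set n := monoCo0 (g2⁻¹ * g1) hσM ∅ empty_mem_supp with hn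
  have n1 : n • uL = uL := mono_fix_uL _ hσM hσ0
  have n2 : n • leechU = leechU :=
    monoCo0_fix_U _ hσM ∅ empty_mem_supp hσ0 hσ1 (Finset.notMem_empty _) (Finset.notMem_empty _)
  have n3 : n • (h • x0L) = h' • x0L := by
    apply Subtype.ext
    rw [monoCo0_apply, hxj, hxj', mono_aF _ hσ0, hσ2]
  have n4 : n • (h • y) = h' • y' := by
    apply Subtype.ext
    rw [monoCo0_apply, hyO, hyO', mono_twoF, hσ3]
  refine ⟨h'⁻¹ * n * h, ?_, ?_, ?_, ?_⟩
  · rw [mul_smul, mul_smul, hu, n1, inv_smul_eq_iff, hu']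
  · rw [mul_smul, mul_smul, hv, n2, inv_smul_eq_iff, hv']
  · rw [mul_smul, mul_smul, n3, inv_smul_smul]
  · rw [mul_smul, mul_smul, n4, inv_smul_smul]

/-- the possible inner products with the base point -/
theorem dot_cases {z : GolayPt → ℤ} (hz : z ∈ F0) (hne : z ≠ aF j0) :
    dotInt (aF j0) z = 8 ∨ dotInt (aF j0) z = 16 := by
  obtain ⟨hx, hn, hu, hv⟩ := hz
  rcases p0_cases hx hn hu hv with ⟨j, hj, hj0, rfl⟩ | ⟨O, hO, h1, h2, rfl⟩ | ⟨O, hO, h1, h2, rfl⟩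
  · rw [dot_aF_aF hj, if_neg (fun hc => hne (by rw [hc]))]
    exact Or.inr rfl
  · rw [dot_aF_twoF h1]
    split_ifs
    · exact Or.inr rfl
    · exact Or.inl rfl
  · rw [dot_aF_oddF h1]
    split_ifs
    · exact Or.inl rfl
    · exact Or.inr rfl

end Cfsg.Agent.Lib.Helper27
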