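import Mathlib
import Cfsg.Agent.Lib.Helper27.McL2Count
import Cfsg.Agent.Lib.Helper27.McLRankFinal
import Cfsg.Agent.Lib.Helper27.M24Flag3

/-!
# Transitivity statements for the configuration of 2025 points (standard frame)
-/

set_option autoImplicit false

namespace Cfsg.Agent.Lib.Helper27
open Cfsg Cfsg.Agent.Lib.Helper7 Cfsg.Agent.Lib.Helper8 Cfsg.Spor
open scoped Pointwise

/-! ### rigidity of `w` -/

theorem rigid_w {w : GolayPt → ℤ} (hw : w ∈ leechLattice) (hn : sqNorm w = 32)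
    (h1 : dotInt vecU w = -8) (h2 : dotInt (yU : GolayPt → ℤ) w = 16) :
    ∃ C ∈ supports (golayCode : Set (GolayPt → ZMod 2)), none ∉ C ∧ some 0 ∉ C ∧
      signedPerm 1 C w = wF := by
  classical
  rw [dotInt_vecU] at h1
  rw [dotInt_yU] at h2
  have h5 : w none = 1 := by omega
  have h01 : w (some 0) = -3 := by omega
  obtain ⟨m, hm, -, h3⟩ := (mem_leechLattice_iff _).1 hw
  have hodd : ∀ i, w i % 2 = 1 := by
    intro i
    have a1 := hm none
    have a2 := hm i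
    simp only [Int.ModEq] at a1 a2
    rw [h5] at a1
    omega
  have hge : ∀ j, 1 ≤ w j ^ 2 := by
    intro j
    rcases Cfsg.Agent.S0400.odd_sq_cases (w j) (hodd j) with h | h | h <;> omega
  have hsum : ∑ j, w j ^ 2 = 32 := hn
  have e1 : w (some 0) ^ 2 + ∑ j ∈ Finset.univ.erase (some 0 : GolayPt), w j ^ 2
      = ∑ j, w j ^ 2 :=
    Finset.add_sum_erase Finset.univ (fun j => w j ^ 2) (Finset.mem_univ (some 0))
  have c1 : (Finset.univ.erase (some 0 : GolayPt)).card = 23 := by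
    rw [Finset.card_erase_of_mem (Finset.mem_univ _), card_univ_golayPt]
  have hz : ∑ j ∈ Finset.univ.erase (some 0 : GolayPt), (w j ^ 2 - 1) = 0 := by
    rw [Finset.sum_sub_distrib, Finset.sum_const, c1]
    simp only [nsmul_eq_mul, mul_one]
    rw [h01] at e1
    push_cast
    omega
  rw [Finset.sum_eq_zero_iff_of_nonneg (fun j _ => by have := hge j; omega)] at hz
  have hone : ∀ j, j ≠ some 0 → w j = 1 ∨ w j = -1 := by
    intro j hj
    have := hz j (Finset.mem_erase.2 ⟨hj, Finset.mem_univ j⟩)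
    exact val_of_sq_one'' (by omega)
  obtain ⟨C, hCdef⟩ : ∃ C : Finset GolayPt, C = Finset.univ.filter fun i => w i ≡ 3 [ZMOD 4] :=
    ⟨_, rfl⟩
  have hCs : C ∈ supports (golayCode : Set (GolayPt → ZMod 2)) := by rw [hCdef]; exact h3 3
  have hmemC : ∀ i, i ∈ C ↔ w i % 4 = 3 := by
    intro i
    rw [hCdef, Finset.mem_filter]
    simp [Int.ModEq]
  refine ⟨C, hCs, ?_, ?_, ?_⟩
  · rw [hmemC, h5]; decide
  · rw [hmemC, h01]; decide
  · funext i
    show (if i ∈ C then -w i else w i) = wF i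
    unfold wF vOddAt
    by_cases hi : i = some 0
    · subst hi
      rw [if_neg (by rw [hmemC, h01]; decide), if_pos rfl, h01]
    · rw [if_neg hi]
      rcases hone i hi with h | h
      · rw [if_neg (by rw [hmemC, h]; decide), h]
      · rw [if_pos (by rw [hmemC, h]; decide), h]; rfl

theorem yU_coe_eq : ((yU : leechLattice) : GolayPt → ℤ)
    = Pi.single none 4 + Pi.single (some 0) (-4) := rfl

/-- every triple of the configuration can be moved to the standard triple -/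
theorem exists_to_std2 (v w x : leechLattice) (hv : sqNorm (v : GolayPt → ℤ) = 32)
    (hw : sqNorm (w : GolayPt → ℤ) = 32)
    (hvw : dotInt (v : GolayPt → ℤ) (w : GolayPt → ℤ) = -8)
    (hx : sqNorm (x : GolayPt → ℤ) = 32)
    (hvx : dotInt (v : GolayPt → ℤ) (x : GolayPt → ℤ) = 0)
    (hwx : dotInt (w : GolayPt → ℤ) (x : GolayPt → ℤ) = 16) :
    ∃ g : Co0, g • v = leechU ∧ g • w = wL ∧ g • x = yU := by
  obtain ⟨g, hgv, hgx⟩ := orth_pair_trans v x leechU yU hv hx sqNorm_vecU sqNorm_yU hvx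
    dotInt_vecU_yU
  have k1 : dotInt vecU ((g • w : leechLattice) : GolayPt → ℤ) = -8 := by
    have := co0_dotInt g v w
    rw [hgv, leechU_coe] at this
    rw [this]; exact hvw
  have k2 : dotInt (yU : GolayPt → ℤ) ((g • w : leechLattice) : GolayPt → ℤ) = 16 := by
    have := co0_dotInt g x w
    rw [hgx] at this
    rw [this, dotInt_comm]; exact hwx
  obtain ⟨C, hC, hCn, hC0, hCw⟩ := rigid_w (g • w).2 (by rw [co0_sqNorm]; exact hw) k1 k2
  refine ⟨monoCo0 1 M24.one_mem C hC * g, ?_, ?_, ?_⟩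
  · rw [mul_smul, hgv]
    exact monoCo0_fix_U 1 M24.one_mem C hC rfl rfl hCn hC0
  · rw [mul_smul]
    apply Subtype.ext
    rw [monoCo0_apply]
    exact hCw
  · rw [mul_smul, hgx]
    exact monoCo0_fix_yU 1 M24.one_mem C hC rfl rfl hCn hC0

/-- every pair `(v, w)` of minimal vectors with inner product `-8` can be moved to the standard
pair -/
theorem exists_to_std2_pair (v w : leechLattice) (hv : sqNorm (v : GolayPt → ℤ) = 32)
    (hw : sqNorm (w : GolayPt → ℤ) = 32)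
    (hvw : dotInt (v : GolayPt → ℤ) (w : GolayPt → ℤ) = -8) :
    ∃ g : Co0, g • v = leechU ∧ g • w = wL := by
  obtain ⟨g0, hg0⟩ := Cfsg.Agent.S0400.result v leechU hv sqNorm_vecU
  have e1 : dotInt vecU ((g0 • w : leechLattice) : GolayPt → ℤ) = -8 := by
    have := co0_dotInt g0 v w
    rw [hg0, leechU_coe] at this
    rw [this]; exact hvw
  obtain ⟨h, h1, h2⟩ := urel_of_dot8 (g0 • w) wL (by rw [co0_sqNorm]; exact hw) sqNorm_wF e1
    dotInt_vecU_wF
  exact ⟨h * g0, by rw [mul_smul, hg0, h1], by rw [mul_smul, h2]⟩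

/-! ### monomial elements -/

theorem mono_fix_wL (σ : Equiv.Perm GolayPt) (hσM : σ ∈ M24) (hσ0 : σ (some 0) = some 0) :
    monoCo0 σ hσM ∅ empty_mem_supp • wL = wL := by
  apply Subtype.ext
  rw [monoCo0_apply, wL_coe]
  funext i
  show (if i ∈ (∅ : Finset GolayPt) then -wF (σ.symm i) else wF (σ.symm i)) = wF i
  rw [if_neg (Finset.notMem_empty i)]
  unfold wF vOddAt
  by_cases hi : i = some 0
  · subst hi
    rw [if_pos rfl, if_pos]
    rw [Equiv.symm_apply_eq, hσ0]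
  · rw [if_neg hi, if_neg]
    intro hc
    rw [Equiv.symm_apply_eq, hσ0] at hc
    exact hi hc

theorem signedPerm_sub (σ : Equiv.Perm GolayPt) (c : Finset GolayPt) (x y : GolayPt → ℤ) :
    signedPerm σ c (x - y) = signedPerm σ c x - signedPerm σ c y := by
  funext k
  simp only [signedPerm, Pi.sub_apply]
  split_ifs <;> ring

theorem mono_mixF (σ : Equiv.Perm GolayPt) (hσ0 : σ (some 0) = some 0) (O : Finset GolayPt)
    (p : GolayPt) : signedPerm σ ∅ (mixF O p) = mixF (σ • O) (σ p) := by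
  unfold mixF pairF
  rw [signedPerm_sub, mono_twoF, signedPerm_add, signedPerm_single, signedPerm_single, hσ0,
    if_neg (Finset.notMem_empty _), if_neg (Finset.notMem_empty _)]

theorem mono_oddP (σ : Equiv.Perm GolayPt) (C : Finset GolayPt) (p : GolayPt) :
    signedPerm σ ∅ (oddP C p) = oddP (σ • C) (σ p) := by
  funext i
  show (if i ∈ (∅ : Finset GolayPt) then -oddP C p (σ.symm i) else oddP C p (σ.symm i)) = _
  rw [if_neg (Finset.notMem_empty i)]
  unfold oddP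
  have h1 : σ.symm i ∈ C ↔ i ∈ σ • C := by
    rw [← Finset.inv_smul_mem_iff]
    rfl
  have h2 : σ.symm i = p ↔ i = σ p := by
    rw [Equiv.symm_apply_eq]
  by_cases a : σ.symm i ∈ C <;> by_cases b : σ.symm i = p
  · rw [if_pos a, if_pos b, if_pos (h1.1 a), if_pos (h2.1 b)]
  · rw [if_pos a, if_neg b, if_pos (h1.1 a), if_neg (fun h => b (h2.2 h))]
  · rw [if_neg a, if_pos b, if_neg (fun h => a (h1.2 h)), if_pos (h2.1 b)]
  · rw [if_neg a, if_neg b, if_neg (fun h => a (h1.2 h)), if_neg (fun h => b (h2.2 h))]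

/-- the monomial element attached to a permutation fixing `∞` and `0` fixes the standard triple -/
theorem mono_fix_std (σ : Equiv.Perm GolayPt) (hσM : σ ∈ M24) (h0 : σ none = none)
    (h1 : σ (some 0) = some 0) :
    monoCo0 σ hσM ∅ empty_mem_supp • leechU = leechU ∧
      monoCo0 σ hσM ∅ empty_mem_supp • wL = wL ∧ monoCo0 σ hσM ∅ empty_mem_supp • yU = yU :=
  ⟨monoCo0_fix_U σ hσM ∅ empty_mem_supp h0 h1 (Finset.notMem_empty _) (Finset.notMem_empty _),
    mono_fix_wL σ hσM h1,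
    monoCo0_fix_yU σ hσM ∅ empty_mem_supp h0 h1 (Finset.notMem_empty _) (Finset.notMem_empty _)⟩

/-! ### transitivity on the level sets -/

theorem std2_trans0 (y y' : leechLattice) (hy : (y : GolayPt → ℤ) ∈ H2 0)
    (hy' : (y' : GolayPt → ℤ) ∈ H2 0) :
    ∃ g : Co0, g • leechU = leechU ∧ g • wL = wL ∧ g • yU = yU ∧ g • y = y' := by
  rw [H2_0_eq] at hy hy'
  obtain ⟨O, ⟨hO, h1, h2⟩, hyO⟩ := hy
  obtain ⟨O', ⟨hO', h1', h2'⟩, hyO'⟩ := hy'
  obtain ⟨g1, hg1, a1, a2, a3⟩ :=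
    exists_M24_octad_out2 hO h1 h2 (by decide : (none : GolayPt) ≠ some 0)
  obtain ⟨g2, hg2, b1, b2, b3⟩ :=
    exists_M24_octad_out2 hO' h1' h2' (by decide : (none : GolayPt) ≠ some 0)
  have hσM : g2⁻¹ * g1 ∈ M24 := M24.mul_mem (M24.inv_mem hg2) hg1
  have hσ0 : (g2⁻¹ * g1) none = none := by
    rw [Equiv.Perm.mul_apply, a1, Equiv.Perm.inv_eq_iff_eq, b1]
  have hσ1 : (g2⁻¹ * g1) (some 0) = some 0 := by
    rw [Equiv.Perm.mul_apply, a2, Equiv.Perm.inv_eq_iff_eq, b2]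
  have hσ3 : (g2⁻¹ * g1) • O = O' := by
    rw [mul_smul, a3, inv_smul_eq_iff, b3]
  obtain ⟨n1, n2, n3⟩ := mono_fix_std _ hσM hσ0 hσ1
  refine ⟨_, n1, n2, n3, ?_⟩
  apply Subtype.ext
  rw [monoCo0_apply, ← hyO, ← hyO', mono_twoF, hσ3]

theorem std2_trans16 (y y' : leechLattice) (hy : (y : GolayPt → ℤ) ∈ H2 16)
    (hy' : (y' : GolayPt → ℤ) ∈ H2 16) :
    ∃ g : Co0, g • leechU = leechU ∧ g • wL = wL ∧ g • yU = yU ∧ g • y = y' := by
  rw [H2_16_eq] at hy hy'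
  obtain ⟨⟨O, p⟩, hs, hyO⟩ := hy
  obtain ⟨⟨O', p'⟩, hs', hyO'⟩ := hy'
  rw [Finset.mem_coe, mem_TB] at hs hs'
  obtain ⟨hO, h1, h2, hp, hpn, hp0⟩ := hs
  obtain ⟨hO', h1', h2', hp', hpn', hp0'⟩ := hs'
  simp only [mixS] at hyO hyO' hp hp' hpn hpn' hp0 hp0' hO hO' h1 h1' h2 h2'
  obtain ⟨σ, hσM, hσ0, hσ1, hσ2, hσ3⟩ := exists_M24_flag3 hO hO'
    (by decide : (none : GolayPt) ≠ some 0) (Ne.symm hpn) (Ne.symm hp0)
    (by decide : (none : GolayPt) ≠ some 0) (Ne.symm hpn') (Ne.symm hp0') h1 h2 hp h1' h2' hp'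
  obtain ⟨n1, n2, n3⟩ := mono_fix_std σ hσM hσ0 hσ1
  refine ⟨_, n1, n2, n3, ?_⟩
  apply Subtype.ext
  rw [monoCo0_apply, ← hyO, ← hyO', mono_mixF σ hσ1, hσ2, hσ3]

theorem std2_trans8 (y y' : leechLattice) (hy : (y : GolayPt → ℤ) ∈ H2 8)
    (hy' : (y' : GolayPt → ℤ) ∈ H2 8) :
    ∃ g : Co0, g • leechU = leechU ∧ g • wL = wL ∧ g • yU = yU ∧ g • y = y' := by
  rw [H2_8_eq] at hy hy'
  obtain ⟨⟨C, p⟩, hs, hyC⟩ := hy
  obtain ⟨⟨C', p'⟩, hs', hyC'⟩ := hy'
  rw [Finset.mem_coe, mem_TC] at hs hs'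
  obtain ⟨hC, h1, h2, hp, hp0⟩ := hs
  obtain ⟨hC', h1', h2', hp', hp0'⟩ := hs'
  simp only [oddS] at hyC hyC' hp hp' hp0 hp0' hC hC' h1 h1' h2 h2'
  obtain ⟨g1, hg1, a1, a2, a3, a4⟩ := exists_M24_flag2_out hC h2 hp (Ne.symm hp0) h1
  obtain ⟨g2, hg2, b1, b2, b3, b4⟩ := exists_M24_flag2_out hC' h2' hp' (Ne.symm hp0') h1'
  have hσM : g2⁻¹ * g1 ∈ M24 := M24.mul_mem (M24.inv_mem hg2) hg1
  have hσ0 : (g2⁻¹ * g1) none = none := by
    rw [Equiv.Perm.mul_apply, a3, Equiv.Perm.inv_eq_iff_eq, b3]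
  have hσ1 : (g2⁻¹ * g1) (some 0) = some 0 := by
    rw [Equiv.Perm.mul_apply, a1, Equiv.Perm.inv_eq_iff_eq, b1]
  have hσ2 : (g2⁻¹ * g1) p = p' := by
    rw [Equiv.Perm.mul_apply, a2, Equiv.Perm.inv_eq_iff_eq, b2]
  have hσ3 : (g2⁻¹ * g1) • C = C' := by
    rw [mul_smul, a4, inv_smul_eq_iff, b4]
  obtain ⟨n1, n2, n3⟩ := mono_fix_std _ hσM hσ0 hσ1
  refine ⟨_, n1, n2, n3, ?_⟩
  apply Subtype.ext
  rw [monoCo0_apply, ← hyC, ← hyC', mono_oddP, hσ2, hσ3]

end Cfsg.Agent.Lib.Helper27
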