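import Mathlib
import Cfsg.Agent.Lib.Helper27.McL2Trans

/-!
# The 11178 minimal vectors at inner product `16` with `uF = (5, 1^23)`: shapes
-/

set_option autoImplicit false

namespace Cfsg.Agent.Lib.Helper27
open Cfsg Cfsg.Agent.Lib.Helper7 Cfsg.Agent.Lib.Helper8 Cfsg.Spor
open scoped Pointwise

/-- the minimal vectors at inner product `16` with `uF` -/
def YF : Set (GolayPt → ℤ) := {y | y ∈ leechLattice ∧ sqNorm y = 32 ∧ dotInt uF y = 16}

/-- `(4, 0, …, -4, …, 0)` -/
def aM (k : GolayPt) : GolayPt → ℤ := Pi.single none 4 + Pi.single k (-4)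

/-- `2` on `O ∖ N`, `-2` on `N`, `0` elsewhere -/
def twoN (O N : Finset GolayPt) : GolayPt → ℤ :=
  fun i => if i ∈ O then (if i ∈ N then -2 else 2) else 0

/-- the five shapes of the vectors of `YF` -/
theorem yf_cases {y : GolayPt → ℤ} (hy : y ∈ YF) :
    (∃ k, k ≠ none ∧ y = aM k) ∨
    (∃ O ∈ octads, none ∉ O ∧ y = twoF O) ∨
    (∃ O ∈ octads, none ∈ O ∧ ∃ N : Finset GolayPt, N ⊆ O ∧ none ∉ N ∧ N.card = 2 ∧
      y = twoN O N) ∨
    (∃ C ∈ octads, none ∉ C ∧ ∃ p ∈ C, y = oddP C p) ∨
    (∃ D ∈ dodecads, none ∈ D ∧ y = oddP D none) := by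
  classical
  obtain ⟨hx, hn, hu⟩ := hy
  have hu0 := hu
  rw [dotInt_uF] at hu
  rcases min_shape hx hn with ⟨j, k, hjk, hj, hk, hother⟩ | ⟨hvals, hoct⟩ | ⟨hodd, j, hj9, hj1⟩
  · -- shape (±4, ±4, 0^22)
    left
    have hval : ∀ i, y i = 0 ∨ y i = 4 ∨ y i = -4 := by
      intro i
      by_cases hij : i = j
      · rw [hij]; exact Or.inr hj
      · by_cases hik : i = k
        · rw [hik]; exact Or.inr hk
        · exact Or.inl (hother i hij hik)
    have hsum : ∑ i, y i = y j + y k :=
      Finset.sum_eq_add j k hjk (fun c _ hc => hother c hc.1 hc.2)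
        (fun h => absurd (Finset.mem_univ j) h) (fun h => absurd (Finset.mem_univ k) h)
    have h4 : y none = 4 := by
      rcases hval none with h | h | h <;> rcases hj with h1 | h1 <;> rcases hk with h2 | h2 <;>
        omega
    obtain ⟨j', hj', s, hs, hxs⟩ := half_of_e8 hx hn h4
    rw [dotInt_comm, hxs, dotInt_pair_left] at hu0
    have e1 : uF none = 5 := rfl
    have e2 : uF j' = 1 := by unfold uF; rw [if_neg hj']
    rw [e1, e2] at hu0
    have hs4 : s = -4 := by omega
    exact ⟨j', hj', by rw [hxs, hs4]; rfl⟩
  · -- shape (±2^8, 0^16)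
    right
    obtain ⟨S, hSdef⟩ : ∃ S : Finset GolayPt, S = Finset.univ.filter fun i => y i % 4 = 2 :=
      ⟨_, rfl⟩
    rw [← hSdef] at hoct
    have hmemS : ∀ i, i ∈ S ↔ y i % 4 = 2 := by
      intro i; rw [hSdef, Finset.mem_filter]; simp
    have hoff : ∀ i, i ∉ S → y i = 0 := by
      intro i hi
      rw [hmemS] at hi
      rcases hvals i with h | h | h
      · exact h
      · rw [h] at hi; exact absurd rfl hi
      · rw [h] at hi; exact absurd rfl hi
    have hon : ∀ i, i ∈ S → y i = 2 ∨ y i = -2 := by
      intro i hi
      rw [hmemS] at hi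
      rcases hvals i with h | h | h
      · rw [h] at hi; omega
      · exact Or.inl h
      · exact Or.inr h
    have hsumS : ∑ i, y i = ∑ i ∈ S, y i := by
      symm
      apply Finset.sum_subset (Finset.subset_univ S)
      intro i _ hi
      exact hoff i hi
    have hle : ∀ i, 0 ≤ 2 - y i := by
      intro i; rcases hvals i with h | h | h <;> omega
    have hdef : ∑ i ∈ S, (2 - y i) = 16 - ∑ i, y i := by
      rw [Finset.sum_sub_distrib, Finset.sum_const, hoct.2, ← hsumS]
      simp only [nsmul_eq_mul]
      push_cast
      ring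
    have hnn : 0 ≤ ∑ i ∈ S, (2 - y i) := Finset.sum_nonneg fun i _ => hle i
    rcases hvals none with hn0 | hn2 | hnm
    · -- `y ∞ = 0`
      left
      have hz : ∑ i ∈ S, (2 - y i) = 0 := by rw [hdef]; omega
      rw [Finset.sum_eq_zero_iff_of_nonneg (fun i _ => hle i)] at hz
      refine ⟨S, hoct, ?_, ?_⟩
      · rw [hmemS, hn0]; decide
      · funext i
        unfold twoF
        by_cases hi : i ∈ S
        · rw [if_pos hi]
          have := hz i hi
          omega
        · rw [if_neg hi]
          exact hoff i hi
    · -- `y ∞ = 2`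
      right; left
      have h1S : none ∈ S := by rw [hmemS, hn2]; rfl
      have h8 : ∑ i ∈ S, (2 - y i) = 8 := by rw [hdef]; omega
      obtain ⟨N, hNdef⟩ : ∃ N : Finset GolayPt, N = S.filter fun i => y i = -2 := ⟨_, rfl⟩
      have hterm : ∀ i ∈ S, (2 - y i) = if y i = -2 then 4 else 0 := by
        intro i hi
        rcases hon i hi with h | h
        · rw [if_neg (by omega), h]; norm_num
        · rw [if_pos h, h]; norm_num
      rw [Finset.sum_congr rfl hterm, ← Finset.sum_filter, ← hNdef, Finset.sum_const] at h8
      simp only [nsmul_eq_mul] at h8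
      have hN2 : N.card = 2 := by
        have : (N.card : ℤ) = 2 := by linarith
        exact_mod_cast this
      have hmemN : ∀ i, i ∈ N ↔ i ∈ S ∧ y i = -2 := by
        intro i; rw [hNdef, Finset.mem_filter]
      refine ⟨S, hoct, h1S, N, ?_, ?_, hN2, ?_⟩
      · intro i hi
        exact ((hmemN i).1 hi).1
      · intro hc
        have := ((hmemN none).1 hc).2
        omega
      · funext i
        unfold twoN
        by_cases hi : i ∈ S
        · rw [if_pos hi]
          by_cases hiN : i ∈ N
          · rw [if_pos hiN]
            exact ((hmemN i).1 hiN).2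
          · rw [if_neg hiN]
            rcases hon i hi with h | h
            · exact h
            · exact absurd ((hmemN i).2 ⟨hi, h⟩) hiN
        · rw [if_neg hi]
          exact hoff i hi
    · -- `y ∞ = -2`
      exfalso
      rw [hdef] at hnn
      omega
  · -- odd shape
    right; right; right
    obtain ⟨m, -, -, h3⟩ := (mem_leechLattice_iff _).1 hx
    obtain ⟨C, hCdef⟩ : ∃ C : Finset GolayPt, C = Finset.univ.filter fun i => y i ≡ 3 [ZMOD 4] :=
      ⟨_, rfl⟩
    have hCs : C ∈ supports (golayCode : Set (GolayPt → ZMod 2)) := by rw [hCdef]; exact h3 3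
    have hmemC : ∀ i, i ∈ C ↔ y i % 4 = 3 := by
      intro i
      rw [hCdef, Finset.mem_filter]
      simp [Int.ModEq]
    have hone : ∀ i, i ≠ j → y i = 1 ∨ y i = -1 := fun i hi => val_of_sq_one'' (hj1 i hi)
    have keyP : y j = 3 →
        (∀ i, y i = (if i ∈ C then -1 else 1) + (if i = j then 4 else 0)) := by
      intro hp i
      by_cases hip : i = j
      · subst hip
        rw [if_pos ((hmemC i).2 (by rw [hp]; rfl)), if_pos rfl, hp]; rfl
      · rw [if_neg hip]
        rcases hone i hip with h | h
        · rw [if_neg (fun hc => by have := (hmemC i).1 hc; rw [h] at this; omega), h]; rfl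
        · rw [if_pos ((hmemC i).2 (by rw [h]; rfl)), h]; rfl
    have keyM : y j = -3 →
        (∀ i, y i = (if i ∈ C then -1 else 1) - (if i = j then 4 else 0)) := by
      intro hp i
      by_cases hip : i = j
      · subst hip
        rw [if_neg (fun hc => by have := (hmemC i).1 hc; rw [hp] at this; omega), if_pos rfl, hp]
        rfl
      · rw [if_neg hip]
        rcases hone i hip with h | h
        · rw [if_neg (fun hc => by have := (hmemC i).1 hc; rw [h] at this; omega), h]; rfl
        · rw [if_pos ((hmemC i).2 (by rw [h]; rfl)), h]; rfl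
    have hsumP : y j = 3 → ∑ i, y i = 28 - 2 * C.card := by
      intro hp
      rw [Finset.sum_congr rfl fun i _ => keyP hp i, Finset.sum_add_distrib, sum_sign,
        Finset.sum_ite_eq']
      simp
      ring
    have hsumM : y j = -3 → ∑ i, y i = 20 - 2 * C.card := by
      intro hp
      rw [Finset.sum_congr rfl fun i _ => keyM hp i, Finset.sum_sub_distrib, sum_sign,
        Finset.sum_ite_eq']
      simp
      ring
    have hno4 : C.card ≠ 4 := by
      intro hcard
      obtain ⟨w, hw', hwC⟩ := hCs
      have := golay_weight hw'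
      rw [← card_support₂_eq_hammingNorm, hwC, hcard] at this
      omega
    by_cases hnj : none = j
    · -- the coordinate `±3` is at `∞`
      right
      rcases val_of_sq_nine'' hj9 with hp | hp
      · have hs := hsumP hp
        rw [← hnj] at hp
        have hcard : C.card = 12 := by omega
        refine ⟨C, ⟨hCs, hcard⟩, (hmemC _).2 (by rw [hp]; rfl), ?_⟩
        funext i
        rw [hnj]
        exact keyP (hnj ▸ hp) i
      · exfalso
        have hs := hsumM hp
        rw [← hnj] at hp
        omega
    · -- the coordinate `±3` is elsewhere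
      left
      rcases hone none hnj with hn1 | hn1
      · rcases val_of_sq_nine'' hj9 with hp | hp
        · have hs := hsumP hp
          have hcard : C.card = 8 := by omega
          refine ⟨C, ⟨hCs, hcard⟩, ?_, j, (hmemC _).2 (by rw [hp]; rfl), ?_⟩
          · intro hc
            have := (hmemC none).1 hc
            rw [hn1] at this
            omega
          · funext i
            exact keyP hp i
        · exfalso
          have hs := hsumM hp
          exact hno4 (by omega)
      · exfalso
        rcases val_of_sq_nine'' hj9 with hp | hp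
        · have hs := hsumP hp
          exact hno4 (by omega)
        · have hs := hsumM hp
          have hcard : C.card = 0 := by omega
          have : none ∈ C := (hmemC none).2 (by rw [hn1]; rfl)
          rw [Finset.card_eq_zero] at hcard
          rw [hcard] at this
          exact absurd this (Finset.notMem_empty _)

end Cfsg.Agent.Lib.Helper27
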