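import Mathlib
import Cfsg.Agent.Lib.Helper27.Co3Shape

/-!
# The 11178 vectors by their inner product with `yU = (4, -4, 0^22)`
-/

set_option autoImplicit false

namespace Cfsg.Agent.Lib.Helper27
open Cfsg Cfsg.Agent.Lib.Helper7 Cfsg.Agent.Lib.Helper8 Cfsg.Spor
open scoped Pointwise

/-- the level sets of the inner product with `yU` -/
def J (d : ℤ) : Set (GolayPt → ℤ) := {y | y ∈ YF ∧ dotInt (yU : GolayPt → ℤ) y = d}

theorem aM_none {k : GolayPt} (hk : k ≠ none) : aM k none = 4 := by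
  unfold aM
  rw [Pi.add_apply, Pi.single_eq_same, Pi.single_eq_of_ne (Ne.symm hk)]
  norm_num

theorem aM_apply_of_ne {k i : GolayPt} (hi : i ≠ none) (hik : i ≠ k) : aM k i = 0 := by
  unfold aM
  rw [Pi.add_apply, Pi.single_eq_of_ne hi, Pi.single_eq_of_ne hik]
  norm_num

theorem aM_zero_eq : aM (some 0) = (yU : GolayPt → ℤ) := rfl

theorem twoN_of_mem {O N : Finset GolayPt} {i : GolayPt} (h : i ∈ O) (h' : i ∉ N) :
    twoN O N i = 2 := by
  unfold twoN; rw [if_pos h, if_neg h']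

theorem twoN_of_memN {O N : Finset GolayPt} {i : GolayPt} (h : i ∈ O) (h' : i ∈ N) :
    twoN O N i = -2 := by
  unfold twoN; rw [if_pos h, if_pos h']

theorem twoN_of_not_mem {O N : Finset GolayPt} {i : GolayPt} (h : i ∉ O) :
    twoN O N i = 0 := by
  unfold twoN; rw [if_neg h]

theorem twoF_of_not_mem {O : Finset GolayPt} {i : GolayPt} (h : i ∉ O) : twoF O i = 0 := by
  unfold twoF; rw [if_neg h]

/-- the dodecads through `∞` and `0` -/
def DD16 : Set (Finset GolayPt) := {D | D ∈ dodecads ∧ (none ∈ D ∧ some 0 ∈ D)}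

/-- the dodecads through `∞` avoiding `0` -/
def DD8 : Set (Finset GolayPt) := {D | D ∈ dodecads ∧ (none ∈ D ∧ some 0 ∉ D)}

/-- the vectors of `YF` not orthogonal to `vecU`, with their inner product with `yU` -/
theorem yf_levels {y : GolayPt → ℤ} (hy : y ∈ YF) :
    dotInt vecU y = 0 ∨
    (dotInt (yU : GolayPt → ℤ) y = 16 ∧ ∃ k ∈ JA, y = aM k) ∨
    (dotInt (yU : GolayPt → ℤ) y = -8 ∧ dotInt vecU y = 8 ∧ ∃ O ∈ OC2, y = twoF O) ∨
    (dotInt (yU : GolayPt → ℤ) y = 0 ∧ ∃ O ∈ OB, ∃ N : Finset GolayPt,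
      N ⊆ (O.erase none).erase (some 0) ∧ N.card = 2 ∧ y = twoN O N) ∨
    (dotInt (yU : GolayPt → ℤ) y = 8 ∧ ∃ O ∈ OC, ∃ N : Finset GolayPt,
      N ⊆ O.erase none ∧ N.card = 2 ∧ y = twoN O N) ∨
    (dotInt (yU : GolayPt → ℤ) y = -8 ∧ ∃ C ∈ OC2, y = oddP C (some 0)) ∨
    (dotInt (yU : GolayPt → ℤ) y = 0 ∧ ∃ C ∈ OA2, ∃ p ∈ C, y = oddP C p) ∨
    (dotInt (yU : GolayPt → ℤ) y = 16 ∧ ∃ D ∈ DD16, y = oddP D none) ∨
    (dotInt (yU : GolayPt → ℤ) y = 8 ∧ ∃ D ∈ DD8, y = oddP D none) := by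
  have h0n : (some 0 : GolayPt) ≠ none := by decide
  rw [dotInt_yU, dotInt_vecU]
  rcases yf_cases hy with ⟨k, hk, rfl⟩ | ⟨O, hO, h1, rfl⟩ | ⟨O, hO, h1, N, hNO, hN1, hN2, rfl⟩ |
    ⟨C, hC, h1, p, hp, rfl⟩ | ⟨D, hD, h1, rfl⟩
  · -- `aM k`
    by_cases hk0 : k = some 0
    · left
      rw [hk0, aM_none h0n]
      show 4 * 4 + 4 * (yU : GolayPt → ℤ) (some 0) = 0
      rw [yU_apply, if_neg h0n, if_pos rfl]
      norm_num
    · right; left
      refine ⟨?_, k, ⟨hk, hk0⟩, rfl⟩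
      rw [aM_none hk, aM_apply_of_ne h0n (Ne.symm hk0)]
      norm_num
  · -- `twoF O`, `∞ ∉ O`
    by_cases h2 : some 0 ∈ O
    · right; right; left
      rw [twoF_of_not_mem h1, twoF_of_mem h2]
      exact ⟨by norm_num, by norm_num, O, ⟨hO, h1, h2⟩, rfl⟩
    · left
      rw [twoF_of_not_mem h1, twoF_of_not_mem h2]
      norm_num
  · -- `twoN O N`, `∞ ∈ O ∖ N`
    by_cases h2 : some 0 ∈ O
    · by_cases h3 : some 0 ∈ N
      · left
        rw [twoN_of_mem h1 hN1, twoN_of_memN h2 h3]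
        norm_num
      · right; right; right; left
        rw [twoN_of_mem h1 hN1, twoN_of_mem h2 h3]
        refine ⟨by norm_num, O, ⟨hO, h1, h2⟩, N, ?_, hN2, rfl⟩
        intro i hi
        rw [Finset.mem_erase, Finset.mem_erase]
        exact ⟨fun h => h3 (h ▸ hi), fun h => hN1 (h ▸ hi), hNO hi⟩
    · right; right; right; right; left
      rw [twoN_of_mem h1 hN1, twoN_of_not_mem h2]
      refine ⟨by norm_num, O, ⟨hO, h1, h2⟩, N, ?_, hN2, rfl⟩
      intro i hi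
      rw [Finset.mem_erase]
      exact ⟨fun h => hN1 (h ▸ hi), hNO hi⟩
  · -- `oddP C p`, `∞ ∉ C`
    have hpn : none ≠ p := fun h => h1 (h ▸ hp)
    by_cases hp0 : p = some 0
    · right; right; right; right; right; left
      rw [oddP_of_not_mem hpn h1]
      subst hp0
      rw [oddP_self hp]
      exact ⟨by norm_num, C, ⟨hC, h1, hp⟩, rfl⟩
    · by_cases h2 : some 0 ∈ C
      · left
        rw [oddP_of_not_mem hpn h1, oddP_of_mem (Ne.symm hp0) h2]
        norm_num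
      · right; right; right; right; right; right; left
        rw [oddP_of_not_mem hpn h1, oddP_of_not_mem (Ne.symm hp0) h2]
        exact ⟨by norm_num, C, ⟨hC, h1, h2⟩, p, hp, rfl⟩
  · -- `oddP D ∞`
    by_cases h2 : some 0 ∈ D
    · right; right; right; right; right; right; right; left
      rw [oddP_self h1, oddP_of_mem h0n h2]
      exact ⟨by norm_num, D, ⟨hD, h1, h2⟩, rfl⟩
    · right; right; right; right; right; right; right; right
      rw [oddP_self h1, oddP_of_not_mem h0n h2]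
      exact ⟨by norm_num, D, ⟨hD, h1, h2⟩, rfl⟩

/-- the vectors of `YF` orthogonal to `vecU` are those of the configuration of 2025 vectors -/
theorem mem_F2_of {y : GolayPt → ℤ} (hy : y ∈ YF) (h : dotInt vecU y = 0) : y ∈ F2 := by
  obtain ⟨h1, h2, h3⟩ := hy
  refine ⟨h1, h2, h, ?_⟩
  rw [dotInt_wF]
  rw [dotInt_uF] at h3
  rw [dotInt_vecU] at h
  omega

theorem mem_YF_of {y : GolayPt → ℤ} (hy : y ∈ F2) : y ∈ YF := by
  obtain ⟨h1, h2, h3, h4⟩ := hy
  refine ⟨h1, h2, ?_⟩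
  rw [dotInt_uF]
  rw [dotInt_wF] at h4
  rw [dotInt_vecU] at h3
  omega

end Cfsg.Agent.Lib.Helper27
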