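import Mathlib
import Cfsg.Prelude.Def_SporadicCombinatorics
import Cfsg.Agent.Lib.Helper27.M24Cfg

/-!
# Orbit classes on an arbitrary literal list of masks; the dodecad versions

Generalizes `orbits_of_classes` / `cfg_orbits` / `ncard_octads_filter` from the list of octad masks
to any list of masks, and specializes to `dodecadMasks`.
-/

set_option autoImplicit false

namespace Cfsg.Agent.Lib.Helper27

open Cfsg Cfsg.Agent.Lib.Helper7
open scoped Pointwise

/-- every selected mask of `L` lies in the class of its invariant -/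
def coverOKL (L : List ℕ) (sel : ℕ → Bool) (inv : ℕ → ℕ) (classes : List OrbClass) : Bool :=
  L.all fun m => !sel m || classes.any fun c => inv m == c.1 && (reachedOf c.2.1 c.2.2).contains m

theorem orbits_of_classesL (L : List ℕ) (H : Subgroup (Equiv.Perm GolayPt))
    (gs : List (Equiv.Perm GolayPt))
    (ts : List (List ℕ)) (hM : List.Forall₂ Matches gs ts) (hH : ∀ g ∈ gs, g ∈ H)
    (sel : ℕ → Bool) (inv : ℕ → ℕ) (classes : List OrbClass)
    (hnd : (classes.map fun c => c.1).Nodup)
    (hc : classesOK ts classes = true) (hall : coverOKL L sel inv classes = true) :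
    ∀ m ∈ L, ∀ m' ∈ L, sel m = true → sel m' = true → inv m = inv m' →
      ∃ g ∈ H, g • setOf m = setOf m' := by
  intro m hm m' hm' hs hs' hinv
  have key : ∀ n ∈ L, sel n = true → ∃ c ∈ classes, inv n = c.1 ∧
      ∃ g ∈ H, g • setOf c.2.1 = setOf n := by
    intro n hn hsn
    have h1 := List.all_eq_true.1 hall n hn
    rw [hsn] at h1
    simp only [Bool.not_true, Bool.false_or, List.any_eq_true, Bool.and_eq_true, beq_iff_eq,
      List.contains_iff_mem] at h1
    obtain ⟨c, hcm, hic, hr⟩ := h1
    refine ⟨c, hcm, hic, ?_⟩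
    have h2 := List.all_eq_true.1 hc c hcm
    exact orbit_of_cert H gs ts hM hH c.2.1 c.2.2 h2 n hr
  obtain ⟨c, hcm, hic, hg⟩ := key m hm hs
  obtain ⟨c', hcm', hic', hg'⟩ := key m' hm' hs'
  have hcc : c = c' := by
    have h1 : c.1 = c'.1 := by rw [← hic, ← hic', hinv]
    exact List.inj_on_of_nodup_map hnd hcm hcm' h1
  subst hcc
  exact orbit_pair H hg hg'

/-- conjugacy of selected masks of `L` with equal invariant under a configuration stabilizer -/
theorem cfg_orbitsL (L : List ℕ) (prog : List (ℕ × ℕ)) (idxs : List ℕ) (T : List (List ℕ))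
    (hT : slpT prog idxs = T) (pis ms : List ℕ) (hpis : ∀ i ∈ pis, i < 24)
    (hfix : T.all (fixesOK pis ms) = true)
    (sel : ℕ → Bool) (inv : ℕ → ℕ) (classes : List OrbClass)
    (hnd : (classes.map fun c => c.1).Nodup)
    (hc : classesOK T classes = true) (hall : coverOKL L sel inv classes = true) :
    ∀ m ∈ L, ∀ m' ∈ L, sel m = true → sel m' = true → inv m = inv m' →
      ∃ g ∈ cfgStab (pis.map pt) (ms.map setOf), g • setOf m = setOf m' := by
  have hM := slp_match prog idxs
  rw [hT] at hM
  exact orbits_of_classesL L _ (slpP prog idxs) T hM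
    (slpP_mem_cfgStab prog idxs T hT pis ms hpis hfix) sel inv classes hnd hc hall

/-- the literal list of the 2576 dodecad masks -/
abbrev dodL : List ℕ := Cfsg.Agent.Lib.Helper26.dodecadMasks

theorem forall_dodecads7 {P : Finset GolayPt → Prop} (h : ∀ m ∈ dodL, P (setOf m)) :
    ∀ o ∈ dodecads, P o := by
  apply Cfsg.Agent.Lib.Helper26.forall_dodecads
  intro m hm
  rw [← setOf_eq_setOf26]
  exact h m hm

theorem setOf_mem_dodecads7 {m : ℕ} (h : m ∈ dodL) : setOf m ∈ dodecads := by
  rw [setOf_eq_setOf26]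
  exact Cfsg.Agent.Lib.Helper26.setOf_mem_dodecads h

theorem dodL_lt {m : ℕ} (h : m ∈ dodL) : m < 2 ^ 24 := Cfsg.Agent.Lib.Helper26.dodecadMasks_lt h

/-- counting dodecads with a property that is decided on masks by `q` -/
theorem ncard_dodecads_filter (P : Finset GolayPt → Prop) (q : ℕ → Bool)
    (h : ∀ m ∈ dodL, (P (setOf m) ↔ q m = true)) :
    {o : Finset GolayPt | o ∈ dodecads ∧ P o}.ncard = (dodL.filter q).length := by
  classical
  have hset : {o : Finset GolayPt | o ∈ dodecads ∧ P o} =
      ↑((dodL.filter q).toFinset.image Cfsg.Agent.Lib.Helper7.setOf) := by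
    ext o
    simp only [Set.mem_ofPred_eq, Finset.coe_image, Set.mem_image, Finset.mem_coe,
      List.mem_toFinset, List.mem_filter]
    constructor
    · rintro ⟨ho, hP⟩
      have hm := (Cfsg.Agent.Lib.Helper26.mem_dodecads_iff_mem_list o).1 ho
      have hs : setOf (Cfsg.Agent.Lib.Helper26.maskOfSet o) = o := by
        rw [setOf_eq_setOf26, Cfsg.Agent.Lib.Helper26.setOf_maskOfSet]
      refine ⟨_, ⟨hm, ?_⟩, hs⟩
      rw [← h _ hm, hs]
      exact hP
    · rintro ⟨m, ⟨hm, hq⟩, rfl⟩
      exact ⟨setOf_mem_dodecads7 hm, (h m hm).2 hq⟩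
  rw [hset, Set.ncard_coe_finset, Finset.card_image_of_injOn, List.toFinset_card_of_nodup]
  · exact Cfsg.Agent.Lib.Helper26.dodecadMasks_nodup.filter _
  · intro m hm n hn hmn
    rw [Finset.mem_coe, List.mem_toFinset, List.mem_filter] at hm hn
    exact setOf_injOn (dodL_lt hm.1) (dodL_lt hn.1) hmn

theorem smul_mem_dodecads_iff {g : Equiv.Perm GolayPt} (hg : g ∈ M24) {s : Finset GolayPt} :
    g • s ∈ dodecads ↔ s ∈ dodecads := by
  constructor
  · intro h
    have := smul_mem_dodecads (M24.inv_mem hg) h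
    rwa [inv_smul_smul] at this
  · exact smul_mem_dodecads hg

end Cfsg.Agent.Lib.Helper27
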