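import Mathlib
import Cfsg.Agent.Lib.Helper27.Co3Levels
import Cfsg.Agent.Lib.Helper8.Census3
import Cfsg.Agent.Lib.Helper27.M24ClassesD

/-!
# Counting the level sets: 1 + 352 + 1100 + 4125 + 5600 = 11178
-/

set_option autoImplicit false

namespace Cfsg.Agent.Lib.Helper27
open Cfsg Cfsg.Agent.Lib.Helper7 Cfsg.Agent.Lib.Helper8 Cfsg.Spor
open scoped Pointwise

/-! ### index sets -/

theorem ncard_DD16 : DD16.ncard = 616 := by
  have h := ncard_dodecads_filter (fun O => none ∈ O ∧ some 0 ∈ O)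
    (fun m => m.testBit 23 && m.testBit 0) (by
      intro m _
      rw [mem_setOf, mem_setOf, idx_none', idx_zero', Bool.and_eq_true])
  have h2 : (dodL.filter fun m => m.testBit 23 && m.testBit 0).length = 616 := by decide +kernel
  rw [h2] at h
  exact h

theorem ncard_DD8 : DD8.ncard = 672 := by
  have h := ncard_dodecads_filter (fun O => none ∈ O ∧ some 0 ∉ O)
    (fun m => m.testBit 23 && !m.testBit 0) (by
      intro m _
      rw [mem_setOf, mem_setOf, idx_none', idx_zero', Bool.and_eq_true]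
      simp)
  have h2 : (dodL.filter fun m => m.testBit 23 && !m.testBit 0).length = 672 := by decide +kernel
  rw [h2] at h
  exact h

/-- (octad avoiding `∞` and `0`, a point of it) -/
noncomputable def TP1 : Finset (Σ _ : Finset GolayPt, GolayPt) :=
  (Set.toFinite OA2).toFinset.sigma fun O => O

/-- (octad through `∞` and `0`, a pair of other points of it) -/
noncomputable def TP2 : Finset (Σ _ : Finset GolayPt, Finset GolayPt) :=
  (Set.toFinite OB).toFinset.sigma fun O =>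
    Finset.powersetCard 2 ((O.erase none).erase (some 0))

/-- (octad through `∞` avoiding `0`, a pair of other points of it) -/
noncomputable def TP3 : Finset (Σ _ : Finset GolayPt, Finset GolayPt) :=
  (Set.toFinite OC).toFinset.sigma fun O => Finset.powersetCard 2 (O.erase none)

theorem card_TP1 : TP1.card = 2640 := by
  unfold TP1
  rw [Finset.card_sigma]
  have : ∀ O ∈ (Set.toFinite OA2).toFinset, O.card = 8 := by
    intro O hO
    rw [Set.Finite.mem_toFinset] at hO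
    exact hO.1.2
  rw [Finset.sum_congr rfl this, Finset.sum_const, ← Set.ncard_eq_toFinset_card OA2, ncard_OA2]
  rfl

theorem card_TP2 : TP2.card = 1155 := by
  unfold TP2
  rw [Finset.card_sigma]
  have : ∀ O ∈ (Set.toFinite OB).toFinset,
      (Finset.powersetCard 2 ((O.erase none).erase (some 0))).card = 15 := by
    intro O hO
    rw [Set.Finite.mem_toFinset] at hO
    obtain ⟨hO, h1, h2⟩ := hO
    rw [Finset.card_powersetCard,
      Finset.card_erase_of_mem (Finset.mem_erase.2 ⟨by decide, h2⟩),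
      Finset.card_erase_of_mem h1, hO.2]
    rfl
  rw [Finset.sum_congr rfl this, Finset.sum_const, ← Set.ncard_eq_toFinset_card OB, ncard_OB]
  rfl

theorem card_TP3 : TP3.card = 3696 := by
  unfold TP3
  rw [Finset.card_sigma]
  have : ∀ O ∈ (Set.toFinite OC).toFinset,
      (Finset.powersetCard 2 (O.erase none)).card = 21 := by
    intro O hO
    rw [Set.Finite.mem_toFinset] at hO
    obtain ⟨hO, h1, h2⟩ := hO
    rw [Finset.card_powersetCard, Finset.card_erase_of_mem h1, hO.2]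
    rfl
  rw [Finset.sum_congr rfl this, Finset.sum_const, ← Set.ncard_eq_toFinset_card OC, ncard_OC]
  rfl

/-- the vector of a pair (octad, set of sign changes) -/
def twoNS (s : Σ _ : Finset GolayPt, Finset GolayPt) : GolayPt → ℤ := twoN s.1 s.2

/-! ### the level sets are covered by small sets -/

theorem J_neg8_sub : J (-8) ⊆ twoF '' OC2 ∪ (fun C => oddP C (some 0)) '' OC2 := by
  rintro y ⟨hy, hd⟩
  rcases yf_levels hy with h | ⟨h, -⟩ | ⟨-, -, O, hO, rfl⟩ | ⟨h, -⟩ | ⟨h, -⟩ | ⟨-, C, hC, rfl⟩ |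
    ⟨h, -⟩ | ⟨h, -⟩ | ⟨h, -⟩
  · exfalso
    have h2 := mem_F2_of hy h
    rw [F2_eq] at h2
    rcases h2 with ((h2 | h2) | h2) | h2
    · rw [Set.mem_singleton_iff] at h2
      rw [h2, dot_yU_yU] at hd
      omega
    · have := h2.2; omega
    · have := h2.2; omega
    · have := h2.2; omega
  · omega
  · exact Or.inl ⟨O, hO, rfl⟩
  · omega
  · omega
  · exact Or.inr ⟨C, hC, rfl⟩
  · omega
  · omega
  · omega

theorem J16_sub : J 16 ⊆ H2 16 ∪ aM '' JA ∪ (fun D => oddP D none) '' DD16 := by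
  rintro y ⟨hy, hd⟩
  rcases yf_levels hy with h | ⟨-, k, hk, rfl⟩ | ⟨h, -⟩ | ⟨h, -⟩ | ⟨h, -⟩ | ⟨h, -⟩ |
    ⟨h, -⟩ | ⟨-, D, hD, rfl⟩ | ⟨h, -⟩
  · exact Or.inl (Or.inl ⟨mem_F2_of hy h, hd⟩)
  · exact Or.inl (Or.inr ⟨k, hk, rfl⟩)
  · omega
  · omega
  · omega
  · omega
  · omega
  · exact Or.inr ⟨D, hD, rfl⟩
  · omega

theorem J0_sub : J 0 ⊆ H2 0 ∪ oddS '' (TP1 : Set (Σ _ : Finset GolayPt, GolayPt)) ∪
    twoNS '' (TP2 : Set (Σ _ : Finset GolayPt, Finset GolayPt)) := by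
  rintro y ⟨hy, hd⟩
  rcases yf_levels hy with h | ⟨h, -⟩ | ⟨h, -⟩ | ⟨-, O, hO, N, hN, hN2, rfl⟩ | ⟨h, -⟩ | ⟨h, -⟩ |
    ⟨-, C, hC, p, hp, rfl⟩ | ⟨h, -⟩ | ⟨h, -⟩
  · exact Or.inl (Or.inl ⟨mem_F2_of hy h, hd⟩)
  · omega
  · omega
  · refine Or.inr ⟨⟨O, N⟩, ?_, rfl⟩
    rw [Finset.mem_coe]
    unfold TP2
    rw [Finset.mem_sigma, Set.Finite.mem_toFinset, Finset.mem_powersetCard]
    exact ⟨hO, hN, hN2⟩
  · omega
  · omega
  · refine Or.inl (Or.inr ⟨⟨C, p⟩, ?_, rfl⟩)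
    rw [Finset.mem_coe]
    unfold TP1
    rw [Finset.mem_sigma, Set.Finite.mem_toFinset]
    exact ⟨hC, hp⟩
  · omega
  · omega

theorem J8_sub : J 8 ⊆ H2 8 ∪ twoNS '' (TP3 : Set (Σ _ : Finset GolayPt, Finset GolayPt)) ∪
    (fun D => oddP D none) '' DD8 := by
  rintro y ⟨hy, hd⟩
  rcases yf_levels hy with h | ⟨h, -⟩ | ⟨h, -⟩ | ⟨h, -⟩ | ⟨-, O, hO, N, hN, hN2, rfl⟩ | ⟨h, -⟩ |
    ⟨h, -⟩ | ⟨h, -⟩ | ⟨-, D, hD, rfl⟩
  · exact Or.inl (Or.inl ⟨mem_F2_of hy h, hd⟩)
  · omega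
  · omega
  · omega
  · refine Or.inl (Or.inr ⟨⟨O, N⟩, ?_, rfl⟩)
    rw [Finset.mem_coe]
    unfold TP3
    rw [Finset.mem_sigma, Set.Finite.mem_toFinset, Finset.mem_powersetCard]
    exact ⟨hO, hN, hN2⟩
  · omega
  · omega
  · omega
  · exact Or.inr ⟨D, hD, rfl⟩

theorem YF_sub : YF ⊆ {(yU : GolayPt → ℤ)} ∪ J (-8) ∪ J 16 ∪ J 0 ∪ J 8 := by
  intro y hy
  rcases yf_levels hy with h | ⟨h, -⟩ | ⟨h, -⟩ | ⟨h, -⟩ | ⟨h, -⟩ | ⟨h, -⟩ |
    ⟨h, -⟩ | ⟨h, -⟩ | ⟨h, -⟩
  · have h2 := mem_F2_of hy h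
    rw [F2_eq] at h2
    rcases h2 with ((h2 | h2) | h2) | h2
    · exact Or.inl (Or.inl (Or.inl (Or.inl h2)))
    · exact Or.inl (Or.inr ⟨hy, h2.2⟩)
    · exact Or.inl (Or.inl (Or.inr ⟨hy, h2.2⟩))
    · exact Or.inr ⟨hy, h2.2⟩
  · exact Or.inl (Or.inl (Or.inr ⟨hy, h⟩))
  · exact Or.inl (Or.inl (Or.inl (Or.inr ⟨hy, h⟩)))
  · exact Or.inl (Or.inr ⟨hy, h⟩)
  · exact Or.inr ⟨hy, h⟩
  · exact Or.inl (Or.inl (Or.inl (Or.inr ⟨hy, h⟩)))
  · exact Or.inl (Or.inr ⟨hy, h⟩)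
  · exact Or.inl (Or.inl (Or.inr ⟨hy, h⟩))
  · exact Or.inr ⟨hy, h⟩

/-! ### the counts -/

theorem ncard_YF : YF.ncard = 11178 := by
  have h := ncard_eq_card_XF uF 16
  have h2 := card_XF_neg uF 16
  have h3 := (census3 uF_mem sqNorm_uF).1
  unfold YF
  rw [h, ← h2, h3]

theorem finite_H2 (d : ℤ) (h : 0 < (H2 d).ncard) : (H2 d).Finite := Set.finite_of_ncard_pos h

theorem ncard_J_neg8_le : (J (-8)).ncard ≤ 352 := by
  have hf1 : (twoF '' OC2).Finite := (Set.toFinite OC2).image _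
  have hf2 : ((fun C => oddP C (some 0)) '' OC2).Finite := (Set.toFinite OC2).image _
  have h1 := Set.ncard_le_ncard J_neg8_sub (hf1.union hf2)
  have h2 := Set.ncard_union_le (twoF '' OC2) ((fun C => oddP C (some 0)) '' OC2)
  have h3 := Set.ncard_image_le (f := twoF) (Set.toFinite OC2)
  have h4 := Set.ncard_image_le (f := fun C => oddP C (some 0)) (Set.toFinite OC2)
  rw [ncard_OC2] at h3 h4
  omega

theorem ncard_J16_le : (J 16).ncard ≤ 1100 := by
  have hf0 : (H2 16).Finite := finite_H2 16 (by rw [ncard_H2_16]; norm_num)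
  have hf1 : (aM '' JA).Finite := (Set.toFinite JA).image _
  have hf2 : ((fun D => oddP D none) '' DD16).Finite := (Set.toFinite DD16).image _
  have h1 := Set.ncard_le_ncard J16_sub ((hf0.union hf1).union hf2)
  have h2 := Set.ncard_union_le (H2 16 ∪ aM '' JA) ((fun D => oddP D none) '' DD16)
  have h2' := Set.ncard_union_le (H2 16) (aM '' JA)
  have h3 := Set.ncard_image_le (f := aM) (Set.toFinite JA)
  have h4 := Set.ncard_image_le (f := fun D => oddP D none) (Set.toFinite DD16)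
  rw [ncard_JA] at h3
  rw [ncard_DD16] at h4
  rw [ncard_H2_16] at h2'
  omega

theorem ncard_J0_le : (J 0).ncard ≤ 4125 := by
  have hf0 : (H2 0).Finite := finite_H2 0 (by rw [ncard_H2_0]; norm_num)
  have hf1 : (oddS '' (TP1 : Set (Σ _ : Finset GolayPt, GolayPt))).Finite :=
    (Finset.finite_toSet TP1).image _
  have hf2 : (twoNS '' (TP2 : Set (Σ _ : Finset GolayPt, Finset GolayPt))).Finite :=
    (Finset.finite_toSet TP2).image _
  have h1 := Set.ncard_le_ncard J0_sub ((hf0.union hf1).union hf2)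
  have h2 := Set.ncard_union_le (H2 0 ∪ oddS '' (TP1 : Set (Σ _ : Finset GolayPt, GolayPt)))
    (twoNS '' (TP2 : Set (Σ _ : Finset GolayPt, Finset GolayPt)))
  have h2' := Set.ncard_union_le (H2 0) (oddS '' (TP1 : Set (Σ _ : Finset GolayPt, GolayPt)))
  have h3 := Set.ncard_image_le (f := oddS) (Finset.finite_toSet TP1)
  have h4 := Set.ncard_image_le (f := twoNS) (Finset.finite_toSet TP2)
  rw [Set.ncard_coe_finset, card_TP1] at h3
  rw [Set.ncard_coe_finset, card_TP2] at h4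
  rw [ncard_H2_0] at h2'
  omega

theorem ncard_J8_le : (J 8).ncard ≤ 5600 := by
  have hf0 : (H2 8).Finite := finite_H2 8 (by rw [ncard_H2_8]; norm_num)
  have hf1 : (twoNS '' (TP3 : Set (Σ _ : Finset GolayPt, Finset GolayPt))).Finite :=
    (Finset.finite_toSet TP3).image _
  have hf2 : ((fun D => oddP D none) '' DD8).Finite := (Set.toFinite DD8).image _
  have h1 := Set.ncard_le_ncard J8_sub ((hf0.union hf1).union hf2)
  have h2 := Set.ncard_union_le (H2 8 ∪ twoNS '' (TP3 : Set (Σ _ : Finset GolayPt, Finset GolayPt)))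
    ((fun D => oddP D none) '' DD8)
  have h2' := Set.ncard_union_le (H2 8)
    (twoNS '' (TP3 : Set (Σ _ : Finset GolayPt, Finset GolayPt)))
  have h3 := Set.ncard_image_le (f := twoNS) (Finset.finite_toSet TP3)
  have h4 := Set.ncard_image_le (f := fun D => oddP D none) (Set.toFinite DD8)
  rw [Set.ncard_coe_finset, card_TP3] at h3
  rw [ncard_DD8] at h4
  rw [ncard_H2_8] at h2'
  omega

theorem finite_YF : YF.Finite := Set.finite_of_ncard_pos (by rw [ncard_YF]; norm_num)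

theorem finite_J (d : ℤ) : (J d).Finite := finite_YF.subset fun _ h => h.1

/-- **The level sets have 352, 1100, 4125 and 5600 elements.** -/
theorem ncard_J : (J (-8)).ncard = 352 ∧ (J 16).ncard = 1100 ∧ (J 0).ncard = 4125 ∧
    (J 8).ncard = 5600 := by
  have hfin : ({(yU : GolayPt → ℤ)} ∪ J (-8) ∪ J 16 ∪ J 0 ∪ J 8).Finite :=
    ((((Set.finite_singleton _).union (finite_J _)).union (finite_J _)).union
      (finite_J _)).union (finite_J _)
  have h0 := Set.ncard_le_ncard YF_sub hfin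
  have h1 := Set.ncard_union_le ({(yU : GolayPt → ℤ)} ∪ J (-8) ∪ J 16 ∪ J 0) (J 8)
  have h2 := Set.ncard_union_le ({(yU : GolayPt → ℤ)} ∪ J (-8) ∪ J 16) (J 0)
  have h3 := Set.ncard_union_le ({(yU : GolayPt → ℤ)} ∪ J (-8)) (J 16)
  have h4 := Set.ncard_union_le ({(yU : GolayPt → ℤ)}) (J (-8))
  rw [Set.ncard_singleton] at h4
  rw [ncard_YF] at h0
  have a1 := ncard_J_neg8_le
  have a2 := ncard_J16_le
  have a3 := ncard_J0_le
  have a4 := ncard_J8_le
  refine ⟨?_, ?_, ?_, ?_⟩ <;> omega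

end Cfsg.Agent.Lib.Helper27
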