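import Mathlib
import Cfsg.Agent.Lib.Helper27.Co3Count
import Cfsg.Agent.Lib.Helper8.HSConfig

/-!
# The stabiliser of `uL` and `yU` is transitive on each level set
-/

set_option autoImplicit false

namespace Cfsg.Agent.Lib.Helper27
open Cfsg Cfsg.Agent.Lib.Helper7 Cfsg.Agent.Lib.Helper8 Cfsg.Spor
open scoped Pointwise

/-! ### the auxiliary vectors `(1, …, -3, …, 1)` -/

/-- `vOddAt p` as a lattice element -/
def vOddAtL (p : GolayPt) : leechLattice := ⟨vOddAt p, vOddAt_mem p⟩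

theorem vOddAtL_coe (p : GolayPt) : ((vOddAtL p : leechLattice) : GolayPt → ℤ) = vOddAt p := rfl

theorem sqNorm_vOddAt : ∀ p : GolayPt, sqNorm (vOddAt p) = 32 := by decide +kernel

theorem sum_vOddAt : ∀ p : GolayPt, ∑ i, vOddAt p i = 20 := by decide +kernel

theorem vOddAt_apply_of_ne {p i : GolayPt} (h : i ≠ p) : vOddAt p i = 1 := if_neg h

theorem dotInt_vOddAt (p : GolayPt) (x : GolayPt → ℤ) :
    dotInt (vOddAt p) x = ∑ i, x i - 4 * x p := by
  unfold dotInt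
  have h : ∀ i : GolayPt, vOddAt p i * x i = x i - (if i = p then 4 * x p else 0) := by
    intro i
    unfold vOddAt
    split_ifs with hi
    · subst hi; ring
    · ring
  rw [Finset.sum_congr rfl fun i _ => h i, Finset.sum_sub_distrib, Finset.sum_ite_eq']
  simp

theorem dotInt_uF_vOddAt {p : GolayPt} (hp : p ≠ none) : dotInt uF (vOddAt p) = 24 := by
  rw [dotInt_uF, sum_vOddAt, vOddAt_apply_of_ne (Ne.symm hp)]
  norm_num

theorem dotInt_yU_vOddAt {p : GolayPt} (hp : p ≠ none) (hp0 : p ≠ some 0) :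
    dotInt (yU : GolayPt → ℤ) (vOddAt p) = 0 := by
  rw [dotInt_yU, vOddAt_apply_of_ne (Ne.symm hp), vOddAt_apply_of_ne (Ne.symm hp0)]
  norm_num

theorem dotInt_vOddAt_YF {p : GolayPt} {y : GolayPt → ℤ} (hy : y ∈ YF) :
    dotInt (vOddAt p) y = 16 - 4 * (y none + y p) := by
  have h := hy.2.2
  rw [dotInt_uF] at h
  rw [dotInt_vOddAt]
  omega

/-! ### existence of a suitable auxiliary vector -/

theorem card_golayPt : Fintype.card GolayPt = 24 := by decide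

theorem exists_not_mem {s : Finset GolayPt} (h : s.card < 24) : ∃ p, p ∉ s := by
  by_contra hcon
  push Not at hcon
  have : s = Finset.univ := Finset.eq_univ_iff_forall.2 hcon
  rw [this, Finset.card_univ, card_golayPt] at h
  omega

theorem exists_p {y : GolayPt → ℤ} (hy : y ∈ YF)
    (hd : dotInt (yU : GolayPt → ℤ) y = 16 ∨ dotInt (yU : GolayPt → ℤ) y = 0 ∨
      dotInt (yU : GolayPt → ℤ) y = 8) :
    dotInt vecU y = 0 ∨ ∃ p, p ≠ none ∧ p ≠ some 0 ∧ y none + y p = 4 := by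
  classical
  have h0n : (some 0 : GolayPt) ≠ none := by decide
  rcases yf_levels hy with h | ⟨-, k, hk, rfl⟩ | ⟨h, -⟩ | ⟨-, O, hO, N, hN, hN2, rfl⟩ |
    ⟨-, O, hO, N, hN, hN2, rfl⟩ | ⟨h, -⟩ | ⟨-, C, hC, p, hp, rfl⟩ | ⟨-, D, hD, rfl⟩ |
    ⟨-, D, hD, rfl⟩
  · exact Or.inl h
  · -- `aM k`
    right
    obtain ⟨hk1, hk2⟩ := hk
    by_cases hk3 : k = some 1
    · refine ⟨some 2, by decide, by decide, ?_⟩
      rw [aM_none hk1, aM_apply_of_ne (by decide) (by rw [hk3]; decide)]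
      norm_num
    · refine ⟨some 1, by decide, by decide, ?_⟩
      rw [aM_none hk1, aM_apply_of_ne (by decide) (Ne.symm hk3)]
      norm_num
  · omega
  · -- `twoN O N`, `∞, 0 ∈ O`
    right
    obtain ⟨hO8, h1, h2⟩ := hO
    have hc : (((O.erase none).erase (some 0)) \ N).card = 4 := by
      rw [Finset.card_sdiff_of_subset hN,
        Finset.card_erase_of_mem (Finset.mem_erase.2 ⟨h0n, h2⟩),
        Finset.card_erase_of_mem h1, hO8.2, hN2]
    obtain ⟨p, hp⟩ := Finset.card_pos.1 (by rw [hc]; norm_num :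
      0 < (((O.erase none).erase (some 0)) \ N).card)
    rw [Finset.mem_sdiff, Finset.mem_erase, Finset.mem_erase] at hp
    obtain ⟨⟨hp0, hpn, hpO⟩, hpN⟩ := hp
    refine ⟨p, hpn, hp0, ?_⟩
    have hnN : none ∉ N := fun h => by
      have := hN h
      rw [Finset.mem_erase, Finset.mem_erase] at this
      exact this.2.1 rfl
    rw [twoN_of_mem h1 hnN, twoN_of_mem hpO hpN]
    norm_num
  · -- `twoN O N`, `∞ ∈ O`, `0 ∉ O`
    right
    obtain ⟨hO8, h1, h2⟩ := hO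
    have hc : ((O.erase none) \ N).card = 5 := by
      rw [Finset.card_sdiff_of_subset hN, Finset.card_erase_of_mem h1, hO8.2, hN2]
    obtain ⟨p, hp⟩ := Finset.card_pos.1 (by rw [hc]; norm_num : 0 < ((O.erase none) \ N).card)
    rw [Finset.mem_sdiff, Finset.mem_erase] at hp
    obtain ⟨⟨hpn, hpO⟩, hpN⟩ := hp
    refine ⟨p, hpn, fun h => h2 (h ▸ hpO), ?_⟩
    have hnN : none ∉ N := fun h => by
      have := hN h
      rw [Finset.mem_erase] at this
      exact this.1 rfl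
    rw [twoN_of_mem h1 hnN, twoN_of_mem hpO hpN]
    norm_num
  · omega
  · -- `oddP C p`, `∞, 0 ∉ C`
    right
    obtain ⟨-, h1, h2⟩ := hC
    have hpn : p ≠ none := fun h => h1 (h ▸ hp)
    refine ⟨p, hpn, fun h => h2 (h ▸ hp), ?_⟩
    rw [oddP_of_not_mem (Ne.symm hpn) h1, oddP_self hp]
    norm_num
  · -- `oddP D ∞`, `0 ∈ D`
    right
    obtain ⟨hD12, h1, h2⟩ := hD
    obtain ⟨p, hp⟩ := exists_not_mem (s := D) (by rw [hD12.2]; norm_num)
    have hpn : p ≠ none := fun h => hp (h ▸ h1)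
    refine ⟨p, hpn, fun h => hp (h ▸ h2), ?_⟩
    rw [oddP_self h1, oddP_of_not_mem hpn hp]
    norm_num
  · -- `oddP D ∞`, `0 ∉ D`
    right
    obtain ⟨hD12, h1, h2⟩ := hD
    obtain ⟨p, hp⟩ := exists_not_mem (s := insert (some 0) D) (by
      rw [Finset.card_insert_of_notMem h2, hD12.2]; norm_num)
    rw [Finset.mem_insert, not_or] at hp
    have hpn : p ≠ none := fun h => hp.2 (h ▸ h1)
    refine ⟨p, hpn, hp.1, ?_⟩
    rw [oddP_self h1, oddP_of_not_mem hpn hp.2]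
    norm_num

theorem not_vecU_zero_of_J_neg8 {y : GolayPt → ℤ} (hy : y ∈ J (-8)) : dotInt vecU y ≠ 0 := by
  intro h
  obtain ⟨hy, hd⟩ := hy
  have h2 := mem_F2_of hy h
  rw [F2_eq] at h2
  rcases h2 with ((h2 | h2) | h2) | h2
  · rw [Set.mem_singleton_iff] at h2
    rw [h2, dot_yU_yU] at hd
    omega
  · have := h2.2; omega
  · have := h2.2; omega
  · have := h2.2; omega

theorem exists_p8 {y : GolayPt → ℤ} (hy : y ∈ J (-8)) :
    dotInt vecU y = 8 ∨ ∃ p, p ≠ none ∧ p ≠ some 0 ∧ y none + y p = 2 := by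
  classical
  have h0n : (some 0 : GolayPt) ≠ none := by decide
  have hd := hy.2
  rcases yf_levels hy.1 with h | ⟨h, -⟩ | ⟨-, h, -⟩ | ⟨h, -⟩ | ⟨h, -⟩ | ⟨-, C, hC, rfl⟩ |
    ⟨h, -⟩ | ⟨h, -⟩ | ⟨h, -⟩
  · exact absurd h (not_vecU_zero_of_J_neg8 hy)
  · omega
  · exact Or.inl h
  · omega
  · omega
  · right
    obtain ⟨hC8, h1, h2⟩ := hC
    obtain ⟨p, hp⟩ := exists_not_mem (s := insert none C) (by
      rw [Finset.card_insert_of_notMem h1, hC8.2]; norm_num)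
    rw [Finset.mem_insert, not_or] at hp
    have hp0 : p ≠ some 0 := fun h => hp.2 (h ▸ h2)
    refine ⟨p, hp.1, hp0, ?_⟩
    rw [oddP_of_not_mem (Ne.symm h0n) h1, oddP_of_not_mem hp0 hp.2]
    norm_num
  · omega
  · omega
  · omega

/-- the vectors at `-8` from `yU` and at `8` from `vecU` -/
theorem J_neg8_vec8 {y : GolayPt → ℤ} (hy : y ∈ J (-8)) (h8 : dotInt vecU y = 8) :
    ∃ O ∈ OC2, y = twoF O := by
  have h0n : (some 0 : GolayPt) ≠ none := by decide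
  have hd := hy.2
  rcases yf_levels hy.1 with h | ⟨h, -⟩ | ⟨-, -, h⟩ | ⟨h, -⟩ | ⟨h, -⟩ | ⟨-, C, hC, rfl⟩ |
    ⟨h, -⟩ | ⟨h, -⟩ | ⟨h, -⟩
  · omega
  · omega
  · exact h
  · omega
  · omega
  · exfalso
    obtain ⟨-, h1, h2⟩ := hC
    rw [dotInt_vecU, oddP_of_not_mem (Ne.symm h0n) h1, oddP_self h2] at h8
    omega
  · omega
  · omega
  · omega

/-! ### moving the auxiliary vector to `vecU` -/

/-- `yU - uL`, of squared norm `48` and at `-32` from `uL` -/
def w0L : leechLattice := yU - uL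

theorem w0L_coe : ((w0L : leechLattice) : GolayPt → ℤ) = (yU : GolayPt → ℤ) - uF := rfl

theorem dotInt_uF_yU : dotInt uF (yU : GolayPt → ℤ) = 16 := by
  rw [dotInt_comm, dotInt_yU]; rfl

theorem sqNorm_w0L : sqNorm ((w0L : leechLattice) : GolayPt → ℤ) = 48 := by
  rw [w0L_coe, sqNorm_sub', sqNorm_yU, sqNorm_uF, dotInt_comm, dotInt_uF_yU]
  norm_num

theorem dotInt_uF_w0L : dotInt uF ((w0L : leechLattice) : GolayPt → ℤ) = -32 := by
  rw [w0L_coe, dotInt_sub_right, dotInt_uF_yU, ← sqNorm_eq_dotInt, sqNorm_uF]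
  norm_num

theorem dotInt_w0L (z : GolayPt → ℤ) : dotInt ((w0L : leechLattice) : GolayPt → ℤ) z
    = dotInt (yU : GolayPt → ℤ) z - dotInt uF z := by
  rw [w0L_coe, Cfsg.Agent.Lib.Helper8.dotInt_sub_left]

theorem move_z (z : leechLattice) (hz : sqNorm (z : GolayPt → ℤ) = 32)
    (h1 : dotInt uF (z : GolayPt → ℤ) = 24)
    (h2 : dotInt (yU : GolayPt → ℤ) (z : GolayPt → ℤ) = 0) :
    ∃ h : Co0, h • uL = uL ∧ h • yU = yU ∧ h • z = leechU := by
  obtain ⟨g, g1, g2, g3⟩ := hs_trans uL w0L z leechU sqNorm_uF sqNorm_w0L dotInt_uF_w0L hz h1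
    (by rw [dotInt_w0L, h1, h2]; norm_num) sqNorm_vecU
    (by rw [leechU_coe, uL_coe, dotInt_comm, dotInt_vecU_uF])
    (by rw [dotInt_w0L, leechU_coe, dotInt_comm, dotInt_vecU_yU, dotInt_comm,
      dotInt_vecU_uF]; norm_num)
  refine ⟨g, g1, ?_, g3⟩
  have e : yU = w0L + uL := by unfold w0L; abel
  rw [e, co0_smul_add, g1, g2]

/-- `uL = wL + leechU` -/
theorem uL_eq : uL = wL + leechU := by
  apply Subtype.ext
  show uF = wF + vecU
  decide +kernel

/-! ### transitivity -/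

theorem to_H2 (d : ℤ) (hd : d = 16 ∨ d = 0 ∨ d = 8) (y : leechLattice)
    (hy : (y : GolayPt → ℤ) ∈ J d) :
    ∃ h : Co0, h • uL = uL ∧ h • yU = yU ∧ ((h • y : leechLattice) : GolayPt → ℤ) ∈ H2 d := by
  obtain ⟨hyF, hyd⟩ := hy
  rcases exists_p hyF (by rw [hyd]; exact hd) with h | ⟨p, hp, hp0, hyp⟩
  · exact ⟨1, one_smul _ _, one_smul _ _, by rw [one_smul]; exact ⟨mem_F2_of hyF h, hyd⟩⟩
  · obtain ⟨h, h1, h2, h3⟩ := move_z (vOddAtL p) (sqNorm_vOddAt p) (dotInt_uF_vOddAt hp)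
      (dotInt_yU_vOddAt hp hp0)
    refine ⟨h, h1, h2, ?_⟩
    have e1 : dotInt uF ((h • y : leechLattice) : GolayPt → ℤ) = 16 := by
      have := co0_dotInt h uL y
      rw [h1, uL_coe] at this
      rw [this]; exact hyF.2.2
    have e2 : dotInt (yU : GolayPt → ℤ) ((h • y : leechLattice) : GolayPt → ℤ) = d := by
      have := co0_dotInt h yU y
      rw [h2] at this
      rw [this]; exact hyd
    have e3 : dotInt vecU ((h • y : leechLattice) : GolayPt → ℤ) = 0 := by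
      have := co0_dotInt h (vOddAtL p) y
      rw [h3, leechU_coe, vOddAtL_coe, dotInt_vOddAt_YF hyF, hyp] at this
      rw [this]; norm_num
    have hF : ((h • y : leechLattice) : GolayPt → ℤ) ∈ YF :=
      ⟨(h • y).2, by rw [co0_sqNorm]; exact hyF.2.1, e1⟩
    exact ⟨mem_F2_of hF e3, e2⟩

/-- **Transitivity on the level sets at `16`, `0` and `8`.** -/
theorem co3_trans (d : ℤ) (hd : d = 16 ∨ d = 0 ∨ d = 8) (y y' : leechLattice)
    (hy : (y : GolayPt → ℤ) ∈ J d) (hy' : (y' : GolayPt → ℤ) ∈ J d) :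
    ∃ k : Co0, k • uL = uL ∧ k • yU = yU ∧ k • y = y' := by
  obtain ⟨h, h1, h2, h3⟩ := to_H2 d hd y hy
  obtain ⟨h', h1', h2', h3'⟩ := to_H2 d hd y' hy'
  have key : ∃ g : Co0, g • leechU = leechU ∧ g • wL = wL ∧ g • yU = yU ∧
      g • (h • y) = h' • y' := by
    rcases hd with rfl | rfl | rfl
    · exact std2_trans16 _ _ h3 h3'
    · exact std2_trans0 _ _ h3 h3'
    · exact std2_trans8 _ _ h3 h3'
  obtain ⟨g, g1, g2, g3, g4⟩ := key
  have g5 : g • uL = uL := by rw [uL_eq, co0_smul_add, g1, g2]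
  refine ⟨h'⁻¹ * g * h, ?_, ?_, ?_⟩
  · rw [mul_smul, mul_smul, h1, g5, inv_smul_eq_iff, h1']
  · rw [mul_smul, mul_smul, h2, g3, inv_smul_eq_iff, h2']
  · rw [mul_smul, mul_smul, g4, inv_smul_smul]

theorem to_std8 (y : leechLattice) (hy : (y : GolayPt → ℤ) ∈ J (-8)) :
    ∃ h : Co0, h • uL = uL ∧ h • yU = yU ∧
      ∃ O ∈ OC2, ((h • y : leechLattice) : GolayPt → ℤ) = twoF O := by
  rcases exists_p8 hy with h | ⟨p, hp, hp0, hyp⟩
  · exact ⟨1, one_smul _ _, one_smul _ _, by rw [one_smul]; exact J_neg8_vec8 hy h⟩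
  · obtain ⟨hyF, hyd⟩ := hy
    obtain ⟨h, h1, h2, h3⟩ := move_z (vOddAtL p) (sqNorm_vOddAt p) (dotInt_uF_vOddAt hp)
      (dotInt_yU_vOddAt hp hp0)
    refine ⟨h, h1, h2, ?_⟩
    have e1 : dotInt uF ((h • y : leechLattice) : GolayPt → ℤ) = 16 := by
      have := co0_dotInt h uL y
      rw [h1, uL_coe] at this
      rw [this]; exact hyF.2.2
    have e2 : dotInt (yU : GolayPt → ℤ) ((h • y : leechLattice) : GolayPt → ℤ) = -8 := by
      have := co0_dotInt h yU y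
      rw [h2] at this
      rw [this]; exact hyd
    have e3 : dotInt vecU ((h • y : leechLattice) : GolayPt → ℤ) = 8 := by
      have := co0_dotInt h (vOddAtL p) y
      rw [h3, leechU_coe, vOddAtL_coe, dotInt_vOddAt_YF hyF, hyp] at this
      rw [this]; norm_num
    have hF : ((h • y : leechLattice) : GolayPt → ℤ) ∈ YF :=
      ⟨(h • y).2, by rw [co0_sqNorm]; exact hyF.2.1, e1⟩
    exact J_neg8_vec8 ⟨hF, e2⟩ e3

/-- **Transitivity on the level set at `-8`.** -/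
theorem co3_trans_neg8 (y y' : leechLattice) (hy : (y : GolayPt → ℤ) ∈ J (-8))
    (hy' : (y' : GolayPt → ℤ) ∈ J (-8)) :
    ∃ k : Co0, k • uL = uL ∧ k • yU = yU ∧ k • y = y' := by
  obtain ⟨h, h1, h2, O, ⟨hO, a1, a2⟩, h3⟩ := to_std8 y hy
  obtain ⟨h', h1', h2', O', ⟨hO', a1', a2'⟩, h3'⟩ := to_std8 y' hy'
  obtain ⟨g1, hg1, b1, b2, b3⟩ := exists_M24_flag_out hO a2 a1
  obtain ⟨g2, hg2, c1, c2, c3⟩ := exists_M24_flag_out hO' a2' a1'
  have hσM : g2⁻¹ * g1 ∈ M24 := M24.mul_mem (M24.inv_mem hg2) hg1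
  have hσ0 : (g2⁻¹ * g1) none = none := by
    rw [Equiv.Perm.mul_apply, b2, Equiv.Perm.inv_eq_iff_eq, c2]
  have hσ1 : (g2⁻¹ * g1) (some 0) = some 0 := by
    rw [Equiv.Perm.mul_apply, b1, Equiv.Perm.inv_eq_iff_eq, c1]
  have hσ3 : (g2⁻¹ * g1) • O = O' := by
    rw [mul_smul, b3, inv_smul_eq_iff, c3]
  obtain ⟨-, -, n3⟩ := mono_fix_std _ hσM hσ0 hσ1
  have n1 := mono_fix_uL _ hσM hσ0
  have n4 : monoCo0 (g2⁻¹ * g1) hσM ∅ empty_mem_supp • (h • y) = h' • y' := by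
    apply Subtype.ext
    rw [monoCo0_apply, h3, h3', mono_twoF, hσ3]
  refine ⟨h'⁻¹ * monoCo0 (g2⁻¹ * g1) hσM ∅ empty_mem_supp * h, ?_, ?_, ?_⟩
  · rw [mul_smul, mul_smul, h1, n1, inv_smul_eq_iff, h1']
  · rw [mul_smul, mul_smul, h2, n3, inv_smul_eq_iff, h2']
  · rw [mul_smul, mul_smul, n4, inv_smul_smul]

end Cfsg.Agent.Lib.Helper27
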