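import Cfsg.Prelude.Def_DegreeGraph
import Cfsg.Agent.S0135
import Cfsg.Agent.Lib.Helper78.CharValues

/-!
# The character degree graph of a group of order `6048` with degrees divisible by `6`, `14` and `21`

Its vertices are `2`, `3`, `7`, and any two of them are joined.
-/

set_option autoImplicit false

namespace Cfsg.Agent.Lib.Helper27.DegGraph6048
open Cfsg

/-- the degree of an irreducible character divides the order of the group -/
theorem charDegree_dvd_card {G : Type*} [Group G] [Finite G] (χ : IrrCharacter G) :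
    charDegree (χ : G → ℂ) ∣ Nat.card G := by
  obtain ⟨χ, n, ρ, hρ, rfl⟩ := χ
  haveI := hρ
  have h1 : ρ.character 1 = (Module.finrank ℂ (Fin n → ℂ) : ℂ) := Representation.char_one ρ
  have h2 : charDegree ρ.character = Module.finrank ℂ (Fin n → ℂ) := by
    unfold charDegree
    rw [h1]
    simp
  show charDegree ρ.character ∣ Nat.card G
  rw [h2]
  exact Cfsg.Agent.S0135.result ρ

theorem prime_dvd_6048 {p : ℕ} (hp : p.Prime) (h : p ∣ 6048) : p = 2 ∨ p = 3 ∨ p = 7 := by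
  have e : 6048 = 2 ^ 5 * 3 ^ 3 * 7 := by norm_num
  rw [e] at h
  rcases (Nat.Prime.dvd_mul hp).1 h with h1 | h1
  · rcases (Nat.Prime.dvd_mul hp).1 h1 with h2 | h2
    · left
      exact (Nat.prime_dvd_prime_iff_eq hp Nat.prime_two).1 (hp.dvd_of_dvd_pow h2)
    · right; left
      exact (Nat.prime_dvd_prime_iff_eq hp Nat.prime_three).1 (hp.dvd_of_dvd_pow h2)
  · right; right
    exact (Nat.prime_dvd_prime_iff_eq hp (by norm_num)).1 h1

section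

variable {G : Type*} [Group G] [Finite G] (hG : Nat.card G = 6048)
  {d₁ d₂ d₃ : ℕ} (h₁ : d₁ ∈ charDegrees G) (h₂ : d₂ ∈ charDegrees G) (h₃ : d₃ ∈ charDegrees G)
  (k₁ : 6 ∣ d₁) (k₂ : 14 ∣ d₂) (k₃ : 21 ∣ d₃)

include hG in
theorem prime_of_dvd_degree {p d : ℕ} (hp : p.Prime) (hd : d ∈ charDegrees G) (hpd : p ∣ d) :
    p = 2 ∨ p = 3 ∨ p = 7 := by
  obtain ⟨χ, rfl⟩ := hd
  exact prime_dvd_6048 hp (hG ▸ hpd.trans (charDegree_dvd_card χ))

include hG h₁ h₂ h₃ k₁ k₂ k₃ in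
theorem degreePrimes_eq : degreePrimes G = {2, 3, 7} := by
  ext p
  simp only [degreePrimes, Set.mem_setOf_eq, Set.mem_insert_iff, Set.mem_singleton_iff]
  constructor
  · rintro ⟨hp, d, hd, hpd⟩
    exact prime_of_dvd_degree hG hp hd hpd
  · rintro (rfl | rfl | rfl)
    · exact ⟨Nat.prime_two, d₁, h₁, (by norm_num : 2 ∣ 6).trans k₁⟩
    · exact ⟨Nat.prime_three, d₁, h₁, (by norm_num : 3 ∣ 6).trans k₁⟩
    · exact ⟨by norm_num, d₂, h₂, (by norm_num : 7 ∣ 14).trans k₂⟩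

include hG h₁ h₂ h₃ k₁ k₂ k₃ in
theorem degreeGraph_adj (p q : ℕ) : (degreeGraph G).Adj p q ↔
    p ≠ q ∧ (p = 2 ∨ p = 3 ∨ p = 7) ∧ (q = 2 ∨ q = 3 ∨ q = 7) := by
  constructor
  · rintro ⟨hne, hp, hq, d, hd, hpq⟩
    exact ⟨hne, prime_of_dvd_degree hG hp hd ((Dvd.intro _ rfl).trans hpq),
      prime_of_dvd_degree hG hq hd ((Dvd.intro_left _ rfl).trans hpq)⟩
  · rintro ⟨hne, hp, hq⟩
    have p2 := Nat.prime_two
    have p3 := Nat.prime_three
    have p7 : Nat.Prime 7 := by norm_num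
    rcases hp with rfl | rfl | rfl <;> rcases hq with rfl | rfl | rfl
    · exact absurd rfl hne
    · exact ⟨hne, p2, p3, d₁, h₁, k₁⟩
    · exact ⟨hne, p2, p7, d₂, h₂, k₂⟩
    · exact ⟨hne, p3, p2, d₁, h₁, k₁⟩
    · exact absurd rfl hne
    · exact ⟨hne, p3, p7, d₃, h₃, k₃⟩
    · exact ⟨hne, p7, p2, d₂, h₂, k₂⟩
    · exact ⟨hne, p7, p3, d₃, h₃, k₃⟩
    · exact absurd rfl hne

end

/-- two groups of order `6048` with degrees divisible by `6`, `14`, `21` have the same degree graph -/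
theorem degreeGraph_eq {G H : Type*} [Group G] [Finite G] [Group H] [Finite H]
    (hG : Nat.card G = 6048) (hH : Nat.card H = 6048)
    {d₁ d₂ d₃ e₁ e₂ e₃ : ℕ} (h₁ : d₁ ∈ charDegrees G) (h₂ : d₂ ∈ charDegrees G) (h₃ : d₃ ∈ charDegrees G)
    (k₁ : 6 ∣ d₁) (k₂ : 14 ∣ d₂) (k₃ : 21 ∣ d₃)
    (g₁ : e₁ ∈ charDegrees H) (g₂ : e₂ ∈ charDegrees H) (g₃ : e₃ ∈ charDegrees H)
    (l₁ : 6 ∣ e₁) (l₂ : 14 ∣ e₂) (l₃ : 21 ∣ e₃) :
    degreePrimes H = degreePrimes G ∧ degreeGraph H = degreeGraph G := by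
  constructor
  · rw [degreePrimes_eq hG h₁ h₂ h₃ k₁ k₂ k₃, degreePrimes_eq hH g₁ g₂ g₃ l₁ l₂ l₃]
  · ext p q
    rw [degreeGraph_adj hG h₁ h₂ h₃ k₁ k₂ k₃, degreeGraph_adj hH g₁ g₂ g₃ l₁ l₂ l₃]

end Cfsg.Agent.Lib.Helper27.DegGraph6048
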