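import Mathlib
import Cfsg.Prelude.Def_SporadicCombinatorics

set_option autoImplicit false

namespace Cfsg.Agent.Lib.Helper27

open Cfsg

/-! ### A concrete model of the field with four elements, and the hexacode -/

theorem fin4_cases' (i : Fin 4) : i = 0 ∨ i = 1 ∨ i = 2 ∨ i = 3 := by
  revert i; decide

/-- addition table of the field with 4 elements: `0,1,2,3` stand for `0,1,ω,ω+1` -/
def add4 (i j : Fin 4) : Fin 4 :=
  (![![0, 1, 2, 3], ![1, 0, 3, 2], ![2, 3, 0, 1], ![3, 2, 1, 0]] : Fin 4 → Fin 4 → Fin 4) i j

/-- multiplication table of the field with 4 elements -/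
def mul4 (i j : Fin 4) : Fin 4 :=
  (![![0, 0, 0, 0], ![0, 1, 2, 3], ![0, 2, 3, 1], ![0, 3, 1, 2]] : Fin 4 → Fin 4 → Fin 4) i j

section
variable {F : Type*} [Field F] [Fintype F] (hF : Fintype.card F = 4) {ω : F}
  (hω : ω ^ 2 + ω + 1 = 0)

/-- the enumeration `0,1,ω,ω+1` of a field with four elements -/
def ι (ω : F) : Fin 4 → F := ![0, 1, ω, ω + 1]

include hF in
theorem two_eq_zero : (2 : F) = 0 := by
  have h4 : (4 : F) = 0 := by
    have := card_nsmul_eq_zero (G := F) (x := 1)
    rw [hF] at this
    simpa using this
  have : (2 : F) * 2 = 0 := by rw [← h4]; norm_num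
  exact mul_self_eq_zero.mp this

include hF in
theorem ι_add_eq (i j : Fin 4) : ι ω i + ι ω j = ι ω (add4 i j) := by
  have h2 := two_eq_zero hF
  rcases fin4_cases' i with h | h | h | h <;> subst h <;>
  rcases fin4_cases' j with h | h | h | h <;> subst h
  · show (0 : F) + (0 : F) = (0 : F)
    linear_combination (0) * h2
  · show (0 : F) + (1 : F) = (1 : F)
    linear_combination (0) * h2
  · show (0 : F) + ω = ω
    linear_combination (0) * h2
  · show (0 : F) + (ω + 1) = (ω + 1)
    linear_combination (0) * h2
  · show (1 : F) + (0 : F) = (1 : F)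
    linear_combination (0) * h2
  · show (1 : F) + (1 : F) = (0 : F)
    linear_combination (1) * h2
  · show (1 : F) + ω = (ω + 1)
    linear_combination (0) * h2
  · show (1 : F) + (ω + 1) = ω
    linear_combination (1) * h2
  · show ω + (0 : F) = ω
    linear_combination (0) * h2
  · show ω + (1 : F) = (ω + 1)
    linear_combination (0) * h2
  · show ω + ω = (0 : F)
    linear_combination (ω) * h2
  · show ω + (ω + 1) = (1 : F)
    linear_combination (ω) * h2
  · show (ω + 1) + (0 : F) = (ω + 1)
    linear_combination (0) * h2
  · show (ω + 1) + (1 : F) = ω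
    linear_combination (1) * h2
  · show (ω + 1) + ω = (1 : F)
    linear_combination (ω) * h2
  · show (ω + 1) + (ω + 1) = (0 : F)
    linear_combination (1 + ω) * h2

include hF hω in
theorem ι_mul_eq (i j : Fin 4) : ι ω i * ι ω j = ι ω (mul4 i j) := by
  have h2 := two_eq_zero hF
  rcases fin4_cases' i with h | h | h | h <;> subst h <;>
  rcases fin4_cases' j with h | h | h | h <;> subst h
  · show (0 : F) * (0 : F) = (0 : F)
    linear_combination (0) * hω + (0) * h2
  · show (0 : F) * (1 : F) = (0 : F)
    linear_combination (0) * hω + (0) * h2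
  · show (0 : F) * ω = (0 : F)
    linear_combination (0) * hω + (0) * h2
  · show (0 : F) * (ω + 1) = (0 : F)
    linear_combination (0) * hω + (0) * h2
  · show (1 : F) * (0 : F) = (0 : F)
    linear_combination (0) * hω + (0) * h2
  · show (1 : F) * (1 : F) = (1 : F)
    linear_combination (0) * hω + (0) * h2
  · show (1 : F) * ω = ω
    linear_combination (0) * hω + (0) * h2
  · show (1 : F) * (ω + 1) = (ω + 1)
    linear_combination (0) * hω + (0) * h2
  · show ω * (0 : F) = (0 : F)
    linear_combination (0) * hω + (0) * h2
  · show ω * (1 : F) = ω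
    linear_combination (0) * hω + (0) * h2
  · show ω * ω = (ω + 1)
    linear_combination (1) * hω + (-1 + -1 * ω) * h2
  · show ω * (ω + 1) = (1 : F)
    linear_combination (1) * hω + (-1) * h2
  · show (ω + 1) * (0 : F) = (0 : F)
    linear_combination (0) * hω + (0) * h2
  · show (ω + 1) * (1 : F) = (ω + 1)
    linear_combination (0) * hω + (0) * h2
  · show (ω + 1) * ω = (1 : F)
    linear_combination (1) * hω + (-1) * h2
  · show (ω + 1) * (ω + 1) = ω
    linear_combination (1) * hω + (0) * h2

omit [Fintype F] in
include hω in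
theorem ω_ne_zero : ω ≠ 0 := by
  intro h
  rw [h] at hω
  norm_num at hω

include hF hω in
theorem ω_ne_one : ω ≠ 1 := by
  intro h
  rw [h] at hω
  have h2 := two_eq_zero hF
  have : (1 : F) = 0 := by linear_combination hω - h2
  exact one_ne_zero this

include hF hω in
theorem ω_sq : ω ^ 2 = ω + 1 := by
  have h2 := two_eq_zero hF
  linear_combination hω - (ω + 1) * h2

include hF hω in
theorem ι_injective : Function.Injective (ι ω) := by
  have h0 := ω_ne_zero hω
  have h1 := ω_ne_one hF hω
  have h2 := two_eq_zero hF
  have e1 : ω + 1 ≠ 0 := by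
    intro h; apply h1; linear_combination h - h2
  have e2 : ω + 1 ≠ 1 := by
    intro h; apply h0; linear_combination h
  have e3 : ω + 1 ≠ ω := by
    intro h; exact one_ne_zero (by linear_combination h : (1 : F) = 0)
  intro i j hij
  rcases fin4_cases' i with h | h | h | h <;> subst h <;>
  rcases fin4_cases' j with h | h | h | h <;> subst h <;>
  first
  | rfl
  | (exfalso
     change (_ : F) = _ at hij
     first
     | exact zero_ne_one hij
     | exact one_ne_zero hij
     | exact h0 hij
     | exact h0 hij.symm
     | exact h1 hij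
     | exact h1 hij.symm
     | exact e1 hij
     | exact e1 hij.symm
     | exact e2 hij
     | exact e2 hij.symm
     | exact e3 hij
     | exact e3 hij.symm)

include hF hω in
theorem ι_bijective : Function.Bijective (ι ω) := by
  rw [Fintype.bijective_iff_injective_and_card]
  exact ⟨ι_injective hF hω, by rw [hF]; rfl⟩

include hF hω in
theorem ι_surjective : Function.Surjective (ι ω) := (ι_bijective hF hω).2

include hF hω in
theorem ι_eq_zero_iff (i : Fin 4) : ι ω i = 0 ↔ i = 0 := by
  constructor
  · intro h
    exact ι_injective hF hω (h.trans rfl)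
  · intro h; subst h; rfl

end

end Cfsg.Agent.Lib.Helper27
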