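import Mathlib
import Cfsg.Prelude.Def_Sporadic_a
import Cfsg.Agent.Lib.Helper26.GolayLike

set_option autoImplicit false

namespace Cfsg.Agent.Lib.Helper27

open Cfsg Cfsg.Agent.Lib.Helper26 Cfsg.Agent.Lib.Helper93

/-- puncturing: delete the extra coordinate -/
def punct (w : GolayPt → ZMod 2) : ZMod 23 → ZMod 2 := fun x => w (some x)

/-- the punctured length-23 code, as in the statements -/
def golay23 : Set (ZMod 23 → ZMod 2) :=
  {u : ZMod 23 → ZMod 2 | ∃ w ∈ golayCode, ∀ x : ZMod 23, u x = w (some x)}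

theorem mem_golay23_iff (u : ZMod 23 → ZMod 2) : u ∈ golay23 ↔ ∃ w ∈ golayCode, u = punct w := by
  unfold golay23 punct
  constructor
  · rintro ⟨w, hw, h⟩; exact ⟨w, hw, funext h⟩
  · rintro ⟨w, hw, rfl⟩; exact ⟨w, hw, fun _ => rfl⟩

theorem punct_sub (w w' : GolayPt → ZMod 2) : punct (w - w') = punct w - punct w' := rfl

theorem punct_add (w w' : GolayPt → ZMod 2) : punct (w + w') = punct w + punct w' := rfl

theorem punct_zero : punct 0 = 0 := rfl

/-- weight of a word in terms of its punctured word -/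
theorem hammingNorm_punct (w : GolayPt → ZMod 2) :
    hammingNorm w = (if w none ≠ 0 then 1 else 0) + hammingNorm (punct w) := by
  unfold hammingNorm punct
  rw [Finset.card_filter, Finset.card_filter, Fintype.sum_option]

theorem hammingNorm_punct_le (w : GolayPt → ZMod 2) : hammingNorm (punct w) ≤ hammingNorm w := by
  rw [hammingNorm_punct w]; omega

theorem hammingNorm_le_punct (w : GolayPt → ZMod 2) : hammingNorm w ≤ hammingNorm (punct w) + 1 := by
  rw [hammingNorm_punct w]; split_ifs <;> omega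

theorem punct_eq_zero {w : GolayPt → ZMod 2} (hw : w ∈ golayCode) (h : punct w = 0) : w = 0 := by
  by_contra h0
  have h8 := golayCode_min_hammingNorm hw h0
  have := hammingNorm_le_punct w
  rw [h, hammingNorm_zero] at this
  omega

theorem punct_injOn : Set.InjOn punct (golayCode : Set (GolayPt → ZMod 2)) := by
  intro w hw w' hw' h
  have : punct (w - w') = 0 := by rw [punct_sub, h, sub_self]
  exact sub_eq_zero.mp (punct_eq_zero (golayCode.sub_mem hw hw') this)

theorem golay23_sub {u u' : ZMod 23 → ZMod 2} (hu : u ∈ golay23) (hu' : u' ∈ golay23) :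
    u - u' ∈ golay23 := by
  rw [mem_golay23_iff] at hu hu' ⊢
  obtain ⟨w, hw, rfl⟩ := hu
  obtain ⟨w', hw', rfl⟩ := hu'
  exact ⟨w - w', golayCode.sub_mem hw hw', rfl⟩

theorem golay23_min {u : ZMod 23 → ZMod 2} (hu : u ∈ golay23) (h0 : u ≠ 0) : 7 ≤ hammingNorm u := by
  rw [mem_golay23_iff] at hu
  obtain ⟨w, hw, rfl⟩ := hu
  have hw0 : w ≠ 0 := by
    intro h; apply h0; rw [h]; rfl
  have h8 := golayCode_min_hammingNorm hw hw0
  have := hammingNorm_le_punct w
  omega

/-- extend a word of length 23 by a zero at the extra coordinate -/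
def ext0 (u : ZMod 23 → ZMod 2) : GolayPt → ZMod 2
  | none => 0
  | some x => u x

theorem punct_ext0 (u : ZMod 23 → ZMod 2) : punct (ext0 u) = u := rfl

end Cfsg.Agent.Lib.Helper27
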