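import Mathlib
import Cfsg.Prelude.Def_Sporadic_a
import Cfsg.Agent.Lib.Helper27.Golay23

set_option autoImplicit false

namespace Cfsg.Agent.Lib.Helper27

open Cfsg Cfsg.Agent.Lib.Helper26 Cfsg.Agent.Lib.Helper93

theorem popc_split (m : ℕ) : popc m = popc (m % 2 ^ 23) + (m / 2 ^ 23) % 2 := by
  have h1 : popc m = popcAux 23 (m % 2 ^ 23) + popcAux 1 (m / 2 ^ 23) := by
    unfold popc
    rw [show (24 : ℕ) = 23 + 1 from rfl, popcAux_add]
  have h2 : popc (m % 2 ^ 23) = popcAux 23 (m % 2 ^ 23) + popcAux 1 ((m % 2 ^ 23) / 2 ^ 23) := by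
    unfold popc
    rw [show (24 : ℕ) = 23 + 1 from rfl, popcAux_add, Nat.mod_mod]
  have h3 : (m % 2 ^ 23) / 2 ^ 23 = 0 := Nat.div_eq_of_lt (Nat.mod_lt _ (by norm_num))
  have h4 : ∀ x, popcAux 1 x = x % 2 := fun x => by simp [popcAux]
  rw [h1, h2, h3, h4, h4]
  omega

/-- weight of the punctured word in terms of the mask -/
theorem hammingNorm_punct_eq (w : GolayPt → ZMod 2) :
    hammingNorm (punct w) = popc (maskOf w % 2 ^ 23) := by
  have h1 := hammingNorm_punct w
  have h2 : hammingNorm w = popc (maskOf w) := by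
    rw [hammingNorm_eq_card_support₂, card_support₂_eq_popc]
  have h3 := popc_split (maskOf w)
  have h4 : (maskOf w).testBit 23 = decide (none ∈ support₂ w) :=
    testBit_maskOfSet_idx (support₂ w) none
  rw [Nat.testBit_eq_decide_div_mod_eq] at h4
  have h5 : (none : GolayPt) ∈ support₂ w ↔ w none ≠ 0 := by
    simp [support₂]
  by_cases hn : w none ≠ 0
  · have : maskOf w / 2 ^ 23 % 2 = 1 := by
      have := h5.mpr hn
      simpa [this] using h4
    rw [if_pos hn] at h1
    omega
  · have : ¬ maskOf w / 2 ^ 23 % 2 = 1 := by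
      have hh : (none : GolayPt) ∉ support₂ w := fun h => hn (h5.mp h)
      simpa [hh] using h4
    rw [if_neg hn] at h1
    omega

/-- counting words of the punctured code by a condition on the weight -/
theorem golay23_ncard (k : ℕ) :
    {u : ZMod 23 → ZMod 2 | u ∈ golay23 ∧ hammingNorm u = k}.ncard =
      countCode (fun m => popT (m % 8388608) == k) := by
  have hset : {u : ZMod 23 → ZMod 2 | u ∈ golay23 ∧ hammingNorm u = k} =
      (fun m => punct (wordOf m)) ''
        ((codeMasks.filter fun m => popT (m % 8388608) == k) : Finset ℕ) := by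
    ext u
    simp only [Set.mem_ofPred_eq, Set.mem_image, Finset.coe_filter, mem_codeMasks, beq_iff_eq]
    constructor
    · rintro ⟨hu, hk⟩
      obtain ⟨w, hw, rfl⟩ := (mem_golay23_iff u).mp hu
      refine ⟨maskOf w, ⟨(mem_golayCode_iff w).mp hw, ?_⟩, by rw [wordOf_maskOf]⟩
      rw [hammingNorm_punct_eq] at hk
      rw [← popc_eq_popT, ← hk]
      · norm_num
      · have := Nat.mod_lt (maskOf w) (show 0 < 8388608 by norm_num)
        omega
    · rintro ⟨m, ⟨hm, hk⟩, rfl⟩
      have hlt := isCode_lt hm
      refine ⟨(mem_golay23_iff _).mpr ⟨wordOf m, (wordOf_mem_golayCode_iff hlt).mpr hm, rfl⟩, ?_⟩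
      rw [hammingNorm_punct_eq, maskOf_wordOf_of_lt hlt, ← hk, popc_eq_popT]
      · norm_num
      · have := Nat.mod_lt m (show 0 < 2 ^ 23 by norm_num)
        omega
  rw [hset, Set.InjOn.ncard_image, Set.ncard_coe_finset, countCode_eq_card]
  intro m hm n hn h
  simp only [Finset.coe_filter, mem_codeMasks, Set.mem_ofPred_eq] at hm hn
  have hm' := isCode_lt hm.1
  have hn' := isCode_lt hn.1
  have := punct_injOn ((wordOf_mem_golayCode_iff hm').mpr hm.1)
    ((wordOf_mem_golayCode_iff hn').mpr hn.1) h
  exact wordOf_injOn hm' hn' this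

theorem golay23_card : golay23.ncard = 4096 := by
  have : golay23 = punct '' (golayCode : Set (GolayPt → ZMod 2)) := by
    ext u
    rw [mem_golay23_iff]
    simp only [Set.mem_image, SetLike.mem_coe]
    constructor
    · rintro ⟨w, hw, rfl⟩; exact ⟨w, hw, rfl⟩
    · rintro ⟨w, hw, rfl⟩; exact ⟨w, hw, rfl⟩
  rw [this, Set.InjOn.ncard_image punct_injOn]
  have := card_golayCode
  rw [← _root_.Nat.card_coe_set_eq]
  exact this

theorem count23_7 : countCode (fun m => popT (m % 8388608) == 7) = 253 := by decide +kernel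
theorem count23_8 : countCode (fun m => popT (m % 8388608) == 8) = 506 := by decide +kernel
theorem count23_11 : countCode (fun m => popT (m % 8388608) == 11) = 1288 := by decide +kernel
theorem count23_12 : countCode (fun m => popT (m % 8388608) == 12) = 1288 := by decide +kernel
theorem count23_15 : countCode (fun m => popT (m % 8388608) == 15) = 506 := by decide +kernel
theorem count23_16 : countCode (fun m => popT (m % 8388608) == 16) = 253 := by decide +kernel

end Cfsg.Agent.Lib.Helper27
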