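import Mathlib
import Cfsg.Prelude.Def_SporadicCombinatorics
import Cfsg.Agent.Lib.Helper27.F4

set_option autoImplicit false

namespace Cfsg.Agent.Lib.Helper27

open Cfsg

theorem fin6_cases (i : Fin 6) : i = 0 ∨ i = 1 ∨ i = 2 ∨ i = 3 ∨ i = 4 ∨ i = 5 := by
  revert i; decide

/-- first generator of the hexacode in the concrete model (`ω = 2`, `ω² = 3`) -/
def G1 : Fin 6 → Fin 4 := ![2, 3, 3, 2, 3, 2]
/-- second generator of the hexacode in the concrete model -/
def G2 : Fin 6 → Fin 4 := ![3, 2, 2, 3, 3, 2]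
/-- third generator of the hexacode in the concrete model -/
def G3 : Fin 6 → Fin 4 := ![3, 2, 3, 2, 2, 3]

/-- parameter space of the hexacode -/
abbrev P3 : Type := Fin 4 × Fin 4 × Fin 4

/-- the words of the concrete hexacode -/
def w4 (p : P3) : Fin 6 → Fin 4 := fun k =>
  add4 (add4 (mul4 p.1 (G1 k)) (mul4 p.2.1 (G2 k))) (mul4 p.2.2 (G3 k))

/-- recover the parameters from the first three coordinates -/
def dec4 (y : Fin 6 → Fin 4) : P3 :=
  (add4 (add4 (mul4 2 (y 0)) (mul4 3 (y 1))) (mul4 0 (y 2)),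
   add4 (add4 (mul4 3 (y 0)) (mul4 3 (y 1))) (mul4 1 (y 2)),
   add4 (add4 (mul4 0 (y 0)) (mul4 1 (y 1))) (mul4 1 (y 2)))

theorem dec4_w4 : ∀ p : P3, dec4 (w4 p) = p := by decide +kernel

theorem w4_injective : Function.Injective w4 := by
  intro p q h
  rw [← dec4_w4 p, ← dec4_w4 q, h]

/-- membership in the concrete hexacode -/
def IsHex4 (y : Fin 6 → Fin 4) : Prop := w4 (dec4 y) = y

instance instDecidableIsHex4 (y : Fin 6 → Fin 4) : Decidable (IsHex4 y) := by
  unfold IsHex4; infer_instance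

theorem isHex4_iff (y : Fin 6 → Fin 4) : IsHex4 y ↔ ∃ p : P3, w4 p = y :=
  ⟨fun h => ⟨dec4 y, h⟩, fun ⟨p, hp⟩ => by unfold IsHex4; rw [← hp, dec4_w4]⟩

section
variable {F : Type*} [Field F] [Fintype F] (hF : Fintype.card F = 4) {ω : F}
  (hω : ω ^ 2 + ω + 1 = 0)

include hF hω in
theorem gen1_eq : (![ω, ω ^ 2, ω ^ 2, ω, ω ^ 2, ω] : Fin 6 → F) = fun k => ι ω (G1 k) := by
  have hsq := ω_sq hF hω
  funext k
  rcases fin6_cases k with h | h | h | h | h | h <;> subst h
  · rfl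
  · exact hsq
  · exact hsq
  · rfl
  · exact hsq
  · rfl

include hF hω in
theorem gen2_eq : (![ω ^ 2, ω, ω, ω ^ 2, ω ^ 2, ω] : Fin 6 → F) = fun k => ι ω (G2 k) := by
  have hsq := ω_sq hF hω
  funext k
  rcases fin6_cases k with h | h | h | h | h | h <;> subst h
  · exact hsq
  · rfl
  · rfl
  · exact hsq
  · exact hsq
  · rfl

include hF hω in
theorem gen3_eq : (![ω ^ 2, ω, ω ^ 2, ω, ω, ω ^ 2] : Fin 6 → F) = fun k => ι ω (G3 k) := by
  have hsq := ω_sq hF hω
  funext k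
  rcases fin6_cases k with h | h | h | h | h | h <;> subst h
  · exact hsq
  · rfl
  · exact hsq
  · rfl
  · rfl
  · exact hsq

/-- embed a concrete word into `F ^ 6` -/
def emb (ω : F) (y : Fin 6 → Fin 4) : Fin 6 → F := fun k => ι ω (y k)

include hF hω in
theorem emb_injective : Function.Injective (emb ω) := by
  intro y y' h
  funext k
  exact ι_injective hF hω (congrFun h k)

include hF hω in
theorem emb_surjective : Function.Surjective (emb ω) := by
  intro x
  choose y hy using fun k => ι_surjective hF hω (x k)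
  exact ⟨y, funext hy⟩

include hF hω in
theorem comb_eq (p : P3) :
    ι ω p.1 • (![ω, ω ^ 2, ω ^ 2, ω, ω ^ 2, ω] : Fin 6 → F) +
      ι ω p.2.1 • (![ω ^ 2, ω, ω, ω ^ 2, ω ^ 2, ω] : Fin 6 → F) +
      ι ω p.2.2 • (![ω ^ 2, ω, ω ^ 2, ω, ω, ω ^ 2] : Fin 6 → F) = emb ω (w4 p) := by
  rw [gen1_eq hF hω, gen2_eq hF hω, gen3_eq hF hω]
  funext k
  simp only [Pi.add_apply, Pi.smul_apply, smul_eq_mul, emb, w4]
  rw [ι_mul_eq hF hω, ι_mul_eq hF hω, ι_mul_eq hF hω, ι_add_eq hF, ι_add_eq hF]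

include hF hω in
theorem mem_hexacode_iff (x : Fin 6 → F) : x ∈ hexacode F ω ↔ ∃ p : P3, emb ω (w4 p) = x := by
  unfold hexacode
  rw [Submodule.mem_span_triple]
  constructor
  · rintro ⟨a, b, c, rfl⟩
    obtain ⟨a', rfl⟩ := ι_surjective hF hω a
    obtain ⟨b', rfl⟩ := ι_surjective hF hω b
    obtain ⟨c', rfl⟩ := ι_surjective hF hω c
    exact ⟨(a', b', c'), (comb_eq hF hω (a', b', c')).symm⟩
  · rintro ⟨p, rfl⟩
    exact ⟨ι ω p.1, ι ω p.2.1, ι ω p.2.2, comb_eq hF hω p⟩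

include hF hω in
theorem emb_mem_hexacode_iff (y : Fin 6 → Fin 4) : emb ω y ∈ hexacode F ω ↔ IsHex4 y := by
  rw [mem_hexacode_iff hF hω, isHex4_iff]
  constructor
  · rintro ⟨p, hp⟩; exact ⟨p, emb_injective hF hω hp⟩
  · rintro ⟨p, hp⟩; exact ⟨p, by rw [hp]⟩

/-- the hexacode is in bijection with the parameter space -/
noncomputable def hexEquiv : P3 ≃ hexacode F ω :=
  Equiv.ofBijective (fun p => ⟨emb ω (w4 p), (mem_hexacode_iff hF hω _).mpr ⟨p, rfl⟩⟩) (by
    constructor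
    · intro p q h
      have := congrArg Subtype.val h
      exact w4_injective (emb_injective hF hω this)
    · rintro ⟨x, hx⟩
      obtain ⟨p, rfl⟩ := (mem_hexacode_iff hF hω x).mp hx
      exact ⟨p, rfl⟩)

include hF hω in
theorem hexacode_card : Nat.card (hexacode F ω) = 64 := by
  rw [← Nat.card_congr (hexEquiv hF hω), Nat.card_eq_fintype_card]
  simp only [Fintype.card_prod, Fintype.card_fin]

include hF hω in
/-- transfer of counting problems to the parameter space -/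
theorem hex_ncard (P : (Fin 6 → F) → Prop) (Q : (Fin 6 → Fin 4) → Prop) [DecidablePred Q]
    (hPQ : ∀ y, P (emb ω y) ↔ Q y) :
    {x : Fin 6 → F | x ∈ hexacode F ω ∧ P x}.ncard =
      (Finset.univ.filter fun p : P3 => Q (w4 p)).card := by
  have : {x : Fin 6 → F | x ∈ hexacode F ω ∧ P x} =
      (fun p : P3 => emb ω (w4 p)) '' ((Finset.univ.filter fun p : P3 => Q (w4 p)) : Set P3) := by
    ext x
    simp only [Set.mem_ofPred_eq, Set.mem_image, Finset.coe_filter, Finset.mem_univ, true_and]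
    constructor
    · rintro ⟨hx, hP⟩
      obtain ⟨p, rfl⟩ := (mem_hexacode_iff hF hω x).mp hx
      exact ⟨p, (hPQ _).mp hP, rfl⟩
    · rintro ⟨p, hQ, rfl⟩
      exact ⟨(mem_hexacode_iff hF hω _).mpr ⟨p, rfl⟩, (hPQ _).mpr hQ⟩
  rw [this, Set.ncard_image_of_injective _ (fun p q h =>
    w4_injective (emb_injective hF hω h)), Set.ncard_coe_finset]

include hF hω in
theorem wt_emb [DecidableEq F] (y : Fin 6 → Fin 4) :
    (Finset.univ.filter fun i => emb ω y i ≠ 0).card = (Finset.univ.filter fun i => y i ≠ 0).card := by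
  congr 1
  ext i
  simp only [Finset.mem_filter, Finset.mem_univ, true_and, emb, ne_eq, ι_eq_zero_iff hF hω]

end

end Cfsg.Agent.Lib.Helper27
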