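import Cfsg.Agent.Lib.Helper27.J2Extra
import Cfsg.Agent.Lib.Helper9.ESCrit
import Cfsg.Agent.Lib.Helper14.A5PresCard

/-!
# The centraliser of a reflection in `J₂`: shape `2^{1+4} : A₅`
-/

set_option autoImplicit false

namespace Cfsg.Agent.Lib.Helper27.J2
open Quaternion Cfsg.Spor

/-! ### extraspecial groups and isomorphisms -/

theorem mem_frattini_iff_equiv {A B : Type*} [Group A] [Group B] (e : A ≃* B) (x : A) :
    x ∈ frattini A ↔ e x ∈ frattini B := by
  constructor
  · intro hx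
    exact frattini_le_comap_frattini_of_surjective (φ := e.toMonoidHom) e.surjective hx
  · intro hx
    have := frattini_le_comap_frattini_of_surjective (φ := e.symm.toMonoidHom) e.symm.surjective hx
    simpa using this

theorem mem_commutator_iff_equiv {A B : Type*} [Group A] [Group B] (e : A ≃* B) (x : A) :
    x ∈ commutator A ↔ e x ∈ commutator B := by
  have h : (commutator A).map e.toMonoidHom = commutator B := by
    rw [commutator_def, commutator_def, Subgroup.map_commutator,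
      Subgroup.map_top_of_surjective e.toMonoidHom e.surjective]
  rw [← h]
  exact (Subgroup.mem_map_iff_mem e.injective).symm

theorem isExtraspecial_of_mulEquiv {A B : Type*} [Group A] [Group B] (e : A ≃* B) {p : ℕ}
    (h : Cfsg.IsExtraspecial p A) : Cfsg.IsExtraspecial p B := by
  obtain ⟨⟨hp, hfr, hco⟩, hcard⟩ := h
  have hcen : ∀ x : A, x ∈ Subgroup.center A ↔ e x ∈ Subgroup.center B :=
    fun x => (Cfsg.Agent.Lib.Helper9.map_mem_center_iff e x).symm
  refine ⟨⟨hp.of_equiv e, ?_, ?_⟩, ?_⟩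
  · ext y
    obtain ⟨x, rfl⟩ := e.surjective y
    rw [← mem_frattini_iff_equiv, ← hcen, hfr]
  · ext y
    obtain ⟨x, rfl⟩ := e.surjective y
    rw [← mem_commutator_iff_equiv, ← hcen, hco]
  · rw [← Nat.card_congr (Subgroup.centerCongr e).toEquiv]
    exact hcard

/-! ### the abstract structure lemma -/

theorem exists_Q_of_data {L C : Type*} [Group L] [Group C] [Finite L] (π : L →* C)
    (hπ : Function.Surjective π) (z0 : L) (hker : ∀ l, π l = 1 ↔ l = 1 ∨ l = z0) (hz0 : z0 ≠ 1)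
    (H : Subgroup L) [hHn : H.Normal] (hH32 : Nat.card H = 32) (hHes : Cfsg.IsExtraspecial 2 H)
    (hz0H : z0 ∉ H) (hL : Nat.card L = 3840) (α β : L)
    (h3 : ∃ h ∈ H, π α ^ 3 = π h) (h5 : ∃ h ∈ H, π β ^ 5 = π h)
    (h2 : ∃ h ∈ H, (π α * π β) ^ 2 = π h) (hne : ∀ h ∈ H, π α ≠ π h) :
    ∃ (Q : Subgroup C) (_ : Q.Normal), Nat.card Q = 32 ∧ Cfsg.IsExtraspecial 2 Q ∧
      Nonempty (C ⧸ Q ≃* alternatingGroup (Fin 5)) := by
  have hCfin : Finite C := Finite.of_surjective π hπ
  let ψ : H →* C := π.comp H.subtype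
  have hψinj : Function.Injective ψ := by
    rw [injective_iff_map_eq_one]
    intro h hh
    rcases (hker h).1 hh with h1 | h1
    · exact Subtype.ext h1
    · exfalso; apply hz0H; rw [← h1]; exact h.2
  let Q : Subgroup C := ψ.range
  have hQmem : ∀ c : C, c ∈ Q ↔ ∃ h ∈ H, c = π h := by
    intro c
    constructor
    · rintro ⟨h, rfl⟩; exact ⟨h, h.2, rfl⟩
    · rintro ⟨h, hh, rfl⟩; exact ⟨⟨h, hh⟩, rfl⟩
  have hQn : Q.Normal := by
    refine ⟨fun q hq c => ?_⟩
    obtain ⟨h, hh, rfl⟩ := (hQmem q).1 hq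
    obtain ⟨l, rfl⟩ := hπ c
    rw [hQmem]
    exact ⟨l * h * l⁻¹, hHn.conj_mem h hh l, by rw [map_mul, map_mul, map_inv]⟩
  let e : H ≃* Q := MonoidHom.ofInjective hψinj
  have hQ32 : Nat.card Q = 32 := by rw [← Nat.card_congr e.toEquiv, hH32]
  have hQes : Cfsg.IsExtraspecial 2 Q := isExtraspecial_of_mulEquiv e hHes
  refine ⟨Q, hQn, hQ32, hQes, ?_⟩
  -- the order of `C`
  have hkercard : Nat.card π.ker = 2 := by
    rw [Nat.card_eq_two_iff]
    refine ⟨⟨1, π.ker.one_mem⟩, ⟨z0, (hker z0).2 (Or.inr rfl)⟩, ?_, ?_⟩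
    · intro h
      exact hz0 (congrArg Subtype.val h).symm
    · ext x
      simp only [Set.mem_insert_iff, Set.mem_singleton_iff, Set.mem_univ, iff_true]
      rcases (hker x.1).1 x.2 with h | h
      · left; exact Subtype.ext h
      · right; exact Subtype.ext h
  have hC : Nat.card C = 1920 := by
    have h1 := Subgroup.card_eq_card_quotient_mul_card_subgroup π.ker
    rw [hL, hkercard, Nat.card_congr (QuotientGroup.quotientKerEquivOfSurjective π hπ).toEquiv] at h1
    omega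
  have hCQ : Nat.card (C ⧸ Q) = 60 := by
    have h1 := Subgroup.card_eq_card_quotient_mul_card_subgroup Q
    rw [hC, hQ32] at h1
    omega
  -- the generators
  let a : C ⧸ Q := QuotientGroup.mk (π α)
  let b : C ⧸ Q := QuotientGroup.mk (π β)
  have hmk1 : ∀ c : C, (∃ h ∈ H, c = π h) → (QuotientGroup.mk c : C ⧸ Q) = 1 := by
    intro c hc
    exact (QuotientGroup.eq_one_iff c).2 ((hQmem c).2 hc)
  have ha3 : a ^ 3 = 1 := by
    change (QuotientGroup.mk (π α) : C ⧸ Q) ^ 3 = 1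
    rw [← QuotientGroup.mk_pow]
    exact hmk1 _ h3
  have hb5 : b ^ 5 = 1 := by
    change (QuotientGroup.mk (π β) : C ⧸ Q) ^ 5 = 1
    rw [← QuotientGroup.mk_pow]
    exact hmk1 _ h5
  have hab : (a * b) ^ 2 = 1 := by
    change ((QuotientGroup.mk (π α) : C ⧸ Q) * QuotientGroup.mk (π β)) ^ 2 = 1
    rw [← QuotientGroup.mk_mul, ← QuotientGroup.mk_pow]
    exact hmk1 _ h2
  have ha1 : a ≠ 1 := by
    intro h
    have h1 : π α ∈ Q := (QuotientGroup.eq_one_iff (π α)).1 h
    obtain ⟨h', hh', he⟩ := (hQmem _).1 h1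
    exact hne h' hh' he
  obtain ⟨e5⟩ := Cfsg.Agent.Lib.Helper14.closure_pair_equiv_alt5 a b ha3 hb5 hab ha1
  have hcl : Nat.card (Subgroup.closure ({a, b} : Set (C ⧸ Q))) = 60 :=
    Cfsg.Agent.Lib.Helper14.card_closure_pair_of_a5_pres a b ha3 hb5 hab ha1
  have htop : Subgroup.closure ({a, b} : Set (C ⧸ Q)) = ⊤ := by
    have : Finite (C ⧸ Q) := inferInstance
    exact (Subgroup.card_eq_iff_eq_top _).1 (by rw [hcl, hCQ])
  exact ⟨(Subgroup.topEquiv.symm.trans (MulEquiv.subgroupCongr htop.symm)).trans e5⟩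

end Cfsg.Agent.Lib.Helper27.J2
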