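import Cfsg.Agent.Lib.Helper27.J2CentMain

/-!
# The centraliser of a reflection in `J₂`: the final assembly
-/

set_option autoImplicit false

namespace Cfsg.Agent.Lib.Helper27.J2
open Quaternion Cfsg.Spor

/-- the stabiliser of `e1` as a subgroup of the centraliser of the reflection -/
noncomputable abbrev HL : Subgroup Lsub := Hsub.subgroupOf Lsub

instance instNormalHL : HL.Normal := by
  refine ⟨fun h hh l => ?_⟩
  rw [Subgroup.mem_subgroupOf] at hh ⊢
  exact Hsub_normal_in_Lsub l.2 hh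

theorem card_HL : Nat.card HL = 32 := by
  rw [Nat.card_congr (Subgroup.subgroupOfEquivOfLe Hsub_le_Lsub).toEquiv, card_Hsub]

theorem isExtraspecial_HL : Cfsg.IsExtraspecial 2 HL :=
  isExtraspecial_of_mulEquiv (Subgroup.subgroupOfEquivOfLe Hsub_le_Lsub).symm isExtraspecial_Hsub

instance instFiniteLsub : Finite Lsub := Nat.finite_of_card_ne_zero (by rw [card_Lsub]; norm_num)

/-- `-1` as an element of the centraliser -/
noncomputable def z0L : Lsub := ⟨negEl, negEl_mem_Lsub⟩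

theorem negEl_ne_one : negEl ≠ 1 := fun h => negPerm_ne_one (congrArg Subtype.val h)

theorem z0L_ne_one : z0L ≠ 1 := fun h => negEl_ne_one (congrArg Subtype.val h)

theorem z0L_notMem : z0L ∉ HL := by
  rw [Subgroup.mem_subgroupOf]
  exact negEl_notMem_Hsub

/-- the elements realising the units `ω`, `ζ` -/
theorem exists_alpha_beta : ∃ α β : Lsub, ActsBy α omegaU ∧ ActsBy β zetaU := by
  obtain ⟨h1, h2, -⟩ := omega_zeta_ok
  obtain ⟨k, hk, hke⟩ := inS_of_unit (mem_Units.2 h1)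
  obtain ⟨k', hk', hke'⟩ := inS_of_unit (mem_Units.2 h2)
  have a1 : ActsBy ⟨k, hk⟩ omegaU := hke
  have a2 : ActsBy ⟨k', hk'⟩ zetaU := hke'
  exact ⟨⟨⟨k, hk⟩, actsBy_mem_Lsub h1 a1⟩, ⟨⟨k', hk'⟩, actsBy_mem_Lsub h2 a2⟩, a1, a2⟩

section general

variable (f : Equiv.Perm icoLeech) (hf : IsIcoReflection f) (hfm : f ∈ twoJ2)

/-- conjugation by `g0` followed by the projection to `J₂` -/
noncomputable def phiHom (g0 : twoJ2) : Lsub →* J2 :=
  (QuotientGroup.mk' (Subgroup.center twoJ2)).comp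
    ((MulAut.conj g0).toMonoidHom.comp Lsub.subtype)

theorem phiHom_apply (g0 : twoJ2) (l : Lsub) :
    phiHom g0 l = QuotientGroup.mk (g0 * (l : twoJ2) * g0⁻¹) := rfl

theorem phiHom_mem (g0 : twoJ2) (h0 : (⟨f, hfm⟩ : twoJ2) = g0 * s1G * g0⁻¹) (l : Lsub) :
    phiHom g0 l ∈ Subgroup.centralizer {(QuotientGroup.mk ⟨f, hfm⟩ : J2)} := by
  rw [Subgroup.mem_centralizer_iff]
  intro t ht
  rw [Set.mem_singleton_iff] at ht
  subst ht
  rw [phiHom_apply, h0, ← QuotientGroup.mk_mul, ← QuotientGroup.mk_mul]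
  congr 1
  have hl := mem_Lsub'.1 l.2
  calc g0 * s1G * g0⁻¹ * (g0 * (l : twoJ2) * g0⁻¹) = g0 * (s1G * (l : twoJ2)) * g0⁻¹ := by group
    _ = g0 * ((l : twoJ2) * s1G) * g0⁻¹ := by rw [hl]
    _ = g0 * (l : twoJ2) * g0⁻¹ * (g0 * s1G * g0⁻¹) := by group

/-- the surjection from the centraliser of `s₁` in `2.J₂` onto the centraliser of the image of `f` -/
noncomputable def piHom (g0 : twoJ2) (h0 : (⟨f, hfm⟩ : twoJ2) = g0 * s1G * g0⁻¹) :
    Lsub →* Subgroup.centralizer {(QuotientGroup.mk ⟨f, hfm⟩ : J2)} :=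
  (phiHom g0).codRestrict _ (phiHom_mem f hfm g0 h0)

theorem piHom_val (g0 : twoJ2) (h0 : (⟨f, hfm⟩ : twoJ2) = g0 * s1G * g0⁻¹) (l : Lsub) :
    ((piHom f hfm g0 h0 l : Subgroup.centralizer {(QuotientGroup.mk ⟨f, hfm⟩ : J2)}) : J2) =
      QuotientGroup.mk (g0 * (l : twoJ2) * g0⁻¹) := rfl

theorem piHom_ker (g0 : twoJ2) (h0 : (⟨f, hfm⟩ : twoJ2) = g0 * s1G * g0⁻¹) (l : Lsub) :
    piHom f hfm g0 h0 l = 1 ↔ l = 1 ∨ l = z0L := by
  constructor
  · intro h
    have h1 : (QuotientGroup.mk (g0 * (l : twoJ2) * g0⁻¹) : J2) = 1 := by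
      rw [← piHom_val f hfm g0 h0 l, h]; rfl
    rw [QuotientGroup.eq_one_iff] at h1
    rcases center_cases _ h1 with h2 | h2
    · left
      apply Subtype.ext
      calc (l : twoJ2) = g0⁻¹ * (g0 * (l : twoJ2) * g0⁻¹) * g0 := by group
        _ = 1 := by rw [h2]; group
    · right
      apply Subtype.ext
      calc (l : twoJ2) = g0⁻¹ * (g0 * (l : twoJ2) * g0⁻¹) * g0 := by group
        _ = g0⁻¹ * negEl * g0 := by rw [h2]
        _ = negEl := by rw [mul_assoc, ← negEl_comm, ← mul_assoc, inv_mul_cancel, one_mul]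
  · rintro (rfl | rfl)
    · exact map_one _
    · apply Subtype.ext
      rw [piHom_val]
      change (QuotientGroup.mk (g0 * negEl * g0⁻¹) : J2) = 1
      rw [QuotientGroup.eq_one_iff]
      have : g0 * negEl * g0⁻¹ = negEl := by rw [negEl_comm, mul_assoc, mul_inv_cancel, mul_one]
      rw [this]
      exact negEl_mem_center

include hf in
theorem piHom_surjective (g0 : twoJ2) (h0 : (⟨f, hfm⟩ : twoJ2) = g0 * s1G * g0⁻¹) :
    Function.Surjective (piHom f hfm g0 h0) := by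
  rintro ⟨c, hc⟩
  obtain ⟨g, rfl⟩ := QuotientGroup.mk_surjective c
  rw [Subgroup.mem_centralizer_iff] at hc
  have h1 := hc _ (Set.mem_singleton _)
  rw [← QuotientGroup.mk_mul, ← QuotientGroup.mk_mul, QuotientGroup.eq] at h1
  set fG : twoJ2 := ⟨f, hfm⟩ with hfG
  -- `(fG g)⁻¹ (g fG)` is central
  rcases center_cases _ h1 with h2 | h2
  · -- `g` commutes with `fG`
    have hcomm : g * fG = fG * g := by
      calc g * fG = (fG * g) * ((fG * g)⁻¹ * (g * fG)) := by group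
        _ = fG * g := by rw [h2, mul_one]
    have hl : g0⁻¹ * g * g0 ∈ Lsub := by
      rw [mem_Lsub']
      have h3 : s1G = g0⁻¹ * fG * g0 := by rw [h0]; group
      rw [h3]
      calc g0⁻¹ * g * g0 * (g0⁻¹ * fG * g0) = g0⁻¹ * (g * fG) * g0 := by group
        _ = g0⁻¹ * (fG * g) * g0 := by rw [hcomm]
        _ = g0⁻¹ * fG * g0 * (g0⁻¹ * g * g0) := by group
    refine ⟨⟨g0⁻¹ * g * g0, hl⟩, ?_⟩
    apply Subtype.ext
    rw [piHom_val]
    congr 1
    group
  · -- impossible: `-f` would be a reflection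
    exfalso
    obtain ⟨r, hr, hfr⟩ := (isIcoReflection_iff f).1 hf
    have hconj : IsIcoReflection ((g : Equiv.Perm icoLeech) * f * (g : Equiv.Perm icoLeech)⁻¹) :=
      isIcoReflection_conj g.2 hf
    obtain ⟨r', hr', hfr'⟩ := (isIcoReflection_iff _).1 hconj
    have h4 : g * fG = fG * g * negEl := by
      calc g * fG = (fG * g) * ((fG * g)⁻¹ * (g * fG)) := by group
        _ = fG * g * negEl := by rw [h2]
    have key : g * fG * g⁻¹ = negEl * fG := by
      calc g * fG * g⁻¹ = fG * (g * negEl) * g⁻¹ := by rw [h4]; group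
        _ = fG * (negEl * g) * g⁻¹ := by rw [negEl_comm g]
        _ = fG * negEl := by group
        _ = negEl * fG := negEl_comm fG
    have key' : (g : Equiv.Perm icoLeech) * f * (g : Equiv.Perm icoLeech)⁻¹ = negPerm * f :=
      congrArg Subtype.val key
    rw [hfr'] at key'
    rw [hfr] at key'
    exact not_refl_neg hr hr' key'.symm

theorem unit_arith : Ic.one.neg.mul Ic.one.neg = Ic.one ∧ Ic.one.neg.mul Ic.one = Ic.one.neg := by
  decide

include hf in
/-- **the centraliser of the image of a reflection in `J₂` has shape `2^{1+4} : A₅`** -/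
theorem centralizer_structure :
    ∃ (Q : Subgroup (Subgroup.centralizer {(QuotientGroup.mk ⟨f, hfm⟩ : J2)})) (_ : Q.Normal),
      Nat.card Q = 32 ∧ Cfsg.IsExtraspecial 2 Q ∧
      Nonempty ((Subgroup.centralizer {(QuotientGroup.mk ⟨f, hfm⟩ : J2)}) ⧸ Q ≃*
        alternatingGroup (Fin 5)) := by
  obtain ⟨r, hr, hfr⟩ := (isIcoReflection_iff f).1 hf
  obtain ⟨g0, h0'⟩ := exists_conj_s1G r hr
  have h0 : (⟨f, hfm⟩ : twoJ2) = g0 * s1G * g0⁻¹ := by
    rw [← h0']; exact Subtype.ext hfr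
  obtain ⟨α, β, hα, hβ⟩ := exists_alpha_beta
  obtain ⟨-, -, ho3, hz5, hzo, hone, hneg⟩ := omega_zeta_ok
  have hπz : piHom f hfm g0 h0 z0L = 1 := (piHom_ker f hfm g0 h0 z0L).2 (Or.inr rfl)
  refine exists_Q_of_data (piHom f hfm g0 h0) (piHom_surjective f hf hfm g0 h0) z0L
    (piHom_ker f hfm g0 h0) z0L_ne_one HL card_HL isExtraspecial_HL z0L_notMem card_Lsub α β
    ?_ ?_ ?_ ?_
  · refine ⟨α * (α * α), ?_, ?_⟩
    · rw [Subgroup.mem_subgroupOf, mem_Hsub, ← actsBy_one_iff, ← ho3]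
      exact hα.mul (hα.mul hα)
    · have e : α ^ 3 = α * (α * α) := by simp [pow_succ, mul_assoc]
      rw [← map_pow, e]
  · refine ⟨β * (β * (β * (β * β))), ?_, ?_⟩
    · rw [Subgroup.mem_subgroupOf, mem_Hsub, ← actsBy_one_iff, ← hz5]
      exact hβ.mul (hβ.mul (hβ.mul (hβ.mul hβ)))
    · have e : β ^ 5 = β * (β * (β * (β * β))) := by simp [pow_succ, mul_assoc]
      rw [← map_pow, e]
  · refine ⟨z0L * ((α * β) * (α * β)), ?_, ?_⟩
    · rw [Subgroup.mem_subgroupOf, mem_Hsub, ← actsBy_one_iff, ← unit_arith.1]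
      have h1 : ActsBy ((α : twoJ2) * (β : twoJ2)) (zetaU.mul omegaU) := hα.mul hβ
      have h2 := h1.mul h1
      rw [hzo] at h2
      exact actsBy_negEl.mul h2
    · have e : (α * β) ^ 2 = (α * β) * (α * β) := pow_two _
      rw [map_mul, hπz, one_mul, ← map_mul, ← map_pow, e]
  · intro h hh heq
    have h1 : piHom f hfm g0 h0 (h⁻¹ * α) = 1 := by rw [map_mul, map_inv, heq, inv_mul_cancel]
    rw [Subgroup.mem_subgroupOf, mem_Hsub, ← actsBy_one_iff] at hh
    rcases (piHom_ker f hfm g0 h0 _).1 h1 with h2 | h2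
    · have h3 : α = h := by
        calc α = h * (h⁻¹ * α) := by group
          _ = h := by rw [h2, mul_one]
      rw [h3] at hα
      exact hone (hα.unique hh)
    · have h3 : α = h * z0L := by
        calc α = h * (h⁻¹ * α) := by group
          _ = h * z0L := by rw [h2]
      have h4 : ActsBy ((h : twoJ2) * negEl) (Ic.one.neg.mul Ic.one) := hh.mul actsBy_negEl
      rw [unit_arith.2] at h4
      have h5 : ActsBy (α : twoJ2) Ic.one.neg := by rw [h3]; exact h4
      exact hneg (hα.unique h5)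

end general

end Cfsg.Agent.Lib.Helper27.J2
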