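import Cfsg.Agent.Lib.Helper27.J2Cent

/-!
# The centraliser of a reflection in `J₂` (continued): the concrete data
-/

set_option autoImplicit false

namespace Cfsg.Agent.Lib.Helper27.J2
open Quaternion Cfsg.Spor

/-! ### `-s_r` is not a reflection -/

theorem smul_eq_smulV (a : ℍ[ℝ]) (v : Fin 3 → ℍ[ℝ]) : a • v = smulV a v := by
  funext t; simp

theorem not_refl_neg {r r' : icoLeech} (hr : qip (r : Fin 3 → ℍ[ℝ]) r = 4)
    (hr' : qip (r' : Fin 3 → ℍ[ℝ]) r' = 4) : negPerm * reflPerm r hr ≠ reflPerm r' hr' := by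
  intro h
  classical
  let Sp : Submodule ℍ[ℝ] (Fin 3 → ℍ[ℝ]) :=
    Submodule.span ℍ[ℝ] (({(r : Fin 3 → ℍ[ℝ]), (r' : Fin 3 → ℍ[ℝ])} : Finset (Fin 3 → ℍ[ℝ])) :
      Set (Fin 3 → ℍ[ℝ]))
  have hrS : (r : Fin 3 → ℍ[ℝ]) ∈ Sp := Submodule.subset_span (by simp)
  have hrS' : (r' : Fin 3 → ℍ[ℝ]) ∈ Sp := Submodule.subset_span (by simp)
  have hmem : ∀ x : icoLeech, (x : Fin 3 → ℍ[ℝ]) ∈ Sp := by
    intro x
    have hx := congrArg (fun f : Equiv.Perm icoLeech => ((f x : icoLeech) : Fin 3 → ℍ[ℝ])) h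
    simp only [Equiv.Perm.mul_apply, negPerm_apply, reflPerm_apply] at hx
    obtain ⟨a, -, ha⟩ := qip_mem_two x.2 r.2
    obtain ⟨b, -, hb⟩ := qip_mem_two x.2 r'.2
    rw [qrefl_eq _ _ ha, qrefl_eq _ _ hb] at hx
    have h2 : (x : Fin 3 → ℍ[ℝ]) + x = smulV a r + smulV b r' := by
      calc (x : Fin 3 → ℍ[ℝ]) + x = x - (-((x : Fin 3 → ℍ[ℝ]) - smulV a r)) + smulV a r := by abel
        _ = x - ((x : Fin 3 → ℍ[ℝ]) - smulV b r') + smulV a r := by rw [hx]
        _ = smulV a r + smulV b r' := by abel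
    have h3 : (x : Fin 3 → ℍ[ℝ]) = (2⁻¹ : ℍ[ℝ]) • (smulV a r + smulV b r') := by
      rw [← h2]
      funext t
      simp only [Pi.smul_apply, Pi.add_apply, smul_eq_mul]
      rw [← two_mul, ← mul_assoc, inv_mul_cancel₀ quat_two_ne_zero, one_mul]
    rw [h3, ← smul_eq_smulV, ← smul_eq_smulV]
    exact Sp.smul_mem _ (Sp.add_mem (Sp.smul_mem _ hrS) (Sp.smul_mem _ hrS'))
  have htop : Sp = ⊤ := by
    rw [eq_top_iff]
    intro v _
    have hv : v = (v 0 * 2⁻¹) • (e1 : Fin 3 → ℍ[ℝ]) + (v 1 * 2⁻¹) • (e2 : Fin 3 → ℍ[ℝ]) +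
        (v 2 * 2⁻¹) • (e3 : Fin 3 → ℍ[ℝ]) := by
      funext t
      fin_cases t <;>
      simp [e1, e2, e3, embV, E1, E2, E3, emb_two, emb_zero, mul_assoc,
        inv_mul_cancel₀ quat_two_ne_zero]
    rw [hv]
    exact Sp.add_mem (Sp.add_mem (Sp.smul_mem _ (hmem e1)) (Sp.smul_mem _ (hmem e2)))
      (Sp.smul_mem _ (hmem e3))
  have h3 : Module.finrank ℍ[ℝ] (Fin 3 → ℍ[ℝ]) = 3 := by simp
  have h2 : Module.finrank ℍ[ℝ] Sp ≤ 2 := by
    refine (finrank_span_finset_le_card _).trans ?_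
    exact Finset.card_le_two
  rw [htop, finrank_top, h3] at h2
  omega

/-! ### the centraliser of the reflection in `e1` inside `2.J₂` -/

/-- the centraliser of the reflection in `(2,0,0)`, as the stabiliser of a point of the 315 -/
noncomputable abbrev Lsub : Subgroup twoJ2 := MulAction.stabilizer twoJ2 aRefl

theorem aRefl_val : aRefl.1 = reflPerm e1 e1_qip := reflOf_E1_eq

theorem mem_Lsub {g : twoJ2} : g ∈ Lsub ↔ g * s1G * g⁻¹ = s1G := by
  rw [MulAction.mem_stabilizer_iff]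
  constructor
  · intro h
    apply Subtype.ext
    have := congrArg Subtype.val h
    rw [smul_val, aRefl_val] at this
    exact this
  · intro h
    apply Subtype.ext
    rw [smul_val, aRefl_val]
    exact congrArg Subtype.val h

theorem mem_Lsub' {g : twoJ2} : g ∈ Lsub ↔ g * s1G = s1G * g := by
  rw [mem_Lsub]
  constructor
  · intro h
    calc g * s1G = (g * s1G * g⁻¹) * g := by group
      _ = s1G * g := by rw [h]
  · intro h
    rw [h]; group

theorem card_Lsub : Nat.card Lsub = 3840 := by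
  have h1 : Nat.card twoJ2 = Nat.card (twoJ2 ⧸ Lsub) * Nat.card Lsub :=
    Subgroup.card_eq_card_quotient_mul_card_subgroup Lsub
  have h2 : Nat.card (twoJ2 ⧸ Lsub) = 315 := by
    rw [← Nat.card_congr (MulAction.orbitEquivQuotientStabilizer twoJ2 aRefl),
      MulAction.orbit_eq_univ, Nat.card_coe_set_eq, Set.ncard_univ, card_ReflSet]
  rw [card_twoJ2, h2] at h1
  omega

instance instFiniteTwoJ2 : Finite twoJ2 := Nat.finite_of_card_ne_zero (by rw [card_twoJ2]; norm_num)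

theorem Hsub_le_Lsub : Hsub ≤ Lsub := fun g hg => mem_Lsub'.2 (comm_s1G_of_fix (mem_Hsub.1 hg))

/-- an element centralising the reflection in `e1` maps `e1` to a unit multiple of `e1` -/
theorem exists_unit_of_mem_Lsub {g : twoJ2} (hg : g ∈ Lsub) :
    ∃ c ∈ Units, ((g : Equiv.Perm icoLeech) e1 : Fin 3 → ℍ[ℝ]) = smulV (emb c) (embV E1) := by
  have hU := isUni_of_mem g.2
  have h1 : (g : Equiv.Perm icoLeech) * reflPerm e1 e1_qip * (g : Equiv.Perm icoLeech)⁻¹ =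
      reflPerm e1 e1_qip := congrArg Subtype.val (mem_Lsub.1 hg)
  rw [conj_reflPerm hU] at h1
  obtain ⟨q, hq, hqe⟩ := reflPerm_eq_imp h1
  have hq' : q * star q = 1 := by rw [← star_mul_self_eq]; exact hq
  obtain ⟨-, hm1, -, hm3⟩ := ((g : Equiv.Perm icoLeech) e1).2
  have hv0 : (((g : Equiv.Perm icoLeech) e1 : icoLeech) : Fin 3 → ℍ[ℝ]) 0 = q * 2 := by
    rw [hqe]; change q * emb Ic.two = _; rw [emb_two]
  have hv1 : (((g : Equiv.Perm icoLeech) e1 : icoLeech) : Fin 3 → ℍ[ℝ]) 1 = 0 := by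
    rw [hqe]; change q * emb Ic.zero = _; rw [emb_zero, mul_zero]
  have hv2 : (((g : Equiv.Perm icoLeech) e1 : icoLeech) : Fin 3 → ℍ[ℝ]) 2 = 0 := by
    rw [hqe]; change q * emb Ic.zero = _; rw [emb_zero, mul_zero]
  rw [hv0, hv1, sub_zero] at hm1
  rw [hv0, hv1, hv2, add_zero, add_zero] at hm3
  obtain ⟨w, hw, hqw⟩ := mem_two_of_mem_both hm1 hm3
  have hqI : q ∈ icosians := by
    have : q = w := two_mul_cancel (by rw [← hqw, mul_two_eq])
    rw [this]; exact hw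
  obtain ⟨c, hcU, hcq⟩ := exists_unit_of_icosian hqI hq'
  exact ⟨c, hcU, by rw [hcq]; exact hqe⟩

/-- `k` maps `e1` to `c • e1` -/
def ActsBy (k : twoJ2) (c : Ic) : Prop :=
  ((k : Equiv.Perm icoLeech) e1 : Fin 3 → ℍ[ℝ]) = smulV (emb c) (embV E1)

theorem ActsBy.mul {k k' : twoJ2} {c c' : Ic} (h : ActsBy k c) (h' : ActsBy k' c') :
    ActsBy (k * k') (c'.mul c) := by
  unfold ActsBy at *
  change (((k : Equiv.Perm icoLeech) * (k' : Equiv.Perm icoLeech)) e1 : Fin 3 → ℍ[ℝ]) = _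
  rw [Equiv.Perm.mul_apply, (isUni_of_mem k.2).smul (emb c') (emb_mem_icosians c') e1 _ h', h,
    smulV_smulV, emb_mul]

theorem actsBy_one_iff {k : twoJ2} : ActsBy k Ic.one ↔ (k : Equiv.Perm icoLeech) e1 = e1 := by
  unfold ActsBy
  rw [emb_one, smulV_one]
  exact ⟨fun h => Subtype.ext h, fun h => by rw [h]; rfl⟩

theorem actsBy_negEl : ActsBy negEl Ic.one.neg := by
  unfold ActsBy
  change ((negPerm e1 : icoLeech) : Fin 3 → ℍ[ℝ]) = _
  rw [negPerm_apply, emb_neg, emb_one]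
  funext t
  simp [e1]

theorem ActsBy.unique {k : twoJ2} {c c' : Ic} (h : ActsBy k c) (h' : ActsBy k c') : c = c' := by
  unfold ActsBy at *
  have e := congrFun (h.symm.trans h') 0
  simp only [smulV_apply] at e
  change emb c * emb Ic.two = emb c' * emb Ic.two at e
  rw [emb_two] at e
  exact emb_injective (mul_right_cancel₀ quat_two_ne_zero e)

theorem actsBy_mem_Lsub {k : twoJ2} {c : Ic} (hc : c.Tq = 16) (h : ActsBy k c) : k ∈ Lsub :=
  MulAction.mem_stabilizer_iff.2 (fixLine_smul ⟨c, hc, h⟩)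

theorem negEl_mem_Lsub : negEl ∈ Lsub := mem_Lsub'.2 (negEl_comm s1G).symm

theorem negEl_notMem_Hsub : negEl ∉ Hsub := by
  intro h
  have h1 := actsBy_one_iff.2 (mem_Hsub.1 h)
  have h2 := ActsBy.unique h1 actsBy_negEl
  revert h2
  decide

/-- the stabiliser of `e1` is normal in the centraliser of the reflection -/
theorem Hsub_normal_in_Lsub {l : twoJ2} (hl : l ∈ Lsub) {h : twoJ2} (hh : h ∈ Hsub) :
    l * h * l⁻¹ ∈ Hsub := by
  rw [mem_Hsub]
  have hl' : l⁻¹ ∈ Lsub := Lsub.inv_mem hl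
  obtain ⟨c, hc, hce⟩ := exists_unit_of_mem_Lsub hl'
  change ((l : Equiv.Perm icoLeech) * (h : Equiv.Perm icoLeech) * ((l⁻¹ : twoJ2) : Equiv.Perm icoLeech)) e1 = e1
  rw [Equiv.Perm.mul_apply, Equiv.Perm.mul_apply]
  have h1 : (h : Equiv.Perm icoLeech) (((l⁻¹ : twoJ2) : Equiv.Perm icoLeech) e1) =
      ((l⁻¹ : twoJ2) : Equiv.Perm icoLeech) e1 := by
    apply Subtype.ext
    rw [(isUni_of_mem h.2).smul (emb c) (emb_mem_icosians c) e1 _ hce, mem_Hsub.1 hh, hce]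
    rfl
  rw [h1]
  change (l : Equiv.Perm icoLeech) ((l : Equiv.Perm icoLeech)⁻¹ e1) = e1
  exact permApplyInv _ _

end Cfsg.Agent.Lib.Helper27.J2
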