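import Cfsg.Agent.Lib.Helper27.J2Lat

/-!
# Reflections of the icosian Leech lattice as permutations; the group `twoJ2` acts by left-linear
isometries
-/

set_option autoImplicit false

namespace Cfsg.Agent.Lib.Helper27.J2
open Quaternion Cfsg.Spor

/-- the reflection in a minimal vector, as a permutation of the lattice -/
noncomputable def reflPerm (r : icoLeech) (hr : qip (r : Fin 3 → ℍ[ℝ]) r = 4) :
    Equiv.Perm icoLeech where
  toFun x := ⟨qrefl r x, qrefl_mem r.2 x.2⟩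
  invFun x := ⟨qrefl r x, qrefl_mem r.2 x.2⟩
  left_inv x := Subtype.ext (qrefl_qrefl hr x)
  right_inv x := Subtype.ext (qrefl_qrefl hr x)

theorem reflPerm_apply (r : icoLeech) (hr : qip (r : Fin 3 → ℍ[ℝ]) r = 4) (x : icoLeech) :
    ((reflPerm r hr x : icoLeech) : Fin 3 → ℍ[ℝ]) = qrefl r x := rfl

theorem isIcoReflection_reflPerm (r : icoLeech) (hr : qip (r : Fin 3 → ℍ[ℝ]) r = 4) :
    IsIcoReflection (reflPerm r hr) := ⟨r, hr, fun _ => rfl⟩

theorem isIcoReflection_iff (f : Equiv.Perm icoLeech) :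
    IsIcoReflection f ↔ ∃ (r : icoLeech) (hr : qip (r : Fin 3 → ℍ[ℝ]) r = 4), f = reflPerm r hr :=
  ⟨fun ⟨r, hr, h⟩ => ⟨r, hr, Equiv.ext fun x => Subtype.ext (h x)⟩,
    fun ⟨r, hr, h⟩ => h ▸ isIcoReflection_reflPerm r hr⟩

theorem reflPerm_mem (r : icoLeech) (hr : qip (r : Fin 3 → ℍ[ℝ]) r = 4) : reflPerm r hr ∈ twoJ2 :=
  Subgroup.subset_closure (isIcoReflection_reflPerm r hr)

theorem reflPerm_mul_self (r : icoLeech) (hr : qip (r : Fin 3 → ℍ[ℝ]) r = 4) :
    reflPerm r hr * reflPerm r hr = 1 := by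
  ext x : 1
  exact Subtype.ext (qrefl_qrefl hr x)

theorem reflPerm_inv (r : icoLeech) (hr : qip (r : Fin 3 → ℍ[ℝ]) r = 4) :
    (reflPerm r hr)⁻¹ = reflPerm r hr := rfl

theorem permApplyInv {α : Type*} (f : Equiv.Perm α) (x : α) : f (f⁻¹ x) = x := by simp
theorem permInvApply {α : Type*} (f : Equiv.Perm α) (x : α) : f⁻¹ (f x) = x := by simp

/-- left-`I`-linear isometries of the lattice -/
structure IsUni (f : Equiv.Perm icoLeech) : Prop where
  add : ∀ x y z : icoLeech, (z : Fin 3 → ℍ[ℝ]) = (x : Fin 3 → ℍ[ℝ]) + y →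
    ((f z : icoLeech) : Fin 3 → ℍ[ℝ]) = (f x : icoLeech) + (f y : icoLeech)
  smul : ∀ a ∈ icosians, ∀ x z : icoLeech, (z : Fin 3 → ℍ[ℝ]) = smulV a x →
    ((f z : icoLeech) : Fin 3 → ℍ[ℝ]) = smulV a (f x : icoLeech)
  qip : ∀ x y : icoLeech, qip ((f x : icoLeech) : Fin 3 → ℍ[ℝ]) (f y : icoLeech) =
    qip (x : Fin 3 → ℍ[ℝ]) y

theorem IsUni.one : IsUni 1 :=
  ⟨fun _ _ _ h => h, fun _ _ _ _ h => h, fun _ _ => rfl⟩

theorem IsUni.mul {f g : Equiv.Perm icoLeech} (hf : IsUni f) (hg : IsUni g) : IsUni (f * g) :=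
  ⟨fun x y z h => hf.add _ _ _ (hg.add x y z h), fun a ha x z h => hf.smul a ha _ _ (hg.smul a ha x z h),
    fun x y => by rw [Equiv.Perm.mul_apply, Equiv.Perm.mul_apply, hf.qip, hg.qip]⟩

theorem IsUni.inv {f : Equiv.Perm icoLeech} (hf : IsUni f) : IsUni f⁻¹ := by
  refine ⟨fun x y z h => ?_, fun a ha x z h => ?_, fun x y => ?_⟩
  · let w : icoLeech := ⟨(f⁻¹ x : icoLeech) + (f⁻¹ y : icoLeech), icoLeech_add (f⁻¹ x).2 (f⁻¹ y).2⟩
    have h1 := hf.add (f⁻¹ x) (f⁻¹ y) w rfl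
    simp only [permApplyInv] at h1
    have h2 : f w = z := Subtype.ext (h1.trans h.symm)
    have h3 : f⁻¹ z = w := by rw [← h2, permInvApply]
    rw [h3]
  · let w : icoLeech := ⟨smulV a (f⁻¹ x : icoLeech), icoLeech_smul ha (f⁻¹ x).2⟩
    have h1 := hf.smul a ha (f⁻¹ x) w rfl
    simp only [permApplyInv] at h1
    have h2 : f w = z := Subtype.ext (h1.trans h.symm)
    have h3 : f⁻¹ z = w := by rw [← h2, permInvApply]
    rw [h3]
  · have := hf.qip (f⁻¹ x) (f⁻¹ y)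
    simp only [permApplyInv] at this
    exact this.symm

theorem qrefl_add (r x y : Fin 3 → ℍ[ℝ]) : qrefl r (x + y) = qrefl r x + qrefl r y := by
  funext t
  simp only [qrefl, qip_add_left, smul_add, add_mul, Pi.add_apply]
  abel

theorem qrefl_smulV (r x : Fin 3 → ℍ[ℝ]) (a : ℍ[ℝ]) :
    qrefl r (smulV a x) = smulV a (qrefl r x) := by
  funext t
  simp only [qrefl, qip_smul_left, smulV_apply, mul_sub]
  rw [← mul_smul_comm, mul_assoc]

theorem star_two_mul (b : ℍ[ℝ]) : star (2 * b) = 2 * star b := by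
  rw [star_mul, star_ofNat, mul_two_eq]

theorem qip_qrefl_qrefl {r x y : Fin 3 → ℍ[ℝ]} (hr : r ∈ icoLeech) (hx : x ∈ icoLeech)
    (hy : y ∈ icoLeech) (h4 : qip r r = 4) : qip (qrefl r x) (qrefl r y) = qip x y := by
  obtain ⟨a, -, ha⟩ := qip_mem_two hx hr
  obtain ⟨b, -, hb⟩ := qip_mem_two hy hr
  rw [qrefl_eq r x ha, qrefl_eq r y hb]
  have h1 : qip r y = 2 * star b := by rw [← star_qip, hb, star_two_mul]
  simp only [qip_sub_left, qip_sub_right, qip_smul_left, qip_smul_right, ha, h1, h4]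
  noncomm_ring

theorem isUni_reflPerm (r : icoLeech) (hr : qip (r : Fin 3 → ℍ[ℝ]) r = 4) :
    IsUni (reflPerm r hr) := by
  refine ⟨fun x y z h => ?_, fun a _ x z h => ?_, fun x y => ?_⟩
  · simp only [reflPerm_apply, h, qrefl_add]
  · simp only [reflPerm_apply, h, qrefl_smulV]
  · simp only [reflPerm_apply]
    exact qip_qrefl_qrefl r.2 x.2 y.2 hr

theorem isUni_of_mem {g : Equiv.Perm icoLeech} (hg : g ∈ twoJ2) : IsUni g := by
  induction hg using Subgroup.closure_induction with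
  | mem f hf =>
    obtain ⟨r, hr, rfl⟩ := (isIcoReflection_iff f).1 hf
    exact isUni_reflPerm r hr
  | one => exact IsUni.one
  | mul f g _ _ hf hg => exact hf.mul hg
  | inv f _ hf => exact hf.inv

/-- conjugating a reflection by an isometry gives the reflection in the image vector -/
theorem conj_reflPerm {g : Equiv.Perm icoLeech} (hg : IsUni g) (r : icoLeech)
    (hr : qip (r : Fin 3 → ℍ[ℝ]) r = 4) :
    g * reflPerm r hr * g⁻¹ = reflPerm (g r) (by rw [hg.qip]; exact hr) := by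
  ext x : 1
  apply Subtype.ext
  simp only [Equiv.Perm.mul_apply, reflPerm_apply]
  set y : icoLeech := g⁻¹ x with hy
  have hgy : g y = x := by rw [hy, permApplyInv]
  obtain ⟨a, ha, hq⟩ := qip_mem_two y.2 r.2
  -- the image of y under the reflection
  have hz : ((reflPerm r hr y : icoLeech) : Fin 3 → ℍ[ℝ]) = y - smulV a r := by
    rw [reflPerm_apply, qrefl_eq _ _ hq]
  let z' : icoLeech := ⟨smulV a r, icoLeech_smul ha r.2⟩
  have h1 : (y : Fin 3 → ℍ[ℝ]) = (reflPerm r hr y : icoLeech) + (z' : icoLeech) := by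
    rw [hz]; simp [z']
  have h2 := hg.add _ _ _ h1
  have h3 := hg.smul a ha r z' rfl
  rw [h3, hgy] at h2
  have hq' : qip (x : Fin 3 → ℍ[ℝ]) (g r : icoLeech) = 2 * a := by
    rw [← hgy, hg.qip, hq]
  rw [qrefl_eq _ _ hq', h2]
  simp

/-- unit multiples of a vector define the same reflection -/
theorem qrefl_smulV_left (u : ℍ[ℝ]) (hu : star u * u = 1) (r x : Fin 3 → ℍ[ℝ]) :
    qrefl (smulV u r) x = qrefl r x := by
  funext t
  simp only [qrefl, qip_smul_right, smulV_apply]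
  rw [smul_mul_assoc, smul_mul_assoc, mul_assoc, ← mul_assoc (star u), hu, one_mul]

theorem qip_smulV_smulV (u : ℍ[ℝ]) (hu : u * star u = 1) (r : Fin 3 → ℍ[ℝ]) (c : ℝ)
    (hr : qip r r = (c : ℍ[ℝ])) : qip (smulV u r) (smulV u r) = (c : ℍ[ℝ]) := by
  rw [qip_smul_left, qip_smul_right, hr, ← mul_assoc, ← Quaternion.coe_commutes c u, mul_assoc, hu,
    mul_one]

end Cfsg.Agent.Lib.Helper27.J2
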