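import Cfsg.Agent.Lib.Helper27.J2Reps
import Cfsg.Agent.Lib.Helper27.J2Refl

/-!
# Every minimal vector of the icosian Leech lattice is a unit multiple of a listed representative
-/

set_option autoImplicit false

namespace Cfsg.Agent.Lib.Helper27.J2
open Quaternion Cfsg.Spor

/-! ### rotation of the coordinates -/

def V3.rot (V : V3) : V3 := ⟨V.y, V.z, V.x⟩

noncomputable def rotV (v : Fin 3 → ℍ[ℝ]) : Fin 3 → ℍ[ℝ] := ![v 1, v 2, v 0]

@[simp] theorem rotV_zero (v : Fin 3 → ℍ[ℝ]) : rotV v 0 = v 1 := rfl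
@[simp] theorem rotV_one (v : Fin 3 → ℍ[ℝ]) : rotV v 1 = v 2 := rfl
@[simp] theorem rotV_two (v : Fin 3 → ℍ[ℝ]) : rotV v 2 = v 0 := rfl

theorem embV_rot (V : V3) : embV V.rot = rotV (embV V) := by
  funext t; fin_cases t <;> rfl

theorem rotV_rotV_rotV (v : Fin 3 → ℍ[ℝ]) : rotV (rotV (rotV v)) = v := by
  funext t; fin_cases t <;> rfl

theorem V3.rot_rot_rot (V : V3) : V.rot.rot.rot = V := rfl

theorem rotV_mem {v : Fin 3 → ℍ[ℝ]} (hv : v ∈ icoLeech) : rotV v ∈ icoLeech := by
  obtain ⟨h1, h2, h3, h4⟩ := hv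
  refine ⟨?_, ?_, ?_, ?_⟩
  · intro t; fin_cases t
    · exact h1 1
    · exact h1 2
    · exact h1 0
  · exact h3
  · have := leftIdeal_neg (leftIdeal_add h2 h3)
    simp only [rotV_one, rotV_two]
    convert this using 1; abel
  · simp only [rotV_zero, rotV_one, rotV_two]
    convert h4 using 1; abel

theorem qip_rotV (v r : Fin 3 → ℍ[ℝ]) : qip (rotV v) (rotV r) = qip v r := by
  simp only [qip_eq, rotV_zero, rotV_one, rotV_two]; abel

theorem rotV_smulV (a : ℍ[ℝ]) (v : Fin 3 → ℍ[ℝ]) : rotV (smulV a v) = smulV a (rotV v) := by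
  funext t; fin_cases t <;> rfl

/-! ### the representatives -/

def C0base : List V3 :=
  ⟨Ic.two, Ic.zero, Ic.zero⟩ :: Ylist.map fun y => ⟨Ic.Hc, y, Ic.zero⟩

def Base : List V3 := M10 ++ C0base

/-- representatives of all minimal vectors up to unit scalars (each line occurs at least once) -/
def RepAll : List V3 := Base ++ (Base.map V3.rot ++ Base.map fun V => V.rot.rot)

theorem rot_mem_RepAll {W : V3} (h : W ∈ RepAll) : W.rot ∈ RepAll := by
  simp only [RepAll, List.mem_append, List.mem_map] at h ⊢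
  rcases h with h | ⟨V, hV, rfl⟩ | ⟨V, hV, rfl⟩
  · exact Or.inr (Or.inl ⟨W, h, rfl⟩)
  · exact Or.inr (Or.inr ⟨V, hV, rfl⟩)
  · exact Or.inl hV

/-- `v` is a unit multiple of a listed representative -/
def Good (v : Fin 3 → ℍ[ℝ]) : Prop :=
  ∃ W ∈ RepAll, ∃ u ∈ icosians, u * star u = 1 ∧ v = smulV u (embV W)

theorem good_rot {v : Fin 3 → ℍ[ℝ]} (h : Good (rotV v)) : Good v := by
  obtain ⟨W, hW, u, hu, hu1, hv⟩ := h
  refine ⟨W.rot.rot, rot_mem_RepAll (rot_mem_RepAll hW), u, hu, hu1, ?_⟩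
  rw [embV_rot, embV_rot, ← rotV_smulV, ← rotV_smulV, ← hv, rotV_rotV_rotV]

/-! ### norms -/

theorem emb_four : emb Ic.four = 4 := by
  rw [show Ic.four = (Ic.two).add Ic.two from rfl, emb_add, emb_two]; norm_num

theorem qipM_self_eq_four {V : V3} (h : qip (embV V) (embV V) = 4) : qipM V V = Ic.four := by
  apply emb_injective
  rw [← qip_embV, h, emb_four]

theorem Tq_sum {V : V3} (h : qipM V V = Ic.four) : V.x.Tq + V.y.Tq + V.z.Tq = 64 := by
  have h1 := congrArg Ic.Tlin h
  rw [show qipM V V = (V.x.nrm.add V.y.nrm).add V.z.nrm from rfl, Ic.Tlin_add, Ic.Tlin_add,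
    Ic.Tlin_nrm, Ic.Tlin_nrm, Ic.Tlin_nrm] at h1
  rw [h1]; rfl

theorem Tq_cases (x : Ic) : x.Tq = 0 ∨ x.Tq = 16 ∨ 24 ≤ x.Tq := by
  by_cases h : x.Tq ≤ 32
  · rcases cand_Tq x (mem_candLit h) with h | h | h | h <;> omega
  · omega

theorem eq_zero_of_Tq {x : Ic} (h : x.Tq = 0) : x = Ic.zero :=
  cand_zero x (mem_candLit (by omega)) h

theorem Tq_zero : Ic.zero.Tq = 0 := by decide
theorem Tq_one : Ic.one.Tq = 16 := by decide

theorem Tq_ge_of_inIh {x : Ic} (h : inIh x = true) (hx : x ≠ Ic.zero) : 32 ≤ x.Tq := by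
  by_contra hlt
  have h32 : x.Tq ≤ 32 := by omega
  have hm := mem_candLit h32
  rcases cand_Tq x hm with h' | h' | h' | h'
  · exact hx (cand_inIh x hm (by omega) h)
  · exact hx (cand_inIh x hm (by omega) h)
  · exact hx (cand_inIh x hm (by omega) h)
  · omega

theorem unit_of_Tq {x : Ic} (h : x.Tq = 16) :
    star (emb x) * emb x = 1 ∧ emb x * star (emb x) = 1 := by
  obtain ⟨h1, h2⟩ := cand_unit x (mem_candLit (by omega)) h
  constructor
  · rw [← emb_conj, ← emb_mul, h1, emb_one]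
  · rw [← emb_conj, ← emb_mul, h2, emb_one]

theorem Tq_of_nrm_one {x : Ic} (h : emb x * star (emb x) = 1) : x.Tq = 16 := by
  have h1 : x.nrm = Ic.one := by
    apply emb_injective
    rw [Ic.nrm, emb_mul, emb_conj, h, emb_one]
  rw [← Ic.Tlin_nrm, h1]; rfl

/-! ### the ideal `I h` on the model -/

theorem inIh_sub_trans {a b c : Ic} (h1 : inIh (a.sub b) = true) (h2 : inIh (b.sub c) = true) :
    inIh (a.sub c) = true := by
  rw [← mem_leftIdeal_icoH_iff] at h1 h2 ⊢
  have := leftIdeal_add h1 h2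
  rw [emb_sub, emb_sub] at this
  rw [emb_sub]
  convert this using 1; abel

theorem inIh_of_sub {a b : Ic} (h1 : inIh (a.sub b) = true) (h2 : inIh b = true) :
    inIh a = true := by
  rw [← mem_leftIdeal_icoH_iff] at h1 h2 ⊢
  have := leftIdeal_add h1 h2
  rw [emb_sub] at this
  convert this using 1; abel

theorem Ic.sub_zero' (a : Ic) : a.sub Ic.zero = a := by
  apply Ic.ext' <;> simp [Ic.sub, Ic.zero]

theorem Ic.add_zero' (a : Ic) : a.add Ic.zero = a := by
  apply Ic.ext' <;> simp [Ic.add, Ic.zero]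

theorem emb_eq_of_inIh {x : Ic} (h : inIh x = true) :
    emb x = emb (x.mul Ic.Hb).half * icoH := by
  have h1 := Ic.eq_two_half h
  have h2 : emb x * star icoH = 2 * emb (x.mul Ic.Hb).half := by
    rw [← emb_Hb, ← emb_mul, h1, emb_zsmul]
    push_cast
    rw [two_smul_eq]
    congr 2
    rw [← h1]
  apply two_mul_cancel
  calc 2 * emb x = emb x * 2 := (mul_two_eq _).symm
    _ = emb x * (star icoH * icoH) := by rw [star_icoH_mul]
    _ = (emb x * star icoH) * icoH := (mul_assoc _ _ _).symm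
    _ = (2 * emb (x.mul Ic.Hb).half) * icoH := by rw [h2]
    _ = 2 * (emb (x.mul Ic.Hb).half * icoH) := mul_assoc _ _ _

/-! ### the case of a unit first coordinate -/

theorem good_of_unit0 {V : V3} (hL : inLam V = true) (h4 : qipM V V = Ic.four)
    (hx : V.x.Tq = 16) : Good (embV V) := by
  obtain ⟨hu1, hu2⟩ := unit_of_Tq hx
  set u := emb V.x with hu
  have huI : u ∈ icosians := emb_mem_icosians _
  have hvL : embV V ∈ icoLeech := (embV_mem_icoLeech_iff V).2 hL
  set V' : V3 := ⟨Ic.one, V.x.conj.mul V.y, V.x.conj.mul V.z⟩ with hV'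
  have hV'e : embV V' = smulV (star u) (embV V) := by
    funext t
    fin_cases t
    · show emb Ic.one = star u * emb V.x
      rw [emb_one, ← hu, hu1]
    · show emb (V.x.conj.mul V.y) = star u * emb V.y
      rw [emb_mul, emb_conj]
    · show emb (V.x.conj.mul V.z) = star u * emb V.z
      rw [emb_mul, emb_conj]
  have hL' : inLam V' = true := by
    rw [← embV_mem_icoLeech_iff, hV'e]
    exact icoLeech_smul (star_mem_icosians huI) hvL
  have h4' : qipM V' V' = Ic.four := by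
    apply qipM_self_eq_four
    rw [hV'e]
    have h44 : (4 : ℍ[ℝ]) = ((4 : ℝ) : ℍ[ℝ]) := by norm_cast
    rw [h44]
    apply qip_smulV_smulV
    · rw [star_star]; exact hu1
    · rw [qip_embV, h4, emb_four, h44]
  have hsum := Tq_sum h4'
  simp only [hV', Tq_one] at hsum
  -- the lattice conditions
  have hL'' := hL'
  simp only [inLam, Bool.and_eq_true] at hL''
  obtain ⟨⟨c1, c2⟩, -⟩ := hL''
  have c3 : inIh (Ic.one.sub (V.x.conj.mul V.z)) = true := inIh_sub_trans c1 c2
  have hy0 : V.x.conj.mul V.y ≠ Ic.zero := by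
    intro h0
    rw [show V'.x = Ic.one from rfl, show V'.y = V.x.conj.mul V.y from rfl, h0, Ic.sub_zero',
      inIh_one] at c1
    exact Bool.false_ne_true c1
  have hz0 : V.x.conj.mul V.z ≠ Ic.zero := by
    intro h0
    rw [h0, Ic.sub_zero', inIh_one] at c3
    exact Bool.false_ne_true c3
  have hyT : 16 ≤ (V.x.conj.mul V.y).Tq := by
    rcases Tq_cases (V.x.conj.mul V.y) with h | h | h
    · exact absurd (eq_zero_of_Tq h) hy0
    · omega
    · omega
  have hzT : 16 ≤ (V.x.conj.mul V.z).Tq := by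
    rcases Tq_cases (V.x.conj.mul V.z) with h | h | h
    · exact absurd (eq_zero_of_Tq h) hz0
    · omega
    · omega
  have hy1 : V.x.conj.mul V.y ∈ cand1 :=
    List.mem_filter.2 ⟨mem_candLit (by omega), c1⟩
  have hz1 : V.x.conj.mul V.z ∈ cand1 :=
    List.mem_filter.2 ⟨mem_candLit (by omega), c3⟩
  have hmem : V' ∈ M10 := M10_complete _ hy1 _ hz1 (by omega) hL' h4'
  refine ⟨V', ?_, u, huI, hu2, ?_⟩
  · simp only [RepAll, Base, List.mem_append]
    exact Or.inl (Or.inl hmem)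
  · rw [hV'e, smulV_smulV, hu2, smulV_one]

/-! ### the case of a zero coordinate -/

/-- `√5` as an icosian -/
def Ic.root5 : Ic := ⟨1, -2, 0, 2, 2, 0, 0, 0⟩

theorem emb_root5 : emb Ic.root5 = ((s5 : ℝ) : ℍ[ℝ]) := by
  apply Quaternion.ext <;>
  simp [emb, Ic.root5, Ic.P0, Ic.Q0, Ic.P1, Ic.Q1, Ic.P2, Ic.Q2, Ic.P3, Ic.Q3]

theorem icoH_add_star : icoH + star icoH = ((-s5 : ℝ) : ℍ[ℝ]) := by
  apply Quaternion.ext <;>
  simp only [Quaternion.re_add, Quaternion.imI_add, Quaternion.imJ_add, Quaternion.imK_add,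
    Quaternion.re_star, Quaternion.imI_star, Quaternion.imJ_star, Quaternion.imK_star,
    Quaternion.re_coe, Quaternion.imI_coe, Quaternion.imJ_coe, Quaternion.imK_coe] <;>
  simp only [icoH, s5] <;> ring

/-- `I h ∩ I h̄ ⊆ 2 I` -/
theorem mem_two_of_mem_both {x : ℍ[ℝ]} (h1 : x ∈ leftIdeal icoH) (h2 : x ∈ leftIdeal (star icoH)) :
    ∃ w ∈ icosians, x = 2 * w := by
  obtain ⟨a, ha, rfl⟩ := h1
  obtain ⟨b, hb, hab⟩ := h2
  have hxI : a * icoH ∈ icosians := Subring.mul_mem _ ha icoH_mem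
  -- x h̄ = 2 a,  x h = 2 b
  have e1 : a * icoH * star icoH = 2 * a := by rw [mul_assoc, icoH_mul_star, mul_two_eq]
  have e2 : a * icoH * icoH = 2 * b := by rw [hab, mul_assoc, star_icoH_mul, mul_two_eq]
  have e3 : a * icoH * ((-s5 : ℝ) : ℍ[ℝ]) = 2 * (a + b) := by
    rw [← icoH_add_star, mul_add, e1, e2, mul_add, add_comm]
  have hs : ((-s5 : ℝ) : ℍ[ℝ]) ∈ icosians := by
    have : ((-s5 : ℝ) : ℍ[ℝ]) = -emb Ic.root5 := by rw [emb_root5]; norm_cast
    rw [this]
    exact Subring.neg_mem _ (emb_mem_icosians _)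
  have e4 : a * icoH * 5 = 2 * ((a + b) * ((-s5 : ℝ) : ℍ[ℝ])) := by
    have h5 : (5 : ℍ[ℝ]) = ((-s5 : ℝ) : ℍ[ℝ]) * ((-s5 : ℝ) : ℍ[ℝ]) := by
      rw [← Quaternion.coe_mul]
      have : (-s5) * (-s5) = (5 : ℝ) := by rw [neg_mul_neg, s5_mul_self]
      rw [this]; norm_cast
    rw [h5, ← mul_assoc, e3, mul_assoc]
  refine ⟨(a + b) * ((-s5 : ℝ) : ℍ[ℝ]) - 2 * (a * icoH), Subring.sub_mem _
    (Subring.mul_mem _ (Subring.add_mem _ ha hb) hs) (Subring.mul_mem _ ?_ hxI), ?_⟩
  · have : (2 : ℍ[ℝ]) = emb Ic.two := emb_two.symm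
    rw [this]; exact emb_mem_icosians _
  · have : a * icoH = a * icoH * 5 - 2 * (2 * (a * icoH)) := by
      have h4 : a * icoH * 5 = 5 * (a * icoH) := by
        have h55 : (5 : ℍ[ℝ]) = ((5 : ℝ) : ℍ[ℝ]) := by norm_cast
        rw [h55, Quaternion.coe_commutes]
      rw [h4]; noncomm_ring
    calc a * icoH = a * icoH * 5 - 2 * (2 * (a * icoH)) := this
      _ = 2 * ((a + b) * ((-s5 : ℝ) : ℍ[ℝ])) - 2 * (2 * (a * icoH)) := by rw [e4]
      _ = 2 * ((a + b) * ((-s5 : ℝ) : ℍ[ℝ]) - 2 * (a * icoH)) := by rw [mul_sub]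

theorem two_mem_RepAll : (⟨Ic.two, Ic.zero, Ic.zero⟩ : V3) ∈ RepAll := by
  exact List.mem_append_left _ (List.mem_append_right _ List.mem_cons_self)

theorem Hc_mem_RepAll {y : Ic} (hy : y ∈ Ylist) : (⟨Ic.Hc, y, Ic.zero⟩ : V3) ∈ RepAll := by
  exact List.mem_append_left _ (List.mem_append_right _
    (List.mem_cons_of_mem _ (List.mem_map.2 ⟨y, hy, rfl⟩)))

theorem good_of_zero {V : V3} (hL : inLam V = true) (h4 : qipM V V = Ic.four)
    (hz : V.z = Ic.zero) (hx : V.x ≠ Ic.zero) : Good (embV V) := by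
  have hsum := Tq_sum h4
  rw [hz, Tq_zero] at hsum
  have hL' := hL
  simp only [inLam, Bool.and_eq_true, hz, Ic.sub_zero', Ic.add_zero'] at hL'
  obtain ⟨⟨c1, c2⟩, c3⟩ := hL'
  have cx : inIh V.x = true := inIh_of_sub c1 c2
  have hxT := Tq_ge_of_inIh cx hx
  have hq : qip (embV V) (embV V) = 4 := by rw [qip_embV, h4, emb_four]
  by_cases hy : V.y = Ic.zero
  · -- one non-zero coordinate
    rw [hy, Ic.add_zero'] at c3
    obtain ⟨w, hw, hxw⟩ := mem_two_of_mem_both ((mem_leftIdeal_icoH_iff _).2 cx)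
      ((mem_leftIdeal_star_icoH_iff _).2 c3)
    have hww : w * star w = 1 := by
      rw [qip_eq, embV_zero, embV_one, embV_two, hy, hz, emb_zero] at hq
      simp only [star_zero, mul_zero, add_zero] at hq
      rw [hxw, star_two_mul] at hq
      have h1 : 2 * w * (2 * star w) = 4 * (w * star w) := by
        rw [mul_assoc, ← mul_assoc w, mul_two_eq, mul_assoc, ← mul_assoc]; norm_num
      rw [h1] at hq
      have h44 : (4 : ℍ[ℝ]) = ((4 : ℝ) : ℍ[ℝ]) := by norm_cast
      rw [h44, Quaternion.coe_mul_eq_smul] at hq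
      have h41 : ((4 : ℝ) : ℍ[ℝ]) = (4 : ℝ) • (1 : ℍ[ℝ]) := by
        rw [← Quaternion.coe_mul_eq_smul, mul_one]
      rw [h41] at hq
      exact smul_right_injective _ (by norm_num : (4 : ℝ) ≠ 0) hq
    refine ⟨_, two_mem_RepAll, w, hw, hww, ?_⟩
    funext t
    fin_cases t
    · show emb V.x = w * emb Ic.two
      rw [emb_two, mul_two_eq, hxw]
    · show emb V.y = w * emb Ic.zero
      rw [hy, emb_zero, mul_zero]
    · show emb V.z = w * emb Ic.zero
      rw [hz, emb_zero, mul_zero]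
  · -- two non-zero coordinates
    have hyT := Tq_ge_of_inIh c2 hy
    have hxT' : V.x.Tq = 32 := by omega
    have hyT' : V.y.Tq = 32 := by omega
    set A := (V.x.mul Ic.Hb).half with hA
    set C := (V.y.mul Ic.Hb).half with hC
    have ex : emb V.x = emb A * icoH := emb_eq_of_inIh cx
    have ey : emb V.y = emb C * icoH := emb_eq_of_inIh c2
    have ex' : V.x = A.mul Ic.Hc := emb_injective (by rw [ex, emb_mul, emb_Hc])
    have ey' : V.y = C.mul Ic.Hc := emb_injective (by rw [ey, emb_mul, emb_Hc])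
    have hAT : A.Tq = 16 := by
      have := Ic.Tq_mul_Hc A
      rw [← ex', hxT'] at this; omega
    have hCT : C.Tq = 16 := by
      have := Ic.Tq_mul_Hc C
      rw [← ey', hyT'] at this; omega
    obtain ⟨ha1, ha2⟩ := unit_of_Tq hAT
    obtain ⟨hc1, hc2⟩ := unit_of_Tq hCT
    set B := A.conj.mul C with hB
    have hBe : emb B = star (emb A) * emb C := by rw [hB, emb_mul, emb_conj]
    have hBT : B.Tq = 16 := by
      apply Tq_of_nrm_one
      rw [hBe, star_mul, star_star, mul_assoc, ← mul_assoc (emb C), hc2, one_mul, ha1]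
    have hBm : B ∈ candLit := mem_candLit (by omega)
    have hcond : inIhb (Ic.Hc.add (B.mul Ic.Hc)) = true := by
      rw [← mem_leftIdeal_star_icoH_iff, emb_add, emb_mul, emb_Hc, hBe]
      have h1 := (mem_leftIdeal_star_icoH_iff _).2 c3
      rw [emb_add, ex, ey] at h1
      have h2 := leftIdeal_mul_left (star_mem_icosians (emb_mem_icosians A)) h1
      convert h2 using 1
      rw [mul_add, ← mul_assoc, ← mul_assoc, ha1, one_mul]
    have hY := Ylist_complete B hBm hBT hcond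
    refine ⟨_, Hc_mem_RepAll hY, emb A, emb_mem_icosians _, ha2, ?_⟩
    funext t
    fin_cases t
    · show emb V.x = emb A * emb Ic.Hc
      rw [ex, emb_Hc]
    · show emb V.y = emb A * emb (B.mul Ic.Hc)
      rw [emb_mul, hBe, emb_Hc, ey, ← mul_assoc, ← mul_assoc, ha2, one_mul]
    · show emb V.z = emb A * emb Ic.zero
      rw [hz, emb_zero, mul_zero]

/-! ### completeness -/

theorem inLam_rot {V : V3} (hL : inLam V = true) : inLam V.rot = true := by
  rw [← embV_mem_icoLeech_iff, embV_rot]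
  exact rotV_mem ((embV_mem_icoLeech_iff V).2 hL)

theorem qipM_rot {V : V3} (h4 : qipM V V = Ic.four) : qipM V.rot V.rot = Ic.four := by
  apply qipM_self_eq_four
  rw [embV_rot, qip_rotV, qip_embV, h4, emb_four]

theorem good_embV {V : V3} (hL : inLam V = true) (h4 : qipM V V = Ic.four) : Good (embV V) := by
  have hL1 := inLam_rot hL
  have hL2 := inLam_rot hL1
  have h41 := qipM_rot h4
  have h42 := qipM_rot h41
  have hsum := Tq_sum h4
  by_cases hx : V.x.Tq = 16
  · exact good_of_unit0 hL h4 hx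
  by_cases hy : V.y.Tq = 16
  · apply good_rot
    rw [← embV_rot]
    exact good_of_unit0 hL1 h41 hy
  by_cases hz : V.z.Tq = 16
  · apply good_rot; apply good_rot
    rw [← embV_rot, ← embV_rot]
    exact good_of_unit0 hL2 h42 hz
  have kx := Tq_cases V.x
  have ky := Tq_cases V.y
  have kz := Tq_cases V.z
  by_cases zz : V.z = Ic.zero
  · by_cases zx : V.x = Ic.zero
    · -- (0, y, 0)
      have zy : V.y ≠ Ic.zero := by
        intro h
        rw [zx, h, zz, Tq_zero] at hsum; omega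
      apply good_rot
      rw [← embV_rot]
      exact good_of_zero hL1 h41 zx zy
    · exact good_of_zero hL h4 zz zx
  · by_cases zy : V.y = Ic.zero
    · -- (x, 0, z), z ≠ 0
      apply good_rot; apply good_rot
      rw [← embV_rot, ← embV_rot]
      exact good_of_zero hL2 h42 zy zz
    · -- x = 0
      have zx : V.x = Ic.zero := by
        rcases kx with h | h | h
        · exact eq_zero_of_Tq h
        · exact absurd h hx
        · exfalso
          have : V.y.Tq ≠ 0 := fun h => zy (eq_zero_of_Tq h)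
          have : V.z.Tq ≠ 0 := fun h => zz (eq_zero_of_Tq h)
          omega
      apply good_rot
      rw [← embV_rot]
      exact good_of_zero hL1 h41 zx zy

/-- **Completeness**: every minimal vector is a unit multiple of a listed representative. -/
theorem good_of_min {v : Fin 3 → ℍ[ℝ]} (hv : v ∈ icoLeech) (h4 : qip v v = 4) : Good v := by
  obtain ⟨V, rfl⟩ := exists_embV hv.1
  exact good_embV ((embV_mem_icoLeech_iff V).1 hv) (qipM_self_eq_four h4)

end Cfsg.Agent.Lib.Helper27.J2
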