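import Cfsg.Agent.Lib.Helper27.J2Lat

/-!
# Enumeration of the icosians of small norm

`Ic.Tq x` is 16 times the rational part of the norm of `x` (a positive definite diagonal form in
the coordinates `P_i, Q_i`).  `cand` lists all `x` with `Tq x ≤ 32` (there are 961 of them).
-/

set_option autoImplicit false

namespace Cfsg.Agent.Lib.Helper27.J2
open Quaternion Cfsg.Spor

namespace Ic

/-- 16 times the rational part of the norm -/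
def Tq (x : Ic) : ℤ :=
  x.P0 * x.P0 + 5 * (x.Q0 * x.Q0) + (x.P1 * x.P1 + 5 * (x.Q1 * x.Q1)) +
    (x.P2 * x.P2 + 5 * (x.Q2 * x.Q2)) + (x.P3 * x.P3 + 5 * (x.Q3 * x.Q3))

/-- the norm `x x̄` -/
def nrm (x : Ic) : Ic := x.mul x.conj

def four : Ic := ⟨4, 0, 0, 0, 0, 0, 0, 0⟩

/-- the linear form reading `Tq` off a norm -/
def Tlin (y : Ic) : ℤ := 16 * y.c0 - 8 * y.c3

theorem Tlin_nrm (x : Ic) : Tlin x.nrm = x.Tq := by
  simp only [Tlin, nrm, mul, conj, Tq, P0, Q0, P1, Q1, P2, Q2, P3, Q3]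
  ring

theorem Tlin_add (x y : Ic) : Tlin (x.add y) = Tlin x + Tlin y := by
  simp only [Tlin, add]; ring

theorem Tq_mul_Hc (x : Ic) : (x.mul Hc).Tq = 2 * x.Tq := by
  simp only [mul, Hc, Tq, P0, Q0, P1, Q1, P2, Q2, P3, Q3]
  ring

theorem Tq_nonneg (x : Ic) : 0 ≤ x.Tq := by
  unfold Tq
  nlinarith [mul_self_nonneg x.P0, mul_self_nonneg x.Q0, mul_self_nonneg x.P1, mul_self_nonneg x.Q1, mul_self_nonneg x.P2, mul_self_nonneg x.Q2, mul_self_nonneg x.P3, mul_self_nonneg x.Q3]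

/-- recover the coordinates from the values of the forms `P_i, Q_i` -/
def ofPQ (p0 q0 p1 q1 p2 q2 p3 q3 : ℤ) : Ic :=
  ⟨(p0 + q0 + 2 * q1 - p3 + q3) / 4, (-2 * q0 + p1 + q1 + p2 - q2) / 4,
    (-2 * q1 - p2 + q2 + p3 + q3) / 4, (2 * q0 - p2 - q2 - p3 + q3) / 4,
    (2 * q0 - p2 + 3 * q2 - p3 + q3) / 4, (2 * q1 + p2 - q2 - p3 + 3 * q3) / 4,
    (p3 - q3) / 2, (-p2 + q2) / 2⟩

theorem ofPQ_self (x : Ic) : ofPQ x.P0 x.Q0 x.P1 x.Q1 x.P2 x.Q2 x.P3 x.Q3 = x := by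
  apply Ic.ext' <;> simp only [ofPQ, P0, Q0, P1, Q1, P2, Q2, P3, Q3] <;> omega

end Ic

/-- the pairs `(p, q)` with `p ≡ q mod 2` and `p² + 5q² ≤ 32`, with the value `p² + 5q²` -/
def rPQ : List (ℤ × ℤ × ℤ) :=
  [(-4, 0, 16), (-2, 0, 4), (0, 0, 0), (2, 0, 4), (4, 0, 16), (-5, 1, 30), (-3, 1, 14), (-1, 1, 6), (1, 1, 6), (3, 1, 14), (5, 1, 30), (-5, -1, 30), (-3, -1, 14), (-1, -1, 6), (1, -1, 6), (3, -1, 14), (5, -1, 30), (-2, 2, 24), (0, 2, 20), (2, 2, 24), (-2, -2, 24), (0, -2, 20), (2, -2, 24)]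

theorem mem_rPQ {p q : ℤ} (h : p * p + 5 * (q * q) ≤ 32) (hpar : (p - q) % 2 = 0) :
    (p, q, p * p + 5 * (q * q)) ∈ rPQ := by
  have h1 : -5 ≤ p := by nlinarith
  have h2 : p ≤ 5 := by nlinarith
  have h3 : -2 ≤ q := by nlinarith
  have h4 : q ≤ 2 := by nlinarith
  interval_cases p <;> interval_cases q <;> first | (exfalso; omega) | decide

/-- the leaf of the enumeration -/
def leaf (p0 q0 p1 q1 p2 q2 p3 q3 : ℤ) : List Ic :=
  if (p0 + q0 + 2 * q1 - p3 + q3) % 4 = 0 ∧ (-2 * q1 - p2 + q2 + p3 + q3) % 4 = 0 ∧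
      (2 * q0 - p2 - q2 - p3 + q3) % 4 = 0 ∧ (2 * q0 - p2 + 3 * q2 - p3 + q3) % 4 = 0 ∧
      (2 * q1 + p2 - q2 - p3 + 3 * q3) % 4 = 0
  then [Ic.ofPQ p0 q0 p1 q1 p2 q2 p3 q3] else []

/-- all icosians with `Tq ≤ 32` -/
def cand : List Ic :=
  rPQ.flatMap fun a => rPQ.flatMap fun b =>
    if a.2.2 + b.2.2 ≤ 32 then
      rPQ.flatMap fun c =>
        if a.2.2 + b.2.2 + c.2.2 ≤ 32 ∧ (-2 * a.2.1 + b.1 + b.2.1 + c.1 - c.2.1) % 4 = 0 then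
          rPQ.flatMap fun d =>
            if a.2.2 + b.2.2 + c.2.2 + d.2.2 ≤ 32 then
              leaf a.1 a.2.1 b.1 b.2.1 c.1 c.2.1 d.1 d.2.1
            else []
        else []
    else []

theorem mem_cand {x : Ic} (h : x.Tq ≤ 32) : x ∈ cand := by
  have a0 := mul_self_nonneg x.P0
  have b0 := mul_self_nonneg x.Q0
  have a1 := mul_self_nonneg x.P1
  have b1 := mul_self_nonneg x.Q1
  have a2 := mul_self_nonneg x.P2
  have b2 := mul_self_nonneg x.Q2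
  have a3 := mul_self_nonneg x.P3
  have b3 := mul_self_nonneg x.Q3
  unfold Ic.Tq at h
  have e0 : (x.P0 - x.Q0) % 2 = 0 := by simp only [Ic.P0, Ic.Q0]; omega
  have e1 : (x.P1 - x.Q1) % 2 = 0 := by simp only [Ic.P1, Ic.Q1]; omega
  have e2 : (x.P2 - x.Q2) % 2 = 0 := by simp only [Ic.P2, Ic.Q2]; omega
  have e3 : (x.P3 - x.Q3) % 2 = 0 := by simp only [Ic.P3, Ic.Q3]; omega
  simp only [cand, List.mem_flatMap]
  refine ⟨_, mem_rPQ (p := x.P0) (q := x.Q0) (by linarith) e0, _,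
    mem_rPQ (p := x.P1) (q := x.Q1) (by linarith) e1, ?_⟩
  rw [if_pos (by linarith)]
  simp only [List.mem_flatMap]
  refine ⟨_, mem_rPQ (p := x.P2) (q := x.Q2) (by linarith) e2, ?_⟩
  rw [if_pos ⟨by linarith, by simp only [Ic.P0, Ic.Q0, Ic.P1, Ic.Q1, Ic.P2, Ic.Q2]; omega⟩]
  simp only [List.mem_flatMap]
  refine ⟨_, mem_rPQ (p := x.P3) (q := x.Q3) (by linarith) e3, ?_⟩
  rw [if_pos (by linarith)]
  rw [leaf, if_pos, Ic.ofPQ_self]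
  · exact List.mem_singleton_self _
  · simp only [Ic.P0, Ic.Q0, Ic.P1, Ic.Q1, Ic.P2, Ic.Q2, Ic.P3, Ic.Q3]
    refine ⟨?_, ?_, ?_, ?_, ?_⟩ <;> omega

end Cfsg.Agent.Lib.Helper27.J2
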