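import Cfsg.Agent.Lib.Helper27.J2Enum

/-!
# The list of the 961 icosians with `Tq ≤ 32`, and finite facts about them
-/

set_option autoImplicit false

namespace Cfsg.Agent.Lib.Helper27.J2

/-- the 961 icosians with `Tq ≤ 32` (coordinates) -/
def candLit : List Ic := [
  ⟨-1, -1, 0, 0, 0, 0, 0, 0⟩, ⟨-1, -1, 1, 0, 1, 0, 0, 1⟩, ⟨-1, -1, 0, 0, 1, -1, 0, 1⟩, ⟨-1, 0, 0, 0, -1, 1, 0, -1⟩, ⟨-1, 0, -1, 0, -1, 0, 0, -1⟩, ⟨-1, -1, 1, 1, 1, -1, 0, 2⟩,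
  ⟨0, 0, -1, 1, 1, 1, -2, 0⟩, ⟨-1, 0, 0, 0, 0, 0, 0, 0⟩, ⟨-2, 0, 1, -1, -1, -1, 2, 0⟩, ⟨-1, 1, -1, -1, -1, 1, 0, -2⟩, ⟨-1, 0, 1, 0, 1, 0, 0, 1⟩, ⟨-1, 0, 0, 0, 1, -1, 0, 1⟩,
  ⟨-1, 1, 0, 0, -1, 1, 0, -1⟩, ⟨-1, 1, -1, 0, -1, 0, 0, -1⟩, ⟨-1, 1, 0, 0, 0, 0, 0, 0⟩, ⟨0, 0, -1, 0, 1, 1, -1, 0⟩, ⟨-1, 0, 0, -1, 0, 0, 1, 0⟩, ⟨0, 0, -1, 1, 0, 1, -1, 0⟩,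
  ⟨-1, 0, 0, 0, -1, 0, 1, 0⟩, ⟨0, 0, 0, 1, 1, 1, -1, 1⟩, ⟨-1, 0, 0, 0, 0, -1, 1, 1⟩, ⟨0, 1, -1, 0, 0, 2, -1, -1⟩, ⟨-1, 1, -1, -1, -1, 0, 1, -1⟩, ⟨-1, -1, 1, 1, 1, 0, -1, 1⟩,
  ⟨-2, -1, 1, 0, 0, -2, 1, 1⟩, ⟨-1, 0, 0, 0, 0, 1, -1, -1⟩, ⟨-2, 0, 0, -1, -1, -1, 1, -1⟩, ⟨-1, 0, 0, 0, 1, 0, -1, 0⟩, ⟨-2, 0, 1, -1, 0, -1, 1, 0⟩, ⟨-1, 0, 0, 1, 0, 0, -1, 0⟩,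
  ⟨-2, 0, 1, 0, -1, -1, 1, 0⟩, ⟨0, -1, 0, 0, 1, 1, -1, 0⟩, ⟨-1, -1, 0, -1, 0, -1, 1, 0⟩, ⟨0, -1, 0, 1, 0, 1, -1, 0⟩, ⟨-1, -1, 0, 0, -1, -1, 1, 0⟩, ⟨0, -1, 0, 1, 1, 0, -1, 1⟩,
  ⟨-1, -1, 1, 0, 0, -1, 1, 1⟩, ⟨0, -1, 1, 1, 1, 1, -1, 1⟩, ⟨-1, -1, 0, 0, 0, -2, 1, 1⟩, ⟨0, 0, -1, 0, 0, 1, -1, -1⟩, ⟨-1, 0, 0, -1, -1, 0, 1, -1⟩, ⟨0, 0, 0, 0, 0, 2, -1, -1⟩,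
  ⟨-1, 0, -1, -1, -1, -1, 1, -1⟩, ⟨0, -1, 0, 0, 2, 0, -1, 1⟩, ⟨-1, -1, 1, -1, 1, -1, 1, 1⟩, ⟨0, 0, -1, 1, -1, 1, -1, -1⟩, ⟨-1, 0, 0, 0, -2, 0, 1, -1⟩, ⟨0, -1, 1, 1, 2, 0, -1, 2⟩,
  ⟨-1, -1, 2, 0, 1, -1, 1, 2⟩, ⟨0, -1, 0, 1, 2, -1, -1, 2⟩, ⟨-1, -1, 1, 0, 1, -2, 1, 2⟩, ⟨0, 0, 0, 0, 1, 1, -1, 0⟩, ⟨-1, 0, 1, -1, 0, 0, 1, 0⟩, ⟨0, 0, -1, 0, 1, 0, -1, 0⟩,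
  ⟨-1, 0, 0, -1, 0, -1, 1, 0⟩, ⟨0, 0, 0, 1, 0, 1, -1, 0⟩, ⟨-1, 0, 1, 0, -1, 0, 1, 0⟩, ⟨0, 0, -1, 1, 0, 0, -1, 0⟩, ⟨-1, 0, 0, 0, -1, -1, 1, 0⟩, ⟨0, 1, -1, 0, -1, 2, -1, -2⟩,
  ⟨-1, 1, 0, -1, -2, 1, 1, -2⟩, ⟨0, 1, -2, 0, -1, 1, -1, -2⟩, ⟨-1, 1, -1, -1, -2, 0, 1, -2⟩, ⟨0, 0, 0, 1, 1, 0, -1, 1⟩, ⟨-1, 0, 1, 0, 0, -1, 1, 1⟩, ⟨0, 0, 1, 1, 1, 1, -1, 1⟩,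
  ⟨-1, 0, 0, 0, 0, -2, 1, 1⟩, ⟨0, 1, -1, 0, 0, 1, -1, -1⟩, ⟨-1, 1, 0, -1, -1, 0, 1, -1⟩, ⟨0, 1, 0, 0, 0, 2, -1, -1⟩, ⟨-1, 1, -1, -1, -1, -1, 1, -1⟩, ⟨0, 0, 0, 0, 2, 0, -1, 1⟩,
  ⟨-1, 0, 1, -1, 1, -1, 1, 1⟩, ⟨0, 1, -1, 1, -1, 1, -1, -1⟩, ⟨-1, 1, 0, 0, -2, 0, 1, -1⟩, ⟨0, 1, 0, 0, 1, 1, -1, 0⟩, ⟨-1, 1, 0, -1, 0, -1, 1, 0⟩, ⟨0, 1, 0, 1, 0, 1, -1, 0⟩,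
  ⟨-1, 1, 0, 0, -1, -1, 1, 0⟩, ⟨0, -1, 0, 0, 1, 0, 0, 1⟩, ⟨0, 0, -1, -1, 0, 1, 0, -1⟩, ⟨0, -1, 0, 1, 0, 0, 0, 1⟩, ⟨0, 0, -1, 0, -1, 1, 0, -1⟩, ⟨0, -1, 1, 1, 1, 0, 0, 2⟩,
  ⟨0, -1, 0, 1, 1, -1, 0, 2⟩, ⟨1, 0, -1, 1, 1, 2, -2, 0⟩, ⟨0, 0, 0, 0, 0, 1, 0, 0⟩, ⟨0, 0, -1, 0, 0, 0, 0, 0⟩, ⟨-1, 0, 0, -1, -1, -1, 2, 0⟩, ⟨0, 1, -1, -1, -1, 2, 0, -2⟩,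
  ⟨0, 1, -2, -1, -1, 1, 0, -2⟩, ⟨1, 0, -1, 1, 2, 1, -2, 1⟩, ⟨0, 0, 0, 0, 1, 0, 0, 1⟩, ⟨-1, 0, 1, -1, 0, -1, 2, 1⟩, ⟨0, 1, -1, -1, 0, 1, 0, -1⟩, ⟨0, 0, 0, 1, 0, 0, 0, 1⟩,
  ⟨1, 1, -2, 1, 0, 2, -2, -1⟩, ⟨0, 1, -1, 0, -1, 1, 0, -1⟩, ⟨-1, 1, 0, -1, -2, 0, 2, -1⟩, ⟨1, 1, -1, 1, 1, 2, -2, 0⟩, ⟨0, 1, 0, 0, 0, 1, 0, 0⟩, ⟨0, 1, -1, 0, 0, 0, 0, 0⟩,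
  ⟨-1, 1, 0, -1, -1, -1, 2, 0⟩, ⟨0, -1, 0, 1, 1, 1, -2, 0⟩, ⟨-1, -1, 1, 0, 0, 0, 0, 0⟩, ⟨-1, -1, 0, 0, 0, -1, 0, 0⟩, ⟨-2, -1, 1, -1, -1, -2, 2, 0⟩, ⟨0, -1, 0, 1, 2, 0, -2, 1⟩,
  ⟨-1, -1, 1, 0, 1, -1, 0, 1⟩, ⟨-2, -1, 2, -1, 0, -2, 2, 1⟩, ⟨-1, 0, 0, -1, 0, 0, 0, -1⟩, ⟨-1, -1, 1, 1, 0, -1, 0, 1⟩, ⟨0, 0, -1, 1, 0, 1, -2, -1⟩, ⟨-1, 0, 0, 0, -1, 0, 0, -1⟩,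
  ⟨-2, 0, 1, -1, -2, -1, 2, -1⟩, ⟨-1, -1, 2, 1, 1, -1, 0, 2⟩, ⟨-1, -1, 1, 1, 1, -2, 0, 2⟩, ⟨0, 0, 0, 1, 1, 1, -2, 0⟩, ⟨-1, 0, 1, 0, 0, 0, 0, 0⟩, ⟨-1, 0, 0, 0, 0, -1, 0, 0⟩,
  ⟨-2, 0, 1, -1, -1, -2, 2, 0⟩, ⟨-1, 1, 0, -1, -1, 1, 0, -2⟩, ⟨-1, 1, -1, -1, -1, 0, 0, -2⟩, ⟨-1, 0, 1, 0, 1, -1, 0, 1⟩, ⟨-1, 1, 0, -1, 0, 0, 0, -1⟩, ⟨-1, 0, 1, 1, 0, -1, 0, 1⟩,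
  ⟨-1, 1, 0, 0, -1, 0, 0, -1⟩, ⟨1, 0, -1, 1, 1, 1, -1, 1⟩, ⟨0, 0, 0, 0, 0, 0, 1, 1⟩, ⟨1, 1, -2, 0, 0, 2, -1, -1⟩, ⟨0, 1, -1, -1, -1, 1, 1, -1⟩, ⟨-1, -1, 1, 1, 1, -1, -1, 1⟩,
  ⟨-2, -1, 2, 0, 0, -2, 1, 1⟩, ⟨-1, 0, 0, 0, 0, 0, -1, -1⟩, ⟨-2, 0, 1, -1, -1, -1, 1, -1⟩, ⟨0, -2, 1, 1, 1, -1, 0, 2⟩, ⟨1, -1, -1, 1, 1, 1, -2, 0⟩, ⟨0, -1, 0, 0, 0, 0, 0, 0⟩,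
  ⟨-1, -1, 1, -1, -1, -1, 2, 0⟩, ⟨0, 0, -1, -1, -1, 1, 0, -2⟩, ⟨1, -1, 0, 1, 2, 1, -2, 1⟩, ⟨0, -1, 1, 0, 1, 0, 0, 1⟩, ⟨0, -1, 0, 0, 1, -1, 0, 1⟩, ⟨-1, -1, 1, -1, 0, -2, 2, 1⟩,
  ⟨1, 0, -1, 0, 1, 2, -2, -1⟩, ⟨0, 0, 0, -1, 0, 1, 0, -1⟩, ⟨0, 0, -1, -1, 0, 0, 0, -1⟩, ⟨-1, 0, 0, -2, -1, -1, 2, -1⟩, ⟨1, -1, 0, 2, 1, 1, -2, 1⟩, ⟨0, -1, 1, 1, 0, 0, 0, 1⟩,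
  ⟨0, -1, 0, 1, 0, -1, 0, 1⟩, ⟨-1, -1, 1, 0, -1, -2, 2, 1⟩, ⟨1, 0, -1, 1, 0, 2, -2, -1⟩, ⟨0, 0, 0, 0, -1, 1, 0, -1⟩, ⟨0, 0, -1, 0, -1, 0, 0, -1⟩, ⟨-1, 0, 0, -1, -2, -1, 2, -1⟩,
  ⟨1, -1, 0, 2, 2, 0, -2, 2⟩, ⟨0, -1, 1, 1, 1, -1, 0, 2⟩, ⟨-1, -1, 2, 0, 0, -2, 2, 2⟩, ⟨1, 0, -1, 1, 1, 1, -2, 0⟩, ⟨0, 0, 0, 0, 0, 0, 0, 0⟩, ⟨-1, 0, 1, -1, -1, -1, 2, 0⟩,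
  ⟨1, 0, 0, 1, 1, 2, -2, 0⟩, ⟨0, 0, 1, 0, 0, 1, 0, 0⟩, ⟨0, 0, -1, 0, 0, -1, 0, 0⟩, ⟨-1, 0, 0, -1, -1, -2, 2, 0⟩, ⟨1, 1, -2, 0, 0, 2, -2, -2⟩, ⟨0, 1, -1, -1, -1, 1, 0, -2⟩,
  ⟨-1, 1, 0, -2, -2, 0, 2, -2⟩, ⟨0, -1, 1, 0, 2, -1, 0, 2⟩, ⟨0, 0, 0, -1, 1, 0, 0, 0⟩, ⟨0, 0, 0, 1, -1, 0, 0, 0⟩, ⟨0, 1, -1, 0, -2, 1, 0, -2⟩, ⟨1, 0, 0, 1, 2, 1, -2, 1⟩,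
  ⟨0, 0, 1, 0, 1, 0, 0, 1⟩, ⟨0, 0, 0, 0, 1, -1, 0, 1⟩, ⟨-1, 0, 1, -1, 0, -2, 2, 1⟩, ⟨1, 1, -1, 0, 1, 2, -2, -1⟩, ⟨0, 1, 0, -1, 0, 1, 0, -1⟩, ⟨0, 1, -1, -1, 0, 0, 0, -1⟩,
  ⟨-1, 1, 0, -2, -1, -1, 2, -1⟩, ⟨1, 0, 0, 2, 1, 1, -2, 1⟩, ⟨0, 0, 1, 1, 0, 0, 0, 1⟩, ⟨0, 0, 0, 1, 0, -1, 0, 1⟩, ⟨-1, 0, 1, 0, -1, -2, 2, 1⟩, ⟨1, 1, -1, 1, 0, 2, -2, -1⟩,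
  ⟨0, 1, 0, 0, -1, 1, 0, -1⟩, ⟨0, 1, -1, 0, -1, 0, 0, -1⟩, ⟨-1, 1, 0, -1, -2, -1, 2, -1⟩, ⟨0, 0, 1, 1, 1, -1, 0, 2⟩, ⟨1, 1, -1, 1, 1, 1, -2, 0⟩, ⟨0, 1, 0, 0, 0, 0, 0, 0⟩,
  ⟨-1, 1, 1, -1, -1, -1, 2, 0⟩, ⟨0, 2, -1, -1, -1, 1, 0, -2⟩, ⟨1, -1, 0, 1, 1, 1, -1, 1⟩, ⟨0, -1, 1, 0, 0, 0, 1, 1⟩, ⟨1, -1, -1, 1, 1, 0, -1, 1⟩, ⟨0, -1, 0, 0, 0, -1, 1, 1⟩,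
  ⟨1, 0, -1, 0, 0, 2, -1, -1⟩, ⟨0, 0, 0, -1, -1, 1, 1, -1⟩, ⟨1, 0, -2, 0, 0, 1, -1, -1⟩, ⟨0, 0, -1, -1, -1, 0, 1, -1⟩, ⟨1, -1, 0, 1, 2, 0, -1, 2⟩, ⟨0, -1, 1, 0, 1, -1, 1, 2⟩,
  ⟨1, 0, -1, 0, 1, 1, -1, 0⟩, ⟨0, 0, 0, -1, 0, 0, 1, 0⟩, ⟨1, 0, 0, 0, 1, 2, -1, 0⟩, ⟨0, 0, -1, -1, 0, -1, 1, 0⟩, ⟨1, 0, -1, 1, 0, 1, -1, 0⟩, ⟨0, 0, 0, 0, -1, 0, 1, 0⟩,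
  ⟨1, 0, 0, 1, 0, 2, -1, 0⟩, ⟨0, 0, -1, 0, -1, -1, 1, 0⟩, ⟨1, 1, -2, 0, -1, 2, -1, -2⟩, ⟨0, 1, -1, -1, -2, 1, 1, -2⟩, ⟨1, 0, 0, 1, 1, 1, -1, 1⟩, ⟨0, 0, 1, 0, 0, 0, 1, 1⟩,
  ⟨1, 0, -1, 1, 1, 0, -1, 1⟩, ⟨0, 0, 0, 0, 0, -1, 1, 1⟩, ⟨1, 1, -1, 0, 0, 2, -1, -1⟩, ⟨0, 1, 0, -1, -1, 1, 1, -1⟩, ⟨1, 1, -2, 0, 0, 1, -1, -1⟩, ⟨0, 1, -1, -1, -1, 0, 1, -1⟩,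
  ⟨1, 0, 0, 0, 2, 1, -1, 1⟩, ⟨0, 0, 0, -1, 1, -1, 1, 1⟩, ⟨1, 1, -1, 1, -1, 2, -1, -1⟩, ⟨0, 1, -1, 0, -2, 0, 1, -1⟩, ⟨1, 0, 0, 1, 2, 0, -1, 2⟩, ⟨0, 0, 1, 0, 1, -1, 1, 2⟩,
  ⟨1, 1, -1, 0, 1, 1, -1, 0⟩, ⟨0, 1, 0, -1, 0, 0, 1, 0⟩, ⟨1, 1, -1, 1, 0, 1, -1, 0⟩, ⟨0, 1, 0, 0, -1, 0, 1, 0⟩, ⟨1, 2, -2, 0, -1, 2, -1, -2⟩, ⟨0, 2, -1, -1, -2, 1, 1, -2⟩,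
  ⟨0, -2, 1, 1, 2, -1, -1, 2⟩, ⟨-1, -2, 2, 0, 1, -2, 1, 2⟩, ⟨0, -1, 0, 0, 1, 0, -1, 0⟩, ⟨-1, -1, 1, -1, 0, -1, 1, 0⟩, ⟨0, -1, 0, 1, 0, 0, -1, 0⟩, ⟨-1, -1, 1, 0, -1, -1, 1, 0⟩,
  ⟨0, 0, -1, 0, -1, 1, -1, -2⟩, ⟨-1, 0, 0, -1, -2, 0, 1, -2⟩, ⟨0, -1, 1, 1, 1, 0, -1, 1⟩, ⟨-1, -1, 2, 0, 0, -1, 1, 1⟩, ⟨0, -1, 0, 1, 1, -1, -1, 1⟩, ⟨-1, -1, 1, 0, 0, -2, 1, 1⟩,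
  ⟨0, 0, 0, 0, 0, 1, -1, -1⟩, ⟨-1, 0, 1, -1, -1, 0, 1, -1⟩, ⟨0, 0, -1, 0, 0, 0, -1, -1⟩, ⟨-1, 0, 0, -1, -1, -1, 1, -1⟩, ⟨0, -1, 1, 0, 2, 0, -1, 1⟩, ⟨-1, -1, 1, -1, 1, -2, 1, 1⟩,
  ⟨0, 0, 0, 1, -1, 1, -1, -1⟩, ⟨-1, 0, 0, 0, -2, -1, 1, -1⟩, ⟨0, -1, 1, 1, 2, -1, -1, 2⟩, ⟨-1, -1, 2, 0, 1, -2, 1, 2⟩, ⟨0, 0, 0, 0, 1, 0, -1, 0⟩, ⟨-1, 0, 1, -1, 0, -1, 1, 0⟩,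
  ⟨0, 0, 1, 0, 1, 1, -1, 0⟩, ⟨-1, 0, 0, -1, 0, -2, 1, 0⟩, ⟨0, 0, 0, 1, 0, 0, -1, 0⟩, ⟨-1, 0, 1, 0, -1, -1, 1, 0⟩, ⟨0, 0, 1, 1, 0, 1, -1, 0⟩, ⟨-1, 0, 0, 0, -1, -2, 1, 0⟩,
  ⟨0, 1, -1, 0, -1, 1, -1, -2⟩, ⟨-1, 1, 0, -1, -2, 0, 1, -2⟩, ⟨0, 0, 1, 1, 1, 0, -1, 1⟩, ⟨-1, 0, 2, 0, 0, -1, 1, 1⟩, ⟨0, 0, 0, 1, 1, -1, -1, 1⟩, ⟨-1, 0, 1, 0, 0, -2, 1, 1⟩,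
  ⟨0, 1, 0, 0, 0, 1, -1, -1⟩, ⟨-1, 1, 1, -1, -1, 0, 1, -1⟩, ⟨0, 1, -1, 0, 0, 0, -1, -1⟩, ⟨-1, 1, 0, -1, -1, -1, 1, -1⟩, ⟨1, 0, -1, 0, 0, 1, 0, 0⟩, ⟨1, 0, 0, 0, 1, 1, 0, 1⟩,
  ⟨1, 0, -1, 0, 1, 0, 0, 1⟩, ⟨1, 1, -1, 0, -1, 2, 0, -1⟩, ⟨1, 1, -2, 0, -1, 1, 0, -1⟩, ⟨1, 1, -1, 0, 0, 1, 0, 0⟩, ⟨-1, -1, 1, 0, 0, -1, 0, 0⟩, ⟨-1, -1, 2, 0, 1, -1, 0, 1⟩,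
  ⟨-1, -1, 1, 0, 1, -2, 0, 1⟩, ⟨-1, 0, 1, 0, -1, 0, 0, -1⟩, ⟨-1, 0, 0, 0, -1, -1, 0, -1⟩, ⟨-1, 0, 1, 0, 0, -1, 0, 0⟩, ⟨1, -1, 0, 0, 1, 1, -1, 0⟩, ⟨0, -1, 0, -1, 0, -1, 1, 0⟩,
  ⟨1, -1, 0, 1, 0, 1, -1, 0⟩, ⟨0, -1, 0, 0, -1, -1, 1, 0⟩, ⟨1, -1, 0, 1, 1, 0, -1, 1⟩, ⟨0, -1, 1, 0, 0, -1, 1, 1⟩, ⟨1, -1, 1, 1, 1, 1, -1, 1⟩, ⟨0, -1, 0, 0, 0, -2, 1, 1⟩,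
  ⟨1, 0, -1, 0, 0, 1, -1, -1⟩, ⟨0, 0, 0, -1, -1, 0, 1, -1⟩, ⟨1, 0, 0, 0, 0, 2, -1, -1⟩, ⟨0, 0, -1, -1, -1, -1, 1, -1⟩, ⟨1, -1, 0, 0, 2, 0, -1, 1⟩, ⟨0, -1, 1, -1, 1, -1, 1, 1⟩,
  ⟨1, 0, -1, 1, -1, 1, -1, -1⟩, ⟨0, 0, 0, 0, -2, 0, 1, -1⟩, ⟨1, -1, 1, 1, 2, 0, -1, 2⟩, ⟨0, -1, 2, 0, 1, -1, 1, 2⟩, ⟨1, -1, 0, 1, 2, -1, -1, 2⟩, ⟨0, -1, 1, 0, 1, -2, 1, 2⟩,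
  ⟨1, 0, 0, 0, 1, 1, -1, 0⟩, ⟨0, 0, 1, -1, 0, 0, 1, 0⟩, ⟨1, 0, -1, 0, 1, 0, -1, 0⟩, ⟨0, 0, 0, -1, 0, -1, 1, 0⟩, ⟨1, 0, 0, 1, 0, 1, -1, 0⟩, ⟨0, 0, 1, 0, -1, 0, 1, 0⟩,
  ⟨1, 0, -1, 1, 0, 0, -1, 0⟩, ⟨0, 0, 0, 0, -1, -1, 1, 0⟩, ⟨1, 1, -1, 0, -1, 2, -1, -2⟩, ⟨0, 1, 0, -1, -2, 1, 1, -2⟩, ⟨1, 1, -2, 0, -1, 1, -1, -2⟩, ⟨0, 1, -1, -1, -2, 0, 1, -2⟩,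
  ⟨1, 0, 0, 1, 1, 0, -1, 1⟩, ⟨0, 0, 1, 0, 0, -1, 1, 1⟩, ⟨1, 0, 1, 1, 1, 1, -1, 1⟩, ⟨0, 0, 0, 0, 0, -2, 1, 1⟩, ⟨1, 1, -1, 0, 0, 1, -1, -1⟩, ⟨0, 1, 0, -1, -1, 0, 1, -1⟩,
  ⟨1, 1, 0, 0, 0, 2, -1, -1⟩, ⟨0, 1, -1, -1, -1, -1, 1, -1⟩, ⟨1, 0, 0, 0, 2, 0, -1, 1⟩, ⟨0, 0, 1, -1, 1, -1, 1, 1⟩, ⟨1, 1, -1, 1, -1, 1, -1, -1⟩, ⟨0, 1, 0, 0, -2, 0, 1, -1⟩,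
  ⟨1, 1, 0, 0, 1, 1, -1, 0⟩, ⟨0, 1, 0, -1, 0, -1, 1, 0⟩, ⟨1, 1, 0, 1, 0, 1, -1, 0⟩, ⟨0, 1, 0, 0, -1, -1, 1, 0⟩, ⟨1, -1, 0, 0, 1, 0, 0, 1⟩, ⟨1, 0, -1, -1, 0, 1, 0, -1⟩,
  ⟨1, -1, 0, 1, 0, 0, 0, 1⟩, ⟨1, 0, -1, 0, -1, 1, 0, -1⟩, ⟨1, -1, 1, 1, 1, 0, 0, 2⟩, ⟨1, -1, 0, 1, 1, -1, 0, 2⟩, ⟨2, 0, -1, 1, 1, 2, -2, 0⟩, ⟨1, 0, 0, 0, 0, 1, 0, 0⟩,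
  ⟨1, 0, -1, 0, 0, 0, 0, 0⟩, ⟨0, 0, 0, -1, -1, -1, 2, 0⟩, ⟨1, 1, -1, -1, -1, 2, 0, -2⟩, ⟨1, 1, -2, -1, -1, 1, 0, -2⟩, ⟨2, 0, -1, 1, 2, 1, -2, 1⟩, ⟨1, 0, 0, 0, 1, 0, 0, 1⟩,
  ⟨0, 0, 1, -1, 0, -1, 2, 1⟩, ⟨1, 1, -1, -1, 0, 1, 0, -1⟩, ⟨1, 0, 0, 1, 0, 0, 0, 1⟩, ⟨2, 1, -2, 1, 0, 2, -2, -1⟩, ⟨1, 1, -1, 0, -1, 1, 0, -1⟩, ⟨0, 1, 0, -1, -2, 0, 2, -1⟩,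
  ⟨2, 1, -1, 1, 1, 2, -2, 0⟩, ⟨1, 1, 0, 0, 0, 1, 0, 0⟩, ⟨1, 1, -1, 0, 0, 0, 0, 0⟩, ⟨0, 1, 0, -1, -1, -1, 2, 0⟩, ⟨1, -1, 0, 1, 1, 1, -2, 0⟩, ⟨0, -1, 1, 0, 0, 0, 0, 0⟩,
  ⟨0, -1, 0, 0, 0, -1, 0, 0⟩, ⟨-1, -1, 1, -1, -1, -2, 2, 0⟩, ⟨1, -1, 0, 1, 2, 0, -2, 1⟩, ⟨0, -1, 1, 0, 1, -1, 0, 1⟩, ⟨-1, -1, 2, -1, 0, -2, 2, 1⟩, ⟨0, 0, 0, -1, 0, 0, 0, -1⟩,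
  ⟨0, -1, 1, 1, 0, -1, 0, 1⟩, ⟨1, 0, -1, 1, 0, 1, -2, -1⟩, ⟨0, 0, 0, 0, -1, 0, 0, -1⟩, ⟨-1, 0, 1, -1, -2, -1, 2, -1⟩, ⟨0, -1, 2, 1, 1, -1, 0, 2⟩, ⟨0, -1, 1, 1, 1, -2, 0, 2⟩,
  ⟨1, 0, 0, 1, 1, 1, -2, 0⟩, ⟨0, 0, 1, 0, 0, 0, 0, 0⟩, ⟨0, 0, 0, 0, 0, -1, 0, 0⟩, ⟨-1, 0, 1, -1, -1, -2, 2, 0⟩, ⟨0, 1, 0, -1, -1, 1, 0, -2⟩, ⟨0, 1, -1, -1, -1, 0, 0, -2⟩,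
  ⟨0, 0, 1, 0, 1, -1, 0, 1⟩, ⟨0, 1, 0, -1, 0, 0, 0, -1⟩, ⟨0, 0, 1, 1, 0, -1, 0, 1⟩, ⟨0, 1, 0, 0, -1, 0, 0, -1⟩, ⟨2, 0, -1, 1, 1, 1, -1, 1⟩, ⟨1, 0, 0, 0, 0, 0, 1, 1⟩,
  ⟨2, 1, -2, 0, 0, 2, -1, -1⟩, ⟨1, 1, -1, -1, -1, 1, 1, -1⟩, ⟨0, -1, 1, 1, 1, -1, -1, 1⟩, ⟨-1, -1, 2, 0, 0, -2, 1, 1⟩, ⟨0, 0, 0, 0, 0, 0, -1, -1⟩, ⟨-1, 0, 1, -1, -1, -1, 1, -1⟩,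
  ⟨1, -1, 0, 0, 0, 0, 0, 0⟩, ⟨1, -1, 1, 0, 1, 0, 0, 1⟩, ⟨1, -1, 0, 0, 1, -1, 0, 1⟩, ⟨1, 0, 0, 0, -1, 1, 0, -1⟩, ⟨1, 0, -1, 0, -1, 0, 0, -1⟩, ⟨1, -1, 1, 1, 1, -1, 0, 2⟩,
  ⟨2, 0, -1, 1, 1, 1, -2, 0⟩, ⟨1, 0, 0, 0, 0, 0, 0, 0⟩, ⟨0, 0, 1, -1, -1, -1, 2, 0⟩, ⟨1, 1, -1, -1, -1, 1, 0, -2⟩, ⟨1, 0, 1, 0, 1, 0, 0, 1⟩, ⟨1, 0, 0, 0, 1, -1, 0, 1⟩,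
  ⟨1, 1, 0, 0, -1, 1, 0, -1⟩, ⟨1, 1, -1, 0, -1, 0, 0, -1⟩, ⟨1, 1, 0, 0, 0, 0, 0, 0⟩, ⟨2, 0, -1, 0, 1, 1, -1, 0⟩, ⟨1, 0, 0, -1, 0, 0, 1, 0⟩, ⟨2, 0, -1, 1, 0, 1, -1, 0⟩,
  ⟨1, 0, 0, 0, -1, 0, 1, 0⟩, ⟨2, 0, 0, 1, 1, 1, -1, 1⟩, ⟨1, 0, 0, 0, 0, -1, 1, 1⟩, ⟨2, 1, -1, 0, 0, 2, -1, -1⟩, ⟨1, 1, -1, -1, -1, 0, 1, -1⟩, ⟨1, -1, 1, 1, 1, 0, -1, 1⟩,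
  ⟨0, -1, 1, 0, 0, -2, 1, 1⟩, ⟨1, 0, 0, 0, 0, 1, -1, -1⟩, ⟨0, 0, 0, -1, -1, -1, 1, -1⟩, ⟨1, 0, 0, 0, 1, 0, -1, 0⟩, ⟨0, 0, 1, -1, 0, -1, 1, 0⟩, ⟨1, 0, 0, 1, 0, 0, -1, 0⟩,
  ⟨0, 0, 1, 0, -1, -1, 1, 0⟩, ⟨0, -1, 0, 1, 1, 1, -1, 0⟩, ⟨-1, -1, 1, 0, 0, 0, 1, 0⟩, ⟨0, -1, -1, 1, 1, 0, -1, 0⟩, ⟨-1, -1, 0, 0, 0, -1, 1, 0⟩, ⟨0, -1, 0, 1, 2, 0, -1, 1⟩,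
  ⟨-1, -1, 1, 0, 1, -1, 1, 1⟩, ⟨0, 0, -1, 0, 1, 1, -1, -1⟩, ⟨-1, 0, 0, -1, 0, 0, 1, -1⟩, ⟨0, -1, 0, 2, 1, 0, -1, 1⟩, ⟨-1, -1, 1, 1, 0, -1, 1, 1⟩, ⟨0, 0, -1, 1, 0, 1, -1, -1⟩,
  ⟨-1, 0, 0, 0, -1, 0, 1, -1⟩, ⟨0, 0, 0, 1, 1, 1, -1, 0⟩, ⟨-1, 0, 1, 0, 0, 0, 1, 0⟩, ⟨0, 0, -1, 1, 1, 0, -1, 0⟩, ⟨-1, 0, 0, 0, 0, -1, 1, 0⟩, ⟨0, -1, 0, 1, 1, 0, 0, 1⟩,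
  ⟨0, 0, -1, 0, 0, 1, 0, -1⟩, ⟨0, 0, 0, 0, 1, 1, 0, 0⟩, ⟨0, 0, -1, 0, 1, 0, 0, 0⟩, ⟨0, 0, 0, 1, 0, 1, 0, 0⟩, ⟨0, 0, -1, 1, 0, 0, 0, 0⟩, ⟨0, 0, 0, 1, 1, 0, 0, 1⟩,
  ⟨0, 1, -1, 0, 0, 1, 0, -1⟩, ⟨-1, -2, 1, 1, 1, -1, 0, 1⟩, ⟨-1, -1, 0, 0, 0, 0, 0, -1⟩, ⟨-1, -1, 1, 0, 1, 0, 0, 0⟩, ⟨-1, -1, 0, 0, 1, -1, 0, 0⟩, ⟨-1, -1, 1, 1, 0, 0, 0, 0⟩,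
  ⟨-1, -1, 0, 1, 0, -1, 0, 0⟩, ⟨-1, -1, 1, 1, 1, -1, 0, 1⟩, ⟨-1, 0, 0, 0, 0, 0, 0, -1⟩, ⟨0, -2, 1, 1, 1, 0, 0, 1⟩, ⟨0, -2, 0, 1, 1, -1, 0, 1⟩, ⟨0, -1, 0, 0, 0, 1, 0, -1⟩,
  ⟨0, -1, -1, 0, 0, 0, 0, -1⟩, ⟨0, -2, 1, 1, 2, -1, 0, 2⟩, ⟨1, -1, -1, 1, 2, 1, -2, 0⟩, ⟨0, -1, 0, 0, 1, 0, 0, 0⟩, ⟨-1, -1, 1, -1, 0, -1, 2, 0⟩, ⟨1, -1, -1, 2, 1, 1, -2, 0⟩,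
  ⟨0, -1, 0, 1, 0, 0, 0, 0⟩, ⟨-1, -1, 1, 0, -1, -1, 2, 0⟩, ⟨0, 0, -1, 0, -1, 1, 0, -2⟩, ⟨1, -1, 0, 2, 2, 1, -2, 1⟩, ⟨0, -1, 1, 1, 1, 0, 0, 1⟩, ⟨0, -1, 0, 1, 1, -1, 0, 1⟩,
  ⟨-1, -1, 1, 0, 0, -2, 2, 1⟩, ⟨1, 0, -1, 1, 1, 2, -2, -1⟩, ⟨0, 0, 0, 0, 0, 1, 0, -1⟩, ⟨0, 0, -1, 0, 0, 0, 0, -1⟩, ⟨-1, 0, 0, -1, -1, -1, 2, -1⟩, ⟨0, -1, 1, 0, 2, 0, 0, 1⟩,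
  ⟨0, -1, 0, 0, 2, -1, 0, 1⟩, ⟨0, 0, 0, 1, -1, 1, 0, -1⟩, ⟨0, 0, -1, 1, -1, 0, 0, -1⟩, ⟨0, -1, 1, 1, 2, -1, 0, 2⟩, ⟨1, 0, -1, 1, 2, 1, -2, 0⟩, ⟨0, 0, 0, 0, 1, 0, 0, 0⟩,
  ⟨-1, 0, 1, -1, 0, -1, 2, 0⟩, ⟨1, 0, -1, 2, 1, 1, -2, 0⟩, ⟨0, 0, 0, 1, 0, 0, 0, 0⟩, ⟨-1, 0, 1, 0, -1, -1, 2, 0⟩, ⟨0, 1, -1, 0, -1, 1, 0, -2⟩, ⟨0, 0, 1, 1, 1, 0, 0, 1⟩,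
  ⟨0, 0, 0, 1, 1, -1, 0, 1⟩, ⟨0, 1, 0, 0, 0, 1, 0, -1⟩, ⟨0, 1, -1, 0, 0, 0, 0, -1⟩, ⟨1, -1, -1, 1, 1, 1, -1, 0⟩, ⟨0, -1, 0, 0, 0, 0, 1, 0⟩, ⟨1, -1, 0, 1, 2, 1, -1, 1⟩,
  ⟨0, -1, 1, 0, 1, 0, 1, 1⟩, ⟨1, -1, -1, 1, 2, 0, -1, 1⟩, ⟨0, -1, 0, 0, 1, -1, 1, 1⟩, ⟨1, 0, -1, 0, 1, 2, -1, -1⟩, ⟨0, 0, -1, -1, 0, 0, 1, -1⟩, ⟨1, -1, 0, 2, 1, 1, -1, 1⟩,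
  ⟨0, -1, 0, 1, 0, -1, 1, 1⟩, ⟨1, 0, -1, 1, 0, 2, -1, -1⟩, ⟨0, 0, 0, 0, -1, 1, 1, -1⟩, ⟨1, 0, -2, 1, 0, 1, -1, -1⟩, ⟨0, 0, -1, 0, -1, 0, 1, -1⟩, ⟨1, -1, 0, 2, 2, 0, -1, 2⟩,
  ⟨0, -1, 1, 1, 1, -1, 1, 2⟩, ⟨1, 0, -1, 1, 1, 1, -1, 0⟩, ⟨0, 0, 0, 0, 0, 0, 1, 0⟩, ⟨1, 0, 0, 1, 1, 2, -1, 0⟩, ⟨0, 0, -1, 0, 0, -1, 1, 0⟩, ⟨1, 1, -2, 0, 0, 2, -1, -2⟩,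
  ⟨0, 1, -1, -1, -1, 1, 1, -2⟩, ⟨1, 0, 0, 1, 2, 1, -1, 1⟩, ⟨0, 0, 0, 0, 1, -1, 1, 1⟩, ⟨1, 1, -1, 1, 0, 2, -1, -1⟩, ⟨0, 1, -1, 0, -1, 0, 1, -1⟩, ⟨0, -2, 1, 1, 2, 0, -1, 1⟩,
  ⟨-1, -2, 1, 0, 1, -2, 1, 1⟩, ⟨0, -1, 0, 1, 0, 1, -1, -1⟩, ⟨-1, -1, 0, 0, -1, -1, 1, -1⟩, ⟨0, -2, 1, 2, 2, -1, -1, 2⟩, ⟨-1, -2, 2, 1, 1, -2, 1, 2⟩, ⟨0, -1, 0, 1, 1, 0, -1, 0⟩,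
  ⟨-1, -1, 1, 0, 0, -1, 1, 0⟩, ⟨0, -1, 1, 1, 1, 1, -1, 0⟩, ⟨-1, -1, 0, 0, 0, -2, 1, 0⟩, ⟨0, 0, -1, 0, 0, 1, -1, -2⟩, ⟨-1, 0, 0, -1, -1, 0, 1, -2⟩, ⟨0, -1, 1, 1, 2, 0, -1, 1⟩,
  ⟨-1, -1, 2, 0, 1, -1, 1, 1⟩, ⟨0, -1, 0, 1, 2, -1, -1, 1⟩, ⟨-1, -1, 1, 0, 1, -2, 1, 1⟩, ⟨0, 0, 0, 0, 1, 1, -1, -1⟩, ⟨-1, 0, 0, -1, 0, -1, 1, -1⟩, ⟨0, -1, 1, 2, 1, 0, -1, 1⟩,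
  ⟨-1, -1, 1, 1, 0, -2, 1, 1⟩, ⟨0, 0, 0, 1, 0, 1, -1, -1⟩, ⟨-1, 0, 1, 0, -1, 0, 1, -1⟩, ⟨0, 0, -1, 1, 0, 0, -1, -1⟩, ⟨-1, 0, 0, 0, -1, -1, 1, -1⟩, ⟨0, 0, 0, 1, 1, 0, -1, 0⟩,
  ⟨-1, 0, 1, 0, 0, -1, 1, 0⟩, ⟨1, 0, -1, 0, 1, 1, 0, 0⟩, ⟨1, 0, -1, 1, 0, 1, 0, 0⟩, ⟨-1, -1, 1, 0, 1, -1, 0, 0⟩, ⟨-1, -1, 1, 1, 0, -1, 0, 0⟩, ⟨1, -2, 0, 1, 2, 0, -1, 1⟩,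
  ⟨0, -2, 1, 0, 1, -1, 1, 1⟩, ⟨1, -1, -1, 1, 0, 1, -1, -1⟩, ⟨0, -1, 0, 0, -1, 0, 1, -1⟩, ⟨1, -2, 1, 2, 2, 0, -1, 2⟩, ⟨0, -2, 1, 1, 1, -2, 1, 2⟩, ⟨1, -1, 0, 1, 1, 1, -1, 0⟩,
  ⟨0, -1, 1, 0, 0, 0, 1, 0⟩, ⟨1, -1, -1, 1, 1, 0, -1, 0⟩, ⟨0, -1, 0, 0, 0, -1, 1, 0⟩, ⟨1, 0, -1, 0, 0, 2, -1, -2⟩, ⟨0, 0, -1, -1, -1, 0, 1, -2⟩, ⟨1, -1, 0, 1, 2, 0, -1, 1⟩,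
  ⟨0, -1, 1, 0, 1, -1, 1, 1⟩, ⟨1, -1, 1, 1, 2, 1, -1, 1⟩, ⟨0, -1, 0, 0, 1, -2, 1, 1⟩, ⟨1, 0, -1, 0, 1, 1, -1, -1⟩, ⟨0, 0, 0, -1, 0, 0, 1, -1⟩, ⟨1, -1, 0, 2, 1, 0, -1, 1⟩,
  ⟨0, -1, 1, 1, 0, -1, 1, 1⟩, ⟨1, 0, -1, 1, 0, 1, -1, -1⟩, ⟨0, 0, 0, 0, -1, 0, 1, -1⟩, ⟨1, 0, 0, 1, 0, 2, -1, -1⟩, ⟨0, 0, -1, 0, -1, -1, 1, -1⟩, ⟨1, -1, 1, 2, 2, 0, -1, 2⟩,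
  ⟨0, -1, 1, 1, 1, -2, 1, 2⟩, ⟨1, 0, 0, 1, 1, 1, -1, 0⟩, ⟨0, 0, 1, 0, 0, 0, 1, 0⟩, ⟨1, 0, -1, 1, 1, 0, -1, 0⟩, ⟨0, 0, 0, 0, 0, -1, 1, 0⟩, ⟨1, 1, -1, 0, 0, 2, -1, -2⟩,
  ⟨0, 1, -1, -1, -1, 0, 1, -2⟩, ⟨1, 0, 0, 1, 2, 0, -1, 1⟩, ⟨0, 0, 1, 0, 1, -1, 1, 1⟩, ⟨1, 1, -1, 1, 0, 1, -1, -1⟩, ⟨0, 1, 0, 0, -1, 0, 1, -1⟩, ⟨1, -1, 0, 0, 1, 1, 0, 0⟩,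
  ⟨1, -1, -1, 0, 1, 0, 0, 0⟩, ⟨1, -1, 0, 1, 0, 1, 0, 0⟩, ⟨1, -1, -1, 1, 0, 0, 0, 0⟩, ⟨2, -1, -1, 2, 2, 1, -2, 1⟩, ⟨1, -1, 0, 1, 1, 0, 0, 1⟩, ⟨0, -1, 1, 0, 0, -1, 2, 1⟩,
  ⟨2, 0, -2, 1, 1, 2, -2, -1⟩, ⟨1, 0, -1, 0, 0, 1, 0, -1⟩, ⟨0, 0, 0, -1, -1, 0, 2, -1⟩, ⟨1, -1, 0, 0, 2, 0, 0, 1⟩, ⟨1, 0, -1, 1, -1, 1, 0, -1⟩, ⟨1, -1, 1, 1, 2, 0, 0, 2⟩,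
  ⟨1, -1, 0, 1, 2, -1, 0, 2⟩, ⟨2, 0, -1, 1, 2, 2, -2, 0⟩, ⟨1, 0, 0, 0, 1, 1, 0, 0⟩, ⟨1, 0, -1, 0, 1, 0, 0, 0⟩, ⟨0, 0, 0, -1, 0, -1, 2, 0⟩, ⟨2, 0, -1, 2, 1, 2, -2, 0⟩,
  ⟨1, 0, 0, 1, 0, 1, 0, 0⟩, ⟨1, 0, -1, 1, 0, 0, 0, 0⟩, ⟨0, 0, 0, 0, -1, -1, 2, 0⟩, ⟨1, 1, -1, 0, -1, 2, 0, -2⟩, ⟨1, 1, -2, 0, -1, 1, 0, -2⟩, ⟨1, 0, 0, 1, 1, 0, 0, 1⟩,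
  ⟨1, 1, -1, 0, 0, 1, 0, -1⟩, ⟨0, -2, 1, 1, 1, -1, 0, 1⟩, ⟨0, -1, 0, 0, 0, 0, 0, -1⟩, ⟨0, -2, 2, 1, 2, -1, 0, 2⟩, ⟨0, -2, 1, 1, 2, -2, 0, 2⟩, ⟨1, -1, 0, 1, 2, 1, -2, 0⟩,
  ⟨0, -1, 1, 0, 1, 0, 0, 0⟩, ⟨0, -1, 0, 0, 1, -1, 0, 0⟩, ⟨-1, -1, 1, -1, 0, -2, 2, 0⟩, ⟨1, -1, 0, 2, 1, 1, -2, 0⟩, ⟨0, -1, 1, 1, 0, 0, 0, 0⟩, ⟨0, -1, 0, 1, 0, -1, 0, 0⟩,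
  ⟨-1, -1, 1, 0, -1, -2, 2, 0⟩, ⟨0, 0, 0, 0, -1, 1, 0, -2⟩, ⟨0, 0, -1, 0, -1, 0, 0, -2⟩, ⟨1, -1, 0, 2, 2, 0, -2, 1⟩, ⟨0, -1, 1, 1, 1, -1, 0, 1⟩, ⟨-1, -1, 2, 0, 0, -2, 2, 1⟩,
  ⟨1, 0, -1, 1, 1, 1, -2, -1⟩, ⟨0, 0, 0, 0, 0, 0, 0, -1⟩, ⟨-1, 0, 1, -1, -1, -1, 2, -1⟩, ⟨0, -1, 1, 0, 2, -1, 0, 1⟩, ⟨0, 0, 0, 1, -1, 0, 0, -1⟩, ⟨0, 0, 1, 0, 1, 0, 0, 0⟩,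
  ⟨0, 0, 0, 0, 1, -1, 0, 0⟩, ⟨0, 0, 1, 1, 0, 0, 0, 0⟩, ⟨0, 0, 0, 1, 0, -1, 0, 0⟩, ⟨2, 0, -1, 1, 1, 2, -1, 0⟩, ⟨1, 0, -1, 0, 0, 0, 1, 0⟩, ⟨0, -1, 1, 1, 1, 0, -1, 0⟩,
  ⟨-1, -1, 1, 0, 0, -2, 1, 0⟩, ⟨1, -2, 1, 1, 2, -1, 0, 2⟩, ⟨1, -1, 0, 0, 1, 0, 0, 0⟩, ⟨1, -1, 0, 1, 0, 0, 0, 0⟩, ⟨1, 0, -1, 0, -1, 1, 0, -2⟩, ⟨2, -1, 0, 2, 2, 1, -2, 1⟩,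
  ⟨1, -1, 1, 1, 1, 0, 0, 1⟩, ⟨1, -1, 0, 1, 1, -1, 0, 1⟩, ⟨0, -1, 1, 0, 0, -2, 2, 1⟩, ⟨2, 0, -1, 1, 1, 2, -2, -1⟩, ⟨1, 0, 0, 0, 0, 1, 0, -1⟩, ⟨1, 0, -1, 0, 0, 0, 0, -1⟩,
  ⟨0, 0, 0, -1, -1, -1, 2, -1⟩, ⟨1, -1, 1, 1, 2, -1, 0, 2⟩, ⟨1, 0, 0, 0, 1, 0, 0, 0⟩, ⟨1, 0, 0, 1, 0, 0, 0, 0⟩, ⟨1, 1, -1, 0, -1, 1, 0, -2⟩, ⟨2, -1, -1, 1, 1, 1, -1, 0⟩,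
  ⟨1, -1, 0, 0, 0, 0, 1, 0⟩, ⟨2, -1, 0, 1, 2, 1, -1, 1⟩, ⟨1, -1, 0, 0, 1, -1, 1, 1⟩, ⟨2, 0, -1, 1, 0, 2, -1, -1⟩, ⟨1, 0, -1, 0, -1, 0, 1, -1⟩, ⟨2, 0, -1, 1, 1, 1, -1, 0⟩,
  ⟨1, 0, 0, 0, 0, 0, 1, 0⟩, ⟨1, -1, 0, 1, 1, 0, -1, 0⟩, ⟨0, -1, 1, 0, 0, -1, 1, 0⟩, ⟨1, -1, 1, 1, 2, 0, -1, 1⟩, ⟨0, -1, 1, 0, 1, -2, 1, 1⟩, ⟨1, 0, 0, 1, 0, 1, -1, -1⟩,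
  ⟨0, 0, 0, 0, -1, -1, 1, -1⟩, ⟨1, 0, 0, 1, 1, 0, -1, 0⟩, ⟨0, 0, 1, 0, 0, -1, 1, 0⟩, ⟨-1, -1, 1, 0, 1, -1, 0, 2⟩, ⟨-1, 0, 0, -1, 0, 0, 0, 0⟩, ⟨-1, 0, 0, 0, -1, 0, 0, 0⟩,
  ⟨-1, 1, -1, -1, -2, 1, 0, -2⟩, ⟨0, 0, 0, 1, 1, 1, -2, 1⟩, ⟨-1, 0, 1, 0, 0, 0, 0, 1⟩, ⟨-1, 0, 0, 0, 0, -1, 0, 1⟩, ⟨-2, 0, 1, -1, -1, -2, 2, 1⟩, ⟨0, 1, -1, 0, 0, 2, -2, -1⟩,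
  ⟨-1, 1, 0, -1, -1, 1, 0, -1⟩, ⟨-1, 1, -1, -1, -1, 0, 0, -1⟩, ⟨-2, 1, 0, -2, -2, -1, 2, -1⟩, ⟨-1, 0, 1, 0, 1, -1, 0, 2⟩, ⟨-1, 1, 0, -1, 0, 0, 0, 0⟩, ⟨-1, 1, 0, 0, -1, 0, 0, 0⟩,
  ⟨-1, 2, -1, -1, -2, 1, 0, -2⟩, ⟨0, 0, -1, 0, 0, 1, -1, 0⟩, ⟨-1, 0, 0, -1, -1, 0, 1, 0⟩, ⟨0, 0, 0, 0, 1, 1, -1, 1⟩, ⟨-1, 0, 0, -1, 0, -1, 1, 1⟩, ⟨0, 1, -1, 0, -1, 2, -1, -1⟩,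
  ⟨-1, 1, -1, -1, -2, 0, 1, -1⟩, ⟨0, 1, -1, 0, 0, 1, -1, 0⟩, ⟨-1, 1, 0, -1, -1, 0, 1, 0⟩, ⟨-1, 0, 0, 0, 0, 0, -1, 0⟩, ⟨-2, 0, 1, -1, -1, -1, 1, 0⟩, ⟨-1, 0, 1, 0, 1, 0, -1, 1⟩,
  ⟨-2, 0, 1, -1, 0, -2, 1, 1⟩, ⟨-1, 1, 0, 0, -1, 1, -1, -1⟩, ⟨-2, 1, 0, -1, -2, -1, 1, -1⟩, ⟨-1, 1, 0, 0, 0, 0, -1, 0⟩, ⟨-2, 1, 1, -1, -1, -1, 1, 0⟩, ⟨0, -1, 0, 0, 1, 0, -1, 1⟩,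
  ⟨-1, -1, 1, -1, 0, -1, 1, 1⟩, ⟨0, 0, -1, 0, -1, 1, -1, -1⟩, ⟨-1, 0, 0, -1, -2, 0, 1, -1⟩, ⟨0, -1, 1, 1, 1, 0, -1, 2⟩, ⟨-1, -1, 1, 0, 0, -2, 1, 2⟩, ⟨0, 0, 0, 0, 0, 1, -1, 0⟩,
  ⟨-1, 0, 1, -1, -1, 0, 1, 0⟩, ⟨0, 0, -1, 0, 0, 0, -1, 0⟩, ⟨-1, 0, 0, -1, -1, -1, 1, 0⟩, ⟨0, 1, -1, -1, -1, 2, -1, -2⟩, ⟨-1, 1, -1, -2, -2, 0, 1, -2⟩, ⟨0, 0, 0, 0, 1, 0, -1, 1⟩,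
  ⟨-1, 0, 1, -1, 0, -1, 1, 1⟩, ⟨0, 0, 1, 0, 1, 1, -1, 1⟩, ⟨-1, 0, 0, -1, 0, -2, 1, 1⟩, ⟨0, 1, -1, -1, 0, 1, -1, -1⟩, ⟨-1, 1, 0, -2, -1, 0, 1, -1⟩, ⟨0, 0, 0, 1, 0, 0, -1, 1⟩,
  ⟨-1, 0, 1, 0, -1, -1, 1, 1⟩, ⟨0, 1, -1, 0, -1, 1, -1, -1⟩, ⟨-1, 1, 0, -1, -2, 0, 1, -1⟩, ⟨0, 1, 0, 0, -1, 2, -1, -1⟩, ⟨-1, 1, -1, -1, -2, -1, 1, -1⟩, ⟨0, 0, 1, 1, 1, 0, -1, 2⟩,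
  ⟨-1, 0, 1, 0, 0, -2, 1, 2⟩, ⟨0, 1, 0, 0, 0, 1, -1, 0⟩, ⟨-1, 1, 1, -1, -1, 0, 1, 0⟩, ⟨0, 1, -1, 0, 0, 0, -1, 0⟩, ⟨-1, 1, 0, -1, -1, -1, 1, 0⟩, ⟨0, 2, -1, -1, -1, 2, -1, -2⟩,
  ⟨-1, 2, -1, -2, -2, 0, 1, -2⟩, ⟨0, 1, 0, 0, 1, 0, -1, 1⟩, ⟨-1, 1, 1, -1, 0, -1, 1, 1⟩, ⟨0, 2, -1, 0, -1, 1, -1, -1⟩, ⟨-1, 2, 0, -1, -2, 0, 1, -1⟩, ⟨0, 0, 0, -1, 0, 1, 0, 0⟩,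
  ⟨0, 0, -1, -1, 0, 0, 0, 0⟩, ⟨0, 0, 0, 0, -1, 1, 0, 0⟩, ⟨0, 0, -1, 0, -1, 0, 0, 0⟩, ⟨1, 0, -1, 1, 1, 1, -2, 1⟩, ⟨0, 0, 0, 0, 0, 0, 0, 1⟩, ⟨-1, 0, 1, -1, -1, -1, 2, 1⟩,
  ⟨1, 1, -2, 0, 0, 2, -2, -1⟩, ⟨0, 1, -1, -1, -1, 1, 0, -1⟩, ⟨-1, 1, 0, -2, -2, 0, 2, -1⟩, ⟨0, 0, 0, -1, 1, 0, 0, 1⟩, ⟨0, 1, -1, 0, -2, 1, 0, -1⟩, ⟨0, 0, 1, 0, 1, 0, 0, 2⟩,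
  ⟨0, 0, 0, 0, 1, -1, 0, 2⟩, ⟨1, 1, -1, 0, 1, 2, -2, 0⟩, ⟨0, 1, 0, -1, 0, 1, 0, 0⟩, ⟨0, 1, -1, -1, 0, 0, 0, 0⟩, ⟨-1, 1, 0, -2, -1, -1, 2, 0⟩, ⟨1, 1, -1, 1, 0, 2, -2, 0⟩,
  ⟨0, 1, 0, 0, -1, 1, 0, 0⟩, ⟨0, 1, -1, 0, -1, 0, 0, 0⟩, ⟨-1, 1, 0, -1, -2, -1, 2, 0⟩, ⟨0, 2, -1, -1, -2, 2, 0, -2⟩, ⟨0, 2, -2, -1, -2, 1, 0, -2⟩, ⟨0, 1, 0, 0, 0, 0, 0, 1⟩,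
  ⟨0, 2, -1, -1, -1, 1, 0, -1⟩, ⟨-1, -1, 1, 0, 0, -1, 0, 1⟩, ⟨-1, 0, 0, -1, -1, 0, 0, -1⟩, ⟨-1, -1, 2, 0, 1, -1, 0, 2⟩, ⟨-1, -1, 1, 0, 1, -2, 0, 2⟩, ⟨0, 0, 0, 0, 1, 1, -2, 0⟩,
  ⟨-1, 0, 1, -1, 0, 0, 0, 0⟩, ⟨-1, 0, 0, -1, 0, -1, 0, 0⟩, ⟨-2, 0, 1, -2, -1, -2, 2, 0⟩, ⟨0, 0, 0, 1, 0, 1, -2, 0⟩, ⟨-1, 0, 1, 0, -1, 0, 0, 0⟩, ⟨-1, 0, 0, 0, -1, -1, 0, 0⟩,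
  ⟨-2, 0, 1, -1, -2, -2, 2, 0⟩, ⟨-1, 1, 0, -1, -2, 1, 0, -2⟩, ⟨-1, 1, -1, -1, -2, 0, 0, -2⟩, ⟨0, 0, 0, 1, 1, 0, -2, 1⟩, ⟨-1, 0, 1, 0, 0, -1, 0, 1⟩, ⟨-2, 0, 2, -1, -1, -2, 2, 1⟩,
  ⟨0, 1, -1, 0, 0, 1, -2, -1⟩, ⟨-1, 1, 0, -1, -1, 0, 0, -1⟩, ⟨-2, 1, 1, -2, -2, -1, 2, -1⟩, ⟨-1, 0, 1, -1, 1, -1, 0, 1⟩, ⟨-1, 1, 0, 0, -2, 0, 0, -1⟩, ⟨-1, 1, 1, -1, 0, 0, 0, 0⟩,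
  ⟨-1, 1, 0, -1, 0, -1, 0, 0⟩, ⟨-1, 1, 1, 0, -1, 0, 0, 0⟩, ⟨-1, 1, 0, 0, -1, -1, 0, 0⟩, ⟨1, 1, -1, 0, 0, 2, -1, 0⟩, ⟨0, 1, -1, -1, -1, 0, 1, 0⟩, ⟨-1, 0, 1, 0, 0, 0, -1, 0⟩,
  ⟨-2, 0, 1, -1, -1, -2, 1, 0⟩, ⟨0, -1, 1, 0, 0, 0, 0, 1⟩, ⟨0, -1, 0, 0, 0, -1, 0, 1⟩, ⟨0, 0, 0, -1, -1, 1, 0, -1⟩, ⟨0, 0, -1, -1, -1, 0, 0, -1⟩, ⟨0, -1, 1, 0, 1, -1, 0, 2⟩,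
  ⟨1, 0, -1, 0, 1, 1, -2, 0⟩, ⟨0, 0, 0, -1, 0, 0, 0, 0⟩, ⟨-1, 0, 1, -2, -1, -1, 2, 0⟩, ⟨1, 0, -1, 1, 0, 1, -2, 0⟩, ⟨0, 0, 0, 0, -1, 0, 0, 0⟩, ⟨-1, 0, 1, -1, -2, -1, 2, 0⟩,
  ⟨0, 1, -1, -1, -2, 1, 0, -2⟩, ⟨1, 0, 0, 1, 1, 1, -2, 1⟩, ⟨0, 0, 1, 0, 0, 0, 0, 1⟩, ⟨0, 0, 0, 0, 0, -1, 0, 1⟩, ⟨-1, 0, 1, -1, -1, -2, 2, 1⟩, ⟨1, 1, -1, 0, 0, 2, -2, -1⟩,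
  ⟨0, 1, 0, -1, -1, 1, 0, -1⟩, ⟨0, 1, -1, -1, -1, 0, 0, -1⟩, ⟨-1, 1, 0, -2, -2, -1, 2, -1⟩, ⟨0, 0, 1, -1, 1, 0, 0, 1⟩, ⟨0, 0, 0, -1, 1, -1, 0, 1⟩, ⟨0, 1, 0, 0, -2, 1, 0, -1⟩,
  ⟨0, 1, -1, 0, -2, 0, 0, -1⟩, ⟨0, 0, 1, 0, 1, -1, 0, 2⟩, ⟨1, 1, -1, 0, 1, 1, -2, 0⟩, ⟨0, 1, 0, -1, 0, 0, 0, 0⟩, ⟨-1, 1, 1, -2, -1, -1, 2, 0⟩, ⟨1, 1, -1, 1, 0, 1, -2, 0⟩,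
  ⟨0, 1, 0, 0, -1, 0, 0, 0⟩, ⟨-1, 1, 1, -1, -2, -1, 2, 0⟩, ⟨0, 2, -1, -1, -2, 1, 0, -2⟩, ⟨0, 1, 1, 0, 0, 0, 0, 1⟩, ⟨0, 1, 0, 0, 0, -1, 0, 1⟩, ⟨0, 2, 0, -1, -1, 1, 0, -1⟩,
  ⟨0, 2, -1, -1, -1, 0, 0, -1⟩, ⟨1, 0, -1, 0, 0, 1, -1, 0⟩, ⟨0, 0, 0, -1, -1, 0, 1, 0⟩, ⟨1, 0, 0, 0, 1, 1, -1, 1⟩, ⟨0, 0, 1, -1, 0, 0, 1, 1⟩, ⟨1, 0, -1, 0, 1, 0, -1, 1⟩,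
  ⟨0, 0, 0, -1, 0, -1, 1, 1⟩, ⟨1, 1, -1, -1, 0, 2, -1, -1⟩, ⟨0, 1, -1, -2, -1, 0, 1, -1⟩, ⟨1, 0, 0, 1, 0, 1, -1, 1⟩, ⟨0, 0, 0, 0, -1, -1, 1, 1⟩, ⟨1, 1, -1, 0, -1, 2, -1, -1⟩,
  ⟨0, 1, 0, -1, -2, 1, 1, -1⟩, ⟨1, 1, -2, 0, -1, 1, -1, -1⟩, ⟨0, 1, -1, -1, -2, 0, 1, -1⟩, ⟨1, 0, 0, 1, 1, 0, -1, 2⟩, ⟨0, 0, 1, 0, 0, -1, 1, 2⟩, ⟨1, 1, -1, 0, 0, 1, -1, 0⟩,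
  ⟨0, 1, 0, -1, -1, 0, 1, 0⟩, ⟨1, 1, 0, 0, 0, 2, -1, 0⟩, ⟨0, 1, -1, -1, -1, -1, 1, 0⟩, ⟨1, 2, -2, -1, -1, 2, -1, -2⟩, ⟨0, 2, -1, -2, -2, 1, 1, -2⟩, ⟨1, 1, 0, 0, 1, 1, -1, 1⟩,
  ⟨0, 1, 0, -1, 0, -1, 1, 1⟩, ⟨1, 2, -1, 0, -1, 2, -1, -1⟩, ⟨0, 2, -1, -1, -2, 0, 1, -1⟩, ⟨0, -1, 1, 0, 1, 0, -1, 1⟩, ⟨-1, -1, 1, -1, 0, -2, 1, 1⟩, ⟨0, 0, 0, 0, -1, 1, -1, -1⟩,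
  ⟨-1, 0, 0, -1, -2, -1, 1, -1⟩, ⟨0, -1, 1, 1, 1, -1, -1, 2⟩, ⟨-1, -1, 2, 0, 0, -2, 1, 2⟩, ⟨0, 0, 0, 0, 0, 0, -1, 0⟩, ⟨-1, 0, 1, -1, -1, -1, 1, 0⟩, ⟨0, 0, 1, 0, 0, 1, -1, 0⟩,
  ⟨-1, 0, 0, -1, -1, -2, 1, 0⟩, ⟨0, 1, -1, -1, -1, 1, -1, -2⟩, ⟨-1, 1, 0, -2, -2, 0, 1, -2⟩, ⟨0, 0, 1, 0, 1, 0, -1, 1⟩, ⟨-1, 0, 2, -1, 0, -1, 1, 1⟩, ⟨0, 0, 0, 0, 1, -1, -1, 1⟩,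
  ⟨-1, 0, 1, -1, 0, -2, 1, 1⟩, ⟨0, 1, 0, -1, 0, 1, -1, -1⟩, ⟨-1, 1, 0, -2, -1, -1, 1, -1⟩, ⟨0, 0, 1, 1, 0, 0, -1, 1⟩, ⟨-1, 0, 1, 0, -1, -2, 1, 1⟩, ⟨0, 1, 0, 0, -1, 1, -1, -1⟩,
  ⟨-1, 1, 1, -1, -2, 0, 1, -1⟩, ⟨0, 1, -1, 0, -1, 0, -1, -1⟩, ⟨-1, 1, 0, -1, -2, -1, 1, -1⟩, ⟨0, 1, 0, 0, 0, 0, -1, 0⟩, ⟨-1, 1, 1, -1, -1, -1, 1, 0⟩, ⟨1, 1, -1, -1, 0, 1, 0, 0⟩,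
  ⟨1, 1, -1, 0, -1, 1, 0, 0⟩, ⟨-1, 0, 1, -1, 0, -1, 0, 0⟩, ⟨-1, 0, 1, 0, -1, -1, 0, 0⟩, ⟨1, 0, 0, 0, 0, 1, -1, 0⟩, ⟨0, 0, 1, -1, -1, 0, 1, 0⟩, ⟨1, 0, -1, 0, 0, 0, -1, 0⟩,
  ⟨0, 0, 0, -1, -1, -1, 1, 0⟩, ⟨1, 0, 0, 0, 1, 0, -1, 1⟩, ⟨0, 0, 1, -1, 0, -1, 1, 1⟩, ⟨1, 1, -1, -1, 0, 1, -1, -1⟩, ⟨0, 1, 0, -2, -1, 0, 1, -1⟩, ⟨1, 0, 0, 1, 0, 0, -1, 1⟩,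
  ⟨0, 0, 1, 0, -1, -1, 1, 1⟩, ⟨1, 1, -1, 0, -1, 1, -1, -1⟩, ⟨0, 1, 0, -1, -2, 0, 1, -1⟩, ⟨1, 1, 0, 0, 0, 1, -1, 0⟩, ⟨0, 1, 1, -1, -1, 0, 1, 0⟩, ⟨1, 1, -1, 0, 0, 0, -1, 0⟩,
  ⟨0, 1, 0, -1, -1, -1, 1, 0⟩, ⟨1, 0, 0, 0, 0, 0, 0, 1⟩, ⟨1, 1, -1, -1, -1, 1, 0, -1⟩, ⟨1, 1, 0, -1, 0, 1, 0, 0⟩, ⟨1, 1, -1, -1, 0, 0, 0, 0⟩, ⟨1, 1, 0, 0, -1, 1, 0, 0⟩,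
  ⟨1, 1, -1, 0, -1, 0, 0, 0⟩, ⟨1, 1, 0, 0, 0, 0, 0, 1⟩, ⟨1, 2, -1, -1, -1, 1, 0, -1⟩, ⟨0, -1, 1, 0, 0, -1, 0, 1⟩, ⟨0, 0, 0, -1, -1, 0, 0, -1⟩, ⟨0, 0, 1, -1, 0, 0, 0, 0⟩,
  ⟨0, 0, 0, -1, 0, -1, 0, 0⟩, ⟨0, 0, 1, 0, -1, 0, 0, 0⟩, ⟨0, 0, 0, 0, -1, -1, 0, 0⟩, ⟨0, 0, 1, 0, 0, -1, 0, 1⟩, ⟨0, 1, 0, -1, -1, 0, 0, -1⟩, ⟨0, -1, 0, 1, 1, 0, 0, 0⟩,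
  ⟨1, -2, 0, 2, 2, 0, -1, 1⟩, ⟨0, -2, 1, 1, 1, -1, 1, 1⟩, ⟨1, -1, -1, 1, 1, 1, -1, -1⟩, ⟨0, -1, 0, 0, 0, 0, 1, -1⟩, ⟨1, -1, 0, 1, 2, 1, -1, 0⟩, ⟨0, -1, 0, 0, 1, -1, 1, 0⟩,
  ⟨1, -1, 0, 2, 1, 1, -1, 0⟩, ⟨0, -1, 0, 1, 0, -1, 1, 0⟩, ⟨1, -1, 0, 2, 2, 0, -1, 1⟩, ⟨0, -1, 1, 1, 1, -1, 1, 1⟩, ⟨1, 0, -1, 1, 1, 1, -1, -1⟩, ⟨0, 0, 0, 0, 0, 0, 1, -1⟩,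
  ⟨1, -1, 0, 1, 1, 1, 0, 0⟩, ⟨1, -1, -1, 1, 1, 0, 0, 0⟩, ⟨1, -1, 0, 1, 2, 0, 0, 1⟩, ⟨1, 0, -1, 1, 0, 1, 0, -1⟩, ⟨0, -2, 1, 1, 2, -1, 0, 1⟩, ⟨0, -1, 0, 1, 0, 0, 0, -1⟩,
  ⟨0, -1, 1, 1, 1, 0, 0, 0⟩, ⟨0, -1, 0, 1, 1, -1, 0, 0⟩, ⟨1, -1, 0, 1, 1, 0, 0, 0⟩, ⟨-1, 1, 0, -1, -1, 0, 0, 0⟩, ⟨0, 0, 0, 0, 0, 0, -1, 1⟩, ⟨-1, 0, 1, -1, -1, -1, 1, 1⟩,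
  ⟨0, 1, -1, -1, -1, 1, -1, -1⟩, ⟨-1, 1, 0, -2, -2, 0, 1, -1⟩, ⟨0, 1, 0, -1, 0, 1, -1, 0⟩, ⟨-1, 1, 0, -2, -1, -1, 1, 0⟩, ⟨0, 1, 0, 0, -1, 1, -1, 0⟩, ⟨-1, 1, 0, -1, -2, -1, 1, 0⟩,
  ⟨0, 1, 0, 0, 0, 0, -1, 1⟩, ⟨-1, 1, 1, -1, -1, -1, 1, 1⟩, ⟨0, 2, -1, -1, -1, 1, -1, -1⟩, ⟨-1, 2, 0, -2, -2, 0, 1, -1⟩, ⟨0, 1, 0, -1, -1, 1, 0, 0⟩, ⟨0, 1, -1, -1, -1, 0, 0, 0⟩,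
  ⟨0, 1, 0, -1, 0, 0, 0, 1⟩, ⟨0, 2, -1, -1, -2, 1, 0, -1⟩, ⟨-1, 0, 1, -1, 0, -1, 0, 1⟩, ⟨-1, 1, 0, -1, -2, 0, 0, -1⟩, ⟨-1, 1, 1, -1, -1, 0, 0, 0⟩, ⟨-1, 1, 0, -1, -1, -1, 0, 0⟩,
  ⟨0, 1, 0, -1, -1, 0, 0, 0⟩]

theorem cand_eq : cand = candLit := by decide +kernel

theorem mem_candLit {x : Ic} (h : x.Tq ≤ 32) : x ∈ candLit := cand_eq ▸ mem_cand h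

theorem cand_Tq : ∀ x ∈ candLit, x.Tq = 0 ∨ x.Tq = 16 ∨ x.Tq = 24 ∨ x.Tq = 32 := by decide +kernel

theorem cand_zero : ∀ x ∈ candLit, x.Tq = 0 → x = Ic.zero := by decide +kernel

theorem cand_unit : ∀ x ∈ candLit, x.Tq = 16 → x.conj.mul x = Ic.one ∧ x.mul x.conj = Ic.one := by
  decide +kernel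

theorem cand_inIh : ∀ x ∈ candLit, x.Tq ≤ 24 → inIh x = true → x = Ic.zero := by decide +kernel

end Cfsg.Agent.Lib.Helper27.J2
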