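import Cfsg.Agent.Lib.Helper27.J2ReflPerm

/-!
# Exact computation in `2.J₂` with words in the reflections

A word `w` (a list of indices `< 315`) determines `wordEl w ∈ 2.J₂`; the element is determined by its
*signature*: the images of the base reflections `160, 0, 1` and the image of the lattice vector `e1`.
-/

set_option autoImplicit false

namespace Cfsg.Agent.Lib.Helper27.J2
open Quaternion Cfsg.Spor

/-- the root of index `j` -/
def rootI (j : ℕ) : V3 := Rep315.getD j E1

theorem rootI_mem (j : ℕ) : rootI j ∈ Rep315 := by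
  unfold rootI
  by_cases hj : j < Rep315.length
  · rw [List.getD_eq_getElem _ _ hj]; exact List.getElem_mem hj
  · rw [List.getD_eq_default _ _ (by omega)]; exact E1_mem_Rep315

theorem rootI_memAll (j : ℕ) : rootI j ∈ RepAll := Rep315_sub _ (rootI_mem j)

theorem reflG_idxRefl_val (j : ℕ) :
    ((reflG (idxRefl j) : twoJ2) : Equiv.Perm icoLeech) = reflOf (rootI j) := by
  unfold idxRefl rootI
  by_cases hj : j < Rep315.length
  · rw [dif_pos hj, List.getD_eq_getElem _ _ hj]; rfl
  · rw [dif_neg hj, List.getD_eq_default _ _ (by omega)]; rfl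

/-- the action of a word on a model vector -/
def wordV (w : List ℕ) (V : V3) : V3 := w.foldr (fun j acc => reflM (rootI j) acc) V

theorem inLam_reflM {R V : V3} (hR : R ∈ RepAll) (hV : inLam V = true) :
    inLam (reflM R V) = true := by
  rw [← embV_mem_icoLeech_iff, embV_reflM (RepAll_min R hR).1 hV]
  exact qrefl_mem ((embV_mem_icoLeech_iff R).2 (RepAll_min R hR).1)
    ((embV_mem_icoLeech_iff V).2 hV)

theorem inLam_wordV (w : List ℕ) {V : V3} (hV : inLam V = true) : inLam (wordV w V) = true := by
  induction w with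
  | nil => exact hV
  | cons j w ih => exact inLam_reflM (rootI_memAll j) ih

/-- the lattice point of a model vector -/
noncomputable def ptV (V : V3) (hV : inLam V = true) : icoLeech :=
  ⟨embV V, (embV_mem_icoLeech_iff V).2 hV⟩

theorem wordEl_nil : wordEl [] = 1 := rfl

theorem wordEl_cons (j : ℕ) (w : List ℕ) : wordEl (j :: w) = reflG (idxRefl j) * wordEl w := by
  simp [wordEl]

theorem wordEl_append (w w' : List ℕ) : wordEl (w ++ w') = wordEl w * wordEl w' := by
  simp [wordEl]

theorem wordEl_apply (w : List ℕ) {V : V3} (hV : inLam V = true) :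
    ((wordEl w : twoJ2) : Equiv.Perm icoLeech) (ptV V hV) = ptV (wordV w V) (inLam_wordV w hV) := by
  induction w with
  | nil => rfl
  | cons j w ih =>
    rw [wordEl_cons, Subgroup.coe_mul, Equiv.Perm.mul_apply, ih]
    apply Subtype.ext
    rw [reflG_idxRefl_val, reflOf_apply (rootI_memAll j)]
    exact (embV_reflM (RepAll_min _ (rootI_memAll j)).1 (inLam_wordV w hV)).symm

theorem reflG_sq_one (f : ReflSet) : reflG f * reflG f = 1 := by
  obtain ⟨r, hr, h⟩ := (isIcoReflection_iff f.1).1 f.2
  apply Subtype.ext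
  change f.1 * f.1 = 1
  rw [h]
  exact reflPerm_mul_self r hr

theorem wordEl_reverse (w : List ℕ) : wordEl w.reverse = (wordEl w)⁻¹ := by
  induction w with
  | nil => simp [wordEl_nil]
  | cons j w ih =>
    have h1 : wordEl [j] = reflG (idxRefl j) := by rw [wordEl_cons, wordEl_nil, mul_one]
    have h2 : wordEl (j :: w) = reflG (idxRefl j) * wordEl w := wordEl_cons j w
    have h3 : (reflG (idxRefl j))⁻¹ = reflG (idxRefl j) :=
      (eq_inv_of_mul_eq_one_left (reflG_sq_one _)).symm
    rw [List.reverse_cons, wordEl_append, ih, h1, h2, mul_inv_rev, h3]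

/-- the signature of a word -/
def sig (w : List ℕ) : ℕ × ℕ × ℕ × V3 := (wordF w 160, wordF w 0, wordF w 1, wordV w E1)

theorem inLam_E1 : inLam E1 = true := (RepAll_min E1 E1_mem).1

theorem ptV_E1 : ptV E1 inLam_E1 = e1 := rfl

theorem ptV_inj {V V' : V3} {hV : inLam V = true} {hV' : inLam V' = true}
    (h : ptV V hV = ptV V' hV') : V = V' :=
  embV_injective (congrArg Subtype.val h)

theorem sig_eq_of_eq {w w' : List ℕ} (hw : ∀ j ∈ w, j < 315) (hw' : ∀ j ∈ w', j < 315)
    (h : wordEl w = wordEl w') : sig w = sig w' := by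
  have h1 := actsF_wordEl w hw
  have h2 := actsF_wordEl w' hw'
  have key : ∀ b < 315, wordF w b = wordF w' b := by
    intro b hb
    apply idxRefl_inj (h1 b hb).1 (h2 b hb).1
    rw [← (h1 b hb).2, ← (h2 b hb).2, h]
  have hv : wordV w E1 = wordV w' E1 := by
    apply ptV_inj (hV := inLam_wordV w inLam_E1) (hV' := inLam_wordV w' inLam_E1)
    rw [← wordEl_apply w inLam_E1, ← wordEl_apply w' inLam_E1, h]
  simp only [sig, key 160 (by norm_num), key 0 (by norm_num), key 1 (by norm_num), hv]

theorem negEl_e1_ne : (negEl : Equiv.Perm icoLeech) e1 ≠ e1 := by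
  intro h
  exact negPerm_ne_one (central_eq_one negPerm_mem
    (fun g hg => negPerm_comm (isUni_of_mem hg)) h)

theorem eq_of_sig_eq {w w' : List ℕ} (hw : ∀ j ∈ w, j < 315) (hw' : ∀ j ∈ w', j < 315)
    (h : sig w = sig w') : wordEl w = wordEl w' := by
  have h1 := actsF_wordEl w hw
  have h2 := actsF_wordEl w' hw'
  simp only [sig, Prod.mk.injEq] at h
  obtain ⟨e160, e0, e1', ev⟩ := h
  have key : ∀ b < 315, wordF w b = wordF w' b →
      ((wordEl w')⁻¹ * wordEl w) • idxRefl b = idxRefl b := by
    intro b hb hbb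
    rw [mul_smul, (h1 b hb).2, hbb, ← (h2 b hb).2, inv_smul_smul]
  rcases central_of_fix3 (key 160 (by norm_num) e160) (key 0 (by norm_num) e0)
    (key 1 (by norm_num) e1') with hz | hz
  · exact (inv_mul_eq_one.1 hz).symm
  · exfalso
    apply negEl_e1_ne
    rw [← hz, Subgroup.coe_mul, Equiv.Perm.mul_apply, ← ptV_E1, wordEl_apply w inLam_E1]
    have : ptV (wordV w E1) (inLam_wordV w inLam_E1) =
        ((wordEl w' : twoJ2) : Equiv.Perm icoLeech) (ptV E1 inLam_E1) := by
      rw [wordEl_apply w' inLam_E1]
      apply Subtype.ext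
      change embV (wordV w E1) = embV (wordV w' E1)
      rw [ev]
    rw [this, Subgroup.coe_inv, permInvApply]

/-- a lower bound for the order of a subgroup from words with distinct signatures -/
theorem card_ge_of_sigs (H : Subgroup twoJ2) (ws : List (List ℕ))
    (hlt : ∀ w ∈ ws, ∀ j ∈ w, j < 315) (hmem : ∀ w ∈ ws, wordEl w ∈ H)
    (hnd : (ws.map sig).Nodup) : ws.length ≤ Nat.card H := by
  have hinj : Function.Injective
      (fun i : Fin ws.length => (⟨wordEl ws[i], hmem _ (List.getElem_mem _)⟩ : H)) := by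
    intro i i' h
    have h1 : wordEl ws[i] = wordEl ws[i'] := congrArg Subtype.val h
    have h2 := sig_eq_of_eq (hlt _ (List.getElem_mem _)) (hlt _ (List.getElem_mem _)) h1
    have hi : i.val < (ws.map sig).length := by rw [List.length_map]; exact i.2
    have hi' : i'.val < (ws.map sig).length := by rw [List.length_map]; exact i'.2
    have h3 : (ws.map sig)[i.val] = (ws.map sig)[i'.val] := by
      rw [List.getElem_map, List.getElem_map]; exact h2
    exact Fin.ext ((List.Nodup.getElem_inj_iff hnd).1 h3)
  have := Nat.card_le_card_of_injective _ hinj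
  simpa using this

end Cfsg.Agent.Lib.Helper27.J2
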