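import Cfsg.Agent.Lib.Helper27.J2Simple

/-!
# Simplicity of the Hall–Janko group
-/

set_option autoImplicit false

namespace Cfsg.Agent.Lib.Helper27.J2
open Quaternion Cfsg.Spor
open scoped Pointwise

/-- a reflection as an element of the group -/
def reflG (f : ReflSet) : twoJ2 := ⟨f.1, Subgroup.subset_closure f.2⟩

theorem closure_reflG : Subgroup.closure (Set.range reflG) = ⊤ := by
  rw [eq_top_iff]
  have h : (⊤ : Subgroup twoJ2) =
      Subgroup.closure (((↑) : twoJ2 → Equiv.Perm icoLeech) ⁻¹' {f | IsIcoReflection f}) :=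
    (Subgroup.closure_closure_coe_preimage (k := {f : Equiv.Perm icoLeech | IsIcoReflection f})).symm
  rw [h]
  apply Subgroup.closure_mono
  intro x hx
  exact ⟨⟨x.1, hx⟩, rfl⟩

theorem reflG_smul (g : twoJ2) (f : ReflSet) : reflG (g • f) = g * reflG f * g⁻¹ := rfl

/-- the Iwasawa structure: the subgroup of order 2 generated by each reflection -/
noncomputable def iwasawaJ2 : MulAction.IwasawaStructure twoJ2 ReflSet where
  T f := Subgroup.zpowers (reflG f)
  is_comm f := inferInstance
  is_conj g f := by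
    have h : MulAut.conj g • Subgroup.zpowers (reflG f) =
        (Subgroup.zpowers (reflG f)).map (MulAut.conj g).toMonoidHom := rfl
    rw [h, MonoidHom.map_zpowers, reflG_smul]
    rfl
  is_generator := by
    rw [eq_top_iff, ← closure_reflG, Subgroup.closure_le]
    rintro _ ⟨f, rfl⟩
    exact Subgroup.mem_iSup_of_mem f (Subgroup.mem_zpowers _)

/-- a normal subgroup acting trivially on the reflections is central -/
theorem le_center_of_fixed {N : Subgroup twoJ2}
    (h : MulAction.fixedPoints N ReflSet = Set.univ) : N ≤ Subgroup.center twoJ2 := by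
  intro n hn
  rw [Subgroup.mem_center_iff]
  have hcent : (⊤ : Subgroup twoJ2) ≤ Subgroup.centralizer {n} := by
    rw [← closure_reflG, Subgroup.closure_le]
    rintro _ ⟨f, rfl⟩
    have hf : f ∈ MulAction.fixedPoints N ReflSet := by rw [h]; exact Set.mem_univ _
    have h1 : (⟨n, hn⟩ : N) • f = f := hf ⟨n, hn⟩
    have h2 : n * reflG f * n⁻¹ = reflG f := by
      have := congrArg reflG h1
      exact this
    rw [SetLike.mem_coe, Subgroup.mem_centralizer_iff]
    intro m hm
    rw [Set.mem_singleton_iff] at hm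
    subst hm
    calc m * reflG f = m * reflG f * m⁻¹ * m := by group
      _ = reflG f * m := by rw [h2]
  intro g
  have := hcent (Subgroup.mem_top g)
  rw [Subgroup.mem_centralizer_iff] at this
  exact (this n (Set.mem_singleton n)).symm

noncomputable def s1G : twoJ2 := ⟨reflPerm e1 e1_qip, reflPerm_mem e1 e1_qip⟩
noncomputable def s2G : twoJ2 := ⟨reflPerm e2 e2_qip, reflPerm_mem e2 e2_qip⟩
noncomputable def s3G : twoJ2 := ⟨reflPerm e3 e3_qip, reflPerm_mem e3 e3_qip⟩

theorem negEl_eq : negEl = s1G * s2G * s3G := Subtype.ext negPerm_eq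

theorem s1G_mul_self : s1G * s1G = 1 := Subtype.ext (reflPerm_mul_self e1 e1_qip)

theorem exists_conj_s1G (r : icoLeech) (hr : qip (r : Fin 3 → ℍ[ℝ]) r = 4) :
    ∃ g : twoJ2, (⟨reflPerm r hr, reflPerm_mem r hr⟩ : twoJ2) = g * s1G * g⁻¹ := by
  obtain ⟨g, hg, h⟩ := exists_conj_e1 r hr
  exact ⟨⟨g, hg⟩, Subtype.ext h.symm⟩

/-- a normal subgroup containing the commutators and the centre is everything -/
theorem eq_top_of_commutator_le {N : Subgroup twoJ2} [hN : N.Normal] (hc : commutator twoJ2 ≤ N)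
    (hZ : Subgroup.center twoJ2 ≤ N) : N = ⊤ := by
  -- conjugates of `s1G` are congruent to `s1G` modulo `N`
  have hq : ∀ g : twoJ2, ((g * s1G * g⁻¹ : twoJ2) : twoJ2 ⧸ N) = ((s1G : twoJ2) : twoJ2 ⧸ N) := by
    intro g
    symm
    rw [QuotientGroup.eq]
    apply hc
    rw [commutator_def]
    have h := Subgroup.commutator_mem_commutator (Subgroup.mem_top (s1G⁻¹)) (Subgroup.mem_top g)
    rw [commutatorElement_def, inv_inv] at h
    simpa [mul_assoc] using h
  obtain ⟨g2, h2⟩ := exists_conj_s1G e2 e2_qip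
  obtain ⟨g3, h3⟩ := exists_conj_s1G e3 e3_qip
  have hneg : ((negEl : twoJ2) : twoJ2 ⧸ N) = 1 :=
    (QuotientGroup.eq_one_iff _).2 (hZ negEl_mem_center)
  have hs1 : ((s1G : twoJ2) : twoJ2 ⧸ N) = 1 := by
    have e : ((negEl : twoJ2) : twoJ2 ⧸ N) =
        ((s1G : twoJ2) : twoJ2 ⧸ N) * ((s1G : twoJ2) : twoJ2 ⧸ N) * ((s1G : twoJ2) : twoJ2 ⧸ N) := by
      rw [negEl_eq, QuotientGroup.mk_mul, QuotientGroup.mk_mul]
      have e2' : s2G = g2 * s1G * g2⁻¹ := h2
      have e3' : s3G = g3 * s1G * g3⁻¹ := h3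
      rw [e2', e3', hq g2, hq g3]
    have e' : ((s1G : twoJ2) : twoJ2 ⧸ N) * ((s1G : twoJ2) : twoJ2 ⧸ N) = 1 := by
      rw [← QuotientGroup.mk_mul, s1G_mul_self]; rfl
    rw [e', one_mul] at e
    rw [← e]; exact hneg
  have hs1N : s1G ∈ N := (QuotientGroup.eq_one_iff _).1 hs1
  rw [eq_top_iff, ← closure_reflG, Subgroup.closure_le]
  rintro _ ⟨f, rfl⟩
  obtain ⟨r, hr, hf⟩ := (isIcoReflection_iff f.1).1 f.2
  obtain ⟨g, hg⟩ := exists_conj_s1G r hr
  have : reflG f = g * s1G * g⁻¹ := by
    rw [← hg]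
    exact Subtype.ext hf
  rw [SetLike.mem_coe, this]
  exact hN.conj_mem _ hs1N g

/-- **the Hall–Janko group is simple** -/
theorem isSimpleGroup_J2 : IsSimpleGroup J2 := by
  have hfinJ : Finite J2 := Nat.finite_of_card_ne_zero (by rw [card_J2]; norm_num)
  have hnt : Nontrivial J2 := by
    rw [← Finite.one_lt_card_iff_nontrivial, card_J2]; norm_num
  refine ⟨fun Nb hNb => ?_⟩
  set N : Subgroup twoJ2 := Nb.comap (QuotientGroup.mk' (Subgroup.center twoJ2)) with hNdef
  have hN : N.Normal := hNb.comap _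
  have hZ : Subgroup.center twoJ2 ≤ N := by
    intro z hz
    rw [hNdef, Subgroup.mem_comap]
    have : (QuotientGroup.mk' (Subgroup.center twoJ2)) z = 1 := (QuotientGroup.eq_one_iff z).2 hz
    rw [this]; exact Nb.one_mem
  by_cases hfix : MulAction.fixedPoints N ReflSet = Set.univ
  · left
    have hle := le_center_of_fixed hfix
    rw [Subgroup.eq_bot_iff_forall]
    intro x hx
    obtain ⟨g, rfl⟩ := QuotientGroup.mk_surjective x
    have hg : g ∈ N := hx
    exact (QuotientGroup.eq_one_iff g).2 (hle hg)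
  · right
    have hcomm := iwasawaJ2.commutator_le N hfix
    have htop := eq_top_of_commutator_le hcomm hZ
    rw [eq_top_iff]
    intro x _
    obtain ⟨g, rfl⟩ := QuotientGroup.mk_surjective x
    have hg : g ∈ N := by rw [htop]; exact Subgroup.mem_top g
    exact hg

theorem not_comm_J2 : ∃ a b : J2, a * b ≠ b * a := by
  by_contra hcon
  push Not at hcon
  let _ : CommGroup J2 := { (inferInstance : Group J2) with mul_comm := hcon }
  have _ : IsSimpleGroup J2 := isSimpleGroup_J2
  have hp : (Nat.card J2).Prime := IsSimpleGroup.prime_card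
  rw [card_J2] at hp
  norm_num at hp

end Cfsg.Agent.Lib.Helper27.J2
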