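import Cfsg.Agent.Lib.Helper27.J2ExtraData
import Cfsg.Agent.Lib.Helper27.J2Final
import Cfsg.Agent.Lib.Helper90.ESCriterion

/-!
# The stabiliser of `(2,0,0)` in `2.J₂` is extraspecial of order 32
-/

set_option autoImplicit false

namespace Cfsg.Agent.Lib.Helper27.J2
open Quaternion Cfsg.Spor

/-! ### a general criterion: generators that are involutions commuting modulo a central involution -/

theorem comm_sq_of_generators {P : Type*} [Group P] (S : Set P) (hS : Subgroup.closure S = ⊤) (z : P)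
    (hz : ∀ x : P, x * z = z * x) (hzz : z * z = 1) (hsq : ∀ s ∈ S, s * s = 1 ∨ s * s = z)
    (hcomm : ∀ s ∈ S, ∀ t ∈ S, s * t * s⁻¹ * t⁻¹ = 1 ∨ s * t * s⁻¹ * t⁻¹ = z) :
    (∀ a b : P, a * b * a⁻¹ * b⁻¹ = 1 ∨ a * b * a⁻¹ * b⁻¹ = z) ∧ ∀ a : P, a * a = 1 ∨ a * a = z := by
  let N : Subgroup P := Subgroup.zpowers z
  have hNmem : ∀ x : P, x ∈ N ↔ x = 1 ∨ x = z :=
    Cfsg.Agent.Lib.Helper90.mem_zpowers_of_involution z hzz
  have hNn : N.Normal := by
    refine ⟨fun n hn g => ?_⟩
    have : g * n * g⁻¹ = n := by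
      rcases (hNmem n).1 hn with rfl | rfl
      · simp
      · rw [hz g, mul_assoc, mul_inv_cancel, mul_one]
    rw [this]; exact hn
  let q := QuotientGroup.mk' N
  have hq1 : ∀ x : P, q x = 1 ↔ x = 1 ∨ x = z := by
    intro x
    rw [QuotientGroup.mk'_apply, QuotientGroup.eq_one_iff, hNmem]
  -- the quotient is generated by `q '' S`
  have hT : Subgroup.closure (q '' S) = ⊤ := by
    rw [← MonoidHom.map_closure, hS, ← MonoidHom.range_eq_map,
      MonoidHom.range_eq_top.2 (QuotientGroup.mk'_surjective N)]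
  -- whose elements commute and are involutions
  have hTc : ∀ x ∈ q '' S, ∀ y ∈ q '' S, x * y = y * x := by
    rintro _ ⟨s, hs, rfl⟩ _ ⟨t, ht, rfl⟩
    have h1 : q (s * t * s⁻¹ * t⁻¹) = 1 := (hq1 _).2 (hcomm s hs t ht)
    rw [map_mul, map_mul, map_mul, map_inv, map_inv] at h1
    calc q s * q t = (q s * q t * (q s)⁻¹ * (q t)⁻¹) * (q t * q s) := by group
      _ = q t * q s := by rw [h1, one_mul]
  have hTs : ∀ x ∈ q '' S, x * x = 1 := by
    rintro _ ⟨s, hs, rfl⟩
    rw [← map_mul]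
    exact (hq1 _).2 (hsq s hs)
  -- so the quotient is commutative
  have hcen : ∀ x ∈ q '' S, x ∈ Subgroup.center (P ⧸ N) := by
    intro x hx
    rw [Subgroup.mem_center_iff]
    intro y
    have hy : y ∈ Subgroup.closure (q '' S) := by rw [hT]; exact Subgroup.mem_top y
    induction hy using Subgroup.closure_induction with
    | mem y hy => exact hTc y hy x hx
    | one => simp
    | mul a b _ _ ha hb => rw [mul_assoc, hb, ← mul_assoc, ha, mul_assoc]
    | inv a _ ha =>
      calc a⁻¹ * x = a⁻¹ * (x * a) * a⁻¹ := by group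
        _ = a⁻¹ * (a * x) * a⁻¹ := by rw [ha]
        _ = x * a⁻¹ := by group
  have hcomQ : ∀ x y : P ⧸ N, x * y = y * x := by
    intro x y
    have hx : x ∈ Subgroup.center (P ⧸ N) := by
      have : Subgroup.closure (q '' S) ≤ Subgroup.center (P ⧸ N) :=
        (Subgroup.closure_le _).2 hcen
      rw [hT] at this
      exact this (Subgroup.mem_top x)
    exact ((Subgroup.mem_center_iff.1 hx) y).symm
  have hsqQ : ∀ x : P ⧸ N, x * x = 1 := by
    intro x
    have hx : x ∈ Subgroup.closure (q '' S) := by rw [hT]; exact Subgroup.mem_top x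
    induction hx using Subgroup.closure_induction with
    | mem y hy => exact hTs y hy
    | one => simp
    | mul a b _ _ ha hb =>
      calc a * b * (a * b) = a * (b * a) * b := by group
        _ = a * (a * b) * b := by rw [hcomQ b a]
        _ = (a * a) * (b * b) := by group
        _ = 1 := by rw [ha, hb, one_mul]
    | inv a _ ha =>
      calc a⁻¹ * a⁻¹ = (a * a)⁻¹ := by group
        _ = 1 := by rw [ha, inv_one]
  constructor
  · intro a b
    apply (hq1 _).1
    rw [map_mul, map_mul, map_mul, map_inv, map_inv, hcomQ (q a) (q b)]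
    group
  · intro a
    apply (hq1 _).1
    rw [map_mul]
    exact hsqQ _

/-! ### the stabiliser of `e1` -/

/-- the stabiliser of `(2,0,0)` -/
noncomputable abbrev Hsub : Subgroup twoJ2 := MulAction.stabilizer twoJ2 e1

theorem mem_Hsub {g : twoJ2} : g ∈ Hsub ↔ (g : Equiv.Perm icoLeech) e1 = e1 :=
  MulAction.mem_stabilizer_iff

/-- an element of the stabiliser is determined by the image of `w0` -/
theorem Hsub_ext {h h' : Hsub}
    (hw : ((h : twoJ2) : Equiv.Perm icoLeech) w0 = ((h' : twoJ2) : Equiv.Perm icoLeech) w0) : h = h' :=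
  stabMap_injective (congrArg Subtype.val hw)

theorem card_Hsub : Nat.card Hsub = 32 := card_stab

theorem perp10_RepAll' {w : List V3} (hw : ∀ A ∈ w, A ∈ perp10) : ∀ A ∈ w, A ∈ RepAll :=
  fun A hA => perp10_RepAll (hw A hA)

theorem wordPerm_cons (A : V3) (w : List V3) : wordPerm (A :: w) = reflOf A * wordPerm w := by
  simp [wordPerm]

theorem wordPerm_fix_e1 {w : List V3} (hw : ∀ A ∈ w, A ∈ perp10) : wordPerm w e1 = e1 := by
  induction w with
  | nil => rfl
  | cons A w ih =>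
    rw [wordPerm_cons, Equiv.Perm.mul_apply, ih fun B hB => hw B (List.mem_cons_of_mem _ hB)]
    have hA := hw A List.mem_cons_self
    exact reflOf_fix_e1 (perp10_RepAll hA) (perp10_sub A hA).2

/-- the element of the stabiliser given by a word in the ten reflections -/
noncomputable def wordH (w : List V3) (hw : ∀ A ∈ w, A ∈ perp10) : Hsub :=
  ⟨⟨wordPerm w, wordPerm_mem (perp10_RepAll' hw)⟩, mem_Hsub.2 (wordPerm_fix_e1 hw)⟩

theorem wordH_w0 (w : List V3) (hw : ∀ A ∈ w, A ∈ perp10) :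
    ((((wordH w hw : Hsub) : twoJ2) : Equiv.Perm icoLeech) w0 : Fin 3 → ℍ[ℝ]) = embV (wordM w W0) :=
  (wordM_spec (perp10_RepAll' hw) W0 inLam_W0 w0 rfl).2

/-- the ten generating reflections -/
def genSet : Set Hsub := {x | ∃ R, ∃ hR : R ∈ perp10,
  x = wordH [R] (fun A hA => by rw [List.mem_singleton.1 hA]; exact hR)}

theorem wordH_mem_closure : ∀ (w : List V3) (hw : ∀ A ∈ w, A ∈ perp10),
    wordH w hw ∈ Subgroup.closure genSet := by
  intro w
  induction w with
  | nil =>
    intro hw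
    have : wordH [] hw = 1 := Subtype.ext (Subtype.ext rfl)
    rw [this]; exact Subgroup.one_mem _
  | cons A w ih =>
    intro hw
    have hA := hw A List.mem_cons_self
    have hw' : ∀ B ∈ w, B ∈ perp10 := fun B hB => hw B (List.mem_cons_of_mem _ hB)
    have hA1 : ∀ B ∈ [A], B ∈ perp10 := fun B hB => by rw [List.mem_singleton.1 hB]; exact hA
    have : wordH (A :: w) hw = wordH [A] hA1 * wordH w hw' := by
      apply Subtype.ext
      apply Subtype.ext
      change wordPerm (A :: w) = wordPerm [A] * wordPerm w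
      rw [wordPerm_cons, wordPerm_cons]
      simp [wordPerm]
    rw [this]
    exact Subgroup.mul_mem _ (Subgroup.subset_closure ⟨A, hA, rfl⟩) (ih hw')

theorem extraEntry_spec {p : V3 × List V3 × Option V3} (hp : p ∈ extraTab) :
    (∀ A ∈ p.2.1, A ∈ perp10) ∧ wordM p.2.1 W0 = p.1 ∧
      ((∃ R, p.2.2 = some R ∧ R ∈ perp10 ∧ wordM (p.2.1 ++ [R]) W0 ≠ wordM (R :: p.2.1) W0) ∨
        (p.2.2 = none ∧ (p.1 = W0 ∨ p.1 = Z0W))) := by
  have h := List.all_eq_true.1 extraTab_ok p hp
  unfold extraEntryOK at h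
  simp only [Bool.and_eq_true, List.all_eq_true, List.contains_iff_mem, beq_iff_eq] at h
  obtain ⟨⟨h1, h2⟩, h3⟩ := h
  refine ⟨h1, h2, ?_⟩
  cases hw : p.2.2 with
  | none =>
    rw [hw] at h3
    simp only [Bool.or_eq_true, beq_iff_eq] at h3
    exact Or.inr ⟨rfl, h3⟩
  | some R =>
    rw [hw] at h3
    simp only [Bool.and_eq_true, List.contains_iff_mem, bne_iff_ne] at h3
    exact Or.inl ⟨R, rfl, h3.1, h3.2⟩

/-- every element of the stabiliser is given by one of the 32 words -/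
theorem exists_entry (h : Hsub) : ∃ p ∈ extraTab, ∃ hw : ∀ A ∈ p.2.1, A ∈ perp10, h = wordH p.2.1 hw := by
  have hr : stabMap h ∈ Set.range stabMap := ⟨h, rfl⟩
  rw [range_stabMap] at hr
  obtain ⟨W, hW, hWh⟩ := hr
  have hW' : W ∈ extraTab.map (fun p => p.1) := by rw [extraTab_fst]; exact hW
  obtain ⟨p, hp, rfl⟩ := List.mem_map.1 hW'
  obtain ⟨h1, h2, -⟩ := extraEntry_spec hp
  refine ⟨p, hp, h1, ?_⟩
  apply Hsub_ext
  apply Subtype.ext
  rw [wordH_w0, h2]
  exact hWh.symm

theorem closure_genSet : Subgroup.closure genSet = ⊤ := by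
  rw [eq_top_iff]
  intro h _
  obtain ⟨p, -, hw, rfl⟩ := exists_entry h
  exact wordH_mem_closure _ hw

/-! ### the central involution `(x,y,z) ↦ (x,-y,-z)` -/

theorem reflPerm_congr {r r' : icoLeech} (h : r = r') (hr : qip (r : Fin 3 → ℍ[ℝ]) r = 4)
    (hr' : qip (r' : Fin 3 → ℍ[ℝ]) r' = 4) : reflPerm r hr = reflPerm r' hr' := by
  subst h; rfl

/-- elements fixing `e1` commute with the reflection in `e1` -/
theorem comm_s1G_of_fix {g : twoJ2} (hg : (g : Equiv.Perm icoLeech) e1 = e1) : g * s1G = s1G * g := by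
  apply Subtype.ext
  change (g : Equiv.Perm icoLeech) * reflPerm e1 e1_qip = reflPerm e1 e1_qip * (g : Equiv.Perm icoLeech)
  have h := conj_reflPerm (isUni_of_mem g.2) e1 e1_qip
  rw [reflPerm_congr hg _ e1_qip] at h
  calc (g : Equiv.Perm icoLeech) * reflPerm e1 e1_qip
      = ((g : Equiv.Perm icoLeech) * reflPerm e1 e1_qip * (g : Equiv.Perm icoLeech)⁻¹) *
          (g : Equiv.Perm icoLeech) := by group
    _ = reflPerm e1 e1_qip * (g : Equiv.Perm icoLeech) := by rw [h]

theorem negEl_comm (g : twoJ2) : g * negEl = negEl * g :=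
  Subgroup.mem_center_iff.1 negEl_mem_center g

/-- the central involution of the stabiliser -/
noncomputable def zG : twoJ2 := negEl * s1G

theorem zG_apply (x : icoLeech) :
    (((zG : twoJ2) : Equiv.Perm icoLeech) x : Fin 3 → ℍ[ℝ]) =
      ![(x : Fin 3 → ℍ[ℝ]) 0, -(x : Fin 3 → ℍ[ℝ]) 1, -(x : Fin 3 → ℍ[ℝ]) 2] := by
  change ((negPerm (reflPerm e1 e1_qip x) : icoLeech) : Fin 3 → ℍ[ℝ]) = _
  rw [negPerm_apply, reflPerm_apply]
  change -qrefl (embV E1) x = _
  rw [qrefl_E1]
  funext t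
  fin_cases t <;> simp

theorem zG_fix_e1 : (zG : Equiv.Perm icoLeech) e1 = e1 := by
  apply Subtype.ext
  rw [zG_apply]
  funext t
  fin_cases t <;> simp [e1, embV, E1, emb_zero]

noncomputable def zH : Hsub := ⟨zG, mem_Hsub.2 zG_fix_e1⟩

theorem zH_w0 : ((((zH : Hsub) : twoJ2) : Equiv.Perm icoLeech) w0 : Fin 3 → ℍ[ℝ]) = embV Z0W := by
  change (((zG : twoJ2) : Equiv.Perm icoLeech) w0 : Fin 3 → ℍ[ℝ]) = _
  rw [zG_apply, Z0W_eq.1]
  funext t
  fin_cases t <;> simp [w0, embV, emb_neg]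

theorem zH_comm (x : Hsub) : x * zH = zH * x := by
  apply Subtype.ext
  change (x : twoJ2) * (negEl * s1G) = (negEl * s1G) * (x : twoJ2)
  rw [← mul_assoc, negEl_comm, mul_assoc, comm_s1G_of_fix (mem_Hsub.1 x.2), mul_assoc]

theorem zG_mul_self : zG * zG = 1 := by
  change (negEl * s1G) * (negEl * s1G) = 1
  have h1 : negEl * negEl = 1 := Subtype.ext negPerm_mul_self
  calc (negEl * s1G) * (negEl * s1G) = negEl * (s1G * negEl) * s1G := by group
    _ = negEl * (negEl * s1G) * s1G := by rw [negEl_comm]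
    _ = (negEl * negEl) * (s1G * s1G) := by group
    _ = 1 := by rw [h1, s1G_mul_self, one_mul]

theorem zH_mul_self : zH * zH = 1 := Subtype.ext zG_mul_self

theorem embV_Z0W_ne : embV Z0W ≠ embV W0 := fun h => Z0W_eq.2 (embV_injective h)

theorem zH_ne_one : zH ≠ 1 := by
  intro h
  have h1 := zH_w0
  rw [h] at h1
  exact embV_Z0W_ne h1.symm

/-- an element of the stabiliser is `1` or `zH` according to the image of `w0` -/
theorem eq_one_or_zH {h : Hsub}
    (hw : ((((h : Hsub) : twoJ2) : Equiv.Perm icoLeech) w0 : Fin 3 → ℍ[ℝ]) = embV W0 ∨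
      ((((h : Hsub) : twoJ2) : Equiv.Perm icoLeech) w0 : Fin 3 → ℍ[ℝ]) = embV Z0W) :
    h = 1 ∨ h = zH := by
  rcases hw with hw | hw
  · left
    apply Hsub_ext
    apply Subtype.ext
    rw [hw]; rfl
  · right
    apply Hsub_ext
    apply Subtype.ext
    rw [hw, zH_w0]

/-! ### relations between the generators -/

theorem reflOf_mul_self {R : V3} (hR : R ∈ RepAll) : reflOf R * reflOf R = 1 := by
  rw [reflOf_eq hR]; exact reflPerm_mul_self _ _

theorem gen_inv {R : V3} (hR : R ∈ perp10) (h1 : ∀ A ∈ [R], A ∈ perp10) :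
    (wordH [R] h1)⁻¹ = wordH [R] h1 := by
  rw [inv_eq_iff_mul_eq_one]
  apply Subtype.ext
  apply Subtype.ext
  change wordPerm [R] * wordPerm [R] = 1
  simp only [wordPerm, List.map_cons, List.map_nil, List.prod_cons, List.prod_nil, mul_one]
  exact reflOf_mul_self (perp10_RepAll hR)

theorem gen_sq : ∀ s ∈ genSet, s * s = 1 ∨ s * s = zH := by
  rintro _ ⟨R, hR, rfl⟩
  left
  rw [← inv_eq_iff_mul_eq_one]
  exact gen_inv hR _

theorem gen_comm : ∀ s ∈ genSet, ∀ t ∈ genSet, s * t * s⁻¹ * t⁻¹ = 1 ∨ s * t * s⁻¹ * t⁻¹ = zH := by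
  rintro _ ⟨A, hA, rfl⟩ _ ⟨B, hB, rfl⟩
  rw [gen_inv hA, gen_inv hB]
  have hw : ∀ C ∈ [A, B, A, B], C ∈ perp10 := by
    intro C hC
    simp only [List.mem_cons, List.not_mem_nil, or_false] at hC
    rcases hC with rfl | rfl | rfl | rfl <;> assumption
  have he : wordH [A] (fun C hC => by rw [List.mem_singleton.1 hC]; exact hA) *
      wordH [B] (fun C hC => by rw [List.mem_singleton.1 hC]; exact hB) *
      wordH [A] (fun C hC => by rw [List.mem_singleton.1 hC]; exact hA) *
      wordH [B] (fun C hC => by rw [List.mem_singleton.1 hC]; exact hB) = wordH [A, B, A, B] hw := by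
    apply Subtype.ext
    apply Subtype.ext
    change wordPerm [A] * wordPerm [B] * wordPerm [A] * wordPerm [B] = wordPerm [A, B, A, B]
    simp [wordPerm, mul_assoc]
  rw [he]
  apply eq_one_or_zH
  rw [wordH_w0]
  rcases commTab_ok A hA B hB with h | h
  · left; rw [h]
  · right; rw [h]

theorem Hsub_comm_sq : (∀ a b : Hsub, a * b * a⁻¹ * b⁻¹ = 1 ∨ a * b * a⁻¹ * b⁻¹ = zH) ∧
    ∀ a : Hsub, a * a = 1 ∨ a * a = zH :=
  comm_sq_of_generators genSet closure_genSet zH zH_comm zH_mul_self gen_sq gen_comm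

/-! ### the centre -/

theorem wordH_append (w : List V3) (hw : ∀ A ∈ w, A ∈ perp10) (R : V3) (hR : R ∈ perp10)
    (h1 : ∀ A ∈ [R], A ∈ perp10) (h2 : ∀ A ∈ w ++ [R], A ∈ perp10) :
    wordH w hw * wordH [R] h1 = wordH (w ++ [R]) h2 := by
  apply Subtype.ext
  apply Subtype.ext
  change wordPerm w * wordPerm [R] = wordPerm (w ++ [R])
  simp [wordPerm]

theorem wordH_cons (w : List V3) (hw : ∀ A ∈ w, A ∈ perp10) (R : V3) (hR : R ∈ perp10)
    (h1 : ∀ A ∈ [R], A ∈ perp10) (h2 : ∀ A ∈ R :: w, A ∈ perp10) :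
    wordH [R] h1 * wordH w hw = wordH (R :: w) h2 := by
  apply Subtype.ext
  apply Subtype.ext
  change wordPerm [R] * wordPerm w = wordPerm (R :: w)
  simp [wordPerm]

theorem center_Hsub (x : Hsub) : x ∈ Subgroup.center Hsub ↔ x = 1 ∨ x = zH := by
  constructor
  · intro hx
    rw [Subgroup.mem_center_iff] at hx
    obtain ⟨p, hp, hw, rfl⟩ := exists_entry x
    obtain ⟨-, h2, h3⟩ := extraEntry_spec hp
    rcases h3 with ⟨R, -, hR, hne⟩ | ⟨-, h3⟩
    · exfalso
      have h1 : ∀ A ∈ [R], A ∈ perp10 := fun A hA => by rw [List.mem_singleton.1 hA]; exact hR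
      have ha : ∀ A ∈ p.2.1 ++ [R], A ∈ perp10 := by
        intro A hA
        rcases List.mem_append.1 hA with hA | hA
        · exact hw A hA
        · exact h1 A hA
      have hc : ∀ A ∈ R :: p.2.1, A ∈ perp10 := by
        intro A hA
        rcases List.mem_cons.1 hA with rfl | hA
        · exact hR
        · exact hw A hA
      have e := hx (wordH [R] h1)
      rw [wordH_cons _ hw R hR h1 hc, wordH_append _ hw R hR h1 ha] at e
      have e' := congrArg (fun y : Hsub => (((y : twoJ2) : Equiv.Perm icoLeech) w0 : Fin 3 → ℍ[ℝ])) e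
      simp only [wordH_w0] at e'
      exact hne (embV_injective e').symm
    · apply eq_one_or_zH
      rw [wordH_w0, h2]
      rcases h3 with h | h
      · left; rw [h]
      · right; rw [h]
  · rintro (rfl | rfl)
    · exact Subgroup.one_mem _
    · rw [Subgroup.mem_center_iff]
      intro y
      exact zH_comm y

theorem Hsub_not_comm : ∃ a b : Hsub, a * b ≠ b * a := by
  obtain ⟨hA, hB, hAB⟩ := nc_ok
  have h1 : ∀ C ∈ [ncA], C ∈ perp10 := fun C hC => by rw [List.mem_singleton.1 hC]; exact hA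
  have h2 : ∀ C ∈ [ncB], C ∈ perp10 := fun C hC => by rw [List.mem_singleton.1 hC]; exact hB
  refine ⟨wordH [ncA] h1, wordH [ncB] h2, fun h => ?_⟩
  have hw : ∀ C ∈ [ncA, ncB, ncA, ncB], C ∈ perp10 := by
    intro C hC
    simp only [List.mem_cons, List.not_mem_nil, or_false] at hC
    rcases hC with rfl | rfl | rfl | rfl <;> assumption
  have he : wordH [ncA] h1 * wordH [ncB] h2 * wordH [ncA] h1 * wordH [ncB] h2 =
      wordH [ncA, ncB, ncA, ncB] hw := by
    apply Subtype.ext
    apply Subtype.ext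
    change wordPerm [ncA] * wordPerm [ncB] * wordPerm [ncA] * wordPerm [ncB] =
      wordPerm [ncA, ncB, ncA, ncB]
    simp [wordPerm, mul_assoc]
  have h3 : wordH [ncA] h1 * wordH [ncB] h2 * wordH [ncA] h1 * wordH [ncB] h2 = 1 := by
    have ia := gen_inv hA h1
    have ib := gen_inv hB h2
    calc wordH [ncA] h1 * wordH [ncB] h2 * wordH [ncA] h1 * wordH [ncB] h2
        = wordH [ncA] h1 * wordH [ncB] h2 * (wordH [ncA] h1)⁻¹ * (wordH [ncB] h2)⁻¹ := by rw [ia, ib]
      _ = wordH [ncB] h2 * wordH [ncA] h1 * (wordH [ncA] h1)⁻¹ * (wordH [ncB] h2)⁻¹ := by rw [h]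
      _ = 1 := by group
  rw [he] at h3
  have h4 := wordH_w0 [ncA, ncB, ncA, ncB] hw
  rw [h3, hAB] at h4
  exact embV_Z0W_ne h4.symm

instance instFiniteHsub : Finite Hsub := Nat.finite_of_card_ne_zero (by rw [card_Hsub]; norm_num)

/-- **the stabiliser of `(2,0,0)` is extraspecial of order 32** -/
theorem isExtraspecial_Hsub : Cfsg.IsExtraspecial 2 Hsub :=
  Cfsg.Agent.Lib.Helper90.isExtraspecial_two_of
    (IsPGroup.of_card (n := 5) (by rw [card_Hsub]; norm_num)) zH zH_ne_one center_Hsub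
    Hsub_comm_sq.1 Hsub_comm_sq.2 Hsub_not_comm

end Cfsg.Agent.Lib.Helper27.J2
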