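import Cfsg.Agent.Lib.Helper27.J2Simple

/-!
# Data for the structure of the stabiliser of `(2,0,0)` (extraspecial of order 32) and of the
centraliser of a reflection
-/

set_option autoImplicit false

namespace Cfsg.Agent.Lib.Helper27.J2

/-- the image of `W0` under `(x,y,z) ↦ (x,-y,-z)` -/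
def Z0W : V3 := ⟨⟨0, 1, 0, -1, -1, 0, 0, 0⟩, ⟨-1, 0, 0, 0, -1, -1, 0, 0⟩, ⟨-1, 1, 0, -1, -1, 0, 1, -1⟩⟩

/-- for each of the 32 vectors `W` with first coordinate `σ`: a word `w` in the reflections of `perp10`
with `w W0 = W`, and (unless `W = W0` or `W = Z0W`) a reflection not commuting with `w` -/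
def extraTab : List (V3 × List V3 × Option V3) := [
  (⟨⟨0, 1, 0, -1, -1, 0, 0, 0⟩, ⟨1, 0, 0, 0, 1, 1, 0, 0⟩, ⟨1, -1, 0, 1, 1, 0, -1, 1⟩⟩, [], none),
  (⟨⟨0, 1, 0, -1, -1, 0, 0, 0⟩, ⟨-1, 0, 0, 0, -1, -1, 0, 0⟩, ⟨1, -1, 0, 1, 1, 0, -1, 1⟩⟩, [⟨⟨0, 0, 0, 0, 0, 0, 0, 0⟩, ⟨2, 0, 0, 0, 0, 0, 0, 0⟩, ⟨0, 0, 0, 0, 0, 0, 0, 0⟩⟩], some ⟨⟨0, 0, 0, 0, 0, 0, 0, 0⟩, ⟨-1, 2, 0, -2, -2, 0, 1, -1⟩, ⟨1, -2, 0, 2, 2, 0, -1, 1⟩⟩),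
  (⟨⟨0, 1, 0, -1, -1, 0, 0, 0⟩, ⟨0, 1, 0, 0, -1, 1, 0, 0⟩, ⟨0, 0, 0, -1, -1, 0, 1, -1⟩⟩, [⟨⟨0, 0, 0, 0, 0, 0, 0, 0⟩, ⟨-1, 2, 0, -2, -2, 0, 1, -1⟩, ⟨-1, 0, 0, 0, -2, 0, 1, -1⟩⟩, ⟨⟨0, 0, 0, 0, 0, 0, 0, 0⟩, ⟨-1, 2, 0, -2, -2, 0, 1, -1⟩, ⟨1, 0, 0, 0, 0, 0, 1, 1⟩⟩], some ⟨⟨0, 0, 0, 0, 0, 0, 0, 0⟩, ⟨-1, 2, 0, -2, -2, 0, 1, -1⟩, ⟨1, 0, 0, 0, 0, 0, 1, 1⟩⟩),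
  (⟨⟨0, 1, 0, -1, -1, 0, 0, 0⟩, ⟨0, -1, 0, 0, 1, -1, 0, 0⟩, ⟨0, 0, 0, -1, -1, 0, 1, -1⟩⟩, [⟨⟨0, 0, 0, 0, 0, 0, 0, 0⟩, ⟨-1, 2, 0, -2, -2, 0, 1, -1⟩, ⟨1, 0, 0, 0, 0, 2, -1, -1⟩⟩, ⟨⟨0, 0, 0, 0, 0, 0, 0, 0⟩, ⟨-1, 2, 0, -2, -2, 0, 1, -1⟩, ⟨1, -2, 0, 2, 2, 0, -1, 1⟩⟩], some ⟨⟨0, 0, 0, 0, 0, 0, 0, 0⟩, ⟨-1, 2, 0, -2, -2, 0, 1, -1⟩, ⟨1, -2, 0, 2, 2, 0, -1, 1⟩⟩),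
  (⟨⟨0, 1, 0, -1, -1, 0, 0, 0⟩, ⟨0, 1, -1, -1, 0, 0, 0, 0⟩, ⟨0, 0, 1, 0, 0, -1, 1, 1⟩⟩, [⟨⟨0, 0, 0, 0, 0, 0, 0, 0⟩, ⟨-1, 2, 0, -2, -2, 0, 1, -1⟩, ⟨-1, 0, 0, 0, 0, -2, 1, 1⟩⟩, ⟨⟨0, 0, 0, 0, 0, 0, 0, 0⟩, ⟨-1, 2, 0, -2, -2, 0, 1, -1⟩, ⟨1, 0, 0, 0, 2, 0, -1, 1⟩⟩], some ⟨⟨0, 0, 0, 0, 0, 0, 0, 0⟩, ⟨-1, 2, 0, -2, -2, 0, 1, -1⟩, ⟨1, 0, 0, 0, 2, 0, -1, 1⟩⟩),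
  (⟨⟨0, 1, 0, -1, -1, 0, 0, 0⟩, ⟨0, -1, 1, 1, 0, 0, 0, 0⟩, ⟨0, 0, 1, 0, 0, -1, 1, 1⟩⟩, [⟨⟨0, 0, 0, 0, 0, 0, 0, 0⟩, ⟨-1, 2, 0, -2, -2, 0, 1, -1⟩, ⟨1, 0, 0, 0, 0, 0, 1, 1⟩⟩, ⟨⟨0, 0, 0, 0, 0, 0, 0, 0⟩, ⟨-1, 2, 0, -2, -2, 0, 1, -1⟩, ⟨1, -2, 0, 2, 2, 0, -1, 1⟩⟩], some ⟨⟨0, 0, 0, 0, 0, 0, 0, 0⟩, ⟨-1, 2, 0, -2, -2, 0, 1, -1⟩, ⟨1, -2, 0, 2, 2, 0, -1, 1⟩⟩),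
  (⟨⟨0, 1, 0, -1, -1, 0, 0, 0⟩, ⟨-1, 0, 1, -1, 0, 0, 0, 0⟩, ⟨1, 1, -1, 0, 0, 1, -1, -1⟩⟩, [⟨⟨0, 0, 0, 0, 0, 0, 0, 0⟩, ⟨-1, 2, 0, -2, -2, 0, 1, -1⟩, ⟨1, 0, 0, 0, 0, 2, -1, -1⟩⟩, ⟨⟨0, 0, 0, 0, 0, 0, 0, 0⟩, ⟨-1, 2, 0, -2, -2, 0, 1, -1⟩, ⟨1, 0, 0, 0, 0, 0, 1, 1⟩⟩], some ⟨⟨0, 0, 0, 0, 0, 0, 0, 0⟩, ⟨-1, 2, 0, -2, -2, 0, 1, -1⟩, ⟨1, 0, 0, 0, 0, 0, 1, 1⟩⟩),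
  (⟨⟨0, 1, 0, -1, -1, 0, 0, 0⟩, ⟨1, 0, -1, 1, 0, 0, 0, 0⟩, ⟨1, 1, -1, 0, 0, 1, -1, -1⟩⟩, [⟨⟨0, 0, 0, 0, 0, 0, 0, 0⟩, ⟨-1, 2, 0, -2, -2, 0, 1, -1⟩, ⟨1, 0, 0, 0, 2, 0, -1, 1⟩⟩, ⟨⟨0, 0, 0, 0, 0, 0, 0, 0⟩, ⟨-1, 2, 0, -2, -2, 0, 1, -1⟩, ⟨1, -2, 0, 2, 2, 0, -1, 1⟩⟩], some ⟨⟨0, 0, 0, 0, 0, 0, 0, 0⟩, ⟨-1, 2, 0, -2, -2, 0, 1, -1⟩, ⟨1, -2, 0, 2, 2, 0, -1, 1⟩⟩),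
  (⟨⟨0, 1, 0, -1, -1, 0, 0, 0⟩, ⟨1, 0, -1, 1, 0, 0, 0, 0⟩, ⟨-1, -1, 1, 0, 0, -1, 1, 1⟩⟩, [⟨⟨0, 0, 0, 0, 0, 0, 0, 0⟩, ⟨-1, 2, 0, -2, -2, 0, 1, -1⟩, ⟨-1, 0, 0, 0, 0, -2, 1, 1⟩⟩, ⟨⟨0, 0, 0, 0, 0, 0, 0, 0⟩, ⟨-1, 2, 0, -2, -2, 0, 1, -1⟩, ⟨1, 0, 0, 0, 0, 0, 1, 1⟩⟩], some ⟨⟨0, 0, 0, 0, 0, 0, 0, 0⟩, ⟨-1, 2, 0, -2, -2, 0, 1, -1⟩, ⟨1, 0, 0, 0, 0, 0, 1, 1⟩⟩),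
  (⟨⟨0, 1, 0, -1, -1, 0, 0, 0⟩, ⟨-1, 0, 1, -1, 0, 0, 0, 0⟩, ⟨-1, -1, 1, 0, 0, -1, 1, 1⟩⟩, [⟨⟨0, 0, 0, 0, 0, 0, 0, 0⟩, ⟨-1, 2, 0, -2, -2, 0, 1, -1⟩, ⟨-1, 0, 0, 0, -2, 0, 1, -1⟩⟩, ⟨⟨0, 0, 0, 0, 0, 0, 0, 0⟩, ⟨-1, 2, 0, -2, -2, 0, 1, -1⟩, ⟨1, -2, 0, 2, 2, 0, -1, 1⟩⟩], some ⟨⟨0, 0, 0, 0, 0, 0, 0, 0⟩, ⟨-1, 2, 0, -2, -2, 0, 1, -1⟩, ⟨1, -2, 0, 2, 2, 0, -1, 1⟩⟩),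
  (⟨⟨0, 1, 0, -1, -1, 0, 0, 0⟩, ⟨0, -1, 1, 1, 0, 0, 0, 0⟩, ⟨0, 0, -1, 0, 0, 1, -1, -1⟩⟩, [⟨⟨0, 0, 0, 0, 0, 0, 0, 0⟩, ⟨-1, 2, 0, -2, -2, 0, 1, -1⟩, ⟨1, 0, 0, 0, 0, 2, -1, -1⟩⟩, ⟨⟨0, 0, 0, 0, 0, 0, 0, 0⟩, ⟨-1, 2, 0, -2, -2, 0, 1, -1⟩, ⟨1, 0, 0, 0, 2, 0, -1, 1⟩⟩], some ⟨⟨0, 0, 0, 0, 0, 0, 0, 0⟩, ⟨-1, 2, 0, -2, -2, 0, 1, -1⟩, ⟨1, 0, 0, 0, 2, 0, -1, 1⟩⟩),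
  (⟨⟨0, 1, 0, -1, -1, 0, 0, 0⟩, ⟨0, 1, -1, -1, 0, 0, 0, 0⟩, ⟨0, 0, -1, 0, 0, 1, -1, -1⟩⟩, [⟨⟨0, 0, 0, 0, 0, 0, 0, 0⟩, ⟨-1, 2, 0, -2, -2, 0, 1, -1⟩, ⟨-1, 0, 0, 0, 0, 0, -1, -1⟩⟩, ⟨⟨0, 0, 0, 0, 0, 0, 0, 0⟩, ⟨-1, 2, 0, -2, -2, 0, 1, -1⟩, ⟨1, -2, 0, 2, 2, 0, -1, 1⟩⟩], some ⟨⟨0, 0, 0, 0, 0, 0, 0, 0⟩, ⟨-1, 2, 0, -2, -2, 0, 1, -1⟩, ⟨1, -2, 0, 2, 2, 0, -1, 1⟩⟩),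
  (⟨⟨0, 1, 0, -1, -1, 0, 0, 0⟩, ⟨0, -1, 0, 0, 1, -1, 0, 0⟩, ⟨0, 0, 0, 1, 1, 0, -1, 1⟩⟩, [⟨⟨0, 0, 0, 0, 0, 0, 0, 0⟩, ⟨-1, 2, 0, -2, -2, 0, 1, -1⟩, ⟨1, 0, 0, 0, 2, 0, -1, 1⟩⟩, ⟨⟨0, 0, 0, 0, 0, 0, 0, 0⟩, ⟨-1, 2, 0, -2, -2, 0, 1, -1⟩, ⟨1, 0, 0, 0, 0, 0, 1, 1⟩⟩], some ⟨⟨0, 0, 0, 0, 0, 0, 0, 0⟩, ⟨-1, 2, 0, -2, -2, 0, 1, -1⟩, ⟨1, 0, 0, 0, 0, 0, 1, 1⟩⟩),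
  (⟨⟨0, 1, 0, -1, -1, 0, 0, 0⟩, ⟨0, 1, 0, 0, -1, 1, 0, 0⟩, ⟨0, 0, 0, 1, 1, 0, -1, 1⟩⟩, [⟨⟨0, 0, 0, 0, 0, 0, 0, 0⟩, ⟨-1, 2, 0, -2, -2, 0, 1, -1⟩, ⟨-1, 0, 0, 0, 0, -2, 1, 1⟩⟩, ⟨⟨0, 0, 0, 0, 0, 0, 0, 0⟩, ⟨-1, 2, 0, -2, -2, 0, 1, -1⟩, ⟨1, -2, 0, 2, 2, 0, -1, 1⟩⟩], some ⟨⟨0, 0, 0, 0, 0, 0, 0, 0⟩, ⟨-1, 2, 0, -2, -2, 0, 1, -1⟩, ⟨1, -2, 0, 2, 2, 0, -1, 1⟩⟩),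
  (⟨⟨0, 1, 0, -1, -1, 0, 0, 0⟩, ⟨-1, 0, 0, 0, -1, -1, 0, 0⟩, ⟨-1, 1, 0, -1, -1, 0, 1, -1⟩⟩, [⟨⟨0, 0, 0, 0, 0, 0, 0, 0⟩, ⟨2, 0, 0, 0, 0, 0, 0, 0⟩, ⟨0, 0, 0, 0, 0, 0, 0, 0⟩⟩, ⟨⟨0, 0, 0, 0, 0, 0, 0, 0⟩, ⟨0, 0, 0, 0, 0, 0, 0, 0⟩, ⟨2, 0, 0, 0, 0, 0, 0, 0⟩⟩], none),
  (⟨⟨0, 1, 0, -1, -1, 0, 0, 0⟩, ⟨1, 0, 0, 0, 1, 1, 0, 0⟩, ⟨-1, 1, 0, -1, -1, 0, 1, -1⟩⟩, [⟨⟨0, 0, 0, 0, 0, 0, 0, 0⟩, ⟨0, 0, 0, 0, 0, 0, 0, 0⟩, ⟨2, 0, 0, 0, 0, 0, 0, 0⟩⟩], some ⟨⟨0, 0, 0, 0, 0, 0, 0, 0⟩, ⟨-1, 2, 0, -2, -2, 0, 1, -1⟩, ⟨1, -2, 0, 2, 2, 0, -1, 1⟩⟩),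
  (⟨⟨0, 1, 0, -1, -1, 0, 0, 0⟩, ⟨0, 0, 0, -1, -1, 0, 1, -1⟩, ⟨0, 1, 0, 0, -1, 1, 0, 0⟩⟩, [⟨⟨0, 0, 0, 0, 0, 0, 0, 0⟩, ⟨-1, 2, 0, -2, -2, 0, 1, -1⟩, ⟨1, 0, 0, 0, 0, 2, -1, -1⟩⟩, ⟨⟨0, 0, 0, 0, 0, 0, 0, 0⟩, ⟨0, 0, 0, 0, 0, 0, 0, 0⟩, ⟨2, 0, 0, 0, 0, 0, 0, 0⟩⟩], some ⟨⟨0, 0, 0, 0, 0, 0, 0, 0⟩, ⟨0, 0, 0, 0, 0, 0, 0, 0⟩, ⟨2, 0, 0, 0, 0, 0, 0, 0⟩⟩),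
  (⟨⟨0, 1, 0, -1, -1, 0, 0, 0⟩, ⟨0, 0, 0, 1, 1, 0, -1, 1⟩, ⟨0, -1, 0, 0, 1, -1, 0, 0⟩⟩, [⟨⟨0, 0, 0, 0, 0, 0, 0, 0⟩, ⟨-1, 2, 0, -2, -2, 0, 1, -1⟩, ⟨-1, 0, 0, 0, 0, -2, 1, 1⟩⟩, ⟨⟨0, 0, 0, 0, 0, 0, 0, 0⟩, ⟨0, 0, 0, 0, 0, 0, 0, 0⟩, ⟨2, 0, 0, 0, 0, 0, 0, 0⟩⟩], some ⟨⟨0, 0, 0, 0, 0, 0, 0, 0⟩, ⟨0, 0, 0, 0, 0, 0, 0, 0⟩, ⟨2, 0, 0, 0, 0, 0, 0, 0⟩⟩),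
  (⟨⟨0, 1, 0, -1, -1, 0, 0, 0⟩, ⟨1, 1, -1, 0, 0, 1, -1, -1⟩, ⟨-1, 0, 1, -1, 0, 0, 0, 0⟩⟩, [⟨⟨0, 0, 0, 0, 0, 0, 0, 0⟩, ⟨-1, 2, 0, -2, -2, 0, 1, -1⟩, ⟨1, 0, 0, 0, 2, 0, -1, 1⟩⟩, ⟨⟨0, 0, 0, 0, 0, 0, 0, 0⟩, ⟨0, 0, 0, 0, 0, 0, 0, 0⟩, ⟨2, 0, 0, 0, 0, 0, 0, 0⟩⟩], some ⟨⟨0, 0, 0, 0, 0, 0, 0, 0⟩, ⟨0, 0, 0, 0, 0, 0, 0, 0⟩, ⟨2, 0, 0, 0, 0, 0, 0, 0⟩⟩),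
  (⟨⟨0, 1, 0, -1, -1, 0, 0, 0⟩, ⟨-1, -1, 1, 0, 0, -1, 1, 1⟩, ⟨1, 0, -1, 1, 0, 0, 0, 0⟩⟩, [⟨⟨0, 0, 0, 0, 0, 0, 0, 0⟩, ⟨-1, 2, 0, -2, -2, 0, 1, -1⟩, ⟨-1, 0, 0, 0, -2, 0, 1, -1⟩⟩, ⟨⟨0, 0, 0, 0, 0, 0, 0, 0⟩, ⟨0, 0, 0, 0, 0, 0, 0, 0⟩, ⟨2, 0, 0, 0, 0, 0, 0, 0⟩⟩], some ⟨⟨0, 0, 0, 0, 0, 0, 0, 0⟩, ⟨0, 0, 0, 0, 0, 0, 0, 0⟩, ⟨2, 0, 0, 0, 0, 0, 0, 0⟩⟩),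
  (⟨⟨0, 1, 0, -1, -1, 0, 0, 0⟩, ⟨0, 0, 1, 0, 0, -1, 1, 1⟩, ⟨0, 1, -1, -1, 0, 0, 0, 0⟩⟩, [⟨⟨0, 0, 0, 0, 0, 0, 0, 0⟩, ⟨-1, 2, 0, -2, -2, 0, 1, -1⟩, ⟨1, 0, 0, 0, 0, 0, 1, 1⟩⟩, ⟨⟨0, 0, 0, 0, 0, 0, 0, 0⟩, ⟨0, 0, 0, 0, 0, 0, 0, 0⟩, ⟨2, 0, 0, 0, 0, 0, 0, 0⟩⟩], some ⟨⟨0, 0, 0, 0, 0, 0, 0, 0⟩, ⟨0, 0, 0, 0, 0, 0, 0, 0⟩, ⟨2, 0, 0, 0, 0, 0, 0, 0⟩⟩),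
  (⟨⟨0, 1, 0, -1, -1, 0, 0, 0⟩, ⟨0, 0, -1, 0, 0, 1, -1, -1⟩, ⟨0, -1, 1, 1, 0, 0, 0, 0⟩⟩, [⟨⟨0, 0, 0, 0, 0, 0, 0, 0⟩, ⟨-1, 2, 0, -2, -2, 0, 1, -1⟩, ⟨-1, 0, 0, 0, 0, 0, -1, -1⟩⟩, ⟨⟨0, 0, 0, 0, 0, 0, 0, 0⟩, ⟨0, 0, 0, 0, 0, 0, 0, 0⟩, ⟨2, 0, 0, 0, 0, 0, 0, 0⟩⟩], some ⟨⟨0, 0, 0, 0, 0, 0, 0, 0⟩, ⟨0, 0, 0, 0, 0, 0, 0, 0⟩, ⟨2, 0, 0, 0, 0, 0, 0, 0⟩⟩),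
  (⟨⟨0, 1, 0, -1, -1, 0, 0, 0⟩, ⟨1, -1, 0, 1, 1, 0, -1, 1⟩, ⟨1, 0, 0, 0, 1, 1, 0, 0⟩⟩, [⟨⟨0, 0, 0, 0, 0, 0, 0, 0⟩, ⟨-1, 2, 0, -2, -2, 0, 1, -1⟩, ⟨1, -2, 0, 2, 2, 0, -1, 1⟩⟩], some ⟨⟨0, 0, 0, 0, 0, 0, 0, 0⟩, ⟨0, 0, 0, 0, 0, 0, 0, 0⟩, ⟨2, 0, 0, 0, 0, 0, 0, 0⟩⟩),
  (⟨⟨0, 1, 0, -1, -1, 0, 0, 0⟩, ⟨-1, 1, 0, -1, -1, 0, 1, -1⟩, ⟨-1, 0, 0, 0, -1, -1, 0, 0⟩⟩, [⟨⟨0, 0, 0, 0, 0, 0, 0, 0⟩, ⟨-1, 2, 0, -2, -2, 0, 1, -1⟩, ⟨-1, 2, 0, -2, -2, 0, 1, -1⟩⟩], some ⟨⟨0, 0, 0, 0, 0, 0, 0, 0⟩, ⟨0, 0, 0, 0, 0, 0, 0, 0⟩, ⟨2, 0, 0, 0, 0, 0, 0, 0⟩⟩),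
  (⟨⟨0, 1, 0, -1, -1, 0, 0, 0⟩, ⟨1, -1, 0, 1, 1, 0, -1, 1⟩, ⟨-1, 0, 0, 0, -1, -1, 0, 0⟩⟩, [⟨⟨0, 0, 0, 0, 0, 0, 0, 0⟩, ⟨-1, 2, 0, -2, -2, 0, 1, -1⟩, ⟨-1, 2, 0, -2, -2, 0, 1, -1⟩⟩, ⟨⟨0, 0, 0, 0, 0, 0, 0, 0⟩, ⟨0, 0, 0, 0, 0, 0, 0, 0⟩, ⟨2, 0, 0, 0, 0, 0, 0, 0⟩⟩], some ⟨⟨0, 0, 0, 0, 0, 0, 0, 0⟩, ⟨0, 0, 0, 0, 0, 0, 0, 0⟩, ⟨2, 0, 0, 0, 0, 0, 0, 0⟩⟩),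
  (⟨⟨0, 1, 0, -1, -1, 0, 0, 0⟩, ⟨-1, 1, 0, -1, -1, 0, 1, -1⟩, ⟨1, 0, 0, 0, 1, 1, 0, 0⟩⟩, [⟨⟨0, 0, 0, 0, 0, 0, 0, 0⟩, ⟨-1, 2, 0, -2, -2, 0, 1, -1⟩, ⟨1, -2, 0, 2, 2, 0, -1, 1⟩⟩, ⟨⟨0, 0, 0, 0, 0, 0, 0, 0⟩, ⟨0, 0, 0, 0, 0, 0, 0, 0⟩, ⟨2, 0, 0, 0, 0, 0, 0, 0⟩⟩], some ⟨⟨0, 0, 0, 0, 0, 0, 0, 0⟩, ⟨0, 0, 0, 0, 0, 0, 0, 0⟩, ⟨2, 0, 0, 0, 0, 0, 0, 0⟩⟩),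
  (⟨⟨0, 1, 0, -1, -1, 0, 0, 0⟩, ⟨0, 0, 1, 0, 0, -1, 1, 1⟩, ⟨0, -1, 1, 1, 0, 0, 0, 0⟩⟩, [⟨⟨0, 0, 0, 0, 0, 0, 0, 0⟩, ⟨-1, 2, 0, -2, -2, 0, 1, -1⟩, ⟨-1, 0, 0, 0, 0, 0, -1, -1⟩⟩], some ⟨⟨0, 0, 0, 0, 0, 0, 0, 0⟩, ⟨0, 0, 0, 0, 0, 0, 0, 0⟩, ⟨2, 0, 0, 0, 0, 0, 0, 0⟩⟩),
  (⟨⟨0, 1, 0, -1, -1, 0, 0, 0⟩, ⟨0, 0, -1, 0, 0, 1, -1, -1⟩, ⟨0, 1, -1, -1, 0, 0, 0, 0⟩⟩, [⟨⟨0, 0, 0, 0, 0, 0, 0, 0⟩, ⟨-1, 2, 0, -2, -2, 0, 1, -1⟩, ⟨1, 0, 0, 0, 0, 0, 1, 1⟩⟩], some ⟨⟨0, 0, 0, 0, 0, 0, 0, 0⟩, ⟨0, 0, 0, 0, 0, 0, 0, 0⟩, ⟨2, 0, 0, 0, 0, 0, 0, 0⟩⟩),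
  (⟨⟨0, 1, 0, -1, -1, 0, 0, 0⟩, ⟨1, 1, -1, 0, 0, 1, -1, -1⟩, ⟨1, 0, -1, 1, 0, 0, 0, 0⟩⟩, [⟨⟨0, 0, 0, 0, 0, 0, 0, 0⟩, ⟨-1, 2, 0, -2, -2, 0, 1, -1⟩, ⟨-1, 0, 0, 0, -2, 0, 1, -1⟩⟩], some ⟨⟨0, 0, 0, 0, 0, 0, 0, 0⟩, ⟨0, 0, 0, 0, 0, 0, 0, 0⟩, ⟨2, 0, 0, 0, 0, 0, 0, 0⟩⟩),
  (⟨⟨0, 1, 0, -1, -1, 0, 0, 0⟩, ⟨-1, -1, 1, 0, 0, -1, 1, 1⟩, ⟨-1, 0, 1, -1, 0, 0, 0, 0⟩⟩, [⟨⟨0, 0, 0, 0, 0, 0, 0, 0⟩, ⟨-1, 2, 0, -2, -2, 0, 1, -1⟩, ⟨1, 0, 0, 0, 2, 0, -1, 1⟩⟩], some ⟨⟨0, 0, 0, 0, 0, 0, 0, 0⟩, ⟨0, 0, 0, 0, 0, 0, 0, 0⟩, ⟨2, 0, 0, 0, 0, 0, 0, 0⟩⟩),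
  (⟨⟨0, 1, 0, -1, -1, 0, 0, 0⟩, ⟨0, 0, 0, -1, -1, 0, 1, -1⟩, ⟨0, -1, 0, 0, 1, -1, 0, 0⟩⟩, [⟨⟨0, 0, 0, 0, 0, 0, 0, 0⟩, ⟨-1, 2, 0, -2, -2, 0, 1, -1⟩, ⟨-1, 0, 0, 0, 0, -2, 1, 1⟩⟩], some ⟨⟨0, 0, 0, 0, 0, 0, 0, 0⟩, ⟨0, 0, 0, 0, 0, 0, 0, 0⟩, ⟨2, 0, 0, 0, 0, 0, 0, 0⟩⟩),
  (⟨⟨0, 1, 0, -1, -1, 0, 0, 0⟩, ⟨0, 0, 0, 1, 1, 0, -1, 1⟩, ⟨0, 1, 0, 0, -1, 1, 0, 0⟩⟩, [⟨⟨0, 0, 0, 0, 0, 0, 0, 0⟩, ⟨-1, 2, 0, -2, -2, 0, 1, -1⟩, ⟨1, 0, 0, 0, 0, 2, -1, -1⟩⟩], some ⟨⟨0, 0, 0, 0, 0, 0, 0, 0⟩, ⟨0, 0, 0, 0, 0, 0, 0, 0⟩, ⟨2, 0, 0, 0, 0, 0, 0, 0⟩⟩)]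

theorem extraTab_fst : extraTab.map (fun p => p.1) = Msig := by decide +kernel

def extraEntryOK (p : V3 × List V3 × Option V3) : Bool :=
  p.2.1.all (fun A => perp10.contains A) && (wordM p.2.1 W0 == p.1) &&
    match p.2.2 with
    | some R => perp10.contains R && (wordM (p.2.1 ++ [R]) W0 != wordM (R :: p.2.1) W0)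
    | none => (p.1 == W0) || (p.1 == Z0W)

theorem extraTab_ok : extraTab.all extraEntryOK = true := by decide +kernel

theorem Z0W_eq : Z0W = ⟨W0.x, W0.y.neg, W0.z.neg⟩ ∧ Z0W ≠ W0 := by decide +kernel

theorem commTab_ok : ∀ A ∈ perp10, ∀ B ∈ perp10,
    wordM [A, B, A, B] W0 = W0 ∨ wordM [A, B, A, B] W0 = Z0W := by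
  decide +kernel

def ncA : V3 := ⟨⟨0, 0, 0, 0, 0, 0, 0, 0⟩, ⟨0, 0, 0, 0, 0, 0, 0, 0⟩, ⟨2, 0, 0, 0, 0, 0, 0, 0⟩⟩
def ncB : V3 := ⟨⟨0, 0, 0, 0, 0, 0, 0, 0⟩, ⟨-1, 2, 0, -2, -2, 0, 1, -1⟩, ⟨1, -2, 0, 2, 2, 0, -1, 1⟩⟩

theorem nc_ok : ncA ∈ perp10 ∧ ncB ∈ perp10 ∧ wordM [ncA, ncB, ncA, ncB] W0 = Z0W := by decide +kernel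

/-- units of order 3 and 5 with product of order 4 (generating `2.A₅` modulo `±1`) -/
def omegaU : Ic := ⟨0, -1, 0, 1, 1, 0, -1, 1⟩
def zetaU : Ic := ⟨0, -1, 0, 0, 1, 0, 0, 0⟩

theorem omega_zeta_ok : omegaU.Tq = 16 ∧ zetaU.Tq = 16 ∧ (omegaU.mul omegaU).mul omegaU = Ic.one ∧
    (((zetaU.mul zetaU).mul zetaU).mul zetaU).mul zetaU = Ic.one ∧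
    (zetaU.mul omegaU).mul (zetaU.mul omegaU) = Ic.one.neg ∧ omegaU ≠ Ic.one ∧ omegaU ≠ Ic.one.neg := by
  decide +kernel

end Cfsg.Agent.Lib.Helper27.J2
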