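import Cfsg.Agent.Lib.Helper27.J2PermBase
import Cfsg.Agent.Lib.Helper27.J2CentMain

/-!
# A complement `A₅` in the centraliser `2^{1+4}_-:A₅` of a `2A`-involution of `J₂`

Explicit elements `fusA`, `fusB` of `Lsub = C_{2.J₂}(s1G)` whose images `a`, `b` in `J₂` satisfy
`a ^ 3 = b ^ 5 = (a * b) ^ 2 = 1`, `a ≠ 1`, normalise the image `Q` of `Hsub` and do not centralise it.
-/

set_option autoImplicit false

namespace Cfsg.Agent.Lib.Helper27.J2
open Quaternion Cfsg.Spor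

/-- an element of order 3 modulo the centre -/
noncomputable def fusA : twoJ2 := mE 232

/-- an element of order 5 modulo the centre -/
noncomputable def fusB : twoJ2 := mE 75

def fusFa (j : ℕ) : ℕ := pget (mP 232) j
def fusFb (j : ℕ) : ℕ := pget (mP 75) j

theorem actsF_fusA : ActsF fusA fusFa := actsF_mE (by norm_num)
theorem actsF_fusB : ActsF fusB fusFb := actsF_mE (by norm_num)

theorem fus_checks :
    (fusFa 160 = 160 ∧ fusFb 160 = 160) ∧
    (fusFa^[3] 160 = 160 ∧ fusFa^[3] 0 = 0 ∧ fusFa^[3] 1 = 1) ∧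
    (fusFb^[5] 160 = 160 ∧ fusFb^[5] 0 = 0 ∧ fusFb^[5] 1 = 1) ∧
    ((fusFa ∘ fusFb)^[2] 160 = 160 ∧ (fusFa ∘ fusFb)^[2] 0 = 0 ∧ (fusFa ∘ fusFb)^[2] 1 = 1) ∧
    fusFa 265 = 312 := by decide +kernel

theorem fusA_mem_Lsub : fusA ∈ Lsub := by
  rw [MulAction.mem_stabilizer_iff, ← idxRefl_160]
  exact actsF_fusA.fix (by norm_num) fus_checks.1.1

theorem fusB_mem_Lsub : fusB ∈ Lsub := by
  rw [MulAction.mem_stabilizer_iff, ← idxRefl_160]
  exact actsF_fusB.fix (by norm_num) fus_checks.1.2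

theorem central_of_fix3' {h : twoJ2} {f : ℕ → ℕ} (hf : ActsF h f) (h160 : f 160 = 160)
    (h0 : f 0 = 0) (h1 : f 1 = 1) : h ∈ Subgroup.center twoJ2 := by
  rcases central_of_fix3 (hf.fix (by norm_num) h160) (hf.fix (by norm_num) h0)
    (hf.fix (by norm_num) h1) with h | h
  · rw [h]; exact Subgroup.one_mem _
  · rw [h]; exact negEl_mem_center

theorem fusA_pow_mem : fusA ^ 3 ∈ Subgroup.center twoJ2 :=
  central_of_fix3' (actsF_fusA.pow 3) fus_checks.2.1.1 fus_checks.2.1.2.1 fus_checks.2.1.2.2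

theorem fusB_pow_mem : fusB ^ 5 ∈ Subgroup.center twoJ2 :=
  central_of_fix3' (actsF_fusB.pow 5) fus_checks.2.2.1.1 fus_checks.2.2.1.2.1 fus_checks.2.2.1.2.2

theorem fusAB_pow_mem : (fusA * fusB) ^ 2 ∈ Subgroup.center twoJ2 :=
  central_of_fix3' ((actsF_fusA.mul actsF_fusB).pow 2) fus_checks.2.2.2.1.1
    fus_checks.2.2.2.1.2.1 fus_checks.2.2.2.1.2.2

/-- the reflection of index 265 is one of the ten reflections of `Hsub` -/
def fusR : V3 := Rep315.getD 265 E1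

theorem fusR_spec : Rep315[265]? = some fusR ∧ fusR ∈ perp10 ∧
    ∃ R', Rep315[312]? = some R' := by
  refine ⟨by decide +kernel, by decide +kernel, Rep315.getD 312 E1, by decide +kernel⟩

/-- a reflection in `Hsub` not centralised by `fusA` modulo the centre -/
noncomputable def fusQ : twoJ2 := reflT fusR

theorem fusR_RepAll : fusR ∈ RepAll := perp10_RepAll fusR_spec.2.1

theorem fusQ_mem_Hsub : fusQ ∈ Hsub := by
  rw [mem_Hsub, fusQ, reflT_val fusR_RepAll]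
  exact reflOf_fix_e1 fusR_RepAll (perp10_sub fusR fusR_spec.2.1).2

theorem fusQ_eq : fusQ = reflG (idxRefl 265) := by
  apply Subtype.ext
  rw [fusQ, reflT_val fusR_RepAll, idxRefl_of_getElem? fusR_spec.1]
  rfl

theorem reflG_injective : Function.Injective reflG := by
  intro x y h
  apply Subtype.ext
  exact congrArg (fun g : twoJ2 => (g : Equiv.Perm icoLeech)) h

theorem reflG_ne_negEl_mul (x y : ReflSet) : reflG x ≠ negEl * reflG y := by
  intro h
  obtain ⟨R, hR, rfl⟩ := exists_reflEl x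
  obtain ⟨R', hR', rfl⟩ := exists_reflEl y
  have h1 : reflOf R = negPerm * reflOf R' := congrArg Subtype.val h
  rw [reflOf_eq (Rep315_sub R hR), reflOf_eq (Rep315_sub R' hR')] at h1
  exact not_refl_neg _ _ h1.symm

theorem fusA_conj_fusQ : fusA * fusQ * fusA⁻¹ = reflG (idxRefl 312) := by
  rw [fusQ_eq, ← reflG_smul, actsF_fusA.apply (by norm_num), fus_checks.2.2.2.2]

theorem fusA_comm_notMem : fusA * fusQ * fusA⁻¹ * fusQ⁻¹ ∉ Subgroup.center twoJ2 := by
  intro h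
  rcases center_cases _ h with h | h
  · rw [mul_inv_eq_one, fusA_conj_fusQ, fusQ_eq] at h
    have := idxRefl_inj (by norm_num) (by norm_num) (reflG_injective h)
    omega
  · rw [mul_inv_eq_iff_eq_mul, fusA_conj_fusQ, fusQ_eq] at h
    exact reflG_ne_negEl_mul _ _ h

theorem fusA_notMem_center : fusA ∉ Subgroup.center twoJ2 := by
  intro h
  apply fusA_comm_notMem
  have : fusA * fusQ * fusA⁻¹ * fusQ⁻¹ = 1 := by
    rw [(Subgroup.mem_center_iff.1 h fusQ).symm]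
    group
  rw [this]
  exact Subgroup.one_mem _

/-! ### the statements in `J₂` -/

/-- the projection `2.J₂ → J₂` -/
noncomputable abbrev piJ2 : twoJ2 →* J2 := QuotientGroup.mk' (Subgroup.center twoJ2)

theorem piJ2_eq_one {g : twoJ2} : piJ2 g = 1 ↔ g ∈ Subgroup.center twoJ2 :=
  QuotientGroup.eq_one_iff g

theorem piJ2_fusA_pow : piJ2 fusA ^ 3 = 1 := by
  rw [← map_pow]; exact piJ2_eq_one.2 fusA_pow_mem

theorem piJ2_fusB_pow : piJ2 fusB ^ 5 = 1 := by
  rw [← map_pow]; exact piJ2_eq_one.2 fusB_pow_mem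

theorem piJ2_fusAB_pow : (piJ2 fusA * piJ2 fusB) ^ 2 = 1 := by
  rw [← map_mul, ← map_pow]; exact piJ2_eq_one.2 fusAB_pow_mem

theorem piJ2_fusA_ne_one : piJ2 fusA ≠ 1 := fun h => fusA_notMem_center (piJ2_eq_one.1 h)

theorem piJ2_comm_s1G {g : twoJ2} (hg : g ∈ Lsub) : piJ2 g * piJ2 s1G = piJ2 s1G * piJ2 g := by
  rw [← map_mul, ← map_mul, mem_Lsub'.1 hg]

theorem piJ2_conj_mem {g : twoJ2} (hg : g ∈ Lsub) :
    ∀ q ∈ Hsub.map piJ2, piJ2 g * q * (piJ2 g)⁻¹ ∈ Hsub.map piJ2 := by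
  rintro _ ⟨h, hh, rfl⟩
  refine ⟨g * h * g⁻¹, Hsub_normal_in_Lsub hg hh, ?_⟩
  simp only [map_mul, map_inv]

theorem piJ2_fusA_act : ∃ q ∈ Hsub.map piJ2, piJ2 fusA * q * (piJ2 fusA)⁻¹ ≠ q := by
  refine ⟨piJ2 fusQ, ⟨fusQ, fusQ_mem_Hsub, rfl⟩, fun h => fusA_comm_notMem ?_⟩
  rw [← piJ2_eq_one]
  simp only [map_mul, map_inv]
  rw [h, mul_inv_cancel]

end Cfsg.Agent.Lib.Helper27.J2
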