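import Mathlib
import Cfsg.Prelude.Def_Spor_J2

/-!
# An integer model of the icosian ring

The icosian ring `I` (the subring of `ℍ[ℝ]` generated by `i` and `g = ½(1 + σ i + τ k)`) is a free
`ℤ`-module on the eight words `1, i, g, ig, gi, igi, gig, igig`.  `Ic` is the type of coordinate
vectors, `Ic.mul` the multiplication given by the structure constants, and `emb : Ic → ℍ[ℝ]` the
(injective, multiplicative) coordinate map, whose range is exactly `icosians`.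
-/

set_option autoImplicit false

namespace Cfsg.Agent.Lib.Helper27.J2
open Quaternion Cfsg.Spor

/-- coordinates of an icosian on the basis `1, i, g, ig, gi, igi, gig, igig` -/
structure Ic where
  c0 : ℤ
  c1 : ℤ
  c2 : ℤ
  c3 : ℤ
  c4 : ℤ
  c5 : ℤ
  c6 : ℤ
  c7 : ℤ
deriving DecidableEq, Repr

namespace Ic

@[ext] theorem ext' {x y : Ic} (h0 : x.c0 = y.c0) (h1 : x.c1 = y.c1) (h2 : x.c2 = y.c2)
    (h3 : x.c3 = y.c3) (h4 : x.c4 = y.c4) (h5 : x.c5 = y.c5) (h6 : x.c6 = y.c6)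
    (h7 : x.c7 = y.c7) : x = y := by
  cases x; cases y; simp_all

def zero : Ic := ⟨0, 0, 0, 0, 0, 0, 0, 0⟩
def one : Ic := ⟨1, 0, 0, 0, 0, 0, 0, 0⟩
def add (x y : Ic) : Ic :=
  ⟨x.c0 + y.c0, x.c1 + y.c1, x.c2 + y.c2, x.c3 + y.c3, x.c4 + y.c4, x.c5 + y.c5, x.c6 + y.c6,
    x.c7 + y.c7⟩
def neg (x : Ic) : Ic := ⟨-x.c0, -x.c1, -x.c2, -x.c3, -x.c4, -x.c5, -x.c6, -x.c7⟩
def sub (x y : Ic) : Ic :=
  ⟨x.c0 - y.c0, x.c1 - y.c1, x.c2 - y.c2, x.c3 - y.c3, x.c4 - y.c4, x.c5 - y.c5, x.c6 - y.c6,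
    x.c7 - y.c7⟩
/-- multiplication by an integer -/
def zsmul (n : ℤ) (x : Ic) : Ic :=
  ⟨n * x.c0, n * x.c1, n * x.c2, n * x.c3, n * x.c4, n * x.c5, n * x.c6, n * x.c7⟩

/-- the product, from the structure constants of the basis -/
def mul (x y : Ic) : Ic :=
  ⟨x.c0 * y.c0 - x.c1 * y.c1 - x.c2 * y.c2 + x.c2 * y.c7 + x.c3 * y.c4 - x.c3 * y.c5 - x.c3 * y.c7 + x.c4 * y.c3 + x.c4 * y.c6 - x.c5 * y.c4 - x.c5 * y.c5 - x.c5 * y.c6 + x.c6 * y.c3 - x.c6 * y.c5 - x.c6 * y.c7 - x.c7 * y.c1 - x.c7 * y.c3 - x.c7 * y.c4 - x.c7 * y.c6,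
   x.c0 * y.c1 + x.c1 * y.c0 - x.c2 * y.c4 + x.c2 * y.c5 + x.c2 * y.c7 - x.c3 * y.c2 + x.c3 * y.c7 + x.c4 * y.c4 + x.c4 * y.c5 + x.c4 * y.c6 + x.c5 * y.c3 + x.c5 * y.c6 + x.c6 * y.c1 + x.c6 * y.c3 + x.c6 * y.c4 + x.c6 * y.c6 + x.c7 * y.c3 - x.c7 * y.c5 - x.c7 * y.c7,
   x.c0 * y.c2 - x.c1 * y.c3 + x.c2 * y.c0 + x.c2 * y.c2 - x.c2 * y.c5 - x.c2 * y.c7 + x.c3 * y.c5 + x.c3 * y.c6 - x.c4 * y.c1 - x.c4 * y.c3 - x.c4 * y.c4 - x.c4 * y.c6 + x.c5 * y.c4 - x.c5 * y.c7 - x.c6 * y.c1 - x.c6 * y.c3 + x.c6 * y.c5 + x.c7 * y.c1 + x.c7 * y.c4,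
   x.c0 * y.c3 + x.c1 * y.c2 - x.c2 * y.c5 - x.c2 * y.c6 + x.c3 * y.c0 + x.c3 * y.c2 - x.c3 * y.c5 - x.c3 * y.c7 - x.c4 * y.c4 + x.c4 * y.c7 - x.c5 * y.c1 - x.c5 * y.c3 - x.c5 * y.c4 - x.c5 * y.c6 - x.c6 * y.c1 - x.c6 * y.c4 - x.c7 * y.c1 - x.c7 * y.c3 + x.c7 * y.c5,
   x.c0 * y.c4 - x.c1 * y.c5 + x.c2 * y.c1 + x.c2 * y.c4 - x.c2 * y.c5 - x.c3 * y.c5 - x.c3 * y.c7 + x.c4 * y.c0 - x.c4 * y.c4 - x.c4 * y.c5 - x.c5 * y.c4 - x.c5 * y.c6 - x.c6 * y.c1 - x.c6 * y.c2 - x.c6 * y.c4 - x.c7 * y.c1 - x.c7 * y.c3 - x.c7 * y.c4 + x.c7 * y.c5 - x.c7 * y.c6 + x.c7 * y.c7,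
   x.c0 * y.c5 + x.c1 * y.c4 + x.c2 * y.c5 + x.c2 * y.c7 + x.c3 * y.c1 + x.c3 * y.c4 - x.c3 * y.c5 + x.c4 * y.c4 + x.c4 * y.c6 + x.c5 * y.c0 - x.c5 * y.c4 - x.c5 * y.c5 + x.c6 * y.c1 + x.c6 * y.c3 + x.c6 * y.c4 - x.c6 * y.c5 + x.c6 * y.c6 - x.c6 * y.c7 - x.c7 * y.c1 - x.c7 * y.c2 - x.c7 * y.c4,
   x.c0 * y.c6 - x.c1 * y.c7 + x.c2 * y.c3 + x.c2 * y.c6 - x.c2 * y.c7 + x.c3 * y.c5 + x.c4 * y.c2 - x.c4 * y.c6 - x.c4 * y.c7 + x.c5 * y.c4 + x.c6 * y.c0 + x.c6 * y.c2 - x.c6 * y.c3 - x.c6 * y.c6 + x.c7 * y.c1 + x.c7 * y.c4 - x.c7 * y.c5,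
   x.c0 * y.c7 + x.c1 * y.c6 - x.c2 * y.c5 + x.c3 * y.c3 + x.c3 * y.c6 - x.c3 * y.c7 - x.c4 * y.c4 + x.c5 * y.c2 - x.c5 * y.c6 - x.c5 * y.c7 - x.c6 * y.c1 - x.c6 * y.c4 + x.c6 * y.c5 + x.c7 * y.c0 + x.c7 * y.c2 - x.c7 * y.c3 - x.c7 * y.c6⟩

/-- quaternion conjugation in coordinates -/
def conj (x : Ic) : Ic :=
  ⟨x.c0 + x.c2 - x.c5 - x.c7, -x.c1 - x.c3 - x.c4 - x.c6 + x.c7, -x.c2, x.c4 + x.c6 - x.c7,
    x.c3 + x.c6 - x.c7, -x.c5, -x.c6, -x.c7⟩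

/-- four times the coefficient of `1` (rational part) -/
def P0 (x : Ic) : ℤ := 4 * x.c0 + 2 * x.c2 - x.c3 - x.c4 - 2 * x.c5 - x.c6 - x.c7
def Q0 (x : Ic) : ℤ := x.c3 + x.c4 + x.c6 - x.c7
def P1 (x : Ic) : ℤ := 4 * x.c1 + x.c2 + 2 * x.c3 + 2 * x.c4 - x.c5 + x.c6 - x.c7
def Q1 (x : Ic) : ℤ := -x.c2 + x.c5 + x.c6 + x.c7
def P2 (x : Ic) : ℤ := -x.c3 + x.c4 - 2 * x.c7
def Q2 (x : Ic) : ℤ := -x.c3 + x.c4
def P3 (x : Ic) : ℤ := x.c2 + x.c5 + 2 * x.c6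
def Q3 (x : Ic) : ℤ := x.c2 + x.c5

end Ic

/-- `√5` -/
noncomputable def s5 : ℝ := Real.sqrt 5

theorem s5_mul_self : s5 * s5 = 5 := Real.mul_self_sqrt (by norm_num)
theorem s5_sq : s5 ^ 2 = 5 := by rw [pow_two, s5_mul_self]

theorem s5_irrational : Irrational s5 := by
  have h : Nat.Prime 5 := by norm_num
  simpa [s5] using h.irrational_sqrt

/-- `a + b√5 = 0` with integers `a, b` forces `a = b = 0` -/
theorem int_add_s5_eq_zero {a b : ℤ} (h : (a : ℝ) + b * s5 = 0) : a = 0 ∧ b = 0 := by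
  by_cases hb : b = 0
  · subst hb
    simp at h
    exact ⟨by exact_mod_cast h, rfl⟩
  · exfalso
    have hb' : (b : ℝ) ≠ 0 := by exact_mod_cast hb
    have h1 : s5 = ((-a / b : ℚ) : ℝ) := by
      push_cast
      field_simp
      linarith
    exact s5_irrational ⟨_, h1.symm⟩

theorem int_add_s5_eq {a b c d : ℤ} (h : (a : ℝ) + b * s5 = c + d * s5) : a = c ∧ b = d := by
  have h' : ((a - c : ℤ) : ℝ) + ((b - d : ℤ) : ℝ) * s5 = 0 := by push_cast; linarith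
  obtain ⟨h1, h2⟩ := int_add_s5_eq_zero h'
  exact ⟨by omega, by omega⟩

/-- the coordinate map into the real quaternions -/
noncomputable def emb (x : Ic) : ℍ[ℝ] :=
  ⟨((x.P0 : ℝ) + x.Q0 * s5) / 4, ((x.P1 : ℝ) + x.Q1 * s5) / 4, ((x.P2 : ℝ) + x.Q2 * s5) / 4,
    ((x.P3 : ℝ) + x.Q3 * s5) / 4⟩

theorem emb_injective : Function.Injective emb := by
  intro x y h
  have h0 := congrArg QuaternionAlgebra.re h
  have h1 := congrArg QuaternionAlgebra.imI h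
  have h2 := congrArg QuaternionAlgebra.imJ h
  have h3 := congrArg QuaternionAlgebra.imK h
  simp only [emb] at h0 h1 h2 h3
  have e0 := int_add_s5_eq (a := x.P0) (b := x.Q0) (c := y.P0) (d := y.Q0) (by linarith)
  have e1 := int_add_s5_eq (a := x.P1) (b := x.Q1) (c := y.P1) (d := y.Q1) (by linarith)
  have e2 := int_add_s5_eq (a := x.P2) (b := x.Q2) (c := y.P2) (d := y.Q2) (by linarith)
  have e3 := int_add_s5_eq (a := x.P3) (b := x.Q3) (c := y.P3) (d := y.Q3) (by linarith)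
  simp only [Ic.P0, Ic.Q0, Ic.P1, Ic.Q1, Ic.P2, Ic.Q2, Ic.P3, Ic.Q3] at e0 e1 e2 e3
  obtain ⟨a0, b0⟩ := e0
  obtain ⟨a1, b1⟩ := e1
  obtain ⟨a2, b2⟩ := e2
  obtain ⟨a3, b3⟩ := e3
  apply Ic.ext' <;> omega

theorem emb_zero : emb Ic.zero = 0 := by
  apply Quaternion.ext <;>
  simp [emb, Ic.zero, Ic.P0, Ic.Q0, Ic.P1, Ic.Q1, Ic.P2, Ic.Q2, Ic.P3, Ic.Q3]

theorem emb_one : emb Ic.one = 1 := by
  apply Quaternion.ext <;>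
  simp [emb, Ic.one, Ic.P0, Ic.Q0, Ic.P1, Ic.Q1, Ic.P2, Ic.Q2, Ic.P3, Ic.Q3]

theorem emb_add (x y : Ic) : emb (x.add y) = emb x + emb y := by
  apply Quaternion.ext <;>
  simp only [Quaternion.re_add, Quaternion.imI_add, Quaternion.imJ_add, Quaternion.imK_add] <;>
  simp only [emb, Ic.add, Ic.P0, Ic.Q0, Ic.P1, Ic.Q1, Ic.P2, Ic.Q2, Ic.P3, Ic.Q3] <;>
  push_cast <;> ring

theorem emb_neg (x : Ic) : emb x.neg = -emb x := by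
  apply Quaternion.ext <;>
  simp only [Quaternion.re_neg, Quaternion.imI_neg, Quaternion.imJ_neg, Quaternion.imK_neg] <;>
  simp only [emb, Ic.neg, Ic.P0, Ic.Q0, Ic.P1, Ic.Q1, Ic.P2, Ic.Q2, Ic.P3, Ic.Q3] <;>
  push_cast <;> ring

theorem emb_sub (x y : Ic) : emb (x.sub y) = emb x - emb y := by
  apply Quaternion.ext <;>
  simp only [Quaternion.re_sub, Quaternion.imI_sub, Quaternion.imJ_sub, Quaternion.imK_sub] <;>
  simp only [emb, Ic.sub, Ic.P0, Ic.Q0, Ic.P1, Ic.Q1, Ic.P2, Ic.Q2, Ic.P3, Ic.Q3] <;>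
  push_cast <;> ring

theorem emb_conj (x : Ic) : emb x.conj = star (emb x) := by
  apply Quaternion.ext <;>
  simp only [Quaternion.re_star, Quaternion.imI_star, Quaternion.imJ_star, Quaternion.imK_star] <;>
  simp only [emb, Ic.conj, Ic.P0, Ic.Q0, Ic.P1, Ic.Q1, Ic.P2, Ic.Q2, Ic.P3, Ic.Q3] <;>
  push_cast <;> ring

theorem emb_mul (x y : Ic) : emb (x.mul y) = emb x * emb y := by
  apply Quaternion.ext <;>
  simp only [Quaternion.re_mul, Quaternion.imI_mul, Quaternion.imJ_mul, Quaternion.imK_mul] <;>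
  simp only [emb, Ic.mul, Ic.P0, Ic.Q0, Ic.P1, Ic.Q1, Ic.P2, Ic.Q2, Ic.P3, Ic.Q3] <;>
  push_cast <;> ring_nf <;> simp only [s5_sq] <;> ring


theorem emb_zsmul (n : ℤ) (x : Ic) : emb (Ic.zsmul n x) = (n : ℝ) • emb x := by
  apply Quaternion.ext <;>
  simp only [Quaternion.re_smul, Quaternion.imI_smul, Quaternion.imJ_smul, Quaternion.imK_smul] <;>
  simp only [emb, Ic.zsmul, Ic.P0, Ic.Q0, Ic.P1, Ic.Q1, Ic.P2, Ic.Q2, Ic.P3, Ic.Q3, smul_eq_mul] <;>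
  push_cast <;> ring

/-- the generator `g = ½(1 + σ i + τ k)` -/
noncomputable def gG : ℍ[ℝ] := ⟨1 / 2, sig / 2, 0, tau / 2⟩

theorem icosians_eq : icosians = Subring.closure {qI, gG} := rfl

namespace Ic
def bI : Ic := ⟨0, 1, 0, 0, 0, 0, 0, 0⟩
def bG : Ic := ⟨0, 0, 1, 0, 0, 0, 0, 0⟩
def bIG : Ic := ⟨0, 0, 0, 1, 0, 0, 0, 0⟩
def bGI : Ic := ⟨0, 0, 0, 0, 1, 0, 0, 0⟩
def bIGI : Ic := ⟨0, 0, 0, 0, 0, 1, 0, 0⟩
def bGIG : Ic := ⟨0, 0, 0, 0, 0, 0, 1, 0⟩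
def bIGIG : Ic := ⟨0, 0, 0, 0, 0, 0, 0, 1⟩
end Ic

theorem emb_bI : emb Ic.bI = qI := by
  apply Quaternion.ext <;>
  simp [emb, Ic.bI, qI, Ic.P0, Ic.Q0, Ic.P1, Ic.Q1, Ic.P2, Ic.Q2, Ic.P3, Ic.Q3]

theorem emb_bG : emb Ic.bG = gG := by
  apply Quaternion.ext <;>
  simp [emb, Ic.bG, gG, sig, tau, s5, Ic.P0, Ic.Q0, Ic.P1, Ic.Q1, Ic.P2, Ic.Q2, Ic.P3, Ic.Q3] <;>
  ring

theorem qI_mem : qI ∈ icosians := Subring.subset_closure (Set.mem_insert _ _)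
theorem gG_mem : gG ∈ icosians :=
  Subring.subset_closure (Set.mem_insert_of_mem _ (Set.mem_singleton _))

theorem emb_bIG : emb Ic.bIG = qI * gG := by
  rw [← emb_bI, ← emb_bG, ← emb_mul]; rfl
theorem emb_bGI : emb Ic.bGI = gG * qI := by
  rw [← emb_bI, ← emb_bG, ← emb_mul]; rfl
theorem emb_bIGI : emb Ic.bIGI = qI * (gG * qI) := by
  rw [← emb_bGI, ← emb_bI, ← emb_mul]; rfl
theorem emb_bGIG : emb Ic.bGIG = gG * (qI * gG) := by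
  rw [← emb_bIG, ← emb_bG, ← emb_mul]; rfl
theorem emb_bIGIG : emb Ic.bIGIG = qI * (gG * (qI * gG)) := by
  rw [← emb_bGIG, ← emb_bI, ← emb_mul]; rfl

theorem Ic.eq_sum (x : Ic) : x = (Ic.zsmul x.c0 Ic.one).add ((Ic.zsmul x.c1 Ic.bI).add
    ((Ic.zsmul x.c2 Ic.bG).add ((Ic.zsmul x.c3 Ic.bIG).add ((Ic.zsmul x.c4 Ic.bGI).add
    ((Ic.zsmul x.c5 Ic.bIGI).add ((Ic.zsmul x.c6 Ic.bGIG).add (Ic.zsmul x.c7 Ic.bIGIG))))))) := by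
  apply Ic.ext' <;>
  simp [Ic.add, Ic.zsmul, Ic.one, Ic.bI, Ic.bG, Ic.bIG, Ic.bGI, Ic.bIGI, Ic.bGIG, Ic.bIGIG]

theorem intCast_smul_mem {q : ℍ[ℝ]} (hq : q ∈ icosians) (n : ℤ) : (n : ℝ) • q ∈ icosians := by
  rw [Int.cast_smul_eq_zsmul]
  exact Subring.zsmul_mem _ hq n

/-- every coordinate vector gives an icosian -/
theorem emb_mem_icosians (x : Ic) : emb x ∈ icosians := by
  rw [Ic.eq_sum x]
  simp only [emb_add, emb_zsmul, emb_one, emb_bI, emb_bG, emb_bIG, emb_bGI, emb_bIGI, emb_bGIG,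
    emb_bIGIG]
  have hI := qI_mem
  have hG := gG_mem
  have hS : ∀ q ∈ icosians, ∀ n : ℤ, (n : ℝ) • q ∈ icosians := fun q hq n => intCast_smul_mem hq n
  refine Subring.add_mem _ (hS _ (Subring.one_mem _) _) (Subring.add_mem _ (hS _ hI _)
    (Subring.add_mem _ (hS _ hG _) (Subring.add_mem _ (hS _ (Subring.mul_mem _ hI hG) _)
    (Subring.add_mem _ (hS _ (Subring.mul_mem _ hG hI) _)
    (Subring.add_mem _ (hS _ (Subring.mul_mem _ hI (Subring.mul_mem _ hG hI)) _)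
    (Subring.add_mem _ (hS _ (Subring.mul_mem _ hG (Subring.mul_mem _ hI hG)) _)
    (hS _ (Subring.mul_mem _ hI (Subring.mul_mem _ hG (Subring.mul_mem _ hI hG))) _)))))))

/-- every icosian has integer coordinates -/
theorem exists_of_mem_icosians {q : ℍ[ℝ]} (hq : q ∈ icosians) : ∃ x : Ic, emb x = q := by
  rw [icosians_eq] at hq
  induction hq using Subring.closure_induction with
  | mem x hx =>
    rcases hx with rfl | rfl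
    · exact ⟨_, emb_bI⟩
    · exact ⟨_, emb_bG⟩
  | zero => exact ⟨_, emb_zero⟩
  | one => exact ⟨_, emb_one⟩
  | add x y _ _ hx hy =>
    obtain ⟨a, rfl⟩ := hx
    obtain ⟨b, rfl⟩ := hy
    exact ⟨_, emb_add a b⟩
  | neg x _ hx =>
    obtain ⟨a, rfl⟩ := hx
    exact ⟨_, emb_neg a⟩
  | mul x y _ _ hx hy =>
    obtain ⟨a, rfl⟩ := hx
    obtain ⟨b, rfl⟩ := hy
    exact ⟨_, emb_mul a b⟩

theorem mem_icosians_iff (q : ℍ[ℝ]) : q ∈ icosians ↔ ∃ x : Ic, emb x = q :=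
  ⟨exists_of_mem_icosians, fun ⟨x, hx⟩ => hx ▸ emb_mem_icosians x⟩

theorem star_mem_icosians {q : ℍ[ℝ]} (hq : q ∈ icosians) : star q ∈ icosians := by
  obtain ⟨x, rfl⟩ := exists_of_mem_icosians hq
  rw [← emb_conj]
  exact emb_mem_icosians _

end Cfsg.Agent.Lib.Helper27.J2
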