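import Cfsg.Agent.Lib.Helper27.J2Ico

/-!
# The icosian Leech lattice: ideals, the Hermitian product, reflections

Real-side algebra of the lattice `icoLeech` (closure under addition and under left multiplication by
icosians, `x·r ∈ 2I`, reflections map the lattice to itself) together with the dictionary between
the lattice and its integer model (`V3`, `inLam`).
-/

set_option autoImplicit false

namespace Cfsg.Agent.Lib.Helper27.J2
open Quaternion Cfsg.Spor

namespace Ic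
def Hc : Ic := ⟨-1, 2, 0, -2, -2, 0, 1, -1⟩
def Hb : Ic := ⟨0, 0, 0, 0, 0, 0, -1, 1⟩
def two : Ic := ⟨2, 0, 0, 0, 0, 0, 0, 0⟩

/-- all coordinates even -/
def even (x : Ic) : Bool :=
  x.c0 % 2 == 0 && x.c1 % 2 == 0 && x.c2 % 2 == 0 && x.c3 % 2 == 0 && x.c4 % 2 == 0 &&
    x.c5 % 2 == 0 && x.c6 % 2 == 0 && x.c7 % 2 == 0

def half (x : Ic) : Ic :=
  ⟨x.c0 / 2, x.c1 / 2, x.c2 / 2, x.c3 / 2, x.c4 / 2, x.c5 / 2, x.c6 / 2, x.c7 / 2⟩

theorem eq_two_half {x : Ic} (h : x.even = true) : x = zsmul 2 x.half := by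
  simp only [even, Bool.and_eq_true, beq_iff_eq] at h
  obtain ⟨⟨⟨⟨⟨⟨⟨h0, h1⟩, h2⟩, h3⟩, h4⟩, h5⟩, h6⟩, h7⟩ := h
  apply Ic.ext' <;> simp only [zsmul, half] <;> omega

theorem even_zsmul_two (x : Ic) : (zsmul 2 x).even = true := by
  simp only [even, zsmul, Bool.and_eq_true, beq_iff_eq]
  refine ⟨⟨⟨⟨⟨⟨⟨?_, ?_⟩, ?_⟩, ?_⟩, ?_⟩, ?_⟩, ?_⟩, ?_⟩ <;> omega

end Ic

theorem emb_Hc : emb Ic.Hc = icoH := by
  apply Quaternion.ext <;>
  simp [emb, Ic.Hc, icoH, s5, Ic.P0, Ic.Q0, Ic.P1, Ic.Q1, Ic.P2, Ic.Q2, Ic.P3, Ic.Q3] <;>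
  ring

theorem emb_Hb : emb Ic.Hb = star icoH := by
  rw [← emb_Hc, ← emb_conj]; rfl

theorem emb_two : emb Ic.two = 2 := by
  rw [show Ic.two = Ic.one.add Ic.one from rfl, emb_add, emb_one]
  norm_num

theorem icoH_mul_star : icoH * star icoH = 2 := by
  have h : emb (Ic.Hc.mul Ic.Hb) = emb Ic.two := congrArg emb (by decide)
  rwa [emb_mul, emb_Hc, emb_Hb, emb_two] at h

theorem star_icoH_mul : star icoH * icoH = 2 := by
  have h : emb (Ic.Hb.mul Ic.Hc) = emb Ic.two := congrArg emb (by decide)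
  rwa [emb_mul, emb_Hc, emb_Hb, emb_two] at h

theorem icoH_mem : icoH ∈ icosians := emb_Hc ▸ emb_mem_icosians _
theorem star_icoH_mem : star icoH ∈ icosians := emb_Hb ▸ emb_mem_icosians _

theorem two_smul_eq (q : ℍ[ℝ]) : (2 : ℝ) • q = 2 * q := by
  rw [two_smul, two_mul]

theorem mul_two_eq (q : ℍ[ℝ]) : q * 2 = 2 * q := by
  rw [mul_two, two_mul]

theorem two_mul_cancel {p q : ℍ[ℝ]} (h : 2 * p = 2 * q) : p = q := by
  rw [← two_smul_eq, ← two_smul_eq] at h
  exact smul_right_injective _ (by norm_num : (2 : ℝ) ≠ 0) h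

theorem half_smul_mul_four (q : ℍ[ℝ]) : ((1 / 2 : ℝ) • q) * 4 = 2 * q := by
  have h4 : (4 : ℍ[ℝ]) = ((4 : ℝ) : ℍ[ℝ]) := by norm_cast
  have h2 : (2 : ℍ[ℝ]) = ((2 : ℝ) : ℍ[ℝ]) := by norm_cast
  rw [h4, h2, Quaternion.mul_coe_eq_smul, Quaternion.coe_mul_eq_smul, smul_smul]; norm_num

/-- membership in `I·h`, on coordinates -/
def inIh (x : Ic) : Bool := (x.mul Ic.Hb).even
/-- membership in `I·h̄`, on coordinates -/
def inIhb (x : Ic) : Bool := (x.mul Ic.Hc).even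

theorem mem_leftIdeal_icoH_iff (x : Ic) : emb x ∈ leftIdeal icoH ↔ inIh x = true := by
  constructor
  · rintro ⟨a, ha, h⟩
    obtain ⟨A, rfl⟩ := exists_of_mem_icosians ha
    have h1 : emb (x.mul Ic.Hb) = emb (Ic.zsmul 2 A) := by
      rw [emb_mul, emb_Hb, h, mul_assoc, icoH_mul_star, emb_zsmul, mul_two_eq]
      push_cast
      rw [two_smul_eq]
    rw [inIh, emb_injective h1]
    exact Ic.even_zsmul_two A
  · intro h
    have h1 := Ic.eq_two_half h
    refine ⟨emb (x.mul Ic.Hb).half, emb_mem_icosians _, ?_⟩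
    have h2 : emb x * star icoH = 2 * emb (x.mul Ic.Hb).half := by
      rw [← emb_Hb, ← emb_mul, h1, emb_zsmul]
      push_cast
      rw [two_smul_eq]
      congr 2
      rw [← h1]
    apply two_mul_cancel
    calc 2 * emb x = emb x * 2 := (mul_two_eq _).symm
      _ = emb x * (star icoH * icoH) := by rw [star_icoH_mul]
      _ = (emb x * star icoH) * icoH := (mul_assoc _ _ _).symm
      _ = (2 * emb (x.mul Ic.Hb).half) * icoH := by rw [h2]
      _ = 2 * (emb (x.mul Ic.Hb).half * icoH) := mul_assoc _ _ _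

theorem mem_leftIdeal_star_icoH_iff (x : Ic) : emb x ∈ leftIdeal (star icoH) ↔ inIhb x = true := by
  constructor
  · rintro ⟨a, ha, h⟩
    obtain ⟨A, rfl⟩ := exists_of_mem_icosians ha
    have h1 : emb (x.mul Ic.Hc) = emb (Ic.zsmul 2 A) := by
      rw [emb_mul, emb_Hc, h, mul_assoc, star_icoH_mul, emb_zsmul, mul_two_eq]
      push_cast
      rw [two_smul_eq]
    rw [inIhb, emb_injective h1]
    exact Ic.even_zsmul_two A
  · intro h
    have h1 := Ic.eq_two_half h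
    refine ⟨emb (x.mul Ic.Hc).half, emb_mem_icosians _, ?_⟩
    have h2 : emb x * icoH = 2 * emb (x.mul Ic.Hc).half := by
      rw [← emb_Hc, ← emb_mul, h1, emb_zsmul]
      push_cast
      rw [two_smul_eq]
      congr 2
      rw [← h1]
    apply two_mul_cancel
    calc 2 * emb x = emb x * 2 := (mul_two_eq _).symm
      _ = emb x * (icoH * star icoH) := by rw [icoH_mul_star]
      _ = (emb x * icoH) * star icoH := (mul_assoc _ _ _).symm
      _ = (2 * emb (x.mul Ic.Hc).half) * star icoH := by rw [h2]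
      _ = 2 * (emb (x.mul Ic.Hc).half * star icoH) := mul_assoc _ _ _

/-! ### left ideals -/

theorem leftIdeal_zero (q : ℍ[ℝ]) : (0 : ℍ[ℝ]) ∈ leftIdeal q :=
  ⟨0, Subring.zero_mem _, by simp⟩

theorem leftIdeal_add {q x y : ℍ[ℝ]} (hx : x ∈ leftIdeal q) (hy : y ∈ leftIdeal q) :
    x + y ∈ leftIdeal q := by
  obtain ⟨a, ha, rfl⟩ := hx
  obtain ⟨b, hb, rfl⟩ := hy
  exact ⟨a + b, Subring.add_mem _ ha hb, by rw [add_mul]⟩

theorem leftIdeal_neg {q x : ℍ[ℝ]} (hx : x ∈ leftIdeal q) : -x ∈ leftIdeal q := by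
  obtain ⟨a, ha, rfl⟩ := hx
  exact ⟨-a, Subring.neg_mem _ ha, by rw [neg_mul]⟩

theorem leftIdeal_sub {q x y : ℍ[ℝ]} (hx : x ∈ leftIdeal q) (hy : y ∈ leftIdeal q) :
    x - y ∈ leftIdeal q := by
  rw [sub_eq_add_neg]; exact leftIdeal_add hx (leftIdeal_neg hy)

theorem leftIdeal_mul_left {q x a : ℍ[ℝ]} (ha : a ∈ icosians) (hx : x ∈ leftIdeal q) :
    a * x ∈ leftIdeal q := by
  obtain ⟨b, hb, rfl⟩ := hx
  exact ⟨a * b, Subring.mul_mem _ ha hb, by rw [mul_assoc]⟩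

theorem leftIdeal_subset {q x : ℍ[ℝ]} (hq : q ∈ icosians) (hx : x ∈ leftIdeal q) :
    x ∈ icosians := by
  obtain ⟨b, hb, rfl⟩ := hx
  exact Subring.mul_mem _ hb hq

/-! ### the lattice -/

/-- left multiplication of a vector by a quaternion -/
noncomputable def smulV (a : ℍ[ℝ]) (v : Fin 3 → ℍ[ℝ]) : Fin 3 → ℍ[ℝ] := fun t => a * v t

@[simp] theorem smulV_apply (a : ℍ[ℝ]) (v : Fin 3 → ℍ[ℝ]) (t : Fin 3) : smulV a v t = a * v t := rfl

theorem smulV_one (v : Fin 3 → ℍ[ℝ]) : smulV 1 v = v := by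
  funext t; simp

theorem smulV_smulV (a b : ℍ[ℝ]) (v : Fin 3 → ℍ[ℝ]) : smulV a (smulV b v) = smulV (a * b) v := by
  funext t; simp [mul_assoc]

theorem icoLeech_smul {a : ℍ[ℝ]} {v : Fin 3 → ℍ[ℝ]} (ha : a ∈ icosians) (hv : v ∈ icoLeech) :
    smulV a v ∈ icoLeech := by
  obtain ⟨h1, h2, h3, h4⟩ := hv
  refine ⟨fun t => Subring.mul_mem _ ha (h1 t), ?_, ?_, ?_⟩
  · simpa [mul_sub] using leftIdeal_mul_left ha h2
  · simpa [mul_sub] using leftIdeal_mul_left ha h3
  · simpa [mul_add] using leftIdeal_mul_left ha h4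

theorem icoLeech_add {v w : Fin 3 → ℍ[ℝ]} (hv : v ∈ icoLeech) (hw : w ∈ icoLeech) :
    v + w ∈ icoLeech := by
  obtain ⟨h1, h2, h3, h4⟩ := hv
  obtain ⟨k1, k2, k3, k4⟩ := hw
  refine ⟨fun t => Subring.add_mem _ (h1 t) (k1 t), ?_, ?_, ?_⟩
  · have := leftIdeal_add h2 k2
    simp only [Pi.add_apply]
    convert this using 1; abel
  · have := leftIdeal_add h3 k3
    simp only [Pi.add_apply]
    convert this using 1; abel
  · have := leftIdeal_add h4 k4
    simp only [Pi.add_apply]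
    convert this using 1; abel

theorem icoLeech_neg {v : Fin 3 → ℍ[ℝ]} (hv : v ∈ icoLeech) : -v ∈ icoLeech := by
  obtain ⟨h1, h2, h3, h4⟩ := hv
  refine ⟨fun t => Subring.neg_mem _ (h1 t), ?_, ?_, ?_⟩
  · have := leftIdeal_neg h2
    simp only [Pi.neg_apply]
    convert this using 1; abel
  · have := leftIdeal_neg h3
    simp only [Pi.neg_apply]
    convert this using 1; abel
  · have := leftIdeal_neg h4
    simp only [Pi.neg_apply]
    convert this using 1; abel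

theorem icoLeech_sub {v w : Fin 3 → ℍ[ℝ]} (hv : v ∈ icoLeech) (hw : w ∈ icoLeech) :
    v - w ∈ icoLeech := by
  rw [sub_eq_add_neg]; exact icoLeech_add hv (icoLeech_neg hw)

theorem icoLeech_zero : (0 : Fin 3 → ℍ[ℝ]) ∈ icoLeech :=
  ⟨fun _ => Subring.zero_mem _, by simpa using leftIdeal_zero _, by simpa using leftIdeal_zero _,
    by simpa using leftIdeal_zero _⟩

/-! ### the Hermitian product -/

theorem qip_eq (x r : Fin 3 → ℍ[ℝ]) :
    qip x r = x 0 * star (r 0) + x 1 * star (r 1) + x 2 * star (r 2) := by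
  simp [qip, Fin.sum_univ_three]

theorem qip_smul_left (a : ℍ[ℝ]) (v r : Fin 3 → ℍ[ℝ]) : qip (smulV a v) r = a * qip v r := by
  simp only [qip_eq, smulV_apply, mul_add, mul_assoc]

theorem qip_smul_right (a : ℍ[ℝ]) (v r : Fin 3 → ℍ[ℝ]) :
    qip v (smulV a r) = qip v r * star a := by
  simp only [qip_eq, smulV_apply, add_mul, mul_assoc, star_mul]

theorem qip_add_left (v w r : Fin 3 → ℍ[ℝ]) : qip (v + w) r = qip v r + qip w r := by
  simp only [qip_eq, Pi.add_apply, add_mul]; abel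

theorem qip_sub_left (v w r : Fin 3 → ℍ[ℝ]) : qip (v - w) r = qip v r - qip w r := by
  simp only [qip_eq, Pi.sub_apply, sub_mul]; abel

theorem qip_add_right (v r s : Fin 3 → ℍ[ℝ]) : qip v (r + s) = qip v r + qip v s := by
  simp only [qip_eq, Pi.add_apply, star_add, mul_add]; abel

theorem qip_sub_right (v r s : Fin 3 → ℍ[ℝ]) : qip v (r - s) = qip v r - qip v s := by
  simp only [qip_eq, Pi.sub_apply, star_sub, mul_sub]; abel

theorem star_qip (v r : Fin 3 → ℍ[ℝ]) : star (qip v r) = qip r v := by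
  simp only [qip_eq, star_add, star_mul, star_star]

theorem qip_mem_icosians {v r : Fin 3 → ℍ[ℝ]} (hv : v ∈ icoLeech) (hr : r ∈ icoLeech) :
    qip v r ∈ icosians := by
  rw [qip_eq]
  exact Subring.add_mem _ (Subring.add_mem _
    (Subring.mul_mem _ (hv.1 0) (star_mem_icosians (hr.1 0)))
    (Subring.mul_mem _ (hv.1 1) (star_mem_icosians (hr.1 1))))
    (Subring.mul_mem _ (hv.1 2) (star_mem_icosians (hr.1 2)))

theorem three_qip (v r : Fin 3 → ℍ[ℝ]) :
    3 * qip v r = (v 0 + v 1 + v 2) * star (r 0 + r 1 + r 2) + (v 0 - v 1) * star (r 0 - r 1) +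
      ((v 0 - v 1) + (v 1 - v 2)) * star ((r 0 - r 1) + (r 1 - r 2)) +
      (v 1 - v 2) * star (r 1 - r 2) := by
  simp only [qip_eq, star_add, star_sub]
  noncomm_ring

theorem ideal_mul_star {a b : ℍ[ℝ]} (ha : a ∈ leftIdeal icoH) (hb : b ∈ leftIdeal icoH) :
    ∃ c ∈ icosians, a * star b = 2 * c := by
  obtain ⟨x, hx, rfl⟩ := ha
  obtain ⟨y, hy, rfl⟩ := hb
  refine ⟨x * star y, Subring.mul_mem _ hx (star_mem_icosians hy), ?_⟩
  rw [star_mul, mul_assoc, ← mul_assoc icoH, icoH_mul_star, ← mul_assoc, mul_two_eq, mul_assoc]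

theorem ideal_star_mul_star {a b : ℍ[ℝ]} (ha : a ∈ leftIdeal (star icoH))
    (hb : b ∈ leftIdeal (star icoH)) : ∃ c ∈ icosians, a * star b = 2 * c := by
  obtain ⟨x, hx, rfl⟩ := ha
  obtain ⟨y, hy, rfl⟩ := hb
  refine ⟨x * star y, Subring.mul_mem _ hx (star_mem_icosians hy), ?_⟩
  rw [star_mul, star_star, mul_assoc, ← mul_assoc (star icoH), star_icoH_mul, ← mul_assoc,
    mul_two_eq, mul_assoc]

/-- the Hermitian product of two lattice vectors lies in `2I` -/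
theorem qip_mem_two {v r : Fin 3 → ℍ[ℝ]} (hv : v ∈ icoLeech) (hr : r ∈ icoLeech) :
    ∃ a ∈ icosians, qip v r = 2 * a := by
  obtain ⟨c1, hc1, e1⟩ := ideal_star_mul_star hv.2.2.2 hr.2.2.2
  obtain ⟨c2, hc2, e2⟩ := ideal_mul_star hv.2.1 hr.2.1
  obtain ⟨c3, hc3, e3⟩ := ideal_mul_star (leftIdeal_add hv.2.1 hv.2.2.1)
    (leftIdeal_add hr.2.1 hr.2.2.1)
  obtain ⟨c4, hc4, e4⟩ := ideal_mul_star hv.2.2.1 hr.2.2.1
  have h3 := three_qip v r
  rw [e1, e2, e3, e4] at h3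
  refine ⟨c1 + c2 + c3 + c4 - qip v r, Subring.sub_mem _ (Subring.add_mem _ (Subring.add_mem _
    (Subring.add_mem _ hc1 hc2) hc3) hc4) (qip_mem_icosians hv hr), ?_⟩
  have h5 : 2 * (c1 + c2 + c3 + c4 - qip v r) =
      (2 * c1 + 2 * c2 + 2 * c3 + 2 * c4) - 2 * qip v r := by noncomm_ring
  rw [h5, ← h3]
  noncomm_ring

/-! ### reflections -/

theorem qrefl_eq (r x : Fin 3 → ℍ[ℝ]) {a : ℍ[ℝ]} (ha : qip x r = 2 * a) :
    qrefl r x = x - smulV a r := by
  funext t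
  simp only [qrefl, ha, Pi.sub_apply, smulV_apply]
  congr 2
  rw [← two_smul_eq, smul_smul]
  norm_num

theorem qrefl_mem {r x : Fin 3 → ℍ[ℝ]} (hr : r ∈ icoLeech) (hx : x ∈ icoLeech) :
    qrefl r x ∈ icoLeech := by
  obtain ⟨a, ha, h⟩ := qip_mem_two hx hr
  rw [qrefl_eq r x h]
  exact icoLeech_sub hx (icoLeech_smul ha hr)

theorem qip_qrefl_left (r x y : Fin 3 → ℍ[ℝ]) :
    qip (qrefl r x) y = qip x y - ((1 / 2 : ℝ) • qip x r) * qip r y := by
  simp only [qip_eq, qrefl, sub_mul, mul_add, mul_assoc]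
  abel

theorem qrefl_qrefl {r : Fin 3 → ℍ[ℝ]} (hr : qip r r = 4) (x : Fin 3 → ℍ[ℝ]) :
    qrefl r (qrefl r x) = x := by
  have h1 : qip (qrefl r x) r = -qip x r := by
    rw [qip_qrefl_left, hr]
    rw [half_smul_mul_four]; noncomm_ring
  funext t
  simp only [qrefl, h1, smul_neg, neg_mul, sub_neg_eq_add]
  abel

/-- the model of a vector of the lattice -/
structure V3 where
  x : Ic
  y : Ic
  z : Ic
deriving DecidableEq, Repr

noncomputable def embV (V : V3) : Fin 3 → ℍ[ℝ] := ![emb V.x, emb V.y, emb V.z]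

@[simp] theorem embV_zero (V : V3) : embV V 0 = emb V.x := rfl
@[simp] theorem embV_one (V : V3) : embV V 1 = emb V.y := rfl
@[simp] theorem embV_two (V : V3) : embV V 2 = emb V.z := rfl

theorem embV_injective : Function.Injective embV := by
  intro V W h
  have h0 := congrFun h 0
  have h1 := congrFun h 1
  have h2 := congrFun h 2
  simp only [embV_zero, embV_one, embV_two] at h0 h1 h2
  cases V; cases W
  simp only [V3.mk.injEq]
  exact ⟨emb_injective h0, emb_injective h1, emb_injective h2⟩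

/-- lattice membership on the model -/
def inLam (V : V3) : Bool :=
  inIh (V.x.sub V.y) && inIh (V.y.sub V.z) && inIhb ((V.x.add V.y).add V.z)

theorem embV_mem_icoLeech_iff (V : V3) : embV V ∈ icoLeech ↔ inLam V = true := by
  simp only [icoLeech, Set.mem_setOf_eq, inLam, Bool.and_eq_true, embV_zero, embV_one, embV_two,
    ← mem_leftIdeal_icoH_iff, ← mem_leftIdeal_star_icoH_iff, emb_sub, emb_add]
  constructor
  · rintro ⟨-, h2, h3, h4⟩
    exact ⟨⟨h2, h3⟩, h4⟩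
  · rintro ⟨⟨h2, h3⟩, h4⟩
    refine ⟨?_, h2, h3, h4⟩
    intro t
    fin_cases t
    · exact emb_mem_icosians _
    · exact emb_mem_icosians _
    · exact emb_mem_icosians _

theorem exists_embV {v : Fin 3 → ℍ[ℝ]} (hv : ∀ t, v t ∈ icosians) : ∃ V : V3, embV V = v := by
  obtain ⟨a, ha⟩ := exists_of_mem_icosians (hv 0)
  obtain ⟨b, hb⟩ := exists_of_mem_icosians (hv 1)
  obtain ⟨c, hc⟩ := exists_of_mem_icosians (hv 2)
  refine ⟨⟨a, b, c⟩, ?_⟩
  funext t
  fin_cases t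
  · exact ha
  · exact hb
  · exact hc

/-- the Hermitian product on the model -/
def qipM (V R : V3) : Ic :=
  ((V.x.mul R.x.conj).add (V.y.mul R.y.conj)).add (V.z.mul R.z.conj)

theorem qip_embV (V R : V3) : qip (embV V) (embV R) = emb (qipM V R) := by
  simp only [qip_eq, qipM, emb_add, emb_mul, emb_conj, embV_zero, embV_one, embV_two]

end Cfsg.Agent.Lib.Helper27.J2
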