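import Cfsg.Agent.Lib.Helper27.J2TransData

/-!
# The reflection group is transitive on the reflections
-/

set_option autoImplicit false

namespace Cfsg.Agent.Lib.Helper27.J2
open Quaternion Cfsg.Spor

theorem reach_of_mem {W : V3} (hW : W ∈ RepAll) : Reach W := by
  have h := transSteps_ok
  cases hr : runSteps [160] transSteps with
  | none => rw [hr] at h; simp at h
  | some r =>
    rw [hr] at h
    simp only [Option.map_some, Option.some.injEq, List.all_eq_true, List.mem_range,
      List.contains_iff_mem] at h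
    obtain ⟨i, hi, hiW⟩ := List.mem_iff_getElem.1 hW
    have h1 : RepAll[i]? = some W := by rw [List.getElem?_eq_getElem hi, hiW]
    refine runSteps_reach transSteps [160] r ?_ hr i (h i hi) W h1
    intro j hj W' hW'
    rw [List.mem_singleton] at hj
    subst hj
    have : RepAll[160]? = some E1 := by decide +kernel
    rw [this] at hW'
    cases hW'
    exact reach_E1

theorem e1_qip : qip (e1 : Fin 3 → ℍ[ℝ]) e1 = 4 := qip_of_RepAll E1_mem

/-- every reflection is conjugate in `twoJ2` to the reflection in `(2,0,0)` -/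
theorem exists_conj_e1 (r : icoLeech) (hr : qip (r : Fin 3 → ℍ[ℝ]) r = 4) :
    ∃ g ∈ twoJ2, g * reflPerm e1 e1_qip * g⁻¹ = reflPerm r hr := by
  obtain ⟨W, hW, u, hu, hu1, hru⟩ := good_of_min r.2 hr
  obtain ⟨g, hg, w, hw, hw1, hgw⟩ := reach_of_mem hW
  refine ⟨g, hg, ?_⟩
  rw [conj_reflPerm (isUni_of_mem hg)]
  ext x : 1
  apply Subtype.ext
  rw [reflPerm_apply, reflPerm_apply, hgw, hru, qrefl_smulV_left w (by rw [star_mul_self_eq, hw1]),
    qrefl_smulV_left u (by rw [star_mul_self_eq, hu1])]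

theorem transitive_on_reflections (f f' : Equiv.Perm icoLeech) (hf : IsIcoReflection f)
    (hf' : IsIcoReflection f') : ∃ g ∈ twoJ2, g * f * g⁻¹ = f' := by
  obtain ⟨r, hr, rfl⟩ := (isIcoReflection_iff f).1 hf
  obtain ⟨r', hr', rfl⟩ := (isIcoReflection_iff f').1 hf'
  obtain ⟨g, hg, h⟩ := exists_conj_e1 r hr
  obtain ⟨g', hg', h'⟩ := exists_conj_e1 r' hr'
  refine ⟨g' * g⁻¹, Subgroup.mul_mem _ hg' (Subgroup.inv_mem _ hg), ?_⟩
  rw [← h, ← h']
  group

end Cfsg.Agent.Lib.Helper27.J2
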