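import Cfsg.Agent.Lib.Helper27.J2LinesData
import Cfsg.Agent.Lib.Helper27.J2Trans

/-!
# Counting the minimal vectors (37800) and the reflections (315) of the icosian Leech lattice
-/

set_option autoImplicit false

namespace Cfsg.Agent.Lib.Helper27.J2
open Quaternion Cfsg.Spor

theorem certOK_spec : ∀ (Ws : List V3) (cs : List (ℕ × Ic)), certOK Ws cs = true →
    ∀ W ∈ Ws, ∃ R ∈ Rep315, ∃ c : Ic, c.Tq = 16 ∧ W = smulM c R := by
  intro Ws
  induction Ws with
  | nil => intro cs _ W hW; simp at hW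
  | cons W0 Ws ih =>
    intro cs h W hW
    cases cs with
    | nil => simp [certOK] at h
    | cons p cs =>
      obtain ⟨i, c⟩ := p
      simp only [certOK, Bool.and_eq_true, beq_iff_eq] at h
      obtain ⟨⟨h1, h2⟩, h3⟩ := h
      rcases List.mem_cons.1 hW with rfl | hW
      · cases hR : Rep315[i]? with
        | none => rw [hR] at h2; simp at h2
        | some R =>
          rw [hR] at h2
          simp only [beq_iff_eq] at h2
          exact ⟨R, List.mem_of_getElem? hR, c, h1, h2⟩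
      · exact ih cs h3 W hW

theorem line_of_RepAll {W : V3} (hW : W ∈ RepAll) :
    ∃ R ∈ Rep315, ∃ c : Ic, c.Tq = 16 ∧ W = smulM c R :=
  certOK_spec RepAll lineCert lineCert_ok W hW

theorem lineKey_eq_of_smul {W W' : V3} {q : ℍ[ℝ]} (hq : star q * q = 1)
    (h : embV W = smulV q (embV W')) : lineKey W = lineKey W' := by
  have hx : emb W.x = q * emb W'.x := congrFun h 0
  have hy : emb W.y = q * emb W'.y := congrFun h 1
  have hz : emb W.z = q * emb W'.z := congrFun h 2
  have key : ∀ a b a' b' : Ic, emb a = q * emb a' → emb b = q * emb b' →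
      a.conj.mul b = a'.conj.mul b' := by
    intro a b a' b' ha hb
    apply emb_injective
    rw [emb_mul, emb_mul, emb_conj, emb_conj, ha, hb, star_mul, mul_assoc, ← mul_assoc (star q), hq,
      one_mul]
  simp only [lineKey]
  rw [key _ _ _ _ hx hx, key _ _ _ _ hy hy, key _ _ _ _ hz hz, key _ _ _ _ hx hy, key _ _ _ _ hx hz,
    key _ _ _ _ hy hz]

theorem Rep315_key_inj {R R' : V3} (hR : R ∈ Rep315) (hR' : R' ∈ Rep315)
    (h : lineKey R = lineKey R') : R = R' :=
  List.inj_on_of_nodup_map (by rw [Rep315_keys]; exact keyLit_nodup) hR hR' h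

/-- two representatives on the same line (up to a unit quaternion) are equal -/
theorem Rep315_line_inj {R R' : V3} (hR : R ∈ Rep315) (hR' : R' ∈ Rep315) {q : ℍ[ℝ]}
    (hq : star q * q = 1) (h : embV R = smulV q (embV R')) : R = R' :=
  Rep315_key_inj hR hR' (lineKey_eq_of_smul hq h)

/-- the 120 units -/
def Units : List Ic := candLit.filter fun c => c.Tq == 16

theorem Units_length : Units.length = 120 := by decide +kernel

theorem Units_nodup : Units.Nodup := by decide +kernel

theorem mem_Units {c : Ic} : c ∈ Units ↔ c.Tq = 16 := by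
  unfold Units
  rw [List.mem_filter, beq_iff_eq]
  exact ⟨fun h => h.2, fun h => ⟨mem_candLit (by omega), h⟩⟩

theorem Rep315_nodup : Rep315.Nodup := by
  have h : (Rep315.map lineKey).Nodup := by rw [Rep315_keys]; exact keyLit_nodup
  exact List.Nodup.of_map _ h

/-- every minimal vector is a unit multiple of one of the 315 representatives -/
theorem exists_unit_rep {v : Fin 3 → ℍ[ℝ]} (hv : v ∈ icoLeech) (h4 : qip v v = 4) :
    ∃ c ∈ Units, ∃ R ∈ Rep315, v = smulV (emb c) (embV R) := by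
  obtain ⟨W, hW, u, hu, hu1, rfl⟩ := good_of_min hv h4
  obtain ⟨R, hR, c, hc, rfl⟩ := line_of_RepAll hW
  obtain ⟨hc1, hc2⟩ := unit_of_Tq hc
  obtain ⟨c', hc'⟩ := exists_of_mem_icosians (Subring.mul_mem _ hu (emb_mem_icosians c))
  refine ⟨c', ?_, R, hR, ?_⟩
  · rw [mem_Units]
    apply Tq_of_nrm_one
    rw [hc', star_mul, mul_assoc, ← mul_assoc (emb c), hc2, one_mul, hu1]
  · rw [embV_smulM, smulV_smulV, hc']

theorem qip_four_cast : (4 : ℍ[ℝ]) = ((4 : ℝ) : ℍ[ℝ]) := by norm_cast

theorem qip_two_cast : (2 : ℍ[ℝ]) = ((2 : ℝ) : ℍ[ℝ]) := by norm_cast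

theorem quat_two_ne_zero : (2 : ℍ[ℝ]) ≠ 0 := by
  rw [qip_two_cast]
  intro h
  have := congrArg QuaternionAlgebra.re h
  simp at this

theorem quat_four_ne_zero : ((4 : ℝ) : ℍ[ℝ]) ≠ 0 := by
  intro h
  have := congrArg QuaternionAlgebra.re h
  simp at this

theorem min_of_unit_rep {c : Ic} (hc : c ∈ Units) {R : V3} (hR : R ∈ Rep315) :
    smulV (emb c) (embV R) ∈ icoLeech ∧ qip (smulV (emb c) (embV R)) (smulV (emb c) (embV R)) = 4 := by
  have hR' := Rep315_sub R hR
  obtain ⟨hc1, hc2⟩ := unit_of_Tq (mem_Units.1 hc)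
  refine ⟨icoLeech_smul (emb_mem_icosians c) (embV_mem_of_RepAll hR'), ?_⟩
  rw [qip_four_cast]
  apply qip_smulV_smulV _ hc2
  rw [← qip_four_cast]
  exact qip_of_RepAll hR'

theorem exists_coord_ne_zero {v : Fin 3 → ℍ[ℝ]} (h4 : qip v v = 4) : ∃ t, v t ≠ 0 := by
  by_contra hcon
  push_neg at hcon
  have : qip v v = 0 := by
    simp only [qip, hcon, zero_mul, Finset.sum_const_zero]
  rw [this, qip_four_cast] at h4
  have h5 := congrArg QuaternionAlgebra.re h4
  simp at h5

theorem unit_rep_inj {c c' : Ic} (hc : c ∈ Units) (hc' : c' ∈ Units) {R R' : V3} (hR : R ∈ Rep315)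
    (hR' : R' ∈ Rep315) (h : smulV (emb c) (embV R) = smulV (emb c') (embV R')) :
    c = c' ∧ R = R' := by
  obtain ⟨hc1, hc2⟩ := unit_of_Tq (mem_Units.1 hc)
  obtain ⟨hd1, hd2⟩ := unit_of_Tq (mem_Units.1 hc')
  have h1 : embV R = smulV (star (emb c) * emb c') (embV R') := by
    rw [← smulV_smulV, ← h, smulV_smulV, hc1, smulV_one]
  have hRR : R = R' := by
    apply Rep315_line_inj hR hR' _ h1
    rw [star_mul, star_star, mul_assoc, ← mul_assoc (emb c), hc2, one_mul, hd1]
  subst hRR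
  refine ⟨?_, rfl⟩
  obtain ⟨t, ht⟩ := exists_coord_ne_zero (qip_of_RepAll (Rep315_sub R hR))
  have h2 := congrFun h t
  simp only [smulV_apply] at h2
  exact emb_injective (mul_right_cancel₀ ht h2)

/-- **the icosian Leech lattice has 37800 minimal vectors** -/
theorem ncard_min :
    {r : Fin 3 → ℍ[ℝ] | r ∈ icoLeech ∧ qip r r = 4}.ncard = 37800 := by
  classical
  let P : Finset (Ic × V3) := (Units ×ˢ Rep315).toFinset
  let F : Ic × V3 → (Fin 3 → ℍ[ℝ]) := fun p => smulV (emb p.1) (embV p.2)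
  have hP : ∀ p, p ∈ P ↔ p.1 ∈ Units ∧ p.2 ∈ Rep315 := by
    intro p
    simp only [P, List.mem_toFinset]
    obtain ⟨a, b⟩ := p
    exact List.pair_mem_product
  have hset : {r : Fin 3 → ℍ[ℝ] | r ∈ icoLeech ∧ qip r r = 4} = F '' (P : Set (Ic × V3)) := by
    ext v
    constructor
    · rintro ⟨hv, h4⟩
      obtain ⟨c, hc, R, hR, rfl⟩ := exists_unit_rep hv h4
      exact ⟨(c, R), (hP _).2 ⟨hc, hR⟩, rfl⟩
    · rintro ⟨p, hp, rfl⟩
      obtain ⟨hc, hR⟩ := (hP p).1 hp
      exact min_of_unit_rep hc hR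
  have hinj : Set.InjOn F (P : Set (Ic × V3)) := by
    intro p hp p' hp' h
    obtain ⟨hc, hR⟩ := (hP p).1 hp
    obtain ⟨hc', hR'⟩ := (hP p').1 hp'
    obtain ⟨h1, h2⟩ := unit_rep_inj hc hc' hR hR' h
    exact Prod.ext h1 h2
  rw [hset, Set.InjOn.ncard_image hinj, Set.ncard_coe_finset,
    List.toFinset_card_of_nodup (List.Nodup.product Units_nodup Rep315_nodup), List.length_product,
    Units_length, Rep315_length]

open Classical in
/-- the reflection in (the vector modelled by) `R` -/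
noncomputable def reflOf (R : V3) : Equiv.Perm icoLeech :=
  if h : embV R ∈ icoLeech ∧ qip (embV R) (embV R) = 4 then reflPerm ⟨embV R, h.1⟩ h.2 else 1

theorem reflOf_eq {R : V3} (hR : R ∈ RepAll) :
    reflOf R = reflPerm ⟨embV R, embV_mem_of_RepAll hR⟩ (qip_of_RepAll hR) :=
  dif_pos ⟨embV_mem_of_RepAll hR, qip_of_RepAll hR⟩

theorem reflOf_apply {R : V3} (hR : R ∈ RepAll) (x : icoLeech) :
    ((reflOf R x : icoLeech) : Fin 3 → ℍ[ℝ]) = qrefl (embV R) x := by
  rw [reflOf_eq hR]; rfl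

theorem isIcoReflection_reflOf {R : V3} (hR : R ∈ RepAll) : IsIcoReflection (reflOf R) := by
  rw [reflOf_eq hR]
  exact isIcoReflection_reflPerm _ _

theorem exists_reflOf {f : Equiv.Perm icoLeech} (hf : IsIcoReflection f) :
    ∃ R ∈ Rep315, f = reflOf R := by
  obtain ⟨r, hr, rfl⟩ := (isIcoReflection_iff f).1 hf
  obtain ⟨c, hc, R, hR, hv⟩ := exists_unit_rep r.2 hr
  obtain ⟨hc1, hc2⟩ := unit_of_Tq (mem_Units.1 hc)
  refine ⟨R, hR, ?_⟩
  ext x : 1
  apply Subtype.ext
  rw [reflPerm_apply, reflOf_apply (Rep315_sub R hR), hv, qrefl_smulV_left _ hc1]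

theorem reflOf_inj {R R' : V3} (hR : R ∈ Rep315) (hR' : R' ∈ Rep315) (h : reflOf R = reflOf R') :
    R = R' := by
  have hRA := Rep315_sub R hR
  have hRA' := Rep315_sub R' hR'
  have h4 := qip_of_RepAll hRA
  have h4' := qip_of_RepAll hRA'
  let x : icoLeech := ⟨embV R, embV_mem_of_RepAll hRA⟩
  have h1 : qrefl (embV R) (embV R) = qrefl (embV R') (embV R) := by
    have := congrArg (fun f : Equiv.Perm icoLeech => ((f x : icoLeech) : Fin 3 → ℍ[ℝ])) h
    simpa only [reflOf_apply hRA, reflOf_apply hRA'] using this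
  -- `embV R = q • embV R'`
  set b : ℍ[ℝ] := (1 / 2 : ℝ) • qip (embV R) (embV R') with hb
  have h2 : ∀ t, embV R t = (2⁻¹ * b) * embV R' t := by
    intro t
    have := congrFun h1 t
    simp only [qrefl, h4] at this
    have h3 : ((1 / 2 : ℝ) • (4 : ℍ[ℝ])) = 2 := by
      rw [qip_two_cast, qip_four_cast, ← Quaternion.coe_smul]; norm_num
    rw [h3] at this
    have h5 : (2 : ℍ[ℝ]) * embV R t = b * embV R' t := by
      have h6 : embV R t - 2 * embV R t = embV R t - b * embV R' t := this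
      have := sub_right_injective h6
      exact this
    rw [mul_assoc, ← h5, ← mul_assoc, inv_mul_cancel₀ quat_two_ne_zero, one_mul]
  have h3 : embV R = smulV (2⁻¹ * b) (embV R') := funext h2
  apply Rep315_line_inj hR hR' _ h3
  -- the scalar has norm one
  have h5 : qip (embV R) (embV R) = (2⁻¹ * b) * qip (embV R') (embV R') * star (2⁻¹ * b) := by
    conv_lhs => rw [h3]
    rw [qip_smul_left, qip_smul_right, ← mul_assoc]
  rw [h4, h4', qip_four_cast, ← Quaternion.coe_commutes, mul_assoc] at h5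
  rw [star_mul_self_eq]
  have h6 : ((4 : ℝ) : ℍ[ℝ]) ≠ 0 := quat_four_ne_zero
  have h7 : ((4 : ℝ) : ℍ[ℝ]) * 1 = ((4 : ℝ) : ℍ[ℝ]) * ((2⁻¹ * b) * star (2⁻¹ * b)) := by
    rw [mul_one]; exact h5
  exact (mul_left_cancel₀ h6 h7).symm

/-- **there are exactly 315 reflections** -/
theorem ncard_refl : {f : Equiv.Perm icoLeech | IsIcoReflection f}.ncard = 315 := by
  classical
  have hset : {f : Equiv.Perm icoLeech | IsIcoReflection f} =
      reflOf '' (Rep315.toFinset : Set V3) := by
    ext f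
    constructor
    · intro hf
      obtain ⟨R, hR, rfl⟩ := exists_reflOf hf
      exact ⟨R, by simpa using hR, rfl⟩
    · rintro ⟨R, hR, rfl⟩
      exact isIcoReflection_reflOf (Rep315_sub R (by simpa using hR))
  have hinj : Set.InjOn reflOf (Rep315.toFinset : Set V3) := by
    intro R hR R' hR' h
    exact reflOf_inj (by simpa using hR) (by simpa using hR') h
  rw [hset, Set.InjOn.ncard_image hinj, Set.ncard_coe_finset,
    List.toFinset_card_of_nodup Rep315_nodup, Rep315_length]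

end Cfsg.Agent.Lib.Helper27.J2
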