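import Cfsg.Agent.Lib.Helper27.J2Model

/-!
# The 315 lines of minimal vectors: representatives, certificate, separating keys
-/

set_option autoImplicit false

namespace Cfsg.Agent.Lib.Helper27.J2

/-- one minimal vector on each of the 315 lines -/
def Rep315 : List V3 := [
  ⟨⟨1, 0, 0, 0, 0, 0, 0, 0⟩, ⟨-1, 0, 0, 0, 0, 0, 0, 0⟩, ⟨0, 0, 0, 0, 0, 0, -1, 1⟩⟩,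
  ⟨⟨1, 0, 0, 0, 0, 0, 0, 0⟩, ⟨-1, 0, 0, 0, 0, 0, 0, 0⟩, ⟨0, 0, 0, 0, 0, 2, -1, -1⟩⟩,
  ⟨⟨1, 0, 0, 0, 0, 0, 0, 0⟩, ⟨-1, 0, 0, 0, 0, 0, 0, 0⟩, ⟨0, 0, 0, 0, 2, 0, -1, 1⟩⟩,
  ⟨⟨1, 0, 0, 0, 0, 0, 0, 0⟩, ⟨-1, 0, 0, 0, 0, 0, 0, 0⟩, ⟨0, 0, 0, 0, 0, 0, 1, 1⟩⟩,
  ⟨⟨1, 0, 0, 0, 0, 0, 0, 0⟩, ⟨-1, 0, 0, 0, 0, 0, 0, 0⟩, ⟨0, 0, 0, 0, 0, 0, -1, -1⟩⟩,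
  ⟨⟨1, 0, 0, 0, 0, 0, 0, 0⟩, ⟨-1, 0, 0, 0, 0, 0, 0, 0⟩, ⟨0, 0, 0, 0, -2, 0, 1, -1⟩⟩,
  ⟨⟨1, 0, 0, 0, 0, 0, 0, 0⟩, ⟨-1, 0, 0, 0, 0, 0, 0, 0⟩, ⟨0, 0, 0, 0, 0, -2, 1, 1⟩⟩,
  ⟨⟨1, 0, 0, 0, 0, 0, 0, 0⟩, ⟨-1, 0, 0, 0, 0, 0, 0, 0⟩, ⟨0, 0, 0, 0, 0, 0, 1, -1⟩⟩,
  ⟨⟨1, 0, 0, 0, 0, 0, 0, 0⟩, ⟨0, -1, 0, 0, 0, 0, 0, 0⟩, ⟨-1, 1, 0, -2, -2, 0, 1, -1⟩⟩,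
  ⟨⟨1, 0, 0, 0, 0, 0, 0, 0⟩, ⟨0, -1, 0, 0, 0, 0, 0, 0⟩, ⟨-1, -1, 0, 0, 0, -2, 1, 1⟩⟩,
  ⟨⟨1, 0, 0, 0, 0, 0, 0, 0⟩, ⟨0, -1, 0, 0, 0, 0, 0, 0⟩, ⟨-1, 1, 0, 0, -2, 0, 1, -1⟩⟩,
  ⟨⟨1, 0, 0, 0, 0, 0, 0, 0⟩, ⟨0, -1, 0, 0, 0, 0, 0, 0⟩, ⟨1, 1, -2, 0, 0, 2, -1, -1⟩⟩,
  ⟨⟨1, 0, 0, 0, 0, 0, 0, 0⟩, ⟨0, -1, 0, 0, 0, 0, 0, 0⟩, ⟨-1, -1, 2, 0, 0, -2, 1, 1⟩⟩,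
  ⟨⟨1, 0, 0, 0, 0, 0, 0, 0⟩, ⟨0, -1, 0, 0, 0, 0, 0, 0⟩, ⟨1, -1, 0, 0, 2, 0, -1, 1⟩⟩,
  ⟨⟨1, 0, 0, 0, 0, 0, 0, 0⟩, ⟨0, -1, 0, 0, 0, 0, 0, 0⟩, ⟨1, 1, 0, 0, 0, 2, -1, -1⟩⟩,
  ⟨⟨1, 0, 0, 0, 0, 0, 0, 0⟩, ⟨0, -1, 0, 0, 0, 0, 0, 0⟩, ⟨1, -1, 0, 2, 2, 0, -1, 1⟩⟩,
  ⟨⟨1, 0, 0, 0, 0, 0, 0, 0⟩, ⟨0, -1, 1, 1, 1, -1, 0, 2⟩, ⟨-1, 1, 1, -1, -1, -1, 1, 1⟩⟩,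
  ⟨⟨1, 0, 0, 0, 0, 0, 0, 0⟩, ⟨0, -1, 1, 1, 1, -1, 0, 2⟩, ⟨-1, -1, 1, 1, 1, -1, -1, 1⟩⟩,
  ⟨⟨1, 0, 0, 0, 0, 0, 0, 0⟩, ⟨0, -1, 1, 1, 1, -1, 0, 2⟩, ⟨-1, -1, 1, -1, 1, -1, 1, 1⟩⟩,
  ⟨⟨1, 0, 0, 0, 0, 0, 0, 0⟩, ⟨0, -1, 1, 1, 1, -1, 0, 2⟩, ⟨-1, 1, -1, -1, -1, -1, 1, -1⟩⟩,
  ⟨⟨1, 0, 0, 0, 0, 0, 0, 0⟩, ⟨0, -1, 1, 1, 1, -1, 0, 2⟩, ⟨1, -1, 1, 1, 1, 1, -1, 1⟩⟩,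
  ⟨⟨1, 0, 0, 0, 0, 0, 0, 0⟩, ⟨0, -1, 1, 1, 1, -1, 0, 2⟩, ⟨1, 1, -1, 1, -1, 1, -1, -1⟩⟩,
  ⟨⟨1, 0, 0, 0, 0, 0, 0, 0⟩, ⟨0, -1, 1, 1, 1, -1, 0, 2⟩, ⟨1, 1, -1, -1, -1, 1, 1, -1⟩⟩,
  ⟨⟨1, 0, 0, 0, 0, 0, 0, 0⟩, ⟨0, -1, 1, 1, 1, -1, 0, 2⟩, ⟨1, -1, -1, 1, 1, 1, -1, -1⟩⟩,
  ⟨⟨1, 0, 0, 0, 0, 0, 0, 0⟩, ⟨1, 0, -1, 1, 1, 1, -2, 0⟩, ⟨0, 2, -1, -1, -1, 1, -1, -1⟩⟩,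
  ⟨⟨1, 0, 0, 0, 0, 0, 0, 0⟩, ⟨1, 0, -1, 1, 1, 1, -2, 0⟩, ⟨-2, 0, 1, -1, -1, -1, 1, -1⟩⟩,
  ⟨⟨1, 0, 0, 0, 0, 0, 0, 0⟩, ⟨1, 0, -1, 1, 1, 1, -2, 0⟩, ⟨0, 0, -1, 1, -1, 1, -1, -1⟩⟩,
  ⟨⟨1, 0, 0, 0, 0, 0, 0, 0⟩, ⟨1, 0, -1, 1, 1, 1, -2, 0⟩, ⟨0, 0, 1, 1, 1, 1, -1, 1⟩⟩,
  ⟨⟨1, 0, 0, 0, 0, 0, 0, 0⟩, ⟨1, 0, -1, 1, 1, 1, -2, 0⟩, ⟨0, 0, -1, -1, -1, -1, 1, -1⟩⟩,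
  ⟨⟨1, 0, 0, 0, 0, 0, 0, 0⟩, ⟨1, 0, -1, 1, 1, 1, -2, 0⟩, ⟨0, 0, 1, -1, 1, -1, 1, 1⟩⟩,
  ⟨⟨1, 0, 0, 0, 0, 0, 0, 0⟩, ⟨1, 0, -1, 1, 1, 1, -2, 0⟩, ⟨2, 0, -1, 1, 1, 1, -1, 1⟩⟩,
  ⟨⟨1, 0, 0, 0, 0, 0, 0, 0⟩, ⟨1, 0, -1, 1, 1, 1, -2, 0⟩, ⟨0, -2, 1, 1, 1, -1, 1, 1⟩⟩,
  ⟨⟨1, 0, 0, 0, 0, 0, 0, 0⟩, ⟨-1, 0, 1, -1, -1, -1, 2, 0⟩, ⟨0, 2, -1, -1, -1, 1, -1, -1⟩⟩,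
  ⟨⟨1, 0, 0, 0, 0, 0, 0, 0⟩, ⟨-1, 0, 1, -1, -1, -1, 2, 0⟩, ⟨-2, 0, 1, -1, -1, -1, 1, -1⟩⟩,
  ⟨⟨1, 0, 0, 0, 0, 0, 0, 0⟩, ⟨-1, 0, 1, -1, -1, -1, 2, 0⟩, ⟨0, 0, -1, 1, -1, 1, -1, -1⟩⟩,
  ⟨⟨1, 0, 0, 0, 0, 0, 0, 0⟩, ⟨-1, 0, 1, -1, -1, -1, 2, 0⟩, ⟨0, 0, 1, 1, 1, 1, -1, 1⟩⟩,
  ⟨⟨1, 0, 0, 0, 0, 0, 0, 0⟩, ⟨-1, 0, 1, -1, -1, -1, 2, 0⟩, ⟨0, 0, -1, -1, -1, -1, 1, -1⟩⟩,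
  ⟨⟨1, 0, 0, 0, 0, 0, 0, 0⟩, ⟨-1, 0, 1, -1, -1, -1, 2, 0⟩, ⟨0, 0, 1, -1, 1, -1, 1, 1⟩⟩,
  ⟨⟨1, 0, 0, 0, 0, 0, 0, 0⟩, ⟨-1, 0, 1, -1, -1, -1, 2, 0⟩, ⟨2, 0, -1, 1, 1, 1, -1, 1⟩⟩,
  ⟨⟨1, 0, 0, 0, 0, 0, 0, 0⟩, ⟨-1, 0, 1, -1, -1, -1, 2, 0⟩, ⟨0, -2, 1, 1, 1, -1, 1, 1⟩⟩,
  ⟨⟨1, 0, 0, 0, 0, 0, 0, 0⟩, ⟨0, 1, -1, -1, -1, 1, 0, -2⟩, ⟨-1, 1, 1, -1, -1, -1, 1, 1⟩⟩,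
  ⟨⟨1, 0, 0, 0, 0, 0, 0, 0⟩, ⟨0, 1, -1, -1, -1, 1, 0, -2⟩, ⟨-1, -1, 1, 1, 1, -1, -1, 1⟩⟩,
  ⟨⟨1, 0, 0, 0, 0, 0, 0, 0⟩, ⟨0, 1, -1, -1, -1, 1, 0, -2⟩, ⟨-1, -1, 1, -1, 1, -1, 1, 1⟩⟩,
  ⟨⟨1, 0, 0, 0, 0, 0, 0, 0⟩, ⟨0, 1, -1, -1, -1, 1, 0, -2⟩, ⟨-1, 1, -1, -1, -1, -1, 1, -1⟩⟩,
  ⟨⟨1, 0, 0, 0, 0, 0, 0, 0⟩, ⟨0, 1, -1, -1, -1, 1, 0, -2⟩, ⟨1, -1, 1, 1, 1, 1, -1, 1⟩⟩,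
  ⟨⟨1, 0, 0, 0, 0, 0, 0, 0⟩, ⟨0, 1, -1, -1, -1, 1, 0, -2⟩, ⟨1, 1, -1, 1, -1, 1, -1, -1⟩⟩,
  ⟨⟨1, 0, 0, 0, 0, 0, 0, 0⟩, ⟨0, 1, -1, -1, -1, 1, 0, -2⟩, ⟨1, 1, -1, -1, -1, 1, 1, -1⟩⟩,
  ⟨⟨1, 0, 0, 0, 0, 0, 0, 0⟩, ⟨0, 1, -1, -1, -1, 1, 0, -2⟩, ⟨1, -1, -1, 1, 1, 1, -1, -1⟩⟩,
  ⟨⟨1, 0, 0, 0, 0, 0, 0, 0⟩, ⟨0, 1, 0, 0, 0, 0, 0, 0⟩, ⟨-1, 1, 0, -2, -2, 0, 1, -1⟩⟩,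
  ⟨⟨1, 0, 0, 0, 0, 0, 0, 0⟩, ⟨0, 1, 0, 0, 0, 0, 0, 0⟩, ⟨-1, -1, 0, 0, 0, -2, 1, 1⟩⟩,
  ⟨⟨1, 0, 0, 0, 0, 0, 0, 0⟩, ⟨0, 1, 0, 0, 0, 0, 0, 0⟩, ⟨-1, 1, 0, 0, -2, 0, 1, -1⟩⟩,
  ⟨⟨1, 0, 0, 0, 0, 0, 0, 0⟩, ⟨0, 1, 0, 0, 0, 0, 0, 0⟩, ⟨1, 1, -2, 0, 0, 2, -1, -1⟩⟩,
  ⟨⟨1, 0, 0, 0, 0, 0, 0, 0⟩, ⟨0, 1, 0, 0, 0, 0, 0, 0⟩, ⟨-1, -1, 2, 0, 0, -2, 1, 1⟩⟩,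
  ⟨⟨1, 0, 0, 0, 0, 0, 0, 0⟩, ⟨0, 1, 0, 0, 0, 0, 0, 0⟩, ⟨1, -1, 0, 0, 2, 0, -1, 1⟩⟩,
  ⟨⟨1, 0, 0, 0, 0, 0, 0, 0⟩, ⟨0, 1, 0, 0, 0, 0, 0, 0⟩, ⟨1, 1, 0, 0, 0, 2, -1, -1⟩⟩,
  ⟨⟨1, 0, 0, 0, 0, 0, 0, 0⟩, ⟨0, 1, 0, 0, 0, 0, 0, 0⟩, ⟨1, -1, 0, 2, 2, 0, -1, 1⟩⟩,
  ⟨⟨1, 0, 0, 0, 0, 0, 0, 0⟩, ⟨1, 0, 0, 0, 0, 0, 0, 0⟩, ⟨0, 0, 0, 0, 0, 0, -1, 1⟩⟩,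
  ⟨⟨1, 0, 0, 0, 0, 0, 0, 0⟩, ⟨1, 0, 0, 0, 0, 0, 0, 0⟩, ⟨0, 0, 0, 0, 0, 2, -1, -1⟩⟩,
  ⟨⟨1, 0, 0, 0, 0, 0, 0, 0⟩, ⟨1, 0, 0, 0, 0, 0, 0, 0⟩, ⟨0, 0, 0, 0, 2, 0, -1, 1⟩⟩,
  ⟨⟨1, 0, 0, 0, 0, 0, 0, 0⟩, ⟨1, 0, 0, 0, 0, 0, 0, 0⟩, ⟨0, 0, 0, 0, 0, 0, 1, 1⟩⟩,
  ⟨⟨1, 0, 0, 0, 0, 0, 0, 0⟩, ⟨1, 0, 0, 0, 0, 0, 0, 0⟩, ⟨0, 0, 0, 0, 0, 0, -1, -1⟩⟩,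
  ⟨⟨1, 0, 0, 0, 0, 0, 0, 0⟩, ⟨1, 0, 0, 0, 0, 0, 0, 0⟩, ⟨0, 0, 0, 0, -2, 0, 1, -1⟩⟩,
  ⟨⟨1, 0, 0, 0, 0, 0, 0, 0⟩, ⟨1, 0, 0, 0, 0, 0, 0, 0⟩, ⟨0, 0, 0, 0, 0, -2, 1, 1⟩⟩,
  ⟨⟨1, 0, 0, 0, 0, 0, 0, 0⟩, ⟨1, 0, 0, 0, 0, 0, 0, 0⟩, ⟨0, 0, 0, 0, 0, 0, 1, -1⟩⟩,
  ⟨⟨1, 0, 0, 0, 0, 0, 0, 0⟩, ⟨-1, 0, 1, 0, -1, 0, 0, 0⟩, ⟨0, 0, 1, 0, 1, 0, -1, 1⟩⟩,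
  ⟨⟨1, 0, 0, 0, 0, 0, 0, 0⟩, ⟨-1, 0, 1, 0, -1, 0, 0, 0⟩, ⟨0, 0, -1, 0, -1, 0, 1, -1⟩⟩,
  ⟨⟨1, 0, 0, 0, 0, 0, 0, 0⟩, ⟨-1, 0, 0, -1, 0, -1, 0, 0⟩, ⟨0, 0, 0, -1, 0, -1, 1, 1⟩⟩,
  ⟨⟨1, 0, 0, 0, 0, 0, 0, 0⟩, ⟨-1, 0, 0, -1, 0, -1, 0, 0⟩, ⟨0, 0, 0, 1, 0, 1, -1, -1⟩⟩,
  ⟨⟨1, 0, 0, 0, 0, 0, 0, 0⟩, ⟨0, 1, -1, 0, -1, 0, 0, 0⟩, ⟨1, 1, -1, 0, -1, 2, -1, -1⟩⟩,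
  ⟨⟨1, 0, 0, 0, 0, 0, 0, 0⟩, ⟨0, 1, -1, 0, -1, 0, 0, 0⟩, ⟨-1, -1, 1, 0, 1, -2, 1, 1⟩⟩,
  ⟨⟨1, 0, 0, 0, 0, 0, 0, 0⟩, ⟨0, 1, 0, -1, 0, 1, 0, 0⟩, ⟨-1, 1, 0, -1, -2, -1, 1, -1⟩⟩,
  ⟨⟨1, 0, 0, 0, 0, 0, 0, 0⟩, ⟨0, 1, 0, -1, 0, 1, 0, 0⟩, ⟨1, -1, 0, 1, 2, 1, -1, 1⟩⟩,
  ⟨⟨1, 0, 0, 0, 0, 0, 0, 0⟩, ⟨-1, 1, 0, -1, -2, -1, 1, -1⟩, ⟨0, 1, 0, -1, 0, 1, 0, 0⟩⟩,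
  ⟨⟨1, 0, 0, 0, 0, 0, 0, 0⟩, ⟨-1, 1, 0, -1, -2, -1, 1, -1⟩, ⟨0, -1, 0, 1, 0, -1, 0, 0⟩⟩,
  ⟨⟨1, 0, 0, 0, 0, 0, 0, 0⟩, ⟨0, 0, 1, 0, 1, 0, -1, 1⟩, ⟨-1, 0, 1, 0, -1, 0, 0, 0⟩⟩,
  ⟨⟨1, 0, 0, 0, 0, 0, 0, 0⟩, ⟨0, 0, 1, 0, 1, 0, -1, 1⟩, ⟨1, 0, -1, 0, 1, 0, 0, 0⟩⟩,
  ⟨⟨1, 0, 0, 0, 0, 0, 0, 0⟩, ⟨1, 1, -1, 0, -1, 2, -1, -1⟩, ⟨0, 1, -1, 0, -1, 0, 0, 0⟩⟩,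
  ⟨⟨1, 0, 0, 0, 0, 0, 0, 0⟩, ⟨1, 1, -1, 0, -1, 2, -1, -1⟩, ⟨0, -1, 1, 0, 1, 0, 0, 0⟩⟩,
  ⟨⟨1, 0, 0, 0, 0, 0, 0, 0⟩, ⟨0, 0, 0, -1, 0, -1, 1, 1⟩, ⟨-1, 0, 0, -1, 0, -1, 0, 0⟩⟩,
  ⟨⟨1, 0, 0, 0, 0, 0, 0, 0⟩, ⟨0, 0, 0, -1, 0, -1, 1, 1⟩, ⟨1, 0, 0, 1, 0, 1, 0, 0⟩⟩,
  ⟨⟨1, 0, 0, 0, 0, 0, 0, 0⟩, ⟨0, 0, 0, 1, 0, 1, -1, -1⟩, ⟨-1, 0, 0, -1, 0, -1, 0, 0⟩⟩,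
  ⟨⟨1, 0, 0, 0, 0, 0, 0, 0⟩, ⟨0, 0, 0, 1, 0, 1, -1, -1⟩, ⟨1, 0, 0, 1, 0, 1, 0, 0⟩⟩,
  ⟨⟨1, 0, 0, 0, 0, 0, 0, 0⟩, ⟨-1, -1, 1, 0, 1, -2, 1, 1⟩, ⟨0, 1, -1, 0, -1, 0, 0, 0⟩⟩,
  ⟨⟨1, 0, 0, 0, 0, 0, 0, 0⟩, ⟨-1, -1, 1, 0, 1, -2, 1, 1⟩, ⟨0, -1, 1, 0, 1, 0, 0, 0⟩⟩,
  ⟨⟨1, 0, 0, 0, 0, 0, 0, 0⟩, ⟨0, 0, -1, 0, -1, 0, 1, -1⟩, ⟨-1, 0, 1, 0, -1, 0, 0, 0⟩⟩,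
  ⟨⟨1, 0, 0, 0, 0, 0, 0, 0⟩, ⟨0, 0, -1, 0, -1, 0, 1, -1⟩, ⟨1, 0, -1, 0, 1, 0, 0, 0⟩⟩,
  ⟨⟨1, 0, 0, 0, 0, 0, 0, 0⟩, ⟨1, -1, 0, 1, 2, 1, -1, 1⟩, ⟨0, 1, 0, -1, 0, 1, 0, 0⟩⟩,
  ⟨⟨1, 0, 0, 0, 0, 0, 0, 0⟩, ⟨1, -1, 0, 1, 2, 1, -1, 1⟩, ⟨0, -1, 0, 1, 0, -1, 0, 0⟩⟩,
  ⟨⟨1, 0, 0, 0, 0, 0, 0, 0⟩, ⟨0, -1, 0, 1, 0, -1, 0, 0⟩, ⟨-1, 1, 0, -1, -2, -1, 1, -1⟩⟩,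
  ⟨⟨1, 0, 0, 0, 0, 0, 0, 0⟩, ⟨0, -1, 0, 1, 0, -1, 0, 0⟩, ⟨1, -1, 0, 1, 2, 1, -1, 1⟩⟩,
  ⟨⟨1, 0, 0, 0, 0, 0, 0, 0⟩, ⟨0, -1, 1, 0, 1, 0, 0, 0⟩, ⟨1, 1, -1, 0, -1, 2, -1, -1⟩⟩,
  ⟨⟨1, 0, 0, 0, 0, 0, 0, 0⟩, ⟨0, -1, 1, 0, 1, 0, 0, 0⟩, ⟨-1, -1, 1, 0, 1, -2, 1, 1⟩⟩,
  ⟨⟨1, 0, 0, 0, 0, 0, 0, 0⟩, ⟨1, 0, 0, 1, 0, 1, 0, 0⟩, ⟨0, 0, 0, -1, 0, -1, 1, 1⟩⟩,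
  ⟨⟨1, 0, 0, 0, 0, 0, 0, 0⟩, ⟨1, 0, 0, 1, 0, 1, 0, 0⟩, ⟨0, 0, 0, 1, 0, 1, -1, -1⟩⟩,
  ⟨⟨1, 0, 0, 0, 0, 0, 0, 0⟩, ⟨1, 0, -1, 0, 1, 0, 0, 0⟩, ⟨0, 0, 1, 0, 1, 0, -1, 1⟩⟩,
  ⟨⟨1, 0, 0, 0, 0, 0, 0, 0⟩, ⟨1, 0, -1, 0, 1, 0, 0, 0⟩, ⟨0, 0, -1, 0, -1, 0, 1, -1⟩⟩,
  ⟨⟨1, 0, 0, 0, 0, 0, 0, 0⟩, ⟨0, 0, 0, 0, 0, 0, -1, 1⟩, ⟨-1, 0, 0, 0, 0, 0, 0, 0⟩⟩,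
  ⟨⟨1, 0, 0, 0, 0, 0, 0, 0⟩, ⟨0, 0, 0, 0, 0, 0, -1, 1⟩, ⟨1, 0, 0, 0, 0, 0, 0, 0⟩⟩,
  ⟨⟨1, 0, 0, 0, 0, 0, 0, 0⟩, ⟨-1, 1, 0, -2, -2, 0, 1, -1⟩, ⟨0, -1, 0, 0, 0, 0, 0, 0⟩⟩,
  ⟨⟨1, 0, 0, 0, 0, 0, 0, 0⟩, ⟨-1, 1, 0, -2, -2, 0, 1, -1⟩, ⟨0, 1, 0, 0, 0, 0, 0, 0⟩⟩,
  ⟨⟨1, 0, 0, 0, 0, 0, 0, 0⟩, ⟨-1, 1, 1, -1, -1, -1, 1, 1⟩, ⟨0, -1, 1, 1, 1, -1, 0, 2⟩⟩,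
  ⟨⟨1, 0, 0, 0, 0, 0, 0, 0⟩, ⟨-1, 1, 1, -1, -1, -1, 1, 1⟩, ⟨0, 1, -1, -1, -1, 1, 0, -2⟩⟩,
  ⟨⟨1, 0, 0, 0, 0, 0, 0, 0⟩, ⟨0, 2, -1, -1, -1, 1, -1, -1⟩, ⟨1, 0, -1, 1, 1, 1, -2, 0⟩⟩,
  ⟨⟨1, 0, 0, 0, 0, 0, 0, 0⟩, ⟨0, 2, -1, -1, -1, 1, -1, -1⟩, ⟨-1, 0, 1, -1, -1, -1, 2, 0⟩⟩,
  ⟨⟨1, 0, 0, 0, 0, 0, 0, 0⟩, ⟨-1, -1, 1, 1, 1, -1, -1, 1⟩, ⟨0, -1, 1, 1, 1, -1, 0, 2⟩⟩,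
  ⟨⟨1, 0, 0, 0, 0, 0, 0, 0⟩, ⟨-1, -1, 1, 1, 1, -1, -1, 1⟩, ⟨0, 1, -1, -1, -1, 1, 0, -2⟩⟩,
  ⟨⟨1, 0, 0, 0, 0, 0, 0, 0⟩, ⟨-2, 0, 1, -1, -1, -1, 1, -1⟩, ⟨1, 0, -1, 1, 1, 1, -2, 0⟩⟩,
  ⟨⟨1, 0, 0, 0, 0, 0, 0, 0⟩, ⟨-2, 0, 1, -1, -1, -1, 1, -1⟩, ⟨-1, 0, 1, -1, -1, -1, 2, 0⟩⟩,
  ⟨⟨1, 0, 0, 0, 0, 0, 0, 0⟩, ⟨0, 0, -1, 1, -1, 1, -1, -1⟩, ⟨1, 0, -1, 1, 1, 1, -2, 0⟩⟩,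
  ⟨⟨1, 0, 0, 0, 0, 0, 0, 0⟩, ⟨0, 0, -1, 1, -1, 1, -1, -1⟩, ⟨-1, 0, 1, -1, -1, -1, 2, 0⟩⟩,
  ⟨⟨1, 0, 0, 0, 0, 0, 0, 0⟩, ⟨-1, -1, 0, 0, 0, -2, 1, 1⟩, ⟨0, -1, 0, 0, 0, 0, 0, 0⟩⟩,
  ⟨⟨1, 0, 0, 0, 0, 0, 0, 0⟩, ⟨-1, -1, 0, 0, 0, -2, 1, 1⟩, ⟨0, 1, 0, 0, 0, 0, 0, 0⟩⟩,
  ⟨⟨1, 0, 0, 0, 0, 0, 0, 0⟩, ⟨0, 0, 0, 0, 0, 2, -1, -1⟩, ⟨-1, 0, 0, 0, 0, 0, 0, 0⟩⟩,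
  ⟨⟨1, 0, 0, 0, 0, 0, 0, 0⟩, ⟨0, 0, 0, 0, 0, 2, -1, -1⟩, ⟨1, 0, 0, 0, 0, 0, 0, 0⟩⟩,
  ⟨⟨1, 0, 0, 0, 0, 0, 0, 0⟩, ⟨-1, -1, 1, -1, 1, -1, 1, 1⟩, ⟨0, -1, 1, 1, 1, -1, 0, 2⟩⟩,
  ⟨⟨1, 0, 0, 0, 0, 0, 0, 0⟩, ⟨-1, -1, 1, -1, 1, -1, 1, 1⟩, ⟨0, 1, -1, -1, -1, 1, 0, -2⟩⟩,
  ⟨⟨1, 0, 0, 0, 0, 0, 0, 0⟩, ⟨-1, 1, 0, 0, -2, 0, 1, -1⟩, ⟨0, -1, 0, 0, 0, 0, 0, 0⟩⟩,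
  ⟨⟨1, 0, 0, 0, 0, 0, 0, 0⟩, ⟨-1, 1, 0, 0, -2, 0, 1, -1⟩, ⟨0, 1, 0, 0, 0, 0, 0, 0⟩⟩,
  ⟨⟨1, 0, 0, 0, 0, 0, 0, 0⟩, ⟨0, 0, 1, 1, 1, 1, -1, 1⟩, ⟨1, 0, -1, 1, 1, 1, -2, 0⟩⟩,
  ⟨⟨1, 0, 0, 0, 0, 0, 0, 0⟩, ⟨0, 0, 1, 1, 1, 1, -1, 1⟩, ⟨-1, 0, 1, -1, -1, -1, 2, 0⟩⟩,
  ⟨⟨1, 0, 0, 0, 0, 0, 0, 0⟩, ⟨-1, 1, -1, -1, -1, -1, 1, -1⟩, ⟨0, -1, 1, 1, 1, -1, 0, 2⟩⟩,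
  ⟨⟨1, 0, 0, 0, 0, 0, 0, 0⟩, ⟨-1, 1, -1, -1, -1, -1, 1, -1⟩, ⟨0, 1, -1, -1, -1, 1, 0, -2⟩⟩,
  ⟨⟨1, 0, 0, 0, 0, 0, 0, 0⟩, ⟨0, 0, 0, 0, 2, 0, -1, 1⟩, ⟨-1, 0, 0, 0, 0, 0, 0, 0⟩⟩,
  ⟨⟨1, 0, 0, 0, 0, 0, 0, 0⟩, ⟨0, 0, 0, 0, 2, 0, -1, 1⟩, ⟨1, 0, 0, 0, 0, 0, 0, 0⟩⟩,
  ⟨⟨1, 0, 0, 0, 0, 0, 0, 0⟩, ⟨0, 0, 0, 0, 0, 0, 1, 1⟩, ⟨-1, 0, 0, 0, 0, 0, 0, 0⟩⟩,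
  ⟨⟨1, 0, 0, 0, 0, 0, 0, 0⟩, ⟨0, 0, 0, 0, 0, 0, 1, 1⟩, ⟨1, 0, 0, 0, 0, 0, 0, 0⟩⟩,
  ⟨⟨1, 0, 0, 0, 0, 0, 0, 0⟩, ⟨1, 1, -2, 0, 0, 2, -1, -1⟩, ⟨0, -1, 0, 0, 0, 0, 0, 0⟩⟩,
  ⟨⟨1, 0, 0, 0, 0, 0, 0, 0⟩, ⟨1, 1, -2, 0, 0, 2, -1, -1⟩, ⟨0, 1, 0, 0, 0, 0, 0, 0⟩⟩,
  ⟨⟨1, 0, 0, 0, 0, 0, 0, 0⟩, ⟨-1, -1, 2, 0, 0, -2, 1, 1⟩, ⟨0, -1, 0, 0, 0, 0, 0, 0⟩⟩,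
  ⟨⟨1, 0, 0, 0, 0, 0, 0, 0⟩, ⟨-1, -1, 2, 0, 0, -2, 1, 1⟩, ⟨0, 1, 0, 0, 0, 0, 0, 0⟩⟩,
  ⟨⟨1, 0, 0, 0, 0, 0, 0, 0⟩, ⟨0, 0, 0, 0, 0, 0, -1, -1⟩, ⟨-1, 0, 0, 0, 0, 0, 0, 0⟩⟩,
  ⟨⟨1, 0, 0, 0, 0, 0, 0, 0⟩, ⟨0, 0, 0, 0, 0, 0, -1, -1⟩, ⟨1, 0, 0, 0, 0, 0, 0, 0⟩⟩,
  ⟨⟨1, 0, 0, 0, 0, 0, 0, 0⟩, ⟨0, 0, 0, 0, -2, 0, 1, -1⟩, ⟨-1, 0, 0, 0, 0, 0, 0, 0⟩⟩,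
  ⟨⟨1, 0, 0, 0, 0, 0, 0, 0⟩, ⟨0, 0, 0, 0, -2, 0, 1, -1⟩, ⟨1, 0, 0, 0, 0, 0, 0, 0⟩⟩,
  ⟨⟨1, 0, 0, 0, 0, 0, 0, 0⟩, ⟨1, -1, 1, 1, 1, 1, -1, 1⟩, ⟨0, -1, 1, 1, 1, -1, 0, 2⟩⟩,
  ⟨⟨1, 0, 0, 0, 0, 0, 0, 0⟩, ⟨1, -1, 1, 1, 1, 1, -1, 1⟩, ⟨0, 1, -1, -1, -1, 1, 0, -2⟩⟩,
  ⟨⟨1, 0, 0, 0, 0, 0, 0, 0⟩, ⟨0, 0, -1, -1, -1, -1, 1, -1⟩, ⟨1, 0, -1, 1, 1, 1, -2, 0⟩⟩,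
  ⟨⟨1, 0, 0, 0, 0, 0, 0, 0⟩, ⟨0, 0, -1, -1, -1, -1, 1, -1⟩, ⟨-1, 0, 1, -1, -1, -1, 2, 0⟩⟩,
  ⟨⟨1, 0, 0, 0, 0, 0, 0, 0⟩, ⟨1, -1, 0, 0, 2, 0, -1, 1⟩, ⟨0, -1, 0, 0, 0, 0, 0, 0⟩⟩,
  ⟨⟨1, 0, 0, 0, 0, 0, 0, 0⟩, ⟨1, -1, 0, 0, 2, 0, -1, 1⟩, ⟨0, 1, 0, 0, 0, 0, 0, 0⟩⟩,
  ⟨⟨1, 0, 0, 0, 0, 0, 0, 0⟩, ⟨1, 1, -1, 1, -1, 1, -1, -1⟩, ⟨0, -1, 1, 1, 1, -1, 0, 2⟩⟩,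
  ⟨⟨1, 0, 0, 0, 0, 0, 0, 0⟩, ⟨1, 1, -1, 1, -1, 1, -1, -1⟩, ⟨0, 1, -1, -1, -1, 1, 0, -2⟩⟩,
  ⟨⟨1, 0, 0, 0, 0, 0, 0, 0⟩, ⟨0, 0, 0, 0, 0, -2, 1, 1⟩, ⟨-1, 0, 0, 0, 0, 0, 0, 0⟩⟩,
  ⟨⟨1, 0, 0, 0, 0, 0, 0, 0⟩, ⟨0, 0, 0, 0, 0, -2, 1, 1⟩, ⟨1, 0, 0, 0, 0, 0, 0, 0⟩⟩,
  ⟨⟨1, 0, 0, 0, 0, 0, 0, 0⟩, ⟨1, 1, 0, 0, 0, 2, -1, -1⟩, ⟨0, -1, 0, 0, 0, 0, 0, 0⟩⟩,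
  ⟨⟨1, 0, 0, 0, 0, 0, 0, 0⟩, ⟨1, 1, 0, 0, 0, 2, -1, -1⟩, ⟨0, 1, 0, 0, 0, 0, 0, 0⟩⟩,
  ⟨⟨1, 0, 0, 0, 0, 0, 0, 0⟩, ⟨0, 0, 1, -1, 1, -1, 1, 1⟩, ⟨1, 0, -1, 1, 1, 1, -2, 0⟩⟩,
  ⟨⟨1, 0, 0, 0, 0, 0, 0, 0⟩, ⟨0, 0, 1, -1, 1, -1, 1, 1⟩, ⟨-1, 0, 1, -1, -1, -1, 2, 0⟩⟩,
  ⟨⟨1, 0, 0, 0, 0, 0, 0, 0⟩, ⟨2, 0, -1, 1, 1, 1, -1, 1⟩, ⟨1, 0, -1, 1, 1, 1, -2, 0⟩⟩,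
  ⟨⟨1, 0, 0, 0, 0, 0, 0, 0⟩, ⟨2, 0, -1, 1, 1, 1, -1, 1⟩, ⟨-1, 0, 1, -1, -1, -1, 2, 0⟩⟩,
  ⟨⟨1, 0, 0, 0, 0, 0, 0, 0⟩, ⟨1, 1, -1, -1, -1, 1, 1, -1⟩, ⟨0, -1, 1, 1, 1, -1, 0, 2⟩⟩,
  ⟨⟨1, 0, 0, 0, 0, 0, 0, 0⟩, ⟨1, 1, -1, -1, -1, 1, 1, -1⟩, ⟨0, 1, -1, -1, -1, 1, 0, -2⟩⟩,
  ⟨⟨1, 0, 0, 0, 0, 0, 0, 0⟩, ⟨0, -2, 1, 1, 1, -1, 1, 1⟩, ⟨1, 0, -1, 1, 1, 1, -2, 0⟩⟩,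
  ⟨⟨1, 0, 0, 0, 0, 0, 0, 0⟩, ⟨0, -2, 1, 1, 1, -1, 1, 1⟩, ⟨-1, 0, 1, -1, -1, -1, 2, 0⟩⟩,
  ⟨⟨1, 0, 0, 0, 0, 0, 0, 0⟩, ⟨1, -1, -1, 1, 1, 1, -1, -1⟩, ⟨0, -1, 1, 1, 1, -1, 0, 2⟩⟩,
  ⟨⟨1, 0, 0, 0, 0, 0, 0, 0⟩, ⟨1, -1, -1, 1, 1, 1, -1, -1⟩, ⟨0, 1, -1, -1, -1, 1, 0, -2⟩⟩,
  ⟨⟨1, 0, 0, 0, 0, 0, 0, 0⟩, ⟨1, -1, 0, 2, 2, 0, -1, 1⟩, ⟨0, -1, 0, 0, 0, 0, 0, 0⟩⟩,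
  ⟨⟨1, 0, 0, 0, 0, 0, 0, 0⟩, ⟨1, -1, 0, 2, 2, 0, -1, 1⟩, ⟨0, 1, 0, 0, 0, 0, 0, 0⟩⟩,
  ⟨⟨1, 0, 0, 0, 0, 0, 0, 0⟩, ⟨0, 0, 0, 0, 0, 0, 1, -1⟩, ⟨-1, 0, 0, 0, 0, 0, 0, 0⟩⟩,
  ⟨⟨1, 0, 0, 0, 0, 0, 0, 0⟩, ⟨0, 0, 0, 0, 0, 0, 1, -1⟩, ⟨1, 0, 0, 0, 0, 0, 0, 0⟩⟩,
  ⟨⟨2, 0, 0, 0, 0, 0, 0, 0⟩, ⟨0, 0, 0, 0, 0, 0, 0, 0⟩, ⟨0, 0, 0, 0, 0, 0, 0, 0⟩⟩,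
  ⟨⟨-1, 2, 0, -2, -2, 0, 1, -1⟩, ⟨1, -2, 0, 2, 2, 0, -1, 1⟩, ⟨0, 0, 0, 0, 0, 0, 0, 0⟩⟩,
  ⟨⟨-1, 2, 0, -2, -2, 0, 1, -1⟩, ⟨1, 0, 0, 0, 0, 0, 1, 1⟩, ⟨0, 0, 0, 0, 0, 0, 0, 0⟩⟩,
  ⟨⟨-1, 2, 0, -2, -2, 0, 1, -1⟩, ⟨1, 0, 0, 0, 2, 0, -1, 1⟩, ⟨0, 0, 0, 0, 0, 0, 0, 0⟩⟩,
  ⟨⟨-1, 2, 0, -2, -2, 0, 1, -1⟩, ⟨1, 0, 0, 0, 0, 2, -1, -1⟩, ⟨0, 0, 0, 0, 0, 0, 0, 0⟩⟩,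
  ⟨⟨-1, 2, 0, -2, -2, 0, 1, -1⟩, ⟨-1, 0, 0, 0, 0, -2, 1, 1⟩, ⟨0, 0, 0, 0, 0, 0, 0, 0⟩⟩,
  ⟨⟨-1, 2, 0, -2, -2, 0, 1, -1⟩, ⟨-1, 0, 0, 0, -2, 0, 1, -1⟩, ⟨0, 0, 0, 0, 0, 0, 0, 0⟩⟩,
  ⟨⟨-1, 2, 0, -2, -2, 0, 1, -1⟩, ⟨-1, 0, 0, 0, 0, 0, -1, -1⟩, ⟨0, 0, 0, 0, 0, 0, 0, 0⟩⟩,
  ⟨⟨-1, 2, 0, -2, -2, 0, 1, -1⟩, ⟨-1, 2, 0, -2, -2, 0, 1, -1⟩, ⟨0, 0, 0, 0, 0, 0, 0, 0⟩⟩,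
  ⟨⟨-1, 0, 1, 0, -1, 0, 0, 0⟩, ⟨0, 0, 1, 0, 1, 0, -1, 1⟩, ⟨1, 0, 0, 0, 0, 0, 0, 0⟩⟩,
  ⟨⟨-1, 0, 1, 0, -1, 0, 0, 0⟩, ⟨0, 0, -1, 0, -1, 0, 1, -1⟩, ⟨1, 0, 0, 0, 0, 0, 0, 0⟩⟩,
  ⟨⟨-1, 0, 0, -1, 0, -1, 0, 0⟩, ⟨0, 0, 0, -1, 0, -1, 1, 1⟩, ⟨1, 0, 0, 0, 0, 0, 0, 0⟩⟩,
  ⟨⟨-1, 0, 0, -1, 0, -1, 0, 0⟩, ⟨0, 0, 0, 1, 0, 1, -1, -1⟩, ⟨1, 0, 0, 0, 0, 0, 0, 0⟩⟩,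
  ⟨⟨0, 1, -1, 0, -1, 0, 0, 0⟩, ⟨1, 1, -1, 0, -1, 2, -1, -1⟩, ⟨1, 0, 0, 0, 0, 0, 0, 0⟩⟩,
  ⟨⟨0, 1, -1, 0, -1, 0, 0, 0⟩, ⟨-1, -1, 1, 0, 1, -2, 1, 1⟩, ⟨1, 0, 0, 0, 0, 0, 0, 0⟩⟩,
  ⟨⟨0, 1, 0, -1, 0, 1, 0, 0⟩, ⟨-1, 1, 0, -1, -2, -1, 1, -1⟩, ⟨1, 0, 0, 0, 0, 0, 0, 0⟩⟩,
  ⟨⟨0, 1, 0, -1, 0, 1, 0, 0⟩, ⟨1, -1, 0, 1, 2, 1, -1, 1⟩, ⟨1, 0, 0, 0, 0, 0, 0, 0⟩⟩,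
  ⟨⟨-1, 1, 0, -1, -2, -1, 1, -1⟩, ⟨0, 1, 0, -1, 0, 1, 0, 0⟩, ⟨1, 0, 0, 0, 0, 0, 0, 0⟩⟩,
  ⟨⟨-1, 1, 0, -1, -2, -1, 1, -1⟩, ⟨0, -1, 0, 1, 0, -1, 0, 0⟩, ⟨1, 0, 0, 0, 0, 0, 0, 0⟩⟩,
  ⟨⟨0, 0, 1, 0, 1, 0, -1, 1⟩, ⟨-1, 0, 1, 0, -1, 0, 0, 0⟩, ⟨1, 0, 0, 0, 0, 0, 0, 0⟩⟩,
  ⟨⟨0, 0, 1, 0, 1, 0, -1, 1⟩, ⟨1, 0, -1, 0, 1, 0, 0, 0⟩, ⟨1, 0, 0, 0, 0, 0, 0, 0⟩⟩,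
  ⟨⟨1, 1, -1, 0, -1, 2, -1, -1⟩, ⟨0, 1, -1, 0, -1, 0, 0, 0⟩, ⟨1, 0, 0, 0, 0, 0, 0, 0⟩⟩,
  ⟨⟨1, 1, -1, 0, -1, 2, -1, -1⟩, ⟨0, -1, 1, 0, 1, 0, 0, 0⟩, ⟨1, 0, 0, 0, 0, 0, 0, 0⟩⟩,
  ⟨⟨0, 0, 0, -1, 0, -1, 1, 1⟩, ⟨-1, 0, 0, -1, 0, -1, 0, 0⟩, ⟨1, 0, 0, 0, 0, 0, 0, 0⟩⟩,
  ⟨⟨0, 0, 0, -1, 0, -1, 1, 1⟩, ⟨1, 0, 0, 1, 0, 1, 0, 0⟩, ⟨1, 0, 0, 0, 0, 0, 0, 0⟩⟩,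
  ⟨⟨0, 0, 0, 1, 0, 1, -1, -1⟩, ⟨-1, 0, 0, -1, 0, -1, 0, 0⟩, ⟨1, 0, 0, 0, 0, 0, 0, 0⟩⟩,
  ⟨⟨0, 0, 0, 1, 0, 1, -1, -1⟩, ⟨1, 0, 0, 1, 0, 1, 0, 0⟩, ⟨1, 0, 0, 0, 0, 0, 0, 0⟩⟩,
  ⟨⟨-1, -1, 1, 0, 1, -2, 1, 1⟩, ⟨0, 1, -1, 0, -1, 0, 0, 0⟩, ⟨1, 0, 0, 0, 0, 0, 0, 0⟩⟩,
  ⟨⟨-1, -1, 1, 0, 1, -2, 1, 1⟩, ⟨0, -1, 1, 0, 1, 0, 0, 0⟩, ⟨1, 0, 0, 0, 0, 0, 0, 0⟩⟩,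
  ⟨⟨0, 0, -1, 0, -1, 0, 1, -1⟩, ⟨-1, 0, 1, 0, -1, 0, 0, 0⟩, ⟨1, 0, 0, 0, 0, 0, 0, 0⟩⟩,
  ⟨⟨0, 0, -1, 0, -1, 0, 1, -1⟩, ⟨1, 0, -1, 0, 1, 0, 0, 0⟩, ⟨1, 0, 0, 0, 0, 0, 0, 0⟩⟩,
  ⟨⟨1, -1, 0, 1, 2, 1, -1, 1⟩, ⟨0, 1, 0, -1, 0, 1, 0, 0⟩, ⟨1, 0, 0, 0, 0, 0, 0, 0⟩⟩,
  ⟨⟨1, -1, 0, 1, 2, 1, -1, 1⟩, ⟨0, -1, 0, 1, 0, -1, 0, 0⟩, ⟨1, 0, 0, 0, 0, 0, 0, 0⟩⟩,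
  ⟨⟨0, -1, 0, 1, 0, -1, 0, 0⟩, ⟨-1, 1, 0, -1, -2, -1, 1, -1⟩, ⟨1, 0, 0, 0, 0, 0, 0, 0⟩⟩,
  ⟨⟨0, -1, 0, 1, 0, -1, 0, 0⟩, ⟨1, -1, 0, 1, 2, 1, -1, 1⟩, ⟨1, 0, 0, 0, 0, 0, 0, 0⟩⟩,
  ⟨⟨0, -1, 1, 0, 1, 0, 0, 0⟩, ⟨1, 1, -1, 0, -1, 2, -1, -1⟩, ⟨1, 0, 0, 0, 0, 0, 0, 0⟩⟩,
  ⟨⟨0, -1, 1, 0, 1, 0, 0, 0⟩, ⟨-1, -1, 1, 0, 1, -2, 1, 1⟩, ⟨1, 0, 0, 0, 0, 0, 0, 0⟩⟩,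
  ⟨⟨1, 0, 0, 1, 0, 1, 0, 0⟩, ⟨0, 0, 0, -1, 0, -1, 1, 1⟩, ⟨1, 0, 0, 0, 0, 0, 0, 0⟩⟩,
  ⟨⟨1, 0, 0, 1, 0, 1, 0, 0⟩, ⟨0, 0, 0, 1, 0, 1, -1, -1⟩, ⟨1, 0, 0, 0, 0, 0, 0, 0⟩⟩,
  ⟨⟨1, 0, -1, 0, 1, 0, 0, 0⟩, ⟨0, 0, 1, 0, 1, 0, -1, 1⟩, ⟨1, 0, 0, 0, 0, 0, 0, 0⟩⟩,
  ⟨⟨1, 0, -1, 0, 1, 0, 0, 0⟩, ⟨0, 0, -1, 0, -1, 0, 1, -1⟩, ⟨1, 0, 0, 0, 0, 0, 0, 0⟩⟩,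
  ⟨⟨0, 0, 0, 0, 0, 0, -1, 1⟩, ⟨-1, 0, 0, 0, 0, 0, 0, 0⟩, ⟨1, 0, 0, 0, 0, 0, 0, 0⟩⟩,
  ⟨⟨0, 0, 0, 0, 0, 0, -1, 1⟩, ⟨1, 0, 0, 0, 0, 0, 0, 0⟩, ⟨1, 0, 0, 0, 0, 0, 0, 0⟩⟩,
  ⟨⟨-1, 1, 0, -2, -2, 0, 1, -1⟩, ⟨0, -1, 0, 0, 0, 0, 0, 0⟩, ⟨1, 0, 0, 0, 0, 0, 0, 0⟩⟩,
  ⟨⟨-1, 1, 0, -2, -2, 0, 1, -1⟩, ⟨0, 1, 0, 0, 0, 0, 0, 0⟩, ⟨1, 0, 0, 0, 0, 0, 0, 0⟩⟩,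
  ⟨⟨-1, 1, 1, -1, -1, -1, 1, 1⟩, ⟨0, -1, 1, 1, 1, -1, 0, 2⟩, ⟨1, 0, 0, 0, 0, 0, 0, 0⟩⟩,
  ⟨⟨-1, 1, 1, -1, -1, -1, 1, 1⟩, ⟨0, 1, -1, -1, -1, 1, 0, -2⟩, ⟨1, 0, 0, 0, 0, 0, 0, 0⟩⟩,
  ⟨⟨0, 2, -1, -1, -1, 1, -1, -1⟩, ⟨1, 0, -1, 1, 1, 1, -2, 0⟩, ⟨1, 0, 0, 0, 0, 0, 0, 0⟩⟩,
  ⟨⟨0, 2, -1, -1, -1, 1, -1, -1⟩, ⟨-1, 0, 1, -1, -1, -1, 2, 0⟩, ⟨1, 0, 0, 0, 0, 0, 0, 0⟩⟩,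
  ⟨⟨-1, -1, 1, 1, 1, -1, -1, 1⟩, ⟨0, -1, 1, 1, 1, -1, 0, 2⟩, ⟨1, 0, 0, 0, 0, 0, 0, 0⟩⟩,
  ⟨⟨-1, -1, 1, 1, 1, -1, -1, 1⟩, ⟨0, 1, -1, -1, -1, 1, 0, -2⟩, ⟨1, 0, 0, 0, 0, 0, 0, 0⟩⟩,
  ⟨⟨-2, 0, 1, -1, -1, -1, 1, -1⟩, ⟨1, 0, -1, 1, 1, 1, -2, 0⟩, ⟨1, 0, 0, 0, 0, 0, 0, 0⟩⟩,
  ⟨⟨-2, 0, 1, -1, -1, -1, 1, -1⟩, ⟨-1, 0, 1, -1, -1, -1, 2, 0⟩, ⟨1, 0, 0, 0, 0, 0, 0, 0⟩⟩,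
  ⟨⟨0, 0, -1, 1, -1, 1, -1, -1⟩, ⟨1, 0, -1, 1, 1, 1, -2, 0⟩, ⟨1, 0, 0, 0, 0, 0, 0, 0⟩⟩,
  ⟨⟨0, 0, -1, 1, -1, 1, -1, -1⟩, ⟨-1, 0, 1, -1, -1, -1, 2, 0⟩, ⟨1, 0, 0, 0, 0, 0, 0, 0⟩⟩,
  ⟨⟨-1, -1, 0, 0, 0, -2, 1, 1⟩, ⟨0, -1, 0, 0, 0, 0, 0, 0⟩, ⟨1, 0, 0, 0, 0, 0, 0, 0⟩⟩,
  ⟨⟨-1, -1, 0, 0, 0, -2, 1, 1⟩, ⟨0, 1, 0, 0, 0, 0, 0, 0⟩, ⟨1, 0, 0, 0, 0, 0, 0, 0⟩⟩,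
  ⟨⟨0, 0, 0, 0, 0, 2, -1, -1⟩, ⟨-1, 0, 0, 0, 0, 0, 0, 0⟩, ⟨1, 0, 0, 0, 0, 0, 0, 0⟩⟩,
  ⟨⟨0, 0, 0, 0, 0, 2, -1, -1⟩, ⟨1, 0, 0, 0, 0, 0, 0, 0⟩, ⟨1, 0, 0, 0, 0, 0, 0, 0⟩⟩,
  ⟨⟨-1, -1, 1, -1, 1, -1, 1, 1⟩, ⟨0, -1, 1, 1, 1, -1, 0, 2⟩, ⟨1, 0, 0, 0, 0, 0, 0, 0⟩⟩,
  ⟨⟨-1, -1, 1, -1, 1, -1, 1, 1⟩, ⟨0, 1, -1, -1, -1, 1, 0, -2⟩, ⟨1, 0, 0, 0, 0, 0, 0, 0⟩⟩,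
  ⟨⟨-1, 1, 0, 0, -2, 0, 1, -1⟩, ⟨0, -1, 0, 0, 0, 0, 0, 0⟩, ⟨1, 0, 0, 0, 0, 0, 0, 0⟩⟩,
  ⟨⟨-1, 1, 0, 0, -2, 0, 1, -1⟩, ⟨0, 1, 0, 0, 0, 0, 0, 0⟩, ⟨1, 0, 0, 0, 0, 0, 0, 0⟩⟩,
  ⟨⟨0, 0, 1, 1, 1, 1, -1, 1⟩, ⟨1, 0, -1, 1, 1, 1, -2, 0⟩, ⟨1, 0, 0, 0, 0, 0, 0, 0⟩⟩,
  ⟨⟨0, 0, 1, 1, 1, 1, -1, 1⟩, ⟨-1, 0, 1, -1, -1, -1, 2, 0⟩, ⟨1, 0, 0, 0, 0, 0, 0, 0⟩⟩,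
  ⟨⟨-1, 1, -1, -1, -1, -1, 1, -1⟩, ⟨0, -1, 1, 1, 1, -1, 0, 2⟩, ⟨1, 0, 0, 0, 0, 0, 0, 0⟩⟩,
  ⟨⟨-1, 1, -1, -1, -1, -1, 1, -1⟩, ⟨0, 1, -1, -1, -1, 1, 0, -2⟩, ⟨1, 0, 0, 0, 0, 0, 0, 0⟩⟩,
  ⟨⟨0, 0, 0, 0, 2, 0, -1, 1⟩, ⟨-1, 0, 0, 0, 0, 0, 0, 0⟩, ⟨1, 0, 0, 0, 0, 0, 0, 0⟩⟩,
  ⟨⟨0, 0, 0, 0, 2, 0, -1, 1⟩, ⟨1, 0, 0, 0, 0, 0, 0, 0⟩, ⟨1, 0, 0, 0, 0, 0, 0, 0⟩⟩,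
  ⟨⟨0, 0, 0, 0, 0, 0, 1, 1⟩, ⟨-1, 0, 0, 0, 0, 0, 0, 0⟩, ⟨1, 0, 0, 0, 0, 0, 0, 0⟩⟩,
  ⟨⟨0, 0, 0, 0, 0, 0, 1, 1⟩, ⟨1, 0, 0, 0, 0, 0, 0, 0⟩, ⟨1, 0, 0, 0, 0, 0, 0, 0⟩⟩,
  ⟨⟨1, 1, -2, 0, 0, 2, -1, -1⟩, ⟨0, -1, 0, 0, 0, 0, 0, 0⟩, ⟨1, 0, 0, 0, 0, 0, 0, 0⟩⟩,
  ⟨⟨1, 1, -2, 0, 0, 2, -1, -1⟩, ⟨0, 1, 0, 0, 0, 0, 0, 0⟩, ⟨1, 0, 0, 0, 0, 0, 0, 0⟩⟩,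
  ⟨⟨-1, -1, 2, 0, 0, -2, 1, 1⟩, ⟨0, -1, 0, 0, 0, 0, 0, 0⟩, ⟨1, 0, 0, 0, 0, 0, 0, 0⟩⟩,
  ⟨⟨-1, -1, 2, 0, 0, -2, 1, 1⟩, ⟨0, 1, 0, 0, 0, 0, 0, 0⟩, ⟨1, 0, 0, 0, 0, 0, 0, 0⟩⟩,
  ⟨⟨0, 0, 0, 0, 0, 0, -1, -1⟩, ⟨-1, 0, 0, 0, 0, 0, 0, 0⟩, ⟨1, 0, 0, 0, 0, 0, 0, 0⟩⟩,
  ⟨⟨0, 0, 0, 0, 0, 0, -1, -1⟩, ⟨1, 0, 0, 0, 0, 0, 0, 0⟩, ⟨1, 0, 0, 0, 0, 0, 0, 0⟩⟩,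
  ⟨⟨0, 0, 0, 0, -2, 0, 1, -1⟩, ⟨-1, 0, 0, 0, 0, 0, 0, 0⟩, ⟨1, 0, 0, 0, 0, 0, 0, 0⟩⟩,
  ⟨⟨0, 0, 0, 0, -2, 0, 1, -1⟩, ⟨1, 0, 0, 0, 0, 0, 0, 0⟩, ⟨1, 0, 0, 0, 0, 0, 0, 0⟩⟩,
  ⟨⟨1, -1, 1, 1, 1, 1, -1, 1⟩, ⟨0, -1, 1, 1, 1, -1, 0, 2⟩, ⟨1, 0, 0, 0, 0, 0, 0, 0⟩⟩,
  ⟨⟨1, -1, 1, 1, 1, 1, -1, 1⟩, ⟨0, 1, -1, -1, -1, 1, 0, -2⟩, ⟨1, 0, 0, 0, 0, 0, 0, 0⟩⟩,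
  ⟨⟨0, 0, -1, -1, -1, -1, 1, -1⟩, ⟨1, 0, -1, 1, 1, 1, -2, 0⟩, ⟨1, 0, 0, 0, 0, 0, 0, 0⟩⟩,
  ⟨⟨0, 0, -1, -1, -1, -1, 1, -1⟩, ⟨-1, 0, 1, -1, -1, -1, 2, 0⟩, ⟨1, 0, 0, 0, 0, 0, 0, 0⟩⟩,
  ⟨⟨1, -1, 0, 0, 2, 0, -1, 1⟩, ⟨0, -1, 0, 0, 0, 0, 0, 0⟩, ⟨1, 0, 0, 0, 0, 0, 0, 0⟩⟩,
  ⟨⟨1, -1, 0, 0, 2, 0, -1, 1⟩, ⟨0, 1, 0, 0, 0, 0, 0, 0⟩, ⟨1, 0, 0, 0, 0, 0, 0, 0⟩⟩,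
  ⟨⟨1, 1, -1, 1, -1, 1, -1, -1⟩, ⟨0, -1, 1, 1, 1, -1, 0, 2⟩, ⟨1, 0, 0, 0, 0, 0, 0, 0⟩⟩,
  ⟨⟨1, 1, -1, 1, -1, 1, -1, -1⟩, ⟨0, 1, -1, -1, -1, 1, 0, -2⟩, ⟨1, 0, 0, 0, 0, 0, 0, 0⟩⟩,
  ⟨⟨0, 0, 0, 0, 0, -2, 1, 1⟩, ⟨-1, 0, 0, 0, 0, 0, 0, 0⟩, ⟨1, 0, 0, 0, 0, 0, 0, 0⟩⟩,
  ⟨⟨0, 0, 0, 0, 0, -2, 1, 1⟩, ⟨1, 0, 0, 0, 0, 0, 0, 0⟩, ⟨1, 0, 0, 0, 0, 0, 0, 0⟩⟩,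
  ⟨⟨1, 1, 0, 0, 0, 2, -1, -1⟩, ⟨0, -1, 0, 0, 0, 0, 0, 0⟩, ⟨1, 0, 0, 0, 0, 0, 0, 0⟩⟩,
  ⟨⟨1, 1, 0, 0, 0, 2, -1, -1⟩, ⟨0, 1, 0, 0, 0, 0, 0, 0⟩, ⟨1, 0, 0, 0, 0, 0, 0, 0⟩⟩,
  ⟨⟨0, 0, 1, -1, 1, -1, 1, 1⟩, ⟨1, 0, -1, 1, 1, 1, -2, 0⟩, ⟨1, 0, 0, 0, 0, 0, 0, 0⟩⟩,
  ⟨⟨0, 0, 1, -1, 1, -1, 1, 1⟩, ⟨-1, 0, 1, -1, -1, -1, 2, 0⟩, ⟨1, 0, 0, 0, 0, 0, 0, 0⟩⟩,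
  ⟨⟨2, 0, -1, 1, 1, 1, -1, 1⟩, ⟨1, 0, -1, 1, 1, 1, -2, 0⟩, ⟨1, 0, 0, 0, 0, 0, 0, 0⟩⟩,
  ⟨⟨2, 0, -1, 1, 1, 1, -1, 1⟩, ⟨-1, 0, 1, -1, -1, -1, 2, 0⟩, ⟨1, 0, 0, 0, 0, 0, 0, 0⟩⟩,
  ⟨⟨1, 1, -1, -1, -1, 1, 1, -1⟩, ⟨0, -1, 1, 1, 1, -1, 0, 2⟩, ⟨1, 0, 0, 0, 0, 0, 0, 0⟩⟩,
  ⟨⟨1, 1, -1, -1, -1, 1, 1, -1⟩, ⟨0, 1, -1, -1, -1, 1, 0, -2⟩, ⟨1, 0, 0, 0, 0, 0, 0, 0⟩⟩,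
  ⟨⟨0, -2, 1, 1, 1, -1, 1, 1⟩, ⟨1, 0, -1, 1, 1, 1, -2, 0⟩, ⟨1, 0, 0, 0, 0, 0, 0, 0⟩⟩,
  ⟨⟨0, -2, 1, 1, 1, -1, 1, 1⟩, ⟨-1, 0, 1, -1, -1, -1, 2, 0⟩, ⟨1, 0, 0, 0, 0, 0, 0, 0⟩⟩,
  ⟨⟨1, -1, -1, 1, 1, 1, -1, -1⟩, ⟨0, -1, 1, 1, 1, -1, 0, 2⟩, ⟨1, 0, 0, 0, 0, 0, 0, 0⟩⟩,
  ⟨⟨1, -1, -1, 1, 1, 1, -1, -1⟩, ⟨0, 1, -1, -1, -1, 1, 0, -2⟩, ⟨1, 0, 0, 0, 0, 0, 0, 0⟩⟩,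
  ⟨⟨1, -1, 0, 2, 2, 0, -1, 1⟩, ⟨0, -1, 0, 0, 0, 0, 0, 0⟩, ⟨1, 0, 0, 0, 0, 0, 0, 0⟩⟩,
  ⟨⟨1, -1, 0, 2, 2, 0, -1, 1⟩, ⟨0, 1, 0, 0, 0, 0, 0, 0⟩, ⟨1, 0, 0, 0, 0, 0, 0, 0⟩⟩,
  ⟨⟨0, 0, 0, 0, 0, 0, 1, -1⟩, ⟨-1, 0, 0, 0, 0, 0, 0, 0⟩, ⟨1, 0, 0, 0, 0, 0, 0, 0⟩⟩,
  ⟨⟨0, 0, 0, 0, 0, 0, 1, -1⟩, ⟨1, 0, 0, 0, 0, 0, 0, 0⟩, ⟨1, 0, 0, 0, 0, 0, 0, 0⟩⟩,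
  ⟨⟨0, 0, 0, 0, 0, 0, 0, 0⟩, ⟨0, 0, 0, 0, 0, 0, 0, 0⟩, ⟨2, 0, 0, 0, 0, 0, 0, 0⟩⟩,
  ⟨⟨1, -2, 0, 2, 2, 0, -1, 1⟩, ⟨0, 0, 0, 0, 0, 0, 0, 0⟩, ⟨-1, 2, 0, -2, -2, 0, 1, -1⟩⟩,
  ⟨⟨1, 0, 0, 0, 0, 0, 1, 1⟩, ⟨0, 0, 0, 0, 0, 0, 0, 0⟩, ⟨-1, 2, 0, -2, -2, 0, 1, -1⟩⟩,
  ⟨⟨1, 0, 0, 0, 2, 0, -1, 1⟩, ⟨0, 0, 0, 0, 0, 0, 0, 0⟩, ⟨-1, 2, 0, -2, -2, 0, 1, -1⟩⟩,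
  ⟨⟨1, 0, 0, 0, 0, 2, -1, -1⟩, ⟨0, 0, 0, 0, 0, 0, 0, 0⟩, ⟨-1, 2, 0, -2, -2, 0, 1, -1⟩⟩,
  ⟨⟨-1, 0, 0, 0, 0, -2, 1, 1⟩, ⟨0, 0, 0, 0, 0, 0, 0, 0⟩, ⟨-1, 2, 0, -2, -2, 0, 1, -1⟩⟩,
  ⟨⟨-1, 0, 0, 0, -2, 0, 1, -1⟩, ⟨0, 0, 0, 0, 0, 0, 0, 0⟩, ⟨-1, 2, 0, -2, -2, 0, 1, -1⟩⟩,
  ⟨⟨-1, 0, 0, 0, 0, 0, -1, -1⟩, ⟨0, 0, 0, 0, 0, 0, 0, 0⟩, ⟨-1, 2, 0, -2, -2, 0, 1, -1⟩⟩,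
  ⟨⟨-1, 2, 0, -2, -2, 0, 1, -1⟩, ⟨0, 0, 0, 0, 0, 0, 0, 0⟩, ⟨-1, 2, 0, -2, -2, 0, 1, -1⟩⟩,
  ⟨⟨0, 0, 1, 0, 1, 0, -1, 1⟩, ⟨1, 0, 0, 0, 0, 0, 0, 0⟩, ⟨-1, 0, 1, 0, -1, 0, 0, 0⟩⟩,
  ⟨⟨0, 0, -1, 0, -1, 0, 1, -1⟩, ⟨1, 0, 0, 0, 0, 0, 0, 0⟩, ⟨-1, 0, 1, 0, -1, 0, 0, 0⟩⟩,
  ⟨⟨0, 0, 0, -1, 0, -1, 1, 1⟩, ⟨1, 0, 0, 0, 0, 0, 0, 0⟩, ⟨-1, 0, 0, -1, 0, -1, 0, 0⟩⟩,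
  ⟨⟨0, 0, 0, 1, 0, 1, -1, -1⟩, ⟨1, 0, 0, 0, 0, 0, 0, 0⟩, ⟨-1, 0, 0, -1, 0, -1, 0, 0⟩⟩,
  ⟨⟨1, 1, -1, 0, -1, 2, -1, -1⟩, ⟨1, 0, 0, 0, 0, 0, 0, 0⟩, ⟨0, 1, -1, 0, -1, 0, 0, 0⟩⟩,
  ⟨⟨-1, -1, 1, 0, 1, -2, 1, 1⟩, ⟨1, 0, 0, 0, 0, 0, 0, 0⟩, ⟨0, 1, -1, 0, -1, 0, 0, 0⟩⟩,
  ⟨⟨-1, 1, 0, -1, -2, -1, 1, -1⟩, ⟨1, 0, 0, 0, 0, 0, 0, 0⟩, ⟨0, 1, 0, -1, 0, 1, 0, 0⟩⟩,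
  ⟨⟨1, -1, 0, 1, 2, 1, -1, 1⟩, ⟨1, 0, 0, 0, 0, 0, 0, 0⟩, ⟨0, 1, 0, -1, 0, 1, 0, 0⟩⟩,
  ⟨⟨0, 1, 0, -1, 0, 1, 0, 0⟩, ⟨1, 0, 0, 0, 0, 0, 0, 0⟩, ⟨-1, 1, 0, -1, -2, -1, 1, -1⟩⟩,
  ⟨⟨0, -1, 0, 1, 0, -1, 0, 0⟩, ⟨1, 0, 0, 0, 0, 0, 0, 0⟩, ⟨-1, 1, 0, -1, -2, -1, 1, -1⟩⟩,
  ⟨⟨-1, 0, 1, 0, -1, 0, 0, 0⟩, ⟨1, 0, 0, 0, 0, 0, 0, 0⟩, ⟨0, 0, 1, 0, 1, 0, -1, 1⟩⟩,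
  ⟨⟨1, 0, -1, 0, 1, 0, 0, 0⟩, ⟨1, 0, 0, 0, 0, 0, 0, 0⟩, ⟨0, 0, 1, 0, 1, 0, -1, 1⟩⟩,
  ⟨⟨0, 1, -1, 0, -1, 0, 0, 0⟩, ⟨1, 0, 0, 0, 0, 0, 0, 0⟩, ⟨1, 1, -1, 0, -1, 2, -1, -1⟩⟩,
  ⟨⟨0, -1, 1, 0, 1, 0, 0, 0⟩, ⟨1, 0, 0, 0, 0, 0, 0, 0⟩, ⟨1, 1, -1, 0, -1, 2, -1, -1⟩⟩,
  ⟨⟨-1, 0, 0, -1, 0, -1, 0, 0⟩, ⟨1, 0, 0, 0, 0, 0, 0, 0⟩, ⟨0, 0, 0, -1, 0, -1, 1, 1⟩⟩,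
  ⟨⟨1, 0, 0, 1, 0, 1, 0, 0⟩, ⟨1, 0, 0, 0, 0, 0, 0, 0⟩, ⟨0, 0, 0, -1, 0, -1, 1, 1⟩⟩,
  ⟨⟨-1, 0, 0, -1, 0, -1, 0, 0⟩, ⟨1, 0, 0, 0, 0, 0, 0, 0⟩, ⟨0, 0, 0, 1, 0, 1, -1, -1⟩⟩,
  ⟨⟨1, 0, 0, 1, 0, 1, 0, 0⟩, ⟨1, 0, 0, 0, 0, 0, 0, 0⟩, ⟨0, 0, 0, 1, 0, 1, -1, -1⟩⟩,
  ⟨⟨0, 1, -1, 0, -1, 0, 0, 0⟩, ⟨1, 0, 0, 0, 0, 0, 0, 0⟩, ⟨-1, -1, 1, 0, 1, -2, 1, 1⟩⟩,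
  ⟨⟨0, -1, 1, 0, 1, 0, 0, 0⟩, ⟨1, 0, 0, 0, 0, 0, 0, 0⟩, ⟨-1, -1, 1, 0, 1, -2, 1, 1⟩⟩,
  ⟨⟨-1, 0, 1, 0, -1, 0, 0, 0⟩, ⟨1, 0, 0, 0, 0, 0, 0, 0⟩, ⟨0, 0, -1, 0, -1, 0, 1, -1⟩⟩,
  ⟨⟨1, 0, -1, 0, 1, 0, 0, 0⟩, ⟨1, 0, 0, 0, 0, 0, 0, 0⟩, ⟨0, 0, -1, 0, -1, 0, 1, -1⟩⟩,
  ⟨⟨0, 1, 0, -1, 0, 1, 0, 0⟩, ⟨1, 0, 0, 0, 0, 0, 0, 0⟩, ⟨1, -1, 0, 1, 2, 1, -1, 1⟩⟩,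
  ⟨⟨0, -1, 0, 1, 0, -1, 0, 0⟩, ⟨1, 0, 0, 0, 0, 0, 0, 0⟩, ⟨1, -1, 0, 1, 2, 1, -1, 1⟩⟩,
  ⟨⟨-1, 1, 0, -1, -2, -1, 1, -1⟩, ⟨1, 0, 0, 0, 0, 0, 0, 0⟩, ⟨0, -1, 0, 1, 0, -1, 0, 0⟩⟩,
  ⟨⟨1, -1, 0, 1, 2, 1, -1, 1⟩, ⟨1, 0, 0, 0, 0, 0, 0, 0⟩, ⟨0, -1, 0, 1, 0, -1, 0, 0⟩⟩,
  ⟨⟨1, 1, -1, 0, -1, 2, -1, -1⟩, ⟨1, 0, 0, 0, 0, 0, 0, 0⟩, ⟨0, -1, 1, 0, 1, 0, 0, 0⟩⟩,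
  ⟨⟨-1, -1, 1, 0, 1, -2, 1, 1⟩, ⟨1, 0, 0, 0, 0, 0, 0, 0⟩, ⟨0, -1, 1, 0, 1, 0, 0, 0⟩⟩,
  ⟨⟨0, 0, 0, -1, 0, -1, 1, 1⟩, ⟨1, 0, 0, 0, 0, 0, 0, 0⟩, ⟨1, 0, 0, 1, 0, 1, 0, 0⟩⟩,
  ⟨⟨0, 0, 0, 1, 0, 1, -1, -1⟩, ⟨1, 0, 0, 0, 0, 0, 0, 0⟩, ⟨1, 0, 0, 1, 0, 1, 0, 0⟩⟩,
  ⟨⟨0, 0, 1, 0, 1, 0, -1, 1⟩, ⟨1, 0, 0, 0, 0, 0, 0, 0⟩, ⟨1, 0, -1, 0, 1, 0, 0, 0⟩⟩,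
  ⟨⟨0, 0, -1, 0, -1, 0, 1, -1⟩, ⟨1, 0, 0, 0, 0, 0, 0, 0⟩, ⟨1, 0, -1, 0, 1, 0, 0, 0⟩⟩,
  ⟨⟨0, 0, 0, 0, 0, 0, 0, 0⟩, ⟨2, 0, 0, 0, 0, 0, 0, 0⟩, ⟨0, 0, 0, 0, 0, 0, 0, 0⟩⟩,
  ⟨⟨0, 0, 0, 0, 0, 0, 0, 0⟩, ⟨-1, 2, 0, -2, -2, 0, 1, -1⟩, ⟨1, -2, 0, 2, 2, 0, -1, 1⟩⟩,
  ⟨⟨0, 0, 0, 0, 0, 0, 0, 0⟩, ⟨-1, 2, 0, -2, -2, 0, 1, -1⟩, ⟨1, 0, 0, 0, 0, 0, 1, 1⟩⟩,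
  ⟨⟨0, 0, 0, 0, 0, 0, 0, 0⟩, ⟨-1, 2, 0, -2, -2, 0, 1, -1⟩, ⟨1, 0, 0, 0, 2, 0, -1, 1⟩⟩,
  ⟨⟨0, 0, 0, 0, 0, 0, 0, 0⟩, ⟨-1, 2, 0, -2, -2, 0, 1, -1⟩, ⟨1, 0, 0, 0, 0, 2, -1, -1⟩⟩,
  ⟨⟨0, 0, 0, 0, 0, 0, 0, 0⟩, ⟨-1, 2, 0, -2, -2, 0, 1, -1⟩, ⟨-1, 0, 0, 0, 0, -2, 1, 1⟩⟩,
  ⟨⟨0, 0, 0, 0, 0, 0, 0, 0⟩, ⟨-1, 2, 0, -2, -2, 0, 1, -1⟩, ⟨-1, 0, 0, 0, -2, 0, 1, -1⟩⟩,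
  ⟨⟨0, 0, 0, 0, 0, 0, 0, 0⟩, ⟨-1, 2, 0, -2, -2, 0, 1, -1⟩, ⟨-1, 0, 0, 0, 0, 0, -1, -1⟩⟩,
  ⟨⟨0, 0, 0, 0, 0, 0, 0, 0⟩, ⟨-1, 2, 0, -2, -2, 0, 1, -1⟩, ⟨-1, 2, 0, -2, -2, 0, 1, -1⟩⟩]

/-- for each entry `W` of `RepAll`: the index `i` of its line and the unit `c` with `W = c • Rep315[i]` -/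
def lineCert : List (ℕ × Ic) := [
  (0, ⟨1, 0, 0, 0, 0, 0, 0, 0⟩),
  (1, ⟨1, 0, 0, 0, 0, 0, 0, 0⟩),
  (2, ⟨1, 0, 0, 0, 0, 0, 0, 0⟩),
  (3, ⟨1, 0, 0, 0, 0, 0, 0, 0⟩),
  (4, ⟨1, 0, 0, 0, 0, 0, 0, 0⟩),
  (5, ⟨1, 0, 0, 0, 0, 0, 0, 0⟩),
  (6, ⟨1, 0, 0, 0, 0, 0, 0, 0⟩),
  (7, ⟨1, 0, 0, 0, 0, 0, 0, 0⟩),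
  (8, ⟨1, 0, 0, 0, 0, 0, 0, 0⟩),
  (9, ⟨1, 0, 0, 0, 0, 0, 0, 0⟩),
  (10, ⟨1, 0, 0, 0, 0, 0, 0, 0⟩),
  (11, ⟨1, 0, 0, 0, 0, 0, 0, 0⟩),
  (12, ⟨1, 0, 0, 0, 0, 0, 0, 0⟩),
  (13, ⟨1, 0, 0, 0, 0, 0, 0, 0⟩),
  (14, ⟨1, 0, 0, 0, 0, 0, 0, 0⟩),
  (15, ⟨1, 0, 0, 0, 0, 0, 0, 0⟩),
  (16, ⟨1, 0, 0, 0, 0, 0, 0, 0⟩),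
  (17, ⟨1, 0, 0, 0, 0, 0, 0, 0⟩),
  (18, ⟨1, 0, 0, 0, 0, 0, 0, 0⟩),
  (19, ⟨1, 0, 0, 0, 0, 0, 0, 0⟩),
  (20, ⟨1, 0, 0, 0, 0, 0, 0, 0⟩),
  (21, ⟨1, 0, 0, 0, 0, 0, 0, 0⟩),
  (22, ⟨1, 0, 0, 0, 0, 0, 0, 0⟩),
  (23, ⟨1, 0, 0, 0, 0, 0, 0, 0⟩),
  (24, ⟨1, 0, 0, 0, 0, 0, 0, 0⟩),
  (25, ⟨1, 0, 0, 0, 0, 0, 0, 0⟩),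
  (26, ⟨1, 0, 0, 0, 0, 0, 0, 0⟩),
  (27, ⟨1, 0, 0, 0, 0, 0, 0, 0⟩),
  (28, ⟨1, 0, 0, 0, 0, 0, 0, 0⟩),
  (29, ⟨1, 0, 0, 0, 0, 0, 0, 0⟩),
  (30, ⟨1, 0, 0, 0, 0, 0, 0, 0⟩),
  (31, ⟨1, 0, 0, 0, 0, 0, 0, 0⟩),
  (32, ⟨1, 0, 0, 0, 0, 0, 0, 0⟩),
  (33, ⟨1, 0, 0, 0, 0, 0, 0, 0⟩),
  (34, ⟨1, 0, 0, 0, 0, 0, 0, 0⟩),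
  (35, ⟨1, 0, 0, 0, 0, 0, 0, 0⟩),
  (36, ⟨1, 0, 0, 0, 0, 0, 0, 0⟩),
  (37, ⟨1, 0, 0, 0, 0, 0, 0, 0⟩),
  (38, ⟨1, 0, 0, 0, 0, 0, 0, 0⟩),
  (39, ⟨1, 0, 0, 0, 0, 0, 0, 0⟩),
  (40, ⟨1, 0, 0, 0, 0, 0, 0, 0⟩),
  (41, ⟨1, 0, 0, 0, 0, 0, 0, 0⟩),
  (42, ⟨1, 0, 0, 0, 0, 0, 0, 0⟩),
  (43, ⟨1, 0, 0, 0, 0, 0, 0, 0⟩),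
  (44, ⟨1, 0, 0, 0, 0, 0, 0, 0⟩),
  (45, ⟨1, 0, 0, 0, 0, 0, 0, 0⟩),
  (46, ⟨1, 0, 0, 0, 0, 0, 0, 0⟩),
  (47, ⟨1, 0, 0, 0, 0, 0, 0, 0⟩),
  (48, ⟨1, 0, 0, 0, 0, 0, 0, 0⟩),
  (49, ⟨1, 0, 0, 0, 0, 0, 0, 0⟩),
  (50, ⟨1, 0, 0, 0, 0, 0, 0, 0⟩),
  (51, ⟨1, 0, 0, 0, 0, 0, 0, 0⟩),
  (52, ⟨1, 0, 0, 0, 0, 0, 0, 0⟩),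
  (53, ⟨1, 0, 0, 0, 0, 0, 0, 0⟩),
  (54, ⟨1, 0, 0, 0, 0, 0, 0, 0⟩),
  (55, ⟨1, 0, 0, 0, 0, 0, 0, 0⟩),
  (56, ⟨1, 0, 0, 0, 0, 0, 0, 0⟩),
  (57, ⟨1, 0, 0, 0, 0, 0, 0, 0⟩),
  (58, ⟨1, 0, 0, 0, 0, 0, 0, 0⟩),
  (59, ⟨1, 0, 0, 0, 0, 0, 0, 0⟩),
  (60, ⟨1, 0, 0, 0, 0, 0, 0, 0⟩),
  (61, ⟨1, 0, 0, 0, 0, 0, 0, 0⟩),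
  (62, ⟨1, 0, 0, 0, 0, 0, 0, 0⟩),
  (63, ⟨1, 0, 0, 0, 0, 0, 0, 0⟩),
  (64, ⟨1, 0, 0, 0, 0, 0, 0, 0⟩),
  (65, ⟨1, 0, 0, 0, 0, 0, 0, 0⟩),
  (66, ⟨1, 0, 0, 0, 0, 0, 0, 0⟩),
  (67, ⟨1, 0, 0, 0, 0, 0, 0, 0⟩),
  (68, ⟨1, 0, 0, 0, 0, 0, 0, 0⟩),
  (69, ⟨1, 0, 0, 0, 0, 0, 0, 0⟩),
  (70, ⟨1, 0, 0, 0, 0, 0, 0, 0⟩),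
  (71, ⟨1, 0, 0, 0, 0, 0, 0, 0⟩),
  (72, ⟨1, 0, 0, 0, 0, 0, 0, 0⟩),
  (73, ⟨1, 0, 0, 0, 0, 0, 0, 0⟩),
  (74, ⟨1, 0, 0, 0, 0, 0, 0, 0⟩),
  (75, ⟨1, 0, 0, 0, 0, 0, 0, 0⟩),
  (76, ⟨1, 0, 0, 0, 0, 0, 0, 0⟩),
  (77, ⟨1, 0, 0, 0, 0, 0, 0, 0⟩),
  (78, ⟨1, 0, 0, 0, 0, 0, 0, 0⟩),
  (79, ⟨1, 0, 0, 0, 0, 0, 0, 0⟩),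
  (80, ⟨1, 0, 0, 0, 0, 0, 0, 0⟩),
  (81, ⟨1, 0, 0, 0, 0, 0, 0, 0⟩),
  (82, ⟨1, 0, 0, 0, 0, 0, 0, 0⟩),
  (83, ⟨1, 0, 0, 0, 0, 0, 0, 0⟩),
  (84, ⟨1, 0, 0, 0, 0, 0, 0, 0⟩),
  (85, ⟨1, 0, 0, 0, 0, 0, 0, 0⟩),
  (86, ⟨1, 0, 0, 0, 0, 0, 0, 0⟩),
  (87, ⟨1, 0, 0, 0, 0, 0, 0, 0⟩),
  (88, ⟨1, 0, 0, 0, 0, 0, 0, 0⟩),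
  (89, ⟨1, 0, 0, 0, 0, 0, 0, 0⟩),
  (90, ⟨1, 0, 0, 0, 0, 0, 0, 0⟩),
  (91, ⟨1, 0, 0, 0, 0, 0, 0, 0⟩),
  (92, ⟨1, 0, 0, 0, 0, 0, 0, 0⟩),
  (93, ⟨1, 0, 0, 0, 0, 0, 0, 0⟩),
  (94, ⟨1, 0, 0, 0, 0, 0, 0, 0⟩),
  (95, ⟨1, 0, 0, 0, 0, 0, 0, 0⟩),
  (96, ⟨1, 0, 0, 0, 0, 0, 0, 0⟩),
  (97, ⟨1, 0, 0, 0, 0, 0, 0, 0⟩),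
  (98, ⟨1, 0, 0, 0, 0, 0, 0, 0⟩),
  (99, ⟨1, 0, 0, 0, 0, 0, 0, 0⟩),
  (100, ⟨1, 0, 0, 0, 0, 0, 0, 0⟩),
  (101, ⟨1, 0, 0, 0, 0, 0, 0, 0⟩),
  (102, ⟨1, 0, 0, 0, 0, 0, 0, 0⟩),
  (103, ⟨1, 0, 0, 0, 0, 0, 0, 0⟩),
  (104, ⟨1, 0, 0, 0, 0, 0, 0, 0⟩),
  (105, ⟨1, 0, 0, 0, 0, 0, 0, 0⟩),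
  (106, ⟨1, 0, 0, 0, 0, 0, 0, 0⟩),
  (107, ⟨1, 0, 0, 0, 0, 0, 0, 0⟩),
  (108, ⟨1, 0, 0, 0, 0, 0, 0, 0⟩),
  (109, ⟨1, 0, 0, 0, 0, 0, 0, 0⟩),
  (110, ⟨1, 0, 0, 0, 0, 0, 0, 0⟩),
  (111, ⟨1, 0, 0, 0, 0, 0, 0, 0⟩),
  (112, ⟨1, 0, 0, 0, 0, 0, 0, 0⟩),
  (113, ⟨1, 0, 0, 0, 0, 0, 0, 0⟩),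
  (114, ⟨1, 0, 0, 0, 0, 0, 0, 0⟩),
  (115, ⟨1, 0, 0, 0, 0, 0, 0, 0⟩),
  (116, ⟨1, 0, 0, 0, 0, 0, 0, 0⟩),
  (117, ⟨1, 0, 0, 0, 0, 0, 0, 0⟩),
  (118, ⟨1, 0, 0, 0, 0, 0, 0, 0⟩),
  (119, ⟨1, 0, 0, 0, 0, 0, 0, 0⟩),
  (120, ⟨1, 0, 0, 0, 0, 0, 0, 0⟩),
  (121, ⟨1, 0, 0, 0, 0, 0, 0, 0⟩),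
  (122, ⟨1, 0, 0, 0, 0, 0, 0, 0⟩),
  (123, ⟨1, 0, 0, 0, 0, 0, 0, 0⟩),
  (124, ⟨1, 0, 0, 0, 0, 0, 0, 0⟩),
  (125, ⟨1, 0, 0, 0, 0, 0, 0, 0⟩),
  (126, ⟨1, 0, 0, 0, 0, 0, 0, 0⟩),
  (127, ⟨1, 0, 0, 0, 0, 0, 0, 0⟩),
  (128, ⟨1, 0, 0, 0, 0, 0, 0, 0⟩),
  (129, ⟨1, 0, 0, 0, 0, 0, 0, 0⟩),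
  (130, ⟨1, 0, 0, 0, 0, 0, 0, 0⟩),
  (131, ⟨1, 0, 0, 0, 0, 0, 0, 0⟩),
  (132, ⟨1, 0, 0, 0, 0, 0, 0, 0⟩),
  (133, ⟨1, 0, 0, 0, 0, 0, 0, 0⟩),
  (134, ⟨1, 0, 0, 0, 0, 0, 0, 0⟩),
  (135, ⟨1, 0, 0, 0, 0, 0, 0, 0⟩),
  (136, ⟨1, 0, 0, 0, 0, 0, 0, 0⟩),
  (137, ⟨1, 0, 0, 0, 0, 0, 0, 0⟩),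
  (138, ⟨1, 0, 0, 0, 0, 0, 0, 0⟩),
  (139, ⟨1, 0, 0, 0, 0, 0, 0, 0⟩),
  (140, ⟨1, 0, 0, 0, 0, 0, 0, 0⟩),
  (141, ⟨1, 0, 0, 0, 0, 0, 0, 0⟩),
  (142, ⟨1, 0, 0, 0, 0, 0, 0, 0⟩),
  (143, ⟨1, 0, 0, 0, 0, 0, 0, 0⟩),
  (144, ⟨1, 0, 0, 0, 0, 0, 0, 0⟩),
  (145, ⟨1, 0, 0, 0, 0, 0, 0, 0⟩),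
  (146, ⟨1, 0, 0, 0, 0, 0, 0, 0⟩),
  (147, ⟨1, 0, 0, 0, 0, 0, 0, 0⟩),
  (148, ⟨1, 0, 0, 0, 0, 0, 0, 0⟩),
  (149, ⟨1, 0, 0, 0, 0, 0, 0, 0⟩),
  (150, ⟨1, 0, 0, 0, 0, 0, 0, 0⟩),
  (151, ⟨1, 0, 0, 0, 0, 0, 0, 0⟩),
  (152, ⟨1, 0, 0, 0, 0, 0, 0, 0⟩),
  (153, ⟨1, 0, 0, 0, 0, 0, 0, 0⟩),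
  (154, ⟨1, 0, 0, 0, 0, 0, 0, 0⟩),
  (155, ⟨1, 0, 0, 0, 0, 0, 0, 0⟩),
  (156, ⟨1, 0, 0, 0, 0, 0, 0, 0⟩),
  (157, ⟨1, 0, 0, 0, 0, 0, 0, 0⟩),
  (158, ⟨1, 0, 0, 0, 0, 0, 0, 0⟩),
  (159, ⟨1, 0, 0, 0, 0, 0, 0, 0⟩),
  (160, ⟨1, 0, 0, 0, 0, 0, 0, 0⟩),
  (161, ⟨1, 0, 0, 0, 0, 0, 0, 0⟩),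
  (162, ⟨1, 0, 0, 0, 0, 0, 0, 0⟩),
  (163, ⟨1, 0, 0, 0, 0, 0, 0, 0⟩),
  (164, ⟨1, 0, 0, 0, 0, 0, 0, 0⟩),
  (165, ⟨1, 0, 0, 0, 0, 0, 0, 0⟩),
  (166, ⟨1, 0, 0, 0, 0, 0, 0, 0⟩),
  (167, ⟨1, 0, 0, 0, 0, 0, 0, 0⟩),
  (168, ⟨1, 0, 0, 0, 0, 0, 0, 0⟩),
  (158, ⟨-1, 0, 0, 0, 0, 0, 0, 0⟩),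
  (142, ⟨-1, 0, 0, 0, 0, 0, 0, 0⟩),
  (132, ⟨-1, 0, 0, 0, 0, 0, 0, 0⟩),
  (130, ⟨-1, 0, 0, 0, 0, 0, 0, 0⟩),
  (124, ⟨-1, 0, 0, 0, 0, 0, 0, 0⟩),
  (122, ⟨-1, 0, 0, 0, 0, 0, 0, 0⟩),
  (112, ⟨-1, 0, 0, 0, 0, 0, 0, 0⟩),
  (96, ⟨-1, 0, 0, 0, 0, 0, 0, 0⟩),
  (129, ⟨0, -1, 0, 0, 0, 0, 0, 0⟩),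
  (139, ⟨0, -1, 0, 0, 0, 0, 0, 0⟩),
  (111, ⟨0, -1, 0, 0, 0, 0, 0, 0⟩),
  (99, ⟨0, -1, 0, 0, 0, 0, 0, 0⟩),
  (157, ⟨0, -1, 0, 0, 0, 0, 0, 0⟩),
  (145, ⟨0, -1, 0, 0, 0, 0, 0, 0⟩),
  (117, ⟨0, -1, 0, 0, 0, 0, 0, 0⟩),
  (127, ⟨0, -1, 0, 0, 0, 0, 0, 0⟩),
  (141, ⟨0, -1, 1, 1, 1, -1, 0, 2⟩),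
  (135, ⟨0, -1, 1, 1, 1, -1, 0, 2⟩),
  (101, ⟨0, -1, 1, 1, 1, -1, 0, 2⟩),
  (105, ⟨0, -1, 1, 1, 1, -1, 0, 2⟩),
  (151, ⟨0, -1, 1, 1, 1, -1, 0, 2⟩),
  (155, ⟨0, -1, 1, 1, 1, -1, 0, 2⟩),
  (121, ⟨0, -1, 1, 1, 1, -1, 0, 2⟩),
  (115, ⟨0, -1, 1, 1, 1, -1, 0, 2⟩),
  (137, ⟨1, 0, -1, 1, 1, 1, -2, 0⟩),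
  (109, ⟨1, 0, -1, 1, 1, 1, -2, 0⟩),
  (149, ⟨1, 0, -1, 1, 1, 1, -2, 0⟩),
  (103, ⟨1, 0, -1, 1, 1, 1, -2, 0⟩),
  (153, ⟨1, 0, -1, 1, 1, 1, -2, 0⟩),
  (107, ⟨1, 0, -1, 1, 1, 1, -2, 0⟩),
  (147, ⟨1, 0, -1, 1, 1, 1, -2, 0⟩),
  (119, ⟨1, 0, -1, 1, 1, 1, -2, 0⟩),
  (118, ⟨-1, 0, 1, -1, -1, -1, 2, 0⟩),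
  (146, ⟨-1, 0, 1, -1, -1, -1, 2, 0⟩),
  (106, ⟨-1, 0, 1, -1, -1, -1, 2, 0⟩),
  (152, ⟨-1, 0, 1, -1, -1, -1, 2, 0⟩),
  (102, ⟨-1, 0, 1, -1, -1, -1, 2, 0⟩),
  (148, ⟨-1, 0, 1, -1, -1, -1, 2, 0⟩),
  (108, ⟨-1, 0, 1, -1, -1, -1, 2, 0⟩),
  (136, ⟨-1, 0, 1, -1, -1, -1, 2, 0⟩),
  (114, ⟨0, 1, -1, -1, -1, 1, 0, -2⟩),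
  (120, ⟨0, 1, -1, -1, -1, 1, 0, -2⟩),
  (154, ⟨0, 1, -1, -1, -1, 1, 0, -2⟩),
  (150, ⟨0, 1, -1, -1, -1, 1, 0, -2⟩),
  (104, ⟨0, 1, -1, -1, -1, 1, 0, -2⟩),
  (100, ⟨0, 1, -1, -1, -1, 1, 0, -2⟩),
  (134, ⟨0, 1, -1, -1, -1, 1, 0, -2⟩),
  (140, ⟨0, 1, -1, -1, -1, 1, 0, -2⟩),
  (126, ⟨0, 1, 0, 0, 0, 0, 0, 0⟩),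
  (116, ⟨0, 1, 0, 0, 0, 0, 0, 0⟩),
  (144, ⟨0, 1, 0, 0, 0, 0, 0, 0⟩),
  (156, ⟨0, 1, 0, 0, 0, 0, 0, 0⟩),
  (98, ⟨0, 1, 0, 0, 0, 0, 0, 0⟩),
  (110, ⟨0, 1, 0, 0, 0, 0, 0, 0⟩),
  (138, ⟨0, 1, 0, 0, 0, 0, 0, 0⟩),
  (128, ⟨0, 1, 0, 0, 0, 0, 0, 0⟩),
  (97, ⟨1, 0, 0, 0, 0, 0, 0, 0⟩),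
  (113, ⟨1, 0, 0, 0, 0, 0, 0, 0⟩),
  (123, ⟨1, 0, 0, 0, 0, 0, 0, 0⟩),
  (125, ⟨1, 0, 0, 0, 0, 0, 0, 0⟩),
  (131, ⟨1, 0, 0, 0, 0, 0, 0, 0⟩),
  (133, ⟨1, 0, 0, 0, 0, 0, 0, 0⟩),
  (143, ⟨1, 0, 0, 0, 0, 0, 0, 0⟩),
  (159, ⟨1, 0, 0, 0, 0, 0, 0, 0⟩),
  (169, ⟨1, 0, 0, 0, 0, 0, 0, 0⟩),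
  (170, ⟨1, 0, 0, 0, 0, 0, 0, 0⟩),
  (171, ⟨1, 0, 0, 0, 0, 0, 0, 0⟩),
  (172, ⟨1, 0, 0, 0, 0, 0, 0, 0⟩),
  (173, ⟨1, 0, 0, 0, 0, 0, 0, 0⟩),
  (174, ⟨1, 0, 0, 0, 0, 0, 0, 0⟩),
  (175, ⟨1, 0, 0, 0, 0, 0, 0, 0⟩),
  (176, ⟨1, 0, 0, 0, 0, 0, 0, 0⟩),
  (177, ⟨1, 0, 0, 0, 0, 0, 0, 0⟩),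
  (178, ⟨1, 0, 0, 0, 0, 0, 0, 0⟩),
  (179, ⟨1, 0, 0, 0, 0, 0, 0, 0⟩),
  (180, ⟨1, 0, 0, 0, 0, 0, 0, 0⟩),
  (181, ⟨1, 0, 0, 0, 0, 0, 0, 0⟩),
  (182, ⟨1, 0, 0, 0, 0, 0, 0, 0⟩),
  (183, ⟨1, 0, 0, 0, 0, 0, 0, 0⟩),
  (184, ⟨1, 0, 0, 0, 0, 0, 0, 0⟩),
  (185, ⟨1, 0, 0, 0, 0, 0, 0, 0⟩),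
  (186, ⟨1, 0, 0, 0, 0, 0, 0, 0⟩),
  (187, ⟨1, 0, 0, 0, 0, 0, 0, 0⟩),
  (188, ⟨1, 0, 0, 0, 0, 0, 0, 0⟩),
  (189, ⟨1, 0, 0, 0, 0, 0, 0, 0⟩),
  (190, ⟨1, 0, 0, 0, 0, 0, 0, 0⟩),
  (191, ⟨1, 0, 0, 0, 0, 0, 0, 0⟩),
  (192, ⟨1, 0, 0, 0, 0, 0, 0, 0⟩),
  (193, ⟨1, 0, 0, 0, 0, 0, 0, 0⟩),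
  (194, ⟨1, 0, 0, 0, 0, 0, 0, 0⟩),
  (195, ⟨1, 0, 0, 0, 0, 0, 0, 0⟩),
  (196, ⟨1, 0, 0, 0, 0, 0, 0, 0⟩),
  (197, ⟨1, 0, 0, 0, 0, 0, 0, 0⟩),
  (198, ⟨1, 0, 0, 0, 0, 0, 0, 0⟩),
  (199, ⟨1, 0, 0, 0, 0, 0, 0, 0⟩),
  (200, ⟨1, 0, 0, 0, 0, 0, 0, 0⟩),
  (201, ⟨1, 0, 0, 0, 0, 0, 0, 0⟩),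
  (202, ⟨1, 0, 0, 0, 0, 0, 0, 0⟩),
  (203, ⟨1, 0, 0, 0, 0, 0, 0, 0⟩),
  (204, ⟨1, 0, 0, 0, 0, 0, 0, 0⟩),
  (205, ⟨1, 0, 0, 0, 0, 0, 0, 0⟩),
  (206, ⟨1, 0, 0, 0, 0, 0, 0, 0⟩),
  (207, ⟨1, 0, 0, 0, 0, 0, 0, 0⟩),
  (208, ⟨1, 0, 0, 0, 0, 0, 0, 0⟩),
  (209, ⟨1, 0, 0, 0, 0, 0, 0, 0⟩),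
  (210, ⟨1, 0, 0, 0, 0, 0, 0, 0⟩),
  (211, ⟨1, 0, 0, 0, 0, 0, 0, 0⟩),
  (212, ⟨1, 0, 0, 0, 0, 0, 0, 0⟩),
  (213, ⟨1, 0, 0, 0, 0, 0, 0, 0⟩),
  (214, ⟨1, 0, 0, 0, 0, 0, 0, 0⟩),
  (215, ⟨1, 0, 0, 0, 0, 0, 0, 0⟩),
  (216, ⟨1, 0, 0, 0, 0, 0, 0, 0⟩),
  (217, ⟨1, 0, 0, 0, 0, 0, 0, 0⟩),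
  (218, ⟨1, 0, 0, 0, 0, 0, 0, 0⟩),
  (219, ⟨1, 0, 0, 0, 0, 0, 0, 0⟩),
  (220, ⟨1, 0, 0, 0, 0, 0, 0, 0⟩),
  (221, ⟨1, 0, 0, 0, 0, 0, 0, 0⟩),
  (222, ⟨1, 0, 0, 0, 0, 0, 0, 0⟩),
  (223, ⟨1, 0, 0, 0, 0, 0, 0, 0⟩),
  (224, ⟨1, 0, 0, 0, 0, 0, 0, 0⟩),
  (225, ⟨1, 0, 0, 0, 0, 0, 0, 0⟩),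
  (226, ⟨1, 0, 0, 0, 0, 0, 0, 0⟩),
  (227, ⟨1, 0, 0, 0, 0, 0, 0, 0⟩),
  (228, ⟨1, 0, 0, 0, 0, 0, 0, 0⟩),
  (229, ⟨1, 0, 0, 0, 0, 0, 0, 0⟩),
  (230, ⟨1, 0, 0, 0, 0, 0, 0, 0⟩),
  (231, ⟨1, 0, 0, 0, 0, 0, 0, 0⟩),
  (232, ⟨1, 0, 0, 0, 0, 0, 0, 0⟩),
  (233, ⟨1, 0, 0, 0, 0, 0, 0, 0⟩),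
  (234, ⟨1, 0, 0, 0, 0, 0, 0, 0⟩),
  (235, ⟨1, 0, 0, 0, 0, 0, 0, 0⟩),
  (236, ⟨1, 0, 0, 0, 0, 0, 0, 0⟩),
  (237, ⟨1, 0, 0, 0, 0, 0, 0, 0⟩),
  (238, ⟨1, 0, 0, 0, 0, 0, 0, 0⟩),
  (239, ⟨1, 0, 0, 0, 0, 0, 0, 0⟩),
  (240, ⟨1, 0, 0, 0, 0, 0, 0, 0⟩),
  (241, ⟨1, 0, 0, 0, 0, 0, 0, 0⟩),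
  (242, ⟨1, 0, 0, 0, 0, 0, 0, 0⟩),
  (243, ⟨1, 0, 0, 0, 0, 0, 0, 0⟩),
  (244, ⟨1, 0, 0, 0, 0, 0, 0, 0⟩),
  (245, ⟨1, 0, 0, 0, 0, 0, 0, 0⟩),
  (246, ⟨1, 0, 0, 0, 0, 0, 0, 0⟩),
  (247, ⟨1, 0, 0, 0, 0, 0, 0, 0⟩),
  (248, ⟨1, 0, 0, 0, 0, 0, 0, 0⟩),
  (249, ⟨1, 0, 0, 0, 0, 0, 0, 0⟩),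
  (250, ⟨1, 0, 0, 0, 0, 0, 0, 0⟩),
  (251, ⟨1, 0, 0, 0, 0, 0, 0, 0⟩),
  (252, ⟨1, 0, 0, 0, 0, 0, 0, 0⟩),
  (253, ⟨1, 0, 0, 0, 0, 0, 0, 0⟩),
  (254, ⟨1, 0, 0, 0, 0, 0, 0, 0⟩),
  (255, ⟨1, 0, 0, 0, 0, 0, 0, 0⟩),
  (256, ⟨1, 0, 0, 0, 0, 0, 0, 0⟩),
  (257, ⟨1, 0, 0, 0, 0, 0, 0, 0⟩),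
  (258, ⟨1, 0, 0, 0, 0, 0, 0, 0⟩),
  (259, ⟨1, 0, 0, 0, 0, 0, 0, 0⟩),
  (260, ⟨1, 0, 0, 0, 0, 0, 0, 0⟩),
  (261, ⟨1, 0, 0, 0, 0, 0, 0, 0⟩),
  (262, ⟨1, 0, 0, 0, 0, 0, 0, 0⟩),
  (263, ⟨1, 0, 0, 0, 0, 0, 0, 0⟩),
  (264, ⟨1, 0, 0, 0, 0, 0, 0, 0⟩),
  (265, ⟨1, 0, 0, 0, 0, 0, 0, 0⟩),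
  (266, ⟨1, 0, 0, 0, 0, 0, 0, 0⟩),
  (267, ⟨1, 0, 0, 0, 0, 0, 0, 0⟩),
  (268, ⟨1, 0, 0, 0, 0, 0, 0, 0⟩),
  (269, ⟨1, 0, 0, 0, 0, 0, 0, 0⟩),
  (270, ⟨1, 0, 0, 0, 0, 0, 0, 0⟩),
  (271, ⟨1, 0, 0, 0, 0, 0, 0, 0⟩),
  (272, ⟨1, 0, 0, 0, 0, 0, 0, 0⟩),
  (273, ⟨1, 0, 0, 0, 0, 0, 0, 0⟩),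
  (263, ⟨-1, 0, 0, 0, 0, 0, 0, 0⟩),
  (247, ⟨-1, 0, 0, 0, 0, 0, 0, 0⟩),
  (237, ⟨-1, 0, 0, 0, 0, 0, 0, 0⟩),
  (235, ⟨-1, 0, 0, 0, 0, 0, 0, 0⟩),
  (229, ⟨-1, 0, 0, 0, 0, 0, 0, 0⟩),
  (227, ⟨-1, 0, 0, 0, 0, 0, 0, 0⟩),
  (217, ⟨-1, 0, 0, 0, 0, 0, 0, 0⟩),
  (201, ⟨-1, 0, 0, 0, 0, 0, 0, 0⟩),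
  (234, ⟨0, -1, 0, 0, 0, 0, 0, 0⟩),
  (244, ⟨0, -1, 0, 0, 0, 0, 0, 0⟩),
  (216, ⟨0, -1, 0, 0, 0, 0, 0, 0⟩),
  (204, ⟨0, -1, 0, 0, 0, 0, 0, 0⟩),
  (262, ⟨0, -1, 0, 0, 0, 0, 0, 0⟩),
  (250, ⟨0, -1, 0, 0, 0, 0, 0, 0⟩),
  (222, ⟨0, -1, 0, 0, 0, 0, 0, 0⟩),
  (232, ⟨0, -1, 0, 0, 0, 0, 0, 0⟩),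
  (246, ⟨0, -1, 1, 1, 1, -1, 0, 2⟩),
  (240, ⟨0, -1, 1, 1, 1, -1, 0, 2⟩),
  (206, ⟨0, -1, 1, 1, 1, -1, 0, 2⟩),
  (210, ⟨0, -1, 1, 1, 1, -1, 0, 2⟩),
  (256, ⟨0, -1, 1, 1, 1, -1, 0, 2⟩),
  (260, ⟨0, -1, 1, 1, 1, -1, 0, 2⟩),
  (226, ⟨0, -1, 1, 1, 1, -1, 0, 2⟩),
  (220, ⟨0, -1, 1, 1, 1, -1, 0, 2⟩),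
  (242, ⟨1, 0, -1, 1, 1, 1, -2, 0⟩),
  (214, ⟨1, 0, -1, 1, 1, 1, -2, 0⟩),
  (254, ⟨1, 0, -1, 1, 1, 1, -2, 0⟩),
  (208, ⟨1, 0, -1, 1, 1, 1, -2, 0⟩),
  (258, ⟨1, 0, -1, 1, 1, 1, -2, 0⟩),
  (212, ⟨1, 0, -1, 1, 1, 1, -2, 0⟩),
  (252, ⟨1, 0, -1, 1, 1, 1, -2, 0⟩),
  (224, ⟨1, 0, -1, 1, 1, 1, -2, 0⟩),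
  (223, ⟨-1, 0, 1, -1, -1, -1, 2, 0⟩),
  (251, ⟨-1, 0, 1, -1, -1, -1, 2, 0⟩),
  (211, ⟨-1, 0, 1, -1, -1, -1, 2, 0⟩),
  (257, ⟨-1, 0, 1, -1, -1, -1, 2, 0⟩),
  (207, ⟨-1, 0, 1, -1, -1, -1, 2, 0⟩),
  (253, ⟨-1, 0, 1, -1, -1, -1, 2, 0⟩),
  (213, ⟨-1, 0, 1, -1, -1, -1, 2, 0⟩),
  (241, ⟨-1, 0, 1, -1, -1, -1, 2, 0⟩),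
  (219, ⟨0, 1, -1, -1, -1, 1, 0, -2⟩),
  (225, ⟨0, 1, -1, -1, -1, 1, 0, -2⟩),
  (259, ⟨0, 1, -1, -1, -1, 1, 0, -2⟩),
  (255, ⟨0, 1, -1, -1, -1, 1, 0, -2⟩),
  (209, ⟨0, 1, -1, -1, -1, 1, 0, -2⟩),
  (205, ⟨0, 1, -1, -1, -1, 1, 0, -2⟩),
  (239, ⟨0, 1, -1, -1, -1, 1, 0, -2⟩),
  (245, ⟨0, 1, -1, -1, -1, 1, 0, -2⟩),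
  (231, ⟨0, 1, 0, 0, 0, 0, 0, 0⟩),
  (221, ⟨0, 1, 0, 0, 0, 0, 0, 0⟩),
  (249, ⟨0, 1, 0, 0, 0, 0, 0, 0⟩),
  (261, ⟨0, 1, 0, 0, 0, 0, 0, 0⟩),
  (203, ⟨0, 1, 0, 0, 0, 0, 0, 0⟩),
  (215, ⟨0, 1, 0, 0, 0, 0, 0, 0⟩),
  (243, ⟨0, 1, 0, 0, 0, 0, 0, 0⟩),
  (233, ⟨0, 1, 0, 0, 0, 0, 0, 0⟩),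
  (202, ⟨1, 0, 0, 0, 0, 0, 0, 0⟩),
  (218, ⟨1, 0, 0, 0, 0, 0, 0, 0⟩),
  (228, ⟨1, 0, 0, 0, 0, 0, 0, 0⟩),
  (230, ⟨1, 0, 0, 0, 0, 0, 0, 0⟩),
  (236, ⟨1, 0, 0, 0, 0, 0, 0, 0⟩),
  (238, ⟨1, 0, 0, 0, 0, 0, 0, 0⟩),
  (248, ⟨1, 0, 0, 0, 0, 0, 0, 0⟩),
  (264, ⟨1, 0, 0, 0, 0, 0, 0, 0⟩),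
  (274, ⟨1, 0, 0, 0, 0, 0, 0, 0⟩),
  (275, ⟨1, 0, 0, 0, 0, 0, 0, 0⟩),
  (276, ⟨1, 0, 0, 0, 0, 0, 0, 0⟩),
  (277, ⟨1, 0, 0, 0, 0, 0, 0, 0⟩),
  (278, ⟨1, 0, 0, 0, 0, 0, 0, 0⟩),
  (279, ⟨1, 0, 0, 0, 0, 0, 0, 0⟩),
  (280, ⟨1, 0, 0, 0, 0, 0, 0, 0⟩),
  (281, ⟨1, 0, 0, 0, 0, 0, 0, 0⟩),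
  (282, ⟨1, 0, 0, 0, 0, 0, 0, 0⟩),
  (283, ⟨1, 0, 0, 0, 0, 0, 0, 0⟩),
  (284, ⟨1, 0, 0, 0, 0, 0, 0, 0⟩),
  (285, ⟨1, 0, 0, 0, 0, 0, 0, 0⟩),
  (286, ⟨1, 0, 0, 0, 0, 0, 0, 0⟩),
  (287, ⟨1, 0, 0, 0, 0, 0, 0, 0⟩),
  (288, ⟨1, 0, 0, 0, 0, 0, 0, 0⟩),
  (289, ⟨1, 0, 0, 0, 0, 0, 0, 0⟩),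
  (290, ⟨1, 0, 0, 0, 0, 0, 0, 0⟩),
  (291, ⟨1, 0, 0, 0, 0, 0, 0, 0⟩),
  (292, ⟨1, 0, 0, 0, 0, 0, 0, 0⟩),
  (293, ⟨1, 0, 0, 0, 0, 0, 0, 0⟩),
  (294, ⟨1, 0, 0, 0, 0, 0, 0, 0⟩),
  (295, ⟨1, 0, 0, 0, 0, 0, 0, 0⟩),
  (296, ⟨1, 0, 0, 0, 0, 0, 0, 0⟩),
  (297, ⟨1, 0, 0, 0, 0, 0, 0, 0⟩),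
  (298, ⟨1, 0, 0, 0, 0, 0, 0, 0⟩),
  (299, ⟨1, 0, 0, 0, 0, 0, 0, 0⟩),
  (300, ⟨1, 0, 0, 0, 0, 0, 0, 0⟩),
  (301, ⟨1, 0, 0, 0, 0, 0, 0, 0⟩),
  (302, ⟨1, 0, 0, 0, 0, 0, 0, 0⟩),
  (303, ⟨1, 0, 0, 0, 0, 0, 0, 0⟩),
  (304, ⟨1, 0, 0, 0, 0, 0, 0, 0⟩),
  (305, ⟨1, 0, 0, 0, 0, 0, 0, 0⟩),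
  (7, ⟨-1, 0, 0, 0, 0, 0, 0, 0⟩),
  (56, ⟨1, 0, 0, 0, 0, 0, 0, 0⟩),
  (52, ⟨0, -1, 0, 0, 0, 0, 0, 0⟩),
  (11, ⟨0, 1, 0, 0, 0, 0, 0, 0⟩),
  (45, ⟨0, -1, 1, 1, 1, -1, 0, 2⟩),
  (18, ⟨0, 1, -1, -1, -1, 1, 0, -2⟩),
  (36, ⟨1, 0, -1, 1, 1, 1, -2, 0⟩),
  (27, ⟨-1, 0, 1, -1, -1, -1, 2, 0⟩),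
  (44, ⟨0, -1, 1, 1, 1, -1, 0, 2⟩),
  (19, ⟨0, 1, -1, -1, -1, 1, 0, -2⟩),
  (34, ⟨1, 0, -1, 1, 1, 1, -2, 0⟩),
  (29, ⟨-1, 0, 1, -1, -1, -1, 2, 0⟩),
  (38, ⟨1, 0, -1, 1, 1, 1, -2, 0⟩),
  (25, ⟨-1, 0, 1, -1, -1, -1, 2, 0⟩),
  (53, ⟨0, -1, 0, 0, 0, 0, 0, 0⟩),
  (10, ⟨0, 1, 0, 0, 0, 0, 0, 0⟩),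
  (6, ⟨-1, 0, 0, 0, 0, 0, 0, 0⟩),
  (57, ⟨1, 0, 0, 0, 0, 0, 0, 0⟩),
  (40, ⟨0, -1, 1, 1, 1, -1, 0, 2⟩),
  (23, ⟨0, 1, -1, -1, -1, 1, 0, -2⟩),
  (49, ⟨0, -1, 0, 0, 0, 0, 0, 0⟩),
  (14, ⟨0, 1, 0, 0, 0, 0, 0, 0⟩),
  (32, ⟨1, 0, -1, 1, 1, 1, -2, 0⟩),
  (31, ⟨-1, 0, 1, -1, -1, -1, 2, 0⟩),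
  (41, ⟨0, -1, 1, 1, 1, -1, 0, 2⟩),
  (22, ⟨0, 1, -1, -1, -1, 1, 0, -2⟩),
  (5, ⟨-1, 0, 0, 0, 0, 0, 0, 0⟩),
  (58, ⟨1, 0, 0, 0, 0, 0, 0, 0⟩),
  (4, ⟨-1, 0, 0, 0, 0, 0, 0, 0⟩),
  (59, ⟨1, 0, 0, 0, 0, 0, 0, 0⟩),
  (48, ⟨0, -1, 0, 0, 0, 0, 0, 0⟩),
  (15, ⟨0, 1, 0, 0, 0, 0, 0, 0⟩),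
  (55, ⟨0, -1, 0, 0, 0, 0, 0, 0⟩),
  (8, ⟨0, 1, 0, 0, 0, 0, 0, 0⟩),
  (3, ⟨-1, 0, 0, 0, 0, 0, 0, 0⟩),
  (60, ⟨1, 0, 0, 0, 0, 0, 0, 0⟩),
  (2, ⟨-1, 0, 0, 0, 0, 0, 0, 0⟩),
  (61, ⟨1, 0, 0, 0, 0, 0, 0, 0⟩),
  (46, ⟨0, -1, 1, 1, 1, -1, 0, 2⟩),
  (17, ⟨0, 1, -1, -1, -1, 1, 0, -2⟩),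
  (39, ⟨1, 0, -1, 1, 1, 1, -2, 0⟩),
  (24, ⟨-1, 0, 1, -1, -1, -1, 2, 0⟩),
  (54, ⟨0, -1, 0, 0, 0, 0, 0, 0⟩),
  (9, ⟨0, 1, 0, 0, 0, 0, 0, 0⟩),
  (47, ⟨0, -1, 1, 1, 1, -1, 0, 2⟩),
  (16, ⟨0, 1, -1, -1, -1, 1, 0, -2⟩),
  (1, ⟨-1, 0, 0, 0, 0, 0, 0, 0⟩),
  (62, ⟨1, 0, 0, 0, 0, 0, 0, 0⟩),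
  (50, ⟨0, -1, 0, 0, 0, 0, 0, 0⟩),
  (13, ⟨0, 1, 0, 0, 0, 0, 0, 0⟩),
  (33, ⟨1, 0, -1, 1, 1, 1, -2, 0⟩),
  (30, ⟨-1, 0, 1, -1, -1, -1, 2, 0⟩),
  (37, ⟨1, 0, -1, 1, 1, 1, -2, 0⟩),
  (26, ⟨-1, 0, 1, -1, -1, -1, 2, 0⟩),
  (43, ⟨0, -1, 1, 1, 1, -1, 0, 2⟩),
  (20, ⟨0, 1, -1, -1, -1, 1, 0, -2⟩),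
  (35, ⟨1, 0, -1, 1, 1, 1, -2, 0⟩),
  (28, ⟨-1, 0, 1, -1, -1, -1, 2, 0⟩),
  (42, ⟨0, -1, 1, 1, 1, -1, 0, 2⟩),
  (21, ⟨0, 1, -1, -1, -1, 1, 0, -2⟩),
  (51, ⟨0, -1, 0, 0, 0, 0, 0, 0⟩),
  (12, ⟨0, 1, 0, 0, 0, 0, 0, 0⟩),
  (0, ⟨-1, 0, 0, 0, 0, 0, 0, 0⟩),
  (63, ⟨1, 0, 0, 0, 0, 0, 0, 0⟩),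
  (306, ⟨1, 0, 0, 0, 0, 0, 0, 0⟩),
  (307, ⟨1, 0, 0, 0, 0, 0, 0, 0⟩),
  (308, ⟨1, 0, 0, 0, 0, 0, 0, 0⟩),
  (309, ⟨1, 0, 0, 0, 0, 0, 0, 0⟩),
  (310, ⟨1, 0, 0, 0, 0, 0, 0, 0⟩),
  (311, ⟨1, 0, 0, 0, 0, 0, 0, 0⟩),
  (312, ⟨1, 0, 0, 0, 0, 0, 0, 0⟩),
  (313, ⟨1, 0, 0, 0, 0, 0, 0, 0⟩),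
  (314, ⟨1, 0, 0, 0, 0, 0, 0, 0⟩)]

/-- invariants of the line of a vector -/
def lineKey (W : V3) : List Ic :=
  [W.x.conj.mul W.x, W.y.conj.mul W.y, W.z.conj.mul W.z, W.x.conj.mul W.y, W.x.conj.mul W.z,
    W.y.conj.mul W.z]

def keyLit : List (List Ic) := [
  [⟨1, 0, 0, 0, 0, 0, 0, 0⟩, ⟨1, 0, 0, 0, 0, 0, 0, 0⟩, ⟨2, 0, 0, 0, 0, 0, 0, 0⟩, ⟨-1, 0, 0, 0, 0, 0, 0, 0⟩, ⟨0, 0, 0, 0, 0, 0, -1, 1⟩, ⟨0, 0, 0, 0, 0, 0, 1, -1⟩],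
  [⟨1, 0, 0, 0, 0, 0, 0, 0⟩, ⟨1, 0, 0, 0, 0, 0, 0, 0⟩, ⟨2, 0, 0, 0, 0, 0, 0, 0⟩, ⟨-1, 0, 0, 0, 0, 0, 0, 0⟩, ⟨0, 0, 0, 0, 0, 2, -1, -1⟩, ⟨0, 0, 0, 0, 0, -2, 1, 1⟩],
  [⟨1, 0, 0, 0, 0, 0, 0, 0⟩, ⟨1, 0, 0, 0, 0, 0, 0, 0⟩, ⟨2, 0, 0, 0, 0, 0, 0, 0⟩, ⟨-1, 0, 0, 0, 0, 0, 0, 0⟩, ⟨0, 0, 0, 0, 2, 0, -1, 1⟩, ⟨0, 0, 0, 0, -2, 0, 1, -1⟩],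
  [⟨1, 0, 0, 0, 0, 0, 0, 0⟩, ⟨1, 0, 0, 0, 0, 0, 0, 0⟩, ⟨2, 0, 0, 0, 0, 0, 0, 0⟩, ⟨-1, 0, 0, 0, 0, 0, 0, 0⟩, ⟨0, 0, 0, 0, 0, 0, 1, 1⟩, ⟨0, 0, 0, 0, 0, 0, -1, -1⟩],
  [⟨1, 0, 0, 0, 0, 0, 0, 0⟩, ⟨1, 0, 0, 0, 0, 0, 0, 0⟩, ⟨2, 0, 0, 0, 0, 0, 0, 0⟩, ⟨-1, 0, 0, 0, 0, 0, 0, 0⟩, ⟨0, 0, 0, 0, 0, 0, -1, -1⟩, ⟨0, 0, 0, 0, 0, 0, 1, 1⟩],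
  [⟨1, 0, 0, 0, 0, 0, 0, 0⟩, ⟨1, 0, 0, 0, 0, 0, 0, 0⟩, ⟨2, 0, 0, 0, 0, 0, 0, 0⟩, ⟨-1, 0, 0, 0, 0, 0, 0, 0⟩, ⟨0, 0, 0, 0, -2, 0, 1, -1⟩, ⟨0, 0, 0, 0, 2, 0, -1, 1⟩],
  [⟨1, 0, 0, 0, 0, 0, 0, 0⟩, ⟨1, 0, 0, 0, 0, 0, 0, 0⟩, ⟨2, 0, 0, 0, 0, 0, 0, 0⟩, ⟨-1, 0, 0, 0, 0, 0, 0, 0⟩, ⟨0, 0, 0, 0, 0, -2, 1, 1⟩, ⟨0, 0, 0, 0, 0, 2, -1, -1⟩],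
  [⟨1, 0, 0, 0, 0, 0, 0, 0⟩, ⟨1, 0, 0, 0, 0, 0, 0, 0⟩, ⟨2, 0, 0, 0, 0, 0, 0, 0⟩, ⟨-1, 0, 0, 0, 0, 0, 0, 0⟩, ⟨0, 0, 0, 0, 0, 0, 1, -1⟩, ⟨0, 0, 0, 0, 0, 0, -1, 1⟩],
  [⟨1, 0, 0, 0, 0, 0, 0, 0⟩, ⟨1, 0, 0, 0, 0, 0, 0, 0⟩, ⟨2, 0, 0, 0, 0, 0, 0, 0⟩, ⟨0, -1, 0, 0, 0, 0, 0, 0⟩, ⟨-1, 1, 0, -2, -2, 0, 1, -1⟩, ⟨-1, -1, 2, 0, 0, -2, 1, 1⟩],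
  [⟨1, 0, 0, 0, 0, 0, 0, 0⟩, ⟨1, 0, 0, 0, 0, 0, 0, 0⟩, ⟨2, 0, 0, 0, 0, 0, 0, 0⟩, ⟨0, -1, 0, 0, 0, 0, 0, 0⟩, ⟨-1, -1, 0, 0, 0, -2, 1, 1⟩, ⟨1, -1, 0, 0, 2, 0, -1, 1⟩],
  [⟨1, 0, 0, 0, 0, 0, 0, 0⟩, ⟨1, 0, 0, 0, 0, 0, 0, 0⟩, ⟨2, 0, 0, 0, 0, 0, 0, 0⟩, ⟨0, -1, 0, 0, 0, 0, 0, 0⟩, ⟨-1, 1, 0, 0, -2, 0, 1, -1⟩, ⟨-1, -1, 0, 0, 0, -2, 1, 1⟩],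
  [⟨1, 0, 0, 0, 0, 0, 0, 0⟩, ⟨1, 0, 0, 0, 0, 0, 0, 0⟩, ⟨2, 0, 0, 0, 0, 0, 0, 0⟩, ⟨0, -1, 0, 0, 0, 0, 0, 0⟩, ⟨1, 1, -2, 0, 0, 2, -1, -1⟩, ⟨-1, 1, 0, -2, -2, 0, 1, -1⟩],
  [⟨1, 0, 0, 0, 0, 0, 0, 0⟩, ⟨1, 0, 0, 0, 0, 0, 0, 0⟩, ⟨2, 0, 0, 0, 0, 0, 0, 0⟩, ⟨0, -1, 0, 0, 0, 0, 0, 0⟩, ⟨-1, -1, 2, 0, 0, -2, 1, 1⟩, ⟨1, -1, 0, 2, 2, 0, -1, 1⟩],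
  [⟨1, 0, 0, 0, 0, 0, 0, 0⟩, ⟨1, 0, 0, 0, 0, 0, 0, 0⟩, ⟨2, 0, 0, 0, 0, 0, 0, 0⟩, ⟨0, -1, 0, 0, 0, 0, 0, 0⟩, ⟨1, -1, 0, 0, 2, 0, -1, 1⟩, ⟨1, 1, 0, 0, 0, 2, -1, -1⟩],
  [⟨1, 0, 0, 0, 0, 0, 0, 0⟩, ⟨1, 0, 0, 0, 0, 0, 0, 0⟩, ⟨2, 0, 0, 0, 0, 0, 0, 0⟩, ⟨0, -1, 0, 0, 0, 0, 0, 0⟩, ⟨1, 1, 0, 0, 0, 2, -1, -1⟩, ⟨-1, 1, 0, 0, -2, 0, 1, -1⟩],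
  [⟨1, 0, 0, 0, 0, 0, 0, 0⟩, ⟨1, 0, 0, 0, 0, 0, 0, 0⟩, ⟨2, 0, 0, 0, 0, 0, 0, 0⟩, ⟨0, -1, 0, 0, 0, 0, 0, 0⟩, ⟨1, -1, 0, 2, 2, 0, -1, 1⟩, ⟨1, 1, -2, 0, 0, 2, -1, -1⟩],
  [⟨1, 0, 0, 0, 0, 0, 0, 0⟩, ⟨1, 0, 0, 0, 0, 0, 0, 0⟩, ⟨2, 0, 0, 0, 0, 0, 0, 0⟩, ⟨0, -1, 1, 1, 1, -1, 0, 2⟩, ⟨-1, 1, 1, -1, -1, -1, 1, 1⟩, ⟨1, 1, -1, 1, -1, 1, -1, -1⟩],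
  [⟨1, 0, 0, 0, 0, 0, 0, 0⟩, ⟨1, 0, 0, 0, 0, 0, 0, 0⟩, ⟨2, 0, 0, 0, 0, 0, 0, 0⟩, ⟨0, -1, 1, 1, 1, -1, 0, 2⟩, ⟨-1, -1, 1, 1, 1, -1, -1, 1⟩, ⟨1, -1, 1, 1, 1, 1, -1, 1⟩],
  [⟨1, 0, 0, 0, 0, 0, 0, 0⟩, ⟨1, 0, 0, 0, 0, 0, 0, 0⟩, ⟨2, 0, 0, 0, 0, 0, 0, 0⟩, ⟨0, -1, 1, 1, 1, -1, 0, 2⟩, ⟨-1, -1, 1, -1, 1, -1, 1, 1⟩, ⟨-1, 1, 1, -1, -1, -1, 1, 1⟩],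
  [⟨1, 0, 0, 0, 0, 0, 0, 0⟩, ⟨1, 0, 0, 0, 0, 0, 0, 0⟩, ⟨2, 0, 0, 0, 0, 0, 0, 0⟩, ⟨0, -1, 1, 1, 1, -1, 0, 2⟩, ⟨-1, 1, -1, -1, -1, -1, 1, -1⟩, ⟨-1, -1, 1, 1, 1, -1, -1, 1⟩],
  [⟨1, 0, 0, 0, 0, 0, 0, 0⟩, ⟨1, 0, 0, 0, 0, 0, 0, 0⟩, ⟨2, 0, 0, 0, 0, 0, 0, 0⟩, ⟨0, -1, 1, 1, 1, -1, 0, 2⟩, ⟨1, -1, 1, 1, 1, 1, -1, 1⟩, ⟨1, 1, -1, -1, -1, 1, 1, -1⟩],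
  [⟨1, 0, 0, 0, 0, 0, 0, 0⟩, ⟨1, 0, 0, 0, 0, 0, 0, 0⟩, ⟨2, 0, 0, 0, 0, 0, 0, 0⟩, ⟨0, -1, 1, 1, 1, -1, 0, 2⟩, ⟨1, 1, -1, 1, -1, 1, -1, -1⟩, ⟨1, -1, -1, 1, 1, 1, -1, -1⟩],
  [⟨1, 0, 0, 0, 0, 0, 0, 0⟩, ⟨1, 0, 0, 0, 0, 0, 0, 0⟩, ⟨2, 0, 0, 0, 0, 0, 0, 0⟩, ⟨0, -1, 1, 1, 1, -1, 0, 2⟩, ⟨1, 1, -1, -1, -1, 1, 1, -1⟩, ⟨-1, 1, -1, -1, -1, -1, 1, -1⟩],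
  [⟨1, 0, 0, 0, 0, 0, 0, 0⟩, ⟨1, 0, 0, 0, 0, 0, 0, 0⟩, ⟨2, 0, 0, 0, 0, 0, 0, 0⟩, ⟨0, -1, 1, 1, 1, -1, 0, 2⟩, ⟨1, -1, -1, 1, 1, 1, -1, -1⟩, ⟨-1, -1, 1, -1, 1, -1, 1, 1⟩],
  [⟨1, 0, 0, 0, 0, 0, 0, 0⟩, ⟨1, 0, 0, 0, 0, 0, 0, 0⟩, ⟨2, 0, 0, 0, 0, 0, 0, 0⟩, ⟨1, 0, -1, 1, 1, 1, -2, 0⟩, ⟨0, 2, -1, -1, -1, 1, -1, -1⟩, ⟨0, 0, -1, -1, -1, -1, 1, -1⟩],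
  [⟨1, 0, 0, 0, 0, 0, 0, 0⟩, ⟨1, 0, 0, 0, 0, 0, 0, 0⟩, ⟨2, 0, 0, 0, 0, 0, 0, 0⟩, ⟨1, 0, -1, 1, 1, 1, -2, 0⟩, ⟨-2, 0, 1, -1, -1, -1, 1, -1⟩, ⟨0, 0, -1, 1, -1, 1, -1, -1⟩],
  [⟨1, 0, 0, 0, 0, 0, 0, 0⟩, ⟨1, 0, 0, 0, 0, 0, 0, 0⟩, ⟨2, 0, 0, 0, 0, 0, 0, 0⟩, ⟨1, 0, -1, 1, 1, 1, -2, 0⟩, ⟨0, 0, -1, 1, -1, 1, -1, -1⟩, ⟨2, 0, -1, 1, 1, 1, -1, 1⟩],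
  [⟨1, 0, 0, 0, 0, 0, 0, 0⟩, ⟨1, 0, 0, 0, 0, 0, 0, 0⟩, ⟨2, 0, 0, 0, 0, 0, 0, 0⟩, ⟨1, 0, -1, 1, 1, 1, -2, 0⟩, ⟨0, 0, 1, 1, 1, 1, -1, 1⟩, ⟨0, 2, -1, -1, -1, 1, -1, -1⟩],
  [⟨1, 0, 0, 0, 0, 0, 0, 0⟩, ⟨1, 0, 0, 0, 0, 0, 0, 0⟩, ⟨2, 0, 0, 0, 0, 0, 0, 0⟩, ⟨1, 0, -1, 1, 1, 1, -2, 0⟩, ⟨0, 0, -1, -1, -1, -1, 1, -1⟩, ⟨0, -2, 1, 1, 1, -1, 1, 1⟩],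
  [⟨1, 0, 0, 0, 0, 0, 0, 0⟩, ⟨1, 0, 0, 0, 0, 0, 0, 0⟩, ⟨2, 0, 0, 0, 0, 0, 0, 0⟩, ⟨1, 0, -1, 1, 1, 1, -2, 0⟩, ⟨0, 0, 1, -1, 1, -1, 1, 1⟩, ⟨-2, 0, 1, -1, -1, -1, 1, -1⟩],
  [⟨1, 0, 0, 0, 0, 0, 0, 0⟩, ⟨1, 0, 0, 0, 0, 0, 0, 0⟩, ⟨2, 0, 0, 0, 0, 0, 0, 0⟩, ⟨1, 0, -1, 1, 1, 1, -2, 0⟩, ⟨2, 0, -1, 1, 1, 1, -1, 1⟩, ⟨0, 0, 1, -1, 1, -1, 1, 1⟩],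
  [⟨1, 0, 0, 0, 0, 0, 0, 0⟩, ⟨1, 0, 0, 0, 0, 0, 0, 0⟩, ⟨2, 0, 0, 0, 0, 0, 0, 0⟩, ⟨1, 0, -1, 1, 1, 1, -2, 0⟩, ⟨0, -2, 1, 1, 1, -1, 1, 1⟩, ⟨0, 0, 1, 1, 1, 1, -1, 1⟩],
  [⟨1, 0, 0, 0, 0, 0, 0, 0⟩, ⟨1, 0, 0, 0, 0, 0, 0, 0⟩, ⟨2, 0, 0, 0, 0, 0, 0, 0⟩, ⟨-1, 0, 1, -1, -1, -1, 2, 0⟩, ⟨0, 2, -1, -1, -1, 1, -1, -1⟩, ⟨0, 0, 1, 1, 1, 1, -1, 1⟩],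
  [⟨1, 0, 0, 0, 0, 0, 0, 0⟩, ⟨1, 0, 0, 0, 0, 0, 0, 0⟩, ⟨2, 0, 0, 0, 0, 0, 0, 0⟩, ⟨-1, 0, 1, -1, -1, -1, 2, 0⟩, ⟨-2, 0, 1, -1, -1, -1, 1, -1⟩, ⟨0, 0, 1, -1, 1, -1, 1, 1⟩],
  [⟨1, 0, 0, 0, 0, 0, 0, 0⟩, ⟨1, 0, 0, 0, 0, 0, 0, 0⟩, ⟨2, 0, 0, 0, 0, 0, 0, 0⟩, ⟨-1, 0, 1, -1, -1, -1, 2, 0⟩, ⟨0, 0, -1, 1, -1, 1, -1, -1⟩, ⟨-2, 0, 1, -1, -1, -1, 1, -1⟩],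
  [⟨1, 0, 0, 0, 0, 0, 0, 0⟩, ⟨1, 0, 0, 0, 0, 0, 0, 0⟩, ⟨2, 0, 0, 0, 0, 0, 0, 0⟩, ⟨-1, 0, 1, -1, -1, -1, 2, 0⟩, ⟨0, 0, 1, 1, 1, 1, -1, 1⟩, ⟨0, -2, 1, 1, 1, -1, 1, 1⟩],
  [⟨1, 0, 0, 0, 0, 0, 0, 0⟩, ⟨1, 0, 0, 0, 0, 0, 0, 0⟩, ⟨2, 0, 0, 0, 0, 0, 0, 0⟩, ⟨-1, 0, 1, -1, -1, -1, 2, 0⟩, ⟨0, 0, -1, -1, -1, -1, 1, -1⟩, ⟨0, 2, -1, -1, -1, 1, -1, -1⟩],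
  [⟨1, 0, 0, 0, 0, 0, 0, 0⟩, ⟨1, 0, 0, 0, 0, 0, 0, 0⟩, ⟨2, 0, 0, 0, 0, 0, 0, 0⟩, ⟨-1, 0, 1, -1, -1, -1, 2, 0⟩, ⟨0, 0, 1, -1, 1, -1, 1, 1⟩, ⟨2, 0, -1, 1, 1, 1, -1, 1⟩],
  [⟨1, 0, 0, 0, 0, 0, 0, 0⟩, ⟨1, 0, 0, 0, 0, 0, 0, 0⟩, ⟨2, 0, 0, 0, 0, 0, 0, 0⟩, ⟨-1, 0, 1, -1, -1, -1, 2, 0⟩, ⟨2, 0, -1, 1, 1, 1, -1, 1⟩, ⟨0, 0, -1, 1, -1, 1, -1, -1⟩],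
  [⟨1, 0, 0, 0, 0, 0, 0, 0⟩, ⟨1, 0, 0, 0, 0, 0, 0, 0⟩, ⟨2, 0, 0, 0, 0, 0, 0, 0⟩, ⟨-1, 0, 1, -1, -1, -1, 2, 0⟩, ⟨0, -2, 1, 1, 1, -1, 1, 1⟩, ⟨0, 0, -1, -1, -1, -1, 1, -1⟩],
  [⟨1, 0, 0, 0, 0, 0, 0, 0⟩, ⟨1, 0, 0, 0, 0, 0, 0, 0⟩, ⟨2, 0, 0, 0, 0, 0, 0, 0⟩, ⟨0, 1, -1, -1, -1, 1, 0, -2⟩, ⟨-1, 1, 1, -1, -1, -1, 1, 1⟩, ⟨-1, -1, 1, -1, 1, -1, 1, 1⟩],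
  [⟨1, 0, 0, 0, 0, 0, 0, 0⟩, ⟨1, 0, 0, 0, 0, 0, 0, 0⟩, ⟨2, 0, 0, 0, 0, 0, 0, 0⟩, ⟨0, 1, -1, -1, -1, 1, 0, -2⟩, ⟨-1, -1, 1, 1, 1, -1, -1, 1⟩, ⟨-1, 1, -1, -1, -1, -1, 1, -1⟩],
  [⟨1, 0, 0, 0, 0, 0, 0, 0⟩, ⟨1, 0, 0, 0, 0, 0, 0, 0⟩, ⟨2, 0, 0, 0, 0, 0, 0, 0⟩, ⟨0, 1, -1, -1, -1, 1, 0, -2⟩, ⟨-1, -1, 1, -1, 1, -1, 1, 1⟩, ⟨1, -1, -1, 1, 1, 1, -1, -1⟩],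
  [⟨1, 0, 0, 0, 0, 0, 0, 0⟩, ⟨1, 0, 0, 0, 0, 0, 0, 0⟩, ⟨2, 0, 0, 0, 0, 0, 0, 0⟩, ⟨0, 1, -1, -1, -1, 1, 0, -2⟩, ⟨-1, 1, -1, -1, -1, -1, 1, -1⟩, ⟨1, 1, -1, -1, -1, 1, 1, -1⟩],
  [⟨1, 0, 0, 0, 0, 0, 0, 0⟩, ⟨1, 0, 0, 0, 0, 0, 0, 0⟩, ⟨2, 0, 0, 0, 0, 0, 0, 0⟩, ⟨0, 1, -1, -1, -1, 1, 0, -2⟩, ⟨1, -1, 1, 1, 1, 1, -1, 1⟩, ⟨-1, -1, 1, 1, 1, -1, -1, 1⟩],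
  [⟨1, 0, 0, 0, 0, 0, 0, 0⟩, ⟨1, 0, 0, 0, 0, 0, 0, 0⟩, ⟨2, 0, 0, 0, 0, 0, 0, 0⟩, ⟨0, 1, -1, -1, -1, 1, 0, -2⟩, ⟨1, 1, -1, 1, -1, 1, -1, -1⟩, ⟨-1, 1, 1, -1, -1, -1, 1, 1⟩],
  [⟨1, 0, 0, 0, 0, 0, 0, 0⟩, ⟨1, 0, 0, 0, 0, 0, 0, 0⟩, ⟨2, 0, 0, 0, 0, 0, 0, 0⟩, ⟨0, 1, -1, -1, -1, 1, 0, -2⟩, ⟨1, 1, -1, -1, -1, 1, 1, -1⟩, ⟨1, -1, 1, 1, 1, 1, -1, 1⟩],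
  [⟨1, 0, 0, 0, 0, 0, 0, 0⟩, ⟨1, 0, 0, 0, 0, 0, 0, 0⟩, ⟨2, 0, 0, 0, 0, 0, 0, 0⟩, ⟨0, 1, -1, -1, -1, 1, 0, -2⟩, ⟨1, -1, -1, 1, 1, 1, -1, -1⟩, ⟨1, 1, -1, 1, -1, 1, -1, -1⟩],
  [⟨1, 0, 0, 0, 0, 0, 0, 0⟩, ⟨1, 0, 0, 0, 0, 0, 0, 0⟩, ⟨2, 0, 0, 0, 0, 0, 0, 0⟩, ⟨0, 1, 0, 0, 0, 0, 0, 0⟩, ⟨-1, 1, 0, -2, -2, 0, 1, -1⟩, ⟨1, 1, -2, 0, 0, 2, -1, -1⟩],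
  [⟨1, 0, 0, 0, 0, 0, 0, 0⟩, ⟨1, 0, 0, 0, 0, 0, 0, 0⟩, ⟨2, 0, 0, 0, 0, 0, 0, 0⟩, ⟨0, 1, 0, 0, 0, 0, 0, 0⟩, ⟨-1, -1, 0, 0, 0, -2, 1, 1⟩, ⟨-1, 1, 0, 0, -2, 0, 1, -1⟩],
  [⟨1, 0, 0, 0, 0, 0, 0, 0⟩, ⟨1, 0, 0, 0, 0, 0, 0, 0⟩, ⟨2, 0, 0, 0, 0, 0, 0, 0⟩, ⟨0, 1, 0, 0, 0, 0, 0, 0⟩, ⟨-1, 1, 0, 0, -2, 0, 1, -1⟩, ⟨1, 1, 0, 0, 0, 2, -1, -1⟩],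
  [⟨1, 0, 0, 0, 0, 0, 0, 0⟩, ⟨1, 0, 0, 0, 0, 0, 0, 0⟩, ⟨2, 0, 0, 0, 0, 0, 0, 0⟩, ⟨0, 1, 0, 0, 0, 0, 0, 0⟩, ⟨1, 1, -2, 0, 0, 2, -1, -1⟩, ⟨1, -1, 0, 2, 2, 0, -1, 1⟩],
  [⟨1, 0, 0, 0, 0, 0, 0, 0⟩, ⟨1, 0, 0, 0, 0, 0, 0, 0⟩, ⟨2, 0, 0, 0, 0, 0, 0, 0⟩, ⟨0, 1, 0, 0, 0, 0, 0, 0⟩, ⟨-1, -1, 2, 0, 0, -2, 1, 1⟩, ⟨-1, 1, 0, -2, -2, 0, 1, -1⟩],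
  [⟨1, 0, 0, 0, 0, 0, 0, 0⟩, ⟨1, 0, 0, 0, 0, 0, 0, 0⟩, ⟨2, 0, 0, 0, 0, 0, 0, 0⟩, ⟨0, 1, 0, 0, 0, 0, 0, 0⟩, ⟨1, -1, 0, 0, 2, 0, -1, 1⟩, ⟨-1, -1, 0, 0, 0, -2, 1, 1⟩],
  [⟨1, 0, 0, 0, 0, 0, 0, 0⟩, ⟨1, 0, 0, 0, 0, 0, 0, 0⟩, ⟨2, 0, 0, 0, 0, 0, 0, 0⟩, ⟨0, 1, 0, 0, 0, 0, 0, 0⟩, ⟨1, 1, 0, 0, 0, 2, -1, -1⟩, ⟨1, -1, 0, 0, 2, 0, -1, 1⟩],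
  [⟨1, 0, 0, 0, 0, 0, 0, 0⟩, ⟨1, 0, 0, 0, 0, 0, 0, 0⟩, ⟨2, 0, 0, 0, 0, 0, 0, 0⟩, ⟨0, 1, 0, 0, 0, 0, 0, 0⟩, ⟨1, -1, 0, 2, 2, 0, -1, 1⟩, ⟨-1, -1, 2, 0, 0, -2, 1, 1⟩],
  [⟨1, 0, 0, 0, 0, 0, 0, 0⟩, ⟨1, 0, 0, 0, 0, 0, 0, 0⟩, ⟨2, 0, 0, 0, 0, 0, 0, 0⟩, ⟨1, 0, 0, 0, 0, 0, 0, 0⟩, ⟨0, 0, 0, 0, 0, 0, -1, 1⟩, ⟨0, 0, 0, 0, 0, 0, -1, 1⟩],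
  [⟨1, 0, 0, 0, 0, 0, 0, 0⟩, ⟨1, 0, 0, 0, 0, 0, 0, 0⟩, ⟨2, 0, 0, 0, 0, 0, 0, 0⟩, ⟨1, 0, 0, 0, 0, 0, 0, 0⟩, ⟨0, 0, 0, 0, 0, 2, -1, -1⟩, ⟨0, 0, 0, 0, 0, 2, -1, -1⟩],
  [⟨1, 0, 0, 0, 0, 0, 0, 0⟩, ⟨1, 0, 0, 0, 0, 0, 0, 0⟩, ⟨2, 0, 0, 0, 0, 0, 0, 0⟩, ⟨1, 0, 0, 0, 0, 0, 0, 0⟩, ⟨0, 0, 0, 0, 2, 0, -1, 1⟩, ⟨0, 0, 0, 0, 2, 0, -1, 1⟩],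
  [⟨1, 0, 0, 0, 0, 0, 0, 0⟩, ⟨1, 0, 0, 0, 0, 0, 0, 0⟩, ⟨2, 0, 0, 0, 0, 0, 0, 0⟩, ⟨1, 0, 0, 0, 0, 0, 0, 0⟩, ⟨0, 0, 0, 0, 0, 0, 1, 1⟩, ⟨0, 0, 0, 0, 0, 0, 1, 1⟩],
  [⟨1, 0, 0, 0, 0, 0, 0, 0⟩, ⟨1, 0, 0, 0, 0, 0, 0, 0⟩, ⟨2, 0, 0, 0, 0, 0, 0, 0⟩, ⟨1, 0, 0, 0, 0, 0, 0, 0⟩, ⟨0, 0, 0, 0, 0, 0, -1, -1⟩, ⟨0, 0, 0, 0, 0, 0, -1, -1⟩],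
  [⟨1, 0, 0, 0, 0, 0, 0, 0⟩, ⟨1, 0, 0, 0, 0, 0, 0, 0⟩, ⟨2, 0, 0, 0, 0, 0, 0, 0⟩, ⟨1, 0, 0, 0, 0, 0, 0, 0⟩, ⟨0, 0, 0, 0, -2, 0, 1, -1⟩, ⟨0, 0, 0, 0, -2, 0, 1, -1⟩],
  [⟨1, 0, 0, 0, 0, 0, 0, 0⟩, ⟨1, 0, 0, 0, 0, 0, 0, 0⟩, ⟨2, 0, 0, 0, 0, 0, 0, 0⟩, ⟨1, 0, 0, 0, 0, 0, 0, 0⟩, ⟨0, 0, 0, 0, 0, -2, 1, 1⟩, ⟨0, 0, 0, 0, 0, -2, 1, 1⟩],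
  [⟨1, 0, 0, 0, 0, 0, 0, 0⟩, ⟨1, 0, 0, 0, 0, 0, 0, 0⟩, ⟨2, 0, 0, 0, 0, 0, 0, 0⟩, ⟨1, 0, 0, 0, 0, 0, 0, 0⟩, ⟨0, 0, 0, 0, 0, 0, 1, -1⟩, ⟨0, 0, 0, 0, 0, 0, 1, -1⟩],
  [⟨1, 0, 0, 0, 0, 0, 0, 0⟩, ⟨2, -1, 0, 1, 1, 0, 0, 0⟩, ⟨1, 1, 0, -1, -1, 0, 0, 0⟩, ⟨-1, 0, 1, 0, -1, 0, 0, 0⟩, ⟨0, 0, 1, 0, 1, 0, -1, 1⟩, ⟨0, 0, 1, 0, 0, -1, 1, 1⟩],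
  [⟨1, 0, 0, 0, 0, 0, 0, 0⟩, ⟨2, -1, 0, 1, 1, 0, 0, 0⟩, ⟨1, 1, 0, -1, -1, 0, 0, 0⟩, ⟨-1, 0, 1, 0, -1, 0, 0, 0⟩, ⟨0, 0, -1, 0, -1, 0, 1, -1⟩, ⟨0, 0, -1, 0, 0, 1, -1, -1⟩],
  [⟨1, 0, 0, 0, 0, 0, 0, 0⟩, ⟨2, -1, 0, 1, 1, 0, 0, 0⟩, ⟨1, 1, 0, -1, -1, 0, 0, 0⟩, ⟨-1, 0, 0, -1, 0, -1, 0, 0⟩, ⟨0, 0, 0, -1, 0, -1, 1, 1⟩, ⟨0, 0, 0, -1, -1, 0, 1, -1⟩],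
  [⟨1, 0, 0, 0, 0, 0, 0, 0⟩, ⟨2, -1, 0, 1, 1, 0, 0, 0⟩, ⟨1, 1, 0, -1, -1, 0, 0, 0⟩, ⟨-1, 0, 0, -1, 0, -1, 0, 0⟩, ⟨0, 0, 0, 1, 0, 1, -1, -1⟩, ⟨0, 0, 0, 1, 1, 0, -1, 1⟩],
  [⟨1, 0, 0, 0, 0, 0, 0, 0⟩, ⟨2, -1, 0, 1, 1, 0, 0, 0⟩, ⟨1, 1, 0, -1, -1, 0, 0, 0⟩, ⟨0, 1, -1, 0, -1, 0, 0, 0⟩, ⟨1, 1, -1, 0, -1, 2, -1, -1⟩, ⟨1, 1, -1, 0, 0, 1, -1, -1⟩],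
  [⟨1, 0, 0, 0, 0, 0, 0, 0⟩, ⟨2, -1, 0, 1, 1, 0, 0, 0⟩, ⟨1, 1, 0, -1, -1, 0, 0, 0⟩, ⟨0, 1, -1, 0, -1, 0, 0, 0⟩, ⟨-1, -1, 1, 0, 1, -2, 1, 1⟩, ⟨-1, -1, 1, 0, 0, -1, 1, 1⟩],
  [⟨1, 0, 0, 0, 0, 0, 0, 0⟩, ⟨2, -1, 0, 1, 1, 0, 0, 0⟩, ⟨1, 1, 0, -1, -1, 0, 0, 0⟩, ⟨0, 1, 0, -1, 0, 1, 0, 0⟩, ⟨-1, 1, 0, -1, -2, -1, 1, -1⟩, ⟨-1, 1, 0, -1, -1, 0, 1, -1⟩],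
  [⟨1, 0, 0, 0, 0, 0, 0, 0⟩, ⟨2, -1, 0, 1, 1, 0, 0, 0⟩, ⟨1, 1, 0, -1, -1, 0, 0, 0⟩, ⟨0, 1, 0, -1, 0, 1, 0, 0⟩, ⟨1, -1, 0, 1, 2, 1, -1, 1⟩, ⟨1, -1, 0, 1, 1, 0, -1, 1⟩],
  [⟨1, 0, 0, 0, 0, 0, 0, 0⟩, ⟨1, 1, 0, -1, -1, 0, 0, 0⟩, ⟨2, -1, 0, 1, 1, 0, 0, 0⟩, ⟨-1, 1, 0, -1, -2, -1, 1, -1⟩, ⟨0, 1, 0, -1, 0, 1, 0, 0⟩, ⟨0, -1, 0, 1, 1, 0, -1, 1⟩],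
  [⟨1, 0, 0, 0, 0, 0, 0, 0⟩, ⟨1, 1, 0, -1, -1, 0, 0, 0⟩, ⟨2, -1, 0, 1, 1, 0, 0, 0⟩, ⟨-1, 1, 0, -1, -2, -1, 1, -1⟩, ⟨0, -1, 0, 1, 0, -1, 0, 0⟩, ⟨0, 1, 0, -1, -1, 0, 1, -1⟩],
  [⟨1, 0, 0, 0, 0, 0, 0, 0⟩, ⟨1, 1, 0, -1, -1, 0, 0, 0⟩, ⟨2, -1, 0, 1, 1, 0, 0, 0⟩, ⟨0, 0, 1, 0, 1, 0, -1, 1⟩, ⟨-1, 0, 1, 0, -1, 0, 0, 0⟩, ⟨1, 0, -1, 0, 0, 1, -1, -1⟩],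
  [⟨1, 0, 0, 0, 0, 0, 0, 0⟩, ⟨1, 1, 0, -1, -1, 0, 0, 0⟩, ⟨2, -1, 0, 1, 1, 0, 0, 0⟩, ⟨0, 0, 1, 0, 1, 0, -1, 1⟩, ⟨1, 0, -1, 0, 1, 0, 0, 0⟩, ⟨-1, 0, 1, 0, 0, -1, 1, 1⟩],
  [⟨1, 0, 0, 0, 0, 0, 0, 0⟩, ⟨1, 1, 0, -1, -1, 0, 0, 0⟩, ⟨2, -1, 0, 1, 1, 0, 0, 0⟩, ⟨1, 1, -1, 0, -1, 2, -1, -1⟩, ⟨0, 1, -1, 0, -1, 0, 0, 0⟩, ⟨0, -1, 1, 0, 0, -1, 1, 1⟩],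
  [⟨1, 0, 0, 0, 0, 0, 0, 0⟩, ⟨1, 1, 0, -1, -1, 0, 0, 0⟩, ⟨2, -1, 0, 1, 1, 0, 0, 0⟩, ⟨1, 1, -1, 0, -1, 2, -1, -1⟩, ⟨0, -1, 1, 0, 1, 0, 0, 0⟩, ⟨0, 1, -1, 0, 0, 1, -1, -1⟩],
  [⟨1, 0, 0, 0, 0, 0, 0, 0⟩, ⟨1, 1, 0, -1, -1, 0, 0, 0⟩, ⟨2, -1, 0, 1, 1, 0, 0, 0⟩, ⟨0, 0, 0, -1, 0, -1, 1, 1⟩, ⟨-1, 0, 0, -1, 0, -1, 0, 0⟩, ⟨1, 0, 0, 1, 1, 0, -1, 1⟩],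
  [⟨1, 0, 0, 0, 0, 0, 0, 0⟩, ⟨1, 1, 0, -1, -1, 0, 0, 0⟩, ⟨2, -1, 0, 1, 1, 0, 0, 0⟩, ⟨0, 0, 0, -1, 0, -1, 1, 1⟩, ⟨1, 0, 0, 1, 0, 1, 0, 0⟩, ⟨-1, 0, 0, -1, -1, 0, 1, -1⟩],
  [⟨1, 0, 0, 0, 0, 0, 0, 0⟩, ⟨1, 1, 0, -1, -1, 0, 0, 0⟩, ⟨2, -1, 0, 1, 1, 0, 0, 0⟩, ⟨0, 0, 0, 1, 0, 1, -1, -1⟩, ⟨-1, 0, 0, -1, 0, -1, 0, 0⟩, ⟨-1, 0, 0, -1, -1, 0, 1, -1⟩],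
  [⟨1, 0, 0, 0, 0, 0, 0, 0⟩, ⟨1, 1, 0, -1, -1, 0, 0, 0⟩, ⟨2, -1, 0, 1, 1, 0, 0, 0⟩, ⟨0, 0, 0, 1, 0, 1, -1, -1⟩, ⟨1, 0, 0, 1, 0, 1, 0, 0⟩, ⟨1, 0, 0, 1, 1, 0, -1, 1⟩],
  [⟨1, 0, 0, 0, 0, 0, 0, 0⟩, ⟨1, 1, 0, -1, -1, 0, 0, 0⟩, ⟨2, -1, 0, 1, 1, 0, 0, 0⟩, ⟨-1, -1, 1, 0, 1, -2, 1, 1⟩, ⟨0, 1, -1, 0, -1, 0, 0, 0⟩, ⟨0, 1, -1, 0, 0, 1, -1, -1⟩],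
  [⟨1, 0, 0, 0, 0, 0, 0, 0⟩, ⟨1, 1, 0, -1, -1, 0, 0, 0⟩, ⟨2, -1, 0, 1, 1, 0, 0, 0⟩, ⟨-1, -1, 1, 0, 1, -2, 1, 1⟩, ⟨0, -1, 1, 0, 1, 0, 0, 0⟩, ⟨0, -1, 1, 0, 0, -1, 1, 1⟩],
  [⟨1, 0, 0, 0, 0, 0, 0, 0⟩, ⟨1, 1, 0, -1, -1, 0, 0, 0⟩, ⟨2, -1, 0, 1, 1, 0, 0, 0⟩, ⟨0, 0, -1, 0, -1, 0, 1, -1⟩, ⟨-1, 0, 1, 0, -1, 0, 0, 0⟩, ⟨-1, 0, 1, 0, 0, -1, 1, 1⟩],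
  [⟨1, 0, 0, 0, 0, 0, 0, 0⟩, ⟨1, 1, 0, -1, -1, 0, 0, 0⟩, ⟨2, -1, 0, 1, 1, 0, 0, 0⟩, ⟨0, 0, -1, 0, -1, 0, 1, -1⟩, ⟨1, 0, -1, 0, 1, 0, 0, 0⟩, ⟨1, 0, -1, 0, 0, 1, -1, -1⟩],
  [⟨1, 0, 0, 0, 0, 0, 0, 0⟩, ⟨1, 1, 0, -1, -1, 0, 0, 0⟩, ⟨2, -1, 0, 1, 1, 0, 0, 0⟩, ⟨1, -1, 0, 1, 2, 1, -1, 1⟩, ⟨0, 1, 0, -1, 0, 1, 0, 0⟩, ⟨0, 1, 0, -1, -1, 0, 1, -1⟩],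
  [⟨1, 0, 0, 0, 0, 0, 0, 0⟩, ⟨1, 1, 0, -1, -1, 0, 0, 0⟩, ⟨2, -1, 0, 1, 1, 0, 0, 0⟩, ⟨1, -1, 0, 1, 2, 1, -1, 1⟩, ⟨0, -1, 0, 1, 0, -1, 0, 0⟩, ⟨0, -1, 0, 1, 1, 0, -1, 1⟩],
  [⟨1, 0, 0, 0, 0, 0, 0, 0⟩, ⟨2, -1, 0, 1, 1, 0, 0, 0⟩, ⟨1, 1, 0, -1, -1, 0, 0, 0⟩, ⟨0, -1, 0, 1, 0, -1, 0, 0⟩, ⟨-1, 1, 0, -1, -2, -1, 1, -1⟩, ⟨1, -1, 0, 1, 1, 0, -1, 1⟩],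
  [⟨1, 0, 0, 0, 0, 0, 0, 0⟩, ⟨2, -1, 0, 1, 1, 0, 0, 0⟩, ⟨1, 1, 0, -1, -1, 0, 0, 0⟩, ⟨0, -1, 0, 1, 0, -1, 0, 0⟩, ⟨1, -1, 0, 1, 2, 1, -1, 1⟩, ⟨-1, 1, 0, -1, -1, 0, 1, -1⟩],
  [⟨1, 0, 0, 0, 0, 0, 0, 0⟩, ⟨2, -1, 0, 1, 1, 0, 0, 0⟩, ⟨1, 1, 0, -1, -1, 0, 0, 0⟩, ⟨0, -1, 1, 0, 1, 0, 0, 0⟩, ⟨1, 1, -1, 0, -1, 2, -1, -1⟩, ⟨-1, -1, 1, 0, 0, -1, 1, 1⟩],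
  [⟨1, 0, 0, 0, 0, 0, 0, 0⟩, ⟨2, -1, 0, 1, 1, 0, 0, 0⟩, ⟨1, 1, 0, -1, -1, 0, 0, 0⟩, ⟨0, -1, 1, 0, 1, 0, 0, 0⟩, ⟨-1, -1, 1, 0, 1, -2, 1, 1⟩, ⟨1, 1, -1, 0, 0, 1, -1, -1⟩],
  [⟨1, 0, 0, 0, 0, 0, 0, 0⟩, ⟨2, -1, 0, 1, 1, 0, 0, 0⟩, ⟨1, 1, 0, -1, -1, 0, 0, 0⟩, ⟨1, 0, 0, 1, 0, 1, 0, 0⟩, ⟨0, 0, 0, -1, 0, -1, 1, 1⟩, ⟨0, 0, 0, 1, 1, 0, -1, 1⟩],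
  [⟨1, 0, 0, 0, 0, 0, 0, 0⟩, ⟨2, -1, 0, 1, 1, 0, 0, 0⟩, ⟨1, 1, 0, -1, -1, 0, 0, 0⟩, ⟨1, 0, 0, 1, 0, 1, 0, 0⟩, ⟨0, 0, 0, 1, 0, 1, -1, -1⟩, ⟨0, 0, 0, -1, -1, 0, 1, -1⟩],
  [⟨1, 0, 0, 0, 0, 0, 0, 0⟩, ⟨2, -1, 0, 1, 1, 0, 0, 0⟩, ⟨1, 1, 0, -1, -1, 0, 0, 0⟩, ⟨1, 0, -1, 0, 1, 0, 0, 0⟩, ⟨0, 0, 1, 0, 1, 0, -1, 1⟩, ⟨0, 0, -1, 0, 0, 1, -1, -1⟩],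
  [⟨1, 0, 0, 0, 0, 0, 0, 0⟩, ⟨2, -1, 0, 1, 1, 0, 0, 0⟩, ⟨1, 1, 0, -1, -1, 0, 0, 0⟩, ⟨1, 0, -1, 0, 1, 0, 0, 0⟩, ⟨0, 0, -1, 0, -1, 0, 1, -1⟩, ⟨0, 0, 1, 0, 0, -1, 1, 1⟩],
  [⟨1, 0, 0, 0, 0, 0, 0, 0⟩, ⟨2, 0, 0, 0, 0, 0, 0, 0⟩, ⟨1, 0, 0, 0, 0, 0, 0, 0⟩, ⟨0, 0, 0, 0, 0, 0, -1, 1⟩, ⟨-1, 0, 0, 0, 0, 0, 0, 0⟩, ⟨1, -2, 0, 2, 2, 0, -1, 1⟩],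
  [⟨1, 0, 0, 0, 0, 0, 0, 0⟩, ⟨2, 0, 0, 0, 0, 0, 0, 0⟩, ⟨1, 0, 0, 0, 0, 0, 0, 0⟩, ⟨0, 0, 0, 0, 0, 0, -1, 1⟩, ⟨1, 0, 0, 0, 0, 0, 0, 0⟩, ⟨-1, 2, 0, -2, -2, 0, 1, -1⟩],
  [⟨1, 0, 0, 0, 0, 0, 0, 0⟩, ⟨2, 0, 0, 0, 0, 0, 0, 0⟩, ⟨1, 0, 0, 0, 0, 0, 0, 0⟩, ⟨-1, 1, 0, -2, -2, 0, 1, -1⟩, ⟨0, -1, 0, 0, 0, 0, 0, 0⟩, ⟨2, 1, -2, 0, 0, 2, -1, -1⟩],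
  [⟨1, 0, 0, 0, 0, 0, 0, 0⟩, ⟨2, 0, 0, 0, 0, 0, 0, 0⟩, ⟨1, 0, 0, 0, 0, 0, 0, 0⟩, ⟨-1, 1, 0, -2, -2, 0, 1, -1⟩, ⟨0, 1, 0, 0, 0, 0, 0, 0⟩, ⟨-2, -1, 2, 0, 0, -2, 1, 1⟩],
  [⟨1, 0, 0, 0, 0, 0, 0, 0⟩, ⟨2, 0, 0, 0, 0, 0, 0, 0⟩, ⟨1, 0, 0, 0, 0, 0, 0, 0⟩, ⟨-1, 1, 1, -1, -1, -1, 1, 1⟩, ⟨0, -1, 1, 1, 1, -1, 0, 2⟩, ⟨0, -1, 1, -1, 1, -1, 1, 1⟩],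
  [⟨1, 0, 0, 0, 0, 0, 0, 0⟩, ⟨2, 0, 0, 0, 0, 0, 0, 0⟩, ⟨1, 0, 0, 0, 0, 0, 0, 0⟩, ⟨-1, 1, 1, -1, -1, -1, 1, 1⟩, ⟨0, 1, -1, -1, -1, 1, 0, -2⟩, ⟨0, 1, -1, 1, -1, 1, -1, -1⟩],
  [⟨1, 0, 0, 0, 0, 0, 0, 0⟩, ⟨2, 0, 0, 0, 0, 0, 0, 0⟩, ⟨1, 0, 0, 0, 0, 0, 0, 0⟩, ⟨0, 2, -1, -1, -1, 1, -1, -1⟩, ⟨1, 0, -1, 1, 1, 1, -2, 0⟩, ⟨1, 0, 1, 1, 1, 1, -1, 1⟩],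
  [⟨1, 0, 0, 0, 0, 0, 0, 0⟩, ⟨2, 0, 0, 0, 0, 0, 0, 0⟩, ⟨1, 0, 0, 0, 0, 0, 0, 0⟩, ⟨0, 2, -1, -1, -1, 1, -1, -1⟩, ⟨-1, 0, 1, -1, -1, -1, 2, 0⟩, ⟨-1, 0, -1, -1, -1, -1, 1, -1⟩],
  [⟨1, 0, 0, 0, 0, 0, 0, 0⟩, ⟨2, 0, 0, 0, 0, 0, 0, 0⟩, ⟨1, 0, 0, 0, 0, 0, 0, 0⟩, ⟨-1, -1, 1, 1, 1, -1, -1, 1⟩, ⟨0, -1, 1, 1, 1, -1, 0, 2⟩, ⟨0, 1, -1, -1, -1, -1, 1, -1⟩],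
  [⟨1, 0, 0, 0, 0, 0, 0, 0⟩, ⟨2, 0, 0, 0, 0, 0, 0, 0⟩, ⟨1, 0, 0, 0, 0, 0, 0, 0⟩, ⟨-1, -1, 1, 1, 1, -1, -1, 1⟩, ⟨0, 1, -1, -1, -1, 1, 0, -2⟩, ⟨0, -1, 1, 1, 1, 1, -1, 1⟩],
  [⟨1, 0, 0, 0, 0, 0, 0, 0⟩, ⟨2, 0, 0, 0, 0, 0, 0, 0⟩, ⟨1, 0, 0, 0, 0, 0, 0, 0⟩, ⟨-2, 0, 1, -1, -1, -1, 1, -1⟩, ⟨1, 0, -1, 1, 1, 1, -2, 0⟩, ⟨-1, 0, 1, -1, 1, -1, 1, 1⟩],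
  [⟨1, 0, 0, 0, 0, 0, 0, 0⟩, ⟨2, 0, 0, 0, 0, 0, 0, 0⟩, ⟨1, 0, 0, 0, 0, 0, 0, 0⟩, ⟨-2, 0, 1, -1, -1, -1, 1, -1⟩, ⟨-1, 0, 1, -1, -1, -1, 2, 0⟩, ⟨1, 0, -1, 1, -1, 1, -1, -1⟩],
  [⟨1, 0, 0, 0, 0, 0, 0, 0⟩, ⟨2, 0, 0, 0, 0, 0, 0, 0⟩, ⟨1, 0, 0, 0, 0, 0, 0, 0⟩, ⟨0, 0, -1, 1, -1, 1, -1, -1⟩, ⟨1, 0, -1, 1, 1, 1, -2, 0⟩, ⟨-1, 0, 1, -1, -1, -1, 1, -1⟩],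
  [⟨1, 0, 0, 0, 0, 0, 0, 0⟩, ⟨2, 0, 0, 0, 0, 0, 0, 0⟩, ⟨1, 0, 0, 0, 0, 0, 0, 0⟩, ⟨0, 0, -1, 1, -1, 1, -1, -1⟩, ⟨-1, 0, 1, -1, -1, -1, 2, 0⟩, ⟨1, 0, -1, 1, 1, 1, -1, 1⟩],
  [⟨1, 0, 0, 0, 0, 0, 0, 0⟩, ⟨2, 0, 0, 0, 0, 0, 0, 0⟩, ⟨1, 0, 0, 0, 0, 0, 0, 0⟩, ⟨-1, -1, 0, 0, 0, -2, 1, 1⟩, ⟨0, -1, 0, 0, 0, 0, 0, 0⟩, ⟨0, 1, 0, 0, -2, 0, 1, -1⟩],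
  [⟨1, 0, 0, 0, 0, 0, 0, 0⟩, ⟨2, 0, 0, 0, 0, 0, 0, 0⟩, ⟨1, 0, 0, 0, 0, 0, 0, 0⟩, ⟨-1, -1, 0, 0, 0, -2, 1, 1⟩, ⟨0, 1, 0, 0, 0, 0, 0, 0⟩, ⟨0, -1, 0, 0, 2, 0, -1, 1⟩],
  [⟨1, 0, 0, 0, 0, 0, 0, 0⟩, ⟨2, 0, 0, 0, 0, 0, 0, 0⟩, ⟨1, 0, 0, 0, 0, 0, 0, 0⟩, ⟨0, 0, 0, 0, 0, 2, -1, -1⟩, ⟨-1, 0, 0, 0, 0, 0, 0, 0⟩, ⟨1, 0, 0, 0, 0, 2, -1, -1⟩],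
  [⟨1, 0, 0, 0, 0, 0, 0, 0⟩, ⟨2, 0, 0, 0, 0, 0, 0, 0⟩, ⟨1, 0, 0, 0, 0, 0, 0, 0⟩, ⟨0, 0, 0, 0, 0, 2, -1, -1⟩, ⟨1, 0, 0, 0, 0, 0, 0, 0⟩, ⟨-1, 0, 0, 0, 0, -2, 1, 1⟩],
  [⟨1, 0, 0, 0, 0, 0, 0, 0⟩, ⟨2, 0, 0, 0, 0, 0, 0, 0⟩, ⟨1, 0, 0, 0, 0, 0, 0, 0⟩, ⟨-1, -1, 1, -1, 1, -1, 1, 1⟩, ⟨0, -1, 1, 1, 1, -1, 0, 2⟩, ⟨0, 1, -1, -1, -1, 1, -1, -1⟩],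
  [⟨1, 0, 0, 0, 0, 0, 0, 0⟩, ⟨2, 0, 0, 0, 0, 0, 0, 0⟩, ⟨1, 0, 0, 0, 0, 0, 0, 0⟩, ⟨-1, -1, 1, -1, 1, -1, 1, 1⟩, ⟨0, 1, -1, -1, -1, 1, 0, -2⟩, ⟨0, -1, 1, 1, 1, -1, 1, 1⟩],
  [⟨1, 0, 0, 0, 0, 0, 0, 0⟩, ⟨2, 0, 0, 0, 0, 0, 0, 0⟩, ⟨1, 0, 0, 0, 0, 0, 0, 0⟩, ⟨-1, 1, 0, 0, -2, 0, 1, -1⟩, ⟨0, -1, 0, 0, 0, 0, 0, 0⟩, ⟨0, 1, 0, 0, 0, 2, -1, -1⟩],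
  [⟨1, 0, 0, 0, 0, 0, 0, 0⟩, ⟨2, 0, 0, 0, 0, 0, 0, 0⟩, ⟨1, 0, 0, 0, 0, 0, 0, 0⟩, ⟨-1, 1, 0, 0, -2, 0, 1, -1⟩, ⟨0, 1, 0, 0, 0, 0, 0, 0⟩, ⟨0, -1, 0, 0, 0, -2, 1, 1⟩],
  [⟨1, 0, 0, 0, 0, 0, 0, 0⟩, ⟨2, 0, 0, 0, 0, 0, 0, 0⟩, ⟨1, 0, 0, 0, 0, 0, 0, 0⟩, ⟨0, 0, 1, 1, 1, 1, -1, 1⟩, ⟨1, 0, -1, 1, 1, 1, -2, 0⟩, ⟨-1, 0, 1, -1, -1, -1, 1, 1⟩],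
  [⟨1, 0, 0, 0, 0, 0, 0, 0⟩, ⟨2, 0, 0, 0, 0, 0, 0, 0⟩, ⟨1, 0, 0, 0, 0, 0, 0, 0⟩, ⟨0, 0, 1, 1, 1, 1, -1, 1⟩, ⟨-1, 0, 1, -1, -1, -1, 2, 0⟩, ⟨1, 0, -1, 1, 1, 1, -1, -1⟩],
  [⟨1, 0, 0, 0, 0, 0, 0, 0⟩, ⟨2, 0, 0, 0, 0, 0, 0, 0⟩, ⟨1, 0, 0, 0, 0, 0, 0, 0⟩, ⟨-1, 1, -1, -1, -1, -1, 1, -1⟩, ⟨0, -1, 1, 1, 1, -1, 0, 2⟩, ⟨0, 1, -1, -1, -1, 1, 1, -1⟩],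
  [⟨1, 0, 0, 0, 0, 0, 0, 0⟩, ⟨2, 0, 0, 0, 0, 0, 0, 0⟩, ⟨1, 0, 0, 0, 0, 0, 0, 0⟩, ⟨-1, 1, -1, -1, -1, -1, 1, -1⟩, ⟨0, 1, -1, -1, -1, 1, 0, -2⟩, ⟨0, -1, 1, 1, 1, -1, -1, 1⟩],
  [⟨1, 0, 0, 0, 0, 0, 0, 0⟩, ⟨2, 0, 0, 0, 0, 0, 0, 0⟩, ⟨1, 0, 0, 0, 0, 0, 0, 0⟩, ⟨0, 0, 0, 0, 2, 0, -1, 1⟩, ⟨-1, 0, 0, 0, 0, 0, 0, 0⟩, ⟨1, 0, 0, 0, 2, 0, -1, 1⟩],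
  [⟨1, 0, 0, 0, 0, 0, 0, 0⟩, ⟨2, 0, 0, 0, 0, 0, 0, 0⟩, ⟨1, 0, 0, 0, 0, 0, 0, 0⟩, ⟨0, 0, 0, 0, 2, 0, -1, 1⟩, ⟨1, 0, 0, 0, 0, 0, 0, 0⟩, ⟨-1, 0, 0, 0, -2, 0, 1, -1⟩],
  [⟨1, 0, 0, 0, 0, 0, 0, 0⟩, ⟨2, 0, 0, 0, 0, 0, 0, 0⟩, ⟨1, 0, 0, 0, 0, 0, 0, 0⟩, ⟨0, 0, 0, 0, 0, 0, 1, 1⟩, ⟨-1, 0, 0, 0, 0, 0, 0, 0⟩, ⟨1, 0, 0, 0, 0, 0, 1, 1⟩],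
  [⟨1, 0, 0, 0, 0, 0, 0, 0⟩, ⟨2, 0, 0, 0, 0, 0, 0, 0⟩, ⟨1, 0, 0, 0, 0, 0, 0, 0⟩, ⟨0, 0, 0, 0, 0, 0, 1, 1⟩, ⟨1, 0, 0, 0, 0, 0, 0, 0⟩, ⟨-1, 0, 0, 0, 0, 0, -1, -1⟩],
  [⟨1, 0, 0, 0, 0, 0, 0, 0⟩, ⟨2, 0, 0, 0, 0, 0, 0, 0⟩, ⟨1, 0, 0, 0, 0, 0, 0, 0⟩, ⟨1, 1, -2, 0, 0, 2, -1, -1⟩, ⟨0, -1, 0, 0, 0, 0, 0, 0⟩, ⟨0, 1, 0, 0, 0, 0, -1, 1⟩],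
  [⟨1, 0, 0, 0, 0, 0, 0, 0⟩, ⟨2, 0, 0, 0, 0, 0, 0, 0⟩, ⟨1, 0, 0, 0, 0, 0, 0, 0⟩, ⟨1, 1, -2, 0, 0, 2, -1, -1⟩, ⟨0, 1, 0, 0, 0, 0, 0, 0⟩, ⟨0, -1, 0, 0, 0, 0, 1, -1⟩],
  [⟨1, 0, 0, 0, 0, 0, 0, 0⟩, ⟨2, 0, 0, 0, 0, 0, 0, 0⟩, ⟨1, 0, 0, 0, 0, 0, 0, 0⟩, ⟨-1, -1, 2, 0, 0, -2, 1, 1⟩, ⟨0, -1, 0, 0, 0, 0, 0, 0⟩, ⟨0, -1, 0, 0, 0, 0, 1, -1⟩],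
  [⟨1, 0, 0, 0, 0, 0, 0, 0⟩, ⟨2, 0, 0, 0, 0, 0, 0, 0⟩, ⟨1, 0, 0, 0, 0, 0, 0, 0⟩, ⟨-1, -1, 2, 0, 0, -2, 1, 1⟩, ⟨0, 1, 0, 0, 0, 0, 0, 0⟩, ⟨0, 1, 0, 0, 0, 0, -1, 1⟩],
  [⟨1, 0, 0, 0, 0, 0, 0, 0⟩, ⟨2, 0, 0, 0, 0, 0, 0, 0⟩, ⟨1, 0, 0, 0, 0, 0, 0, 0⟩, ⟨0, 0, 0, 0, 0, 0, -1, -1⟩, ⟨-1, 0, 0, 0, 0, 0, 0, 0⟩, ⟨-1, 0, 0, 0, 0, 0, -1, -1⟩],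
  [⟨1, 0, 0, 0, 0, 0, 0, 0⟩, ⟨2, 0, 0, 0, 0, 0, 0, 0⟩, ⟨1, 0, 0, 0, 0, 0, 0, 0⟩, ⟨0, 0, 0, 0, 0, 0, -1, -1⟩, ⟨1, 0, 0, 0, 0, 0, 0, 0⟩, ⟨1, 0, 0, 0, 0, 0, 1, 1⟩],
  [⟨1, 0, 0, 0, 0, 0, 0, 0⟩, ⟨2, 0, 0, 0, 0, 0, 0, 0⟩, ⟨1, 0, 0, 0, 0, 0, 0, 0⟩, ⟨0, 0, 0, 0, -2, 0, 1, -1⟩, ⟨-1, 0, 0, 0, 0, 0, 0, 0⟩, ⟨-1, 0, 0, 0, -2, 0, 1, -1⟩],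
  [⟨1, 0, 0, 0, 0, 0, 0, 0⟩, ⟨2, 0, 0, 0, 0, 0, 0, 0⟩, ⟨1, 0, 0, 0, 0, 0, 0, 0⟩, ⟨0, 0, 0, 0, -2, 0, 1, -1⟩, ⟨1, 0, 0, 0, 0, 0, 0, 0⟩, ⟨1, 0, 0, 0, 2, 0, -1, 1⟩],
  [⟨1, 0, 0, 0, 0, 0, 0, 0⟩, ⟨2, 0, 0, 0, 0, 0, 0, 0⟩, ⟨1, 0, 0, 0, 0, 0, 0, 0⟩, ⟨1, -1, 1, 1, 1, 1, -1, 1⟩, ⟨0, -1, 1, 1, 1, -1, 0, 2⟩, ⟨0, -1, 1, 1, 1, -1, -1, 1⟩],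
  [⟨1, 0, 0, 0, 0, 0, 0, 0⟩, ⟨2, 0, 0, 0, 0, 0, 0, 0⟩, ⟨1, 0, 0, 0, 0, 0, 0, 0⟩, ⟨1, -1, 1, 1, 1, 1, -1, 1⟩, ⟨0, 1, -1, -1, -1, 1, 0, -2⟩, ⟨0, 1, -1, -1, -1, 1, 1, -1⟩],
  [⟨1, 0, 0, 0, 0, 0, 0, 0⟩, ⟨2, 0, 0, 0, 0, 0, 0, 0⟩, ⟨1, 0, 0, 0, 0, 0, 0, 0⟩, ⟨0, 0, -1, -1, -1, -1, 1, -1⟩, ⟨1, 0, -1, 1, 1, 1, -2, 0⟩, ⟨1, 0, -1, 1, 1, 1, -1, -1⟩],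
  [⟨1, 0, 0, 0, 0, 0, 0, 0⟩, ⟨2, 0, 0, 0, 0, 0, 0, 0⟩, ⟨1, 0, 0, 0, 0, 0, 0, 0⟩, ⟨0, 0, -1, -1, -1, -1, 1, -1⟩, ⟨-1, 0, 1, -1, -1, -1, 2, 0⟩, ⟨-1, 0, 1, -1, -1, -1, 1, 1⟩],
  [⟨1, 0, 0, 0, 0, 0, 0, 0⟩, ⟨2, 0, 0, 0, 0, 0, 0, 0⟩, ⟨1, 0, 0, 0, 0, 0, 0, 0⟩, ⟨1, -1, 0, 0, 2, 0, -1, 1⟩, ⟨0, -1, 0, 0, 0, 0, 0, 0⟩, ⟨0, -1, 0, 0, 0, -2, 1, 1⟩],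
  [⟨1, 0, 0, 0, 0, 0, 0, 0⟩, ⟨2, 0, 0, 0, 0, 0, 0, 0⟩, ⟨1, 0, 0, 0, 0, 0, 0, 0⟩, ⟨1, -1, 0, 0, 2, 0, -1, 1⟩, ⟨0, 1, 0, 0, 0, 0, 0, 0⟩, ⟨0, 1, 0, 0, 0, 2, -1, -1⟩],
  [⟨1, 0, 0, 0, 0, 0, 0, 0⟩, ⟨2, 0, 0, 0, 0, 0, 0, 0⟩, ⟨1, 0, 0, 0, 0, 0, 0, 0⟩, ⟨1, 1, -1, 1, -1, 1, -1, -1⟩, ⟨0, -1, 1, 1, 1, -1, 0, 2⟩, ⟨0, -1, 1, 1, 1, -1, 1, 1⟩],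
  [⟨1, 0, 0, 0, 0, 0, 0, 0⟩, ⟨2, 0, 0, 0, 0, 0, 0, 0⟩, ⟨1, 0, 0, 0, 0, 0, 0, 0⟩, ⟨1, 1, -1, 1, -1, 1, -1, -1⟩, ⟨0, 1, -1, -1, -1, 1, 0, -2⟩, ⟨0, 1, -1, -1, -1, 1, -1, -1⟩],
  [⟨1, 0, 0, 0, 0, 0, 0, 0⟩, ⟨2, 0, 0, 0, 0, 0, 0, 0⟩, ⟨1, 0, 0, 0, 0, 0, 0, 0⟩, ⟨0, 0, 0, 0, 0, -2, 1, 1⟩, ⟨-1, 0, 0, 0, 0, 0, 0, 0⟩, ⟨-1, 0, 0, 0, 0, -2, 1, 1⟩],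
  [⟨1, 0, 0, 0, 0, 0, 0, 0⟩, ⟨2, 0, 0, 0, 0, 0, 0, 0⟩, ⟨1, 0, 0, 0, 0, 0, 0, 0⟩, ⟨0, 0, 0, 0, 0, -2, 1, 1⟩, ⟨1, 0, 0, 0, 0, 0, 0, 0⟩, ⟨1, 0, 0, 0, 0, 2, -1, -1⟩],
  [⟨1, 0, 0, 0, 0, 0, 0, 0⟩, ⟨2, 0, 0, 0, 0, 0, 0, 0⟩, ⟨1, 0, 0, 0, 0, 0, 0, 0⟩, ⟨1, 1, 0, 0, 0, 2, -1, -1⟩, ⟨0, -1, 0, 0, 0, 0, 0, 0⟩, ⟨0, -1, 0, 0, 2, 0, -1, 1⟩],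
  [⟨1, 0, 0, 0, 0, 0, 0, 0⟩, ⟨2, 0, 0, 0, 0, 0, 0, 0⟩, ⟨1, 0, 0, 0, 0, 0, 0, 0⟩, ⟨1, 1, 0, 0, 0, 2, -1, -1⟩, ⟨0, 1, 0, 0, 0, 0, 0, 0⟩, ⟨0, 1, 0, 0, -2, 0, 1, -1⟩],
  [⟨1, 0, 0, 0, 0, 0, 0, 0⟩, ⟨2, 0, 0, 0, 0, 0, 0, 0⟩, ⟨1, 0, 0, 0, 0, 0, 0, 0⟩, ⟨0, 0, 1, -1, 1, -1, 1, 1⟩, ⟨1, 0, -1, 1, 1, 1, -2, 0⟩, ⟨1, 0, -1, 1, 1, 1, -1, 1⟩],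
  [⟨1, 0, 0, 0, 0, 0, 0, 0⟩, ⟨2, 0, 0, 0, 0, 0, 0, 0⟩, ⟨1, 0, 0, 0, 0, 0, 0, 0⟩, ⟨0, 0, 1, -1, 1, -1, 1, 1⟩, ⟨-1, 0, 1, -1, -1, -1, 2, 0⟩, ⟨-1, 0, 1, -1, -1, -1, 1, -1⟩],
  [⟨1, 0, 0, 0, 0, 0, 0, 0⟩, ⟨2, 0, 0, 0, 0, 0, 0, 0⟩, ⟨1, 0, 0, 0, 0, 0, 0, 0⟩, ⟨2, 0, -1, 1, 1, 1, -1, 1⟩, ⟨1, 0, -1, 1, 1, 1, -2, 0⟩, ⟨1, 0, -1, 1, -1, 1, -1, -1⟩],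
  [⟨1, 0, 0, 0, 0, 0, 0, 0⟩, ⟨2, 0, 0, 0, 0, 0, 0, 0⟩, ⟨1, 0, 0, 0, 0, 0, 0, 0⟩, ⟨2, 0, -1, 1, 1, 1, -1, 1⟩, ⟨-1, 0, 1, -1, -1, -1, 2, 0⟩, ⟨-1, 0, 1, -1, 1, -1, 1, 1⟩],
  [⟨1, 0, 0, 0, 0, 0, 0, 0⟩, ⟨2, 0, 0, 0, 0, 0, 0, 0⟩, ⟨1, 0, 0, 0, 0, 0, 0, 0⟩, ⟨1, 1, -1, -1, -1, 1, 1, -1⟩, ⟨0, -1, 1, 1, 1, -1, 0, 2⟩, ⟨0, -1, 1, 1, 1, 1, -1, 1⟩],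
  [⟨1, 0, 0, 0, 0, 0, 0, 0⟩, ⟨2, 0, 0, 0, 0, 0, 0, 0⟩, ⟨1, 0, 0, 0, 0, 0, 0, 0⟩, ⟨1, 1, -1, -1, -1, 1, 1, -1⟩, ⟨0, 1, -1, -1, -1, 1, 0, -2⟩, ⟨0, 1, -1, -1, -1, -1, 1, -1⟩],
  [⟨1, 0, 0, 0, 0, 0, 0, 0⟩, ⟨2, 0, 0, 0, 0, 0, 0, 0⟩, ⟨1, 0, 0, 0, 0, 0, 0, 0⟩, ⟨0, -2, 1, 1, 1, -1, 1, 1⟩, ⟨1, 0, -1, 1, 1, 1, -2, 0⟩, ⟨-1, 0, -1, -1, -1, -1, 1, -1⟩],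
  [⟨1, 0, 0, 0, 0, 0, 0, 0⟩, ⟨2, 0, 0, 0, 0, 0, 0, 0⟩, ⟨1, 0, 0, 0, 0, 0, 0, 0⟩, ⟨0, -2, 1, 1, 1, -1, 1, 1⟩, ⟨-1, 0, 1, -1, -1, -1, 2, 0⟩, ⟨1, 0, 1, 1, 1, 1, -1, 1⟩],
  [⟨1, 0, 0, 0, 0, 0, 0, 0⟩, ⟨2, 0, 0, 0, 0, 0, 0, 0⟩, ⟨1, 0, 0, 0, 0, 0, 0, 0⟩, ⟨1, -1, -1, 1, 1, 1, -1, -1⟩, ⟨0, -1, 1, 1, 1, -1, 0, 2⟩, ⟨0, 1, -1, 1, -1, 1, -1, -1⟩],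
  [⟨1, 0, 0, 0, 0, 0, 0, 0⟩, ⟨2, 0, 0, 0, 0, 0, 0, 0⟩, ⟨1, 0, 0, 0, 0, 0, 0, 0⟩, ⟨1, -1, -1, 1, 1, 1, -1, -1⟩, ⟨0, 1, -1, -1, -1, 1, 0, -2⟩, ⟨0, -1, 1, -1, 1, -1, 1, 1⟩],
  [⟨1, 0, 0, 0, 0, 0, 0, 0⟩, ⟨2, 0, 0, 0, 0, 0, 0, 0⟩, ⟨1, 0, 0, 0, 0, 0, 0, 0⟩, ⟨1, -1, 0, 2, 2, 0, -1, 1⟩, ⟨0, -1, 0, 0, 0, 0, 0, 0⟩, ⟨-2, -1, 2, 0, 0, -2, 1, 1⟩],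
  [⟨1, 0, 0, 0, 0, 0, 0, 0⟩, ⟨2, 0, 0, 0, 0, 0, 0, 0⟩, ⟨1, 0, 0, 0, 0, 0, 0, 0⟩, ⟨1, -1, 0, 2, 2, 0, -1, 1⟩, ⟨0, 1, 0, 0, 0, 0, 0, 0⟩, ⟨2, 1, -2, 0, 0, 2, -1, -1⟩],
  [⟨1, 0, 0, 0, 0, 0, 0, 0⟩, ⟨2, 0, 0, 0, 0, 0, 0, 0⟩, ⟨1, 0, 0, 0, 0, 0, 0, 0⟩, ⟨0, 0, 0, 0, 0, 0, 1, -1⟩, ⟨-1, 0, 0, 0, 0, 0, 0, 0⟩, ⟨-1, 2, 0, -2, -2, 0, 1, -1⟩],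
  [⟨1, 0, 0, 0, 0, 0, 0, 0⟩, ⟨2, 0, 0, 0, 0, 0, 0, 0⟩, ⟨1, 0, 0, 0, 0, 0, 0, 0⟩, ⟨0, 0, 0, 0, 0, 0, 1, -1⟩, ⟨1, 0, 0, 0, 0, 0, 0, 0⟩, ⟨1, -2, 0, 2, 2, 0, -1, 1⟩],
  [⟨4, 0, 0, 0, 0, 0, 0, 0⟩, ⟨0, 0, 0, 0, 0, 0, 0, 0⟩, ⟨0, 0, 0, 0, 0, 0, 0, 0⟩, ⟨0, 0, 0, 0, 0, 0, 0, 0⟩, ⟨0, 0, 0, 0, 0, 0, 0, 0⟩, ⟨0, 0, 0, 0, 0, 0, 0, 0⟩],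
  [⟨2, 0, 0, 0, 0, 0, 0, 0⟩, ⟨2, 0, 0, 0, 0, 0, 0, 0⟩, ⟨0, 0, 0, 0, 0, 0, 0, 0⟩, ⟨-2, 0, 0, 0, 0, 0, 0, 0⟩, ⟨0, 0, 0, 0, 0, 0, 0, 0⟩, ⟨0, 0, 0, 0, 0, 0, 0, 0⟩],
  [⟨2, 0, 0, 0, 0, 0, 0, 0⟩, ⟨2, 0, 0, 0, 0, 0, 0, 0⟩, ⟨0, 0, 0, 0, 0, 0, 0, 0⟩, ⟨0, -2, 0, 0, 0, 0, 0, 0⟩, ⟨0, 0, 0, 0, 0, 0, 0, 0⟩, ⟨0, 0, 0, 0, 0, 0, 0, 0⟩],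
  [⟨2, 0, 0, 0, 0, 0, 0, 0⟩, ⟨2, 0, 0, 0, 0, 0, 0, 0⟩, ⟨0, 0, 0, 0, 0, 0, 0, 0⟩, ⟨0, -2, 2, 2, 2, -2, 0, 4⟩, ⟨0, 0, 0, 0, 0, 0, 0, 0⟩, ⟨0, 0, 0, 0, 0, 0, 0, 0⟩],
  [⟨2, 0, 0, 0, 0, 0, 0, 0⟩, ⟨2, 0, 0, 0, 0, 0, 0, 0⟩, ⟨0, 0, 0, 0, 0, 0, 0, 0⟩, ⟨2, 0, -2, 2, 2, 2, -4, 0⟩, ⟨0, 0, 0, 0, 0, 0, 0, 0⟩, ⟨0, 0, 0, 0, 0, 0, 0, 0⟩],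
  [⟨2, 0, 0, 0, 0, 0, 0, 0⟩, ⟨2, 0, 0, 0, 0, 0, 0, 0⟩, ⟨0, 0, 0, 0, 0, 0, 0, 0⟩, ⟨-2, 0, 2, -2, -2, -2, 4, 0⟩, ⟨0, 0, 0, 0, 0, 0, 0, 0⟩, ⟨0, 0, 0, 0, 0, 0, 0, 0⟩],
  [⟨2, 0, 0, 0, 0, 0, 0, 0⟩, ⟨2, 0, 0, 0, 0, 0, 0, 0⟩, ⟨0, 0, 0, 0, 0, 0, 0, 0⟩, ⟨0, 2, -2, -2, -2, 2, 0, -4⟩, ⟨0, 0, 0, 0, 0, 0, 0, 0⟩, ⟨0, 0, 0, 0, 0, 0, 0, 0⟩],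
  [⟨2, 0, 0, 0, 0, 0, 0, 0⟩, ⟨2, 0, 0, 0, 0, 0, 0, 0⟩, ⟨0, 0, 0, 0, 0, 0, 0, 0⟩, ⟨0, 2, 0, 0, 0, 0, 0, 0⟩, ⟨0, 0, 0, 0, 0, 0, 0, 0⟩, ⟨0, 0, 0, 0, 0, 0, 0, 0⟩],
  [⟨2, 0, 0, 0, 0, 0, 0, 0⟩, ⟨2, 0, 0, 0, 0, 0, 0, 0⟩, ⟨0, 0, 0, 0, 0, 0, 0, 0⟩, ⟨2, 0, 0, 0, 0, 0, 0, 0⟩, ⟨0, 0, 0, 0, 0, 0, 0, 0⟩, ⟨0, 0, 0, 0, 0, 0, 0, 0⟩],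
  [⟨2, -1, 0, 1, 1, 0, 0, 0⟩, ⟨1, 1, 0, -1, -1, 0, 0, 0⟩, ⟨1, 0, 0, 0, 0, 0, 0, 0⟩, ⟨0, 0, 1, 0, 0, -1, 1, 1⟩, ⟨0, 1, -1, -1, 0, 0, 0, 0⟩, ⟨0, 1, -1, -1, -2, 0, 1, -1⟩],
  [⟨2, -1, 0, 1, 1, 0, 0, 0⟩, ⟨1, 1, 0, -1, -1, 0, 0, 0⟩, ⟨1, 0, 0, 0, 0, 0, 0, 0⟩, ⟨0, 0, -1, 0, 0, 1, -1, -1⟩, ⟨0, 1, -1, -1, 0, 0, 0, 0⟩, ⟨0, -1, 1, 1, 2, 0, -1, 1⟩],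
  [⟨2, -1, 0, 1, 1, 0, 0, 0⟩, ⟨1, 1, 0, -1, -1, 0, 0, 0⟩, ⟨1, 0, 0, 0, 0, 0, 0, 0⟩, ⟨0, 0, 0, -1, -1, 0, 1, -1⟩, ⟨0, 1, 0, 0, -1, 1, 0, 0⟩, ⟨0, 1, 0, 0, -1, 1, -1, -1⟩],
  [⟨2, -1, 0, 1, 1, 0, 0, 0⟩, ⟨1, 1, 0, -1, -1, 0, 0, 0⟩, ⟨1, 0, 0, 0, 0, 0, 0, 0⟩, ⟨0, 0, 0, 1, 1, 0, -1, 1⟩, ⟨0, 1, 0, 0, -1, 1, 0, 0⟩, ⟨0, -1, 0, 0, 1, -1, 1, 1⟩],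
  [⟨2, -1, 0, 1, 1, 0, 0, 0⟩, ⟨1, 1, 0, -1, -1, 0, 0, 0⟩, ⟨1, 0, 0, 0, 0, 0, 0, 0⟩, ⟨1, 1, -1, 0, 0, 1, -1, -1⟩, ⟨-1, 0, 1, -1, 0, 0, 0, 0⟩, ⟨-1, 0, 1, -1, 0, -2, 1, 1⟩],
  [⟨2, -1, 0, 1, 1, 0, 0, 0⟩, ⟨1, 1, 0, -1, -1, 0, 0, 0⟩, ⟨1, 0, 0, 0, 0, 0, 0, 0⟩, ⟨-1, -1, 1, 0, 0, -1, 1, 1⟩, ⟨-1, 0, 1, -1, 0, 0, 0, 0⟩, ⟨1, 0, -1, 1, 0, 2, -1, -1⟩],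
  [⟨2, -1, 0, 1, 1, 0, 0, 0⟩, ⟨1, 1, 0, -1, -1, 0, 0, 0⟩, ⟨1, 0, 0, 0, 0, 0, 0, 0⟩, ⟨-1, 1, 0, -1, -1, 0, 1, -1⟩, ⟨-1, 0, 0, 0, -1, -1, 0, 0⟩, ⟨1, 0, 0, 0, 1, 1, -1, 1⟩],
  [⟨2, -1, 0, 1, 1, 0, 0, 0⟩, ⟨1, 1, 0, -1, -1, 0, 0, 0⟩, ⟨1, 0, 0, 0, 0, 0, 0, 0⟩, ⟨1, -1, 0, 1, 1, 0, -1, 1⟩, ⟨-1, 0, 0, 0, -1, -1, 0, 0⟩, ⟨-1, 0, 0, 0, -1, -1, 1, -1⟩],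
  [⟨1, 1, 0, -1, -1, 0, 0, 0⟩, ⟨2, -1, 0, 1, 1, 0, 0, 0⟩, ⟨1, 0, 0, 0, 0, 0, 0, 0⟩, ⟨0, -1, 0, 1, 1, 0, -1, 1⟩, ⟨1, 0, 0, 0, 1, 1, -1, 1⟩, ⟨-1, 0, 0, 0, -1, -1, 0, 0⟩],
  [⟨1, 1, 0, -1, -1, 0, 0, 0⟩, ⟨2, -1, 0, 1, 1, 0, 0, 0⟩, ⟨1, 0, 0, 0, 0, 0, 0, 0⟩, ⟨0, 1, 0, -1, -1, 0, 1, -1⟩, ⟨1, 0, 0, 0, 1, 1, -1, 1⟩, ⟨1, 0, 0, 0, 1, 1, 0, 0⟩],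
  [⟨1, 1, 0, -1, -1, 0, 0, 0⟩, ⟨2, -1, 0, 1, 1, 0, 0, 0⟩, ⟨1, 0, 0, 0, 0, 0, 0, 0⟩, ⟨1, 0, -1, 0, 0, 1, -1, -1⟩, ⟨0, 1, -1, -1, -2, 0, 1, -1⟩, ⟨0, 1, -1, -1, 0, 0, 0, 0⟩],
  [⟨1, 1, 0, -1, -1, 0, 0, 0⟩, ⟨2, -1, 0, 1, 1, 0, 0, 0⟩, ⟨1, 0, 0, 0, 0, 0, 0, 0⟩, ⟨-1, 0, 1, 0, 0, -1, 1, 1⟩, ⟨0, 1, -1, -1, -2, 0, 1, -1⟩, ⟨0, -1, 1, 1, 0, 0, 0, 0⟩],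
  [⟨1, 1, 0, -1, -1, 0, 0, 0⟩, ⟨2, -1, 0, 1, 1, 0, 0, 0⟩, ⟨1, 0, 0, 0, 0, 0, 0, 0⟩, ⟨0, -1, 1, 0, 0, -1, 1, 1⟩, ⟨-1, 0, 1, -1, 0, -2, 1, 1⟩, ⟨-1, 0, 1, -1, 0, 0, 0, 0⟩],
  [⟨1, 1, 0, -1, -1, 0, 0, 0⟩, ⟨2, -1, 0, 1, 1, 0, 0, 0⟩, ⟨1, 0, 0, 0, 0, 0, 0, 0⟩, ⟨0, 1, -1, 0, 0, 1, -1, -1⟩, ⟨-1, 0, 1, -1, 0, -2, 1, 1⟩, ⟨1, 0, -1, 1, 0, 0, 0, 0⟩],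
  [⟨1, 1, 0, -1, -1, 0, 0, 0⟩, ⟨2, -1, 0, 1, 1, 0, 0, 0⟩, ⟨1, 0, 0, 0, 0, 0, 0, 0⟩, ⟨1, 0, 0, 1, 1, 0, -1, 1⟩, ⟨0, 1, 0, 0, -1, 1, -1, -1⟩, ⟨0, 1, 0, 0, -1, 1, 0, 0⟩],
  [⟨1, 1, 0, -1, -1, 0, 0, 0⟩, ⟨2, -1, 0, 1, 1, 0, 0, 0⟩, ⟨1, 0, 0, 0, 0, 0, 0, 0⟩, ⟨-1, 0, 0, -1, -1, 0, 1, -1⟩, ⟨0, 1, 0, 0, -1, 1, -1, -1⟩, ⟨0, -1, 0, 0, 1, -1, 0, 0⟩],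
  [⟨1, 1, 0, -1, -1, 0, 0, 0⟩, ⟨2, -1, 0, 1, 1, 0, 0, 0⟩, ⟨1, 0, 0, 0, 0, 0, 0, 0⟩, ⟨-1, 0, 0, -1, -1, 0, 1, -1⟩, ⟨0, -1, 0, 0, 1, -1, 1, 1⟩, ⟨0, 1, 0, 0, -1, 1, 0, 0⟩],
  [⟨1, 1, 0, -1, -1, 0, 0, 0⟩, ⟨2, -1, 0, 1, 1, 0, 0, 0⟩, ⟨1, 0, 0, 0, 0, 0, 0, 0⟩, ⟨1, 0, 0, 1, 1, 0, -1, 1⟩, ⟨0, -1, 0, 0, 1, -1, 1, 1⟩, ⟨0, -1, 0, 0, 1, -1, 0, 0⟩],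
  [⟨1, 1, 0, -1, -1, 0, 0, 0⟩, ⟨2, -1, 0, 1, 1, 0, 0, 0⟩, ⟨1, 0, 0, 0, 0, 0, 0, 0⟩, ⟨0, 1, -1, 0, 0, 1, -1, -1⟩, ⟨1, 0, -1, 1, 0, 2, -1, -1⟩, ⟨-1, 0, 1, -1, 0, 0, 0, 0⟩],
  [⟨1, 1, 0, -1, -1, 0, 0, 0⟩, ⟨2, -1, 0, 1, 1, 0, 0, 0⟩, ⟨1, 0, 0, 0, 0, 0, 0, 0⟩, ⟨0, -1, 1, 0, 0, -1, 1, 1⟩, ⟨1, 0, -1, 1, 0, 2, -1, -1⟩, ⟨1, 0, -1, 1, 0, 0, 0, 0⟩],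
  [⟨1, 1, 0, -1, -1, 0, 0, 0⟩, ⟨2, -1, 0, 1, 1, 0, 0, 0⟩, ⟨1, 0, 0, 0, 0, 0, 0, 0⟩, ⟨-1, 0, 1, 0, 0, -1, 1, 1⟩, ⟨0, -1, 1, 1, 2, 0, -1, 1⟩, ⟨0, 1, -1, -1, 0, 0, 0, 0⟩],
  [⟨1, 1, 0, -1, -1, 0, 0, 0⟩, ⟨2, -1, 0, 1, 1, 0, 0, 0⟩, ⟨1, 0, 0, 0, 0, 0, 0, 0⟩, ⟨1, 0, -1, 0, 0, 1, -1, -1⟩, ⟨0, -1, 1, 1, 2, 0, -1, 1⟩, ⟨0, -1, 1, 1, 0, 0, 0, 0⟩],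
  [⟨1, 1, 0, -1, -1, 0, 0, 0⟩, ⟨2, -1, 0, 1, 1, 0, 0, 0⟩, ⟨1, 0, 0, 0, 0, 0, 0, 0⟩, ⟨0, 1, 0, -1, -1, 0, 1, -1⟩, ⟨-1, 0, 0, 0, -1, -1, 1, -1⟩, ⟨-1, 0, 0, 0, -1, -1, 0, 0⟩],
  [⟨1, 1, 0, -1, -1, 0, 0, 0⟩, ⟨2, -1, 0, 1, 1, 0, 0, 0⟩, ⟨1, 0, 0, 0, 0, 0, 0, 0⟩, ⟨0, -1, 0, 1, 1, 0, -1, 1⟩, ⟨-1, 0, 0, 0, -1, -1, 1, -1⟩, ⟨1, 0, 0, 0, 1, 1, 0, 0⟩],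
  [⟨2, -1, 0, 1, 1, 0, 0, 0⟩, ⟨1, 1, 0, -1, -1, 0, 0, 0⟩, ⟨1, 0, 0, 0, 0, 0, 0, 0⟩, ⟨1, -1, 0, 1, 1, 0, -1, 1⟩, ⟨1, 0, 0, 0, 1, 1, 0, 0⟩, ⟨1, 0, 0, 0, 1, 1, -1, 1⟩],
  [⟨2, -1, 0, 1, 1, 0, 0, 0⟩, ⟨1, 1, 0, -1, -1, 0, 0, 0⟩, ⟨1, 0, 0, 0, 0, 0, 0, 0⟩, ⟨-1, 1, 0, -1, -1, 0, 1, -1⟩, ⟨1, 0, 0, 0, 1, 1, 0, 0⟩, ⟨-1, 0, 0, 0, -1, -1, 1, -1⟩],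
  [⟨2, -1, 0, 1, 1, 0, 0, 0⟩, ⟨1, 1, 0, -1, -1, 0, 0, 0⟩, ⟨1, 0, 0, 0, 0, 0, 0, 0⟩, ⟨-1, -1, 1, 0, 0, -1, 1, 1⟩, ⟨1, 0, -1, 1, 0, 0, 0, 0⟩, ⟨-1, 0, 1, -1, 0, -2, 1, 1⟩],
  [⟨2, -1, 0, 1, 1, 0, 0, 0⟩, ⟨1, 1, 0, -1, -1, 0, 0, 0⟩, ⟨1, 0, 0, 0, 0, 0, 0, 0⟩, ⟨1, 1, -1, 0, 0, 1, -1, -1⟩, ⟨1, 0, -1, 1, 0, 0, 0, 0⟩, ⟨1, 0, -1, 1, 0, 2, -1, -1⟩],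
  [⟨2, -1, 0, 1, 1, 0, 0, 0⟩, ⟨1, 1, 0, -1, -1, 0, 0, 0⟩, ⟨1, 0, 0, 0, 0, 0, 0, 0⟩, ⟨0, 0, 0, 1, 1, 0, -1, 1⟩, ⟨0, -1, 0, 0, 1, -1, 0, 0⟩, ⟨0, 1, 0, 0, -1, 1, -1, -1⟩],
  [⟨2, -1, 0, 1, 1, 0, 0, 0⟩, ⟨1, 1, 0, -1, -1, 0, 0, 0⟩, ⟨1, 0, 0, 0, 0, 0, 0, 0⟩, ⟨0, 0, 0, -1, -1, 0, 1, -1⟩, ⟨0, -1, 0, 0, 1, -1, 0, 0⟩, ⟨0, -1, 0, 0, 1, -1, 1, 1⟩],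
  [⟨2, -1, 0, 1, 1, 0, 0, 0⟩, ⟨1, 1, 0, -1, -1, 0, 0, 0⟩, ⟨1, 0, 0, 0, 0, 0, 0, 0⟩, ⟨0, 0, -1, 0, 0, 1, -1, -1⟩, ⟨0, -1, 1, 1, 0, 0, 0, 0⟩, ⟨0, 1, -1, -1, -2, 0, 1, -1⟩],
  [⟨2, -1, 0, 1, 1, 0, 0, 0⟩, ⟨1, 1, 0, -1, -1, 0, 0, 0⟩, ⟨1, 0, 0, 0, 0, 0, 0, 0⟩, ⟨0, 0, 1, 0, 0, -1, 1, 1⟩, ⟨0, -1, 1, 1, 0, 0, 0, 0⟩, ⟨0, -1, 1, 1, 2, 0, -1, 1⟩],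
  [⟨2, 0, 0, 0, 0, 0, 0, 0⟩, ⟨1, 0, 0, 0, 0, 0, 0, 0⟩, ⟨1, 0, 0, 0, 0, 0, 0, 0⟩, ⟨1, -2, 0, 2, 2, 0, -1, 1⟩, ⟨-1, 2, 0, -2, -2, 0, 1, -1⟩, ⟨-1, 0, 0, 0, 0, 0, 0, 0⟩],
  [⟨2, 0, 0, 0, 0, 0, 0, 0⟩, ⟨1, 0, 0, 0, 0, 0, 0, 0⟩, ⟨1, 0, 0, 0, 0, 0, 0, 0⟩, ⟨-1, 2, 0, -2, -2, 0, 1, -1⟩, ⟨-1, 2, 0, -2, -2, 0, 1, -1⟩, ⟨1, 0, 0, 0, 0, 0, 0, 0⟩],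
  [⟨2, 0, 0, 0, 0, 0, 0, 0⟩, ⟨1, 0, 0, 0, 0, 0, 0, 0⟩, ⟨1, 0, 0, 0, 0, 0, 0, 0⟩, ⟨2, 1, -2, 0, 0, 2, -1, -1⟩, ⟨0, 1, 0, 0, 0, 0, -1, 1⟩, ⟨0, 1, 0, 0, 0, 0, 0, 0⟩],
  [⟨2, 0, 0, 0, 0, 0, 0, 0⟩, ⟨1, 0, 0, 0, 0, 0, 0, 0⟩, ⟨1, 0, 0, 0, 0, 0, 0, 0⟩, ⟨-2, -1, 2, 0, 0, -2, 1, 1⟩, ⟨0, 1, 0, 0, 0, 0, -1, 1⟩, ⟨0, -1, 0, 0, 0, 0, 0, 0⟩],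
  [⟨2, 0, 0, 0, 0, 0, 0, 0⟩, ⟨1, 0, 0, 0, 0, 0, 0, 0⟩, ⟨1, 0, 0, 0, 0, 0, 0, 0⟩, ⟨0, -1, 1, -1, 1, -1, 1, 1⟩, ⟨0, 1, -1, -1, -1, 1, -1, -1⟩, ⟨0, 1, -1, -1, -1, 1, 0, -2⟩],
  [⟨2, 0, 0, 0, 0, 0, 0, 0⟩, ⟨1, 0, 0, 0, 0, 0, 0, 0⟩, ⟨1, 0, 0, 0, 0, 0, 0, 0⟩, ⟨0, 1, -1, 1, -1, 1, -1, -1⟩, ⟨0, 1, -1, -1, -1, 1, -1, -1⟩, ⟨0, -1, 1, 1, 1, -1, 0, 2⟩],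
  [⟨2, 0, 0, 0, 0, 0, 0, 0⟩, ⟨1, 0, 0, 0, 0, 0, 0, 0⟩, ⟨1, 0, 0, 0, 0, 0, 0, 0⟩, ⟨1, 0, 1, 1, 1, 1, -1, 1⟩, ⟨-1, 0, 1, -1, -1, -1, 1, 1⟩, ⟨-1, 0, 1, -1, -1, -1, 2, 0⟩],
  [⟨2, 0, 0, 0, 0, 0, 0, 0⟩, ⟨1, 0, 0, 0, 0, 0, 0, 0⟩, ⟨1, 0, 0, 0, 0, 0, 0, 0⟩, ⟨-1, 0, -1, -1, -1, -1, 1, -1⟩, ⟨-1, 0, 1, -1, -1, -1, 1, 1⟩, ⟨1, 0, -1, 1, 1, 1, -2, 0⟩],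
  [⟨2, 0, 0, 0, 0, 0, 0, 0⟩, ⟨1, 0, 0, 0, 0, 0, 0, 0⟩, ⟨1, 0, 0, 0, 0, 0, 0, 0⟩, ⟨0, 1, -1, -1, -1, -1, 1, -1⟩, ⟨0, 1, -1, -1, -1, 1, 1, -1⟩, ⟨0, 1, -1, -1, -1, 1, 0, -2⟩],
  [⟨2, 0, 0, 0, 0, 0, 0, 0⟩, ⟨1, 0, 0, 0, 0, 0, 0, 0⟩, ⟨1, 0, 0, 0, 0, 0, 0, 0⟩, ⟨0, -1, 1, 1, 1, 1, -1, 1⟩, ⟨0, 1, -1, -1, -1, 1, 1, -1⟩, ⟨0, -1, 1, 1, 1, -1, 0, 2⟩],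
  [⟨2, 0, 0, 0, 0, 0, 0, 0⟩, ⟨1, 0, 0, 0, 0, 0, 0, 0⟩, ⟨1, 0, 0, 0, 0, 0, 0, 0⟩, ⟨-1, 0, 1, -1, 1, -1, 1, 1⟩, ⟨1, 0, -1, 1, 1, 1, -1, 1⟩, ⟨-1, 0, 1, -1, -1, -1, 2, 0⟩],
  [⟨2, 0, 0, 0, 0, 0, 0, 0⟩, ⟨1, 0, 0, 0, 0, 0, 0, 0⟩, ⟨1, 0, 0, 0, 0, 0, 0, 0⟩, ⟨1, 0, -1, 1, -1, 1, -1, -1⟩, ⟨1, 0, -1, 1, 1, 1, -1, 1⟩, ⟨1, 0, -1, 1, 1, 1, -2, 0⟩],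
  [⟨2, 0, 0, 0, 0, 0, 0, 0⟩, ⟨1, 0, 0, 0, 0, 0, 0, 0⟩, ⟨1, 0, 0, 0, 0, 0, 0, 0⟩, ⟨-1, 0, 1, -1, -1, -1, 1, -1⟩, ⟨-1, 0, 1, -1, 1, -1, 1, 1⟩, ⟨-1, 0, 1, -1, -1, -1, 2, 0⟩],
  [⟨2, 0, 0, 0, 0, 0, 0, 0⟩, ⟨1, 0, 0, 0, 0, 0, 0, 0⟩, ⟨1, 0, 0, 0, 0, 0, 0, 0⟩, ⟨1, 0, -1, 1, 1, 1, -1, 1⟩, ⟨-1, 0, 1, -1, 1, -1, 1, 1⟩, ⟨1, 0, -1, 1, 1, 1, -2, 0⟩],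
  [⟨2, 0, 0, 0, 0, 0, 0, 0⟩, ⟨1, 0, 0, 0, 0, 0, 0, 0⟩, ⟨1, 0, 0, 0, 0, 0, 0, 0⟩, ⟨0, 1, 0, 0, -2, 0, 1, -1⟩, ⟨0, 1, 0, 0, 0, 2, -1, -1⟩, ⟨0, 1, 0, 0, 0, 0, 0, 0⟩],
  [⟨2, 0, 0, 0, 0, 0, 0, 0⟩, ⟨1, 0, 0, 0, 0, 0, 0, 0⟩, ⟨1, 0, 0, 0, 0, 0, 0, 0⟩, ⟨0, -1, 0, 0, 2, 0, -1, 1⟩, ⟨0, 1, 0, 0, 0, 2, -1, -1⟩, ⟨0, -1, 0, 0, 0, 0, 0, 0⟩],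
  [⟨2, 0, 0, 0, 0, 0, 0, 0⟩, ⟨1, 0, 0, 0, 0, 0, 0, 0⟩, ⟨1, 0, 0, 0, 0, 0, 0, 0⟩, ⟨1, 0, 0, 0, 0, 2, -1, -1⟩, ⟨-1, 0, 0, 0, 0, -2, 1, 1⟩, ⟨-1, 0, 0, 0, 0, 0, 0, 0⟩],
  [⟨2, 0, 0, 0, 0, 0, 0, 0⟩, ⟨1, 0, 0, 0, 0, 0, 0, 0⟩, ⟨1, 0, 0, 0, 0, 0, 0, 0⟩, ⟨-1, 0, 0, 0, 0, -2, 1, 1⟩, ⟨-1, 0, 0, 0, 0, -2, 1, 1⟩, ⟨1, 0, 0, 0, 0, 0, 0, 0⟩],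
  [⟨2, 0, 0, 0, 0, 0, 0, 0⟩, ⟨1, 0, 0, 0, 0, 0, 0, 0⟩, ⟨1, 0, 0, 0, 0, 0, 0, 0⟩, ⟨0, 1, -1, -1, -1, 1, -1, -1⟩, ⟨0, 1, -1, 1, -1, 1, -1, -1⟩, ⟨0, 1, -1, -1, -1, 1, 0, -2⟩],
  [⟨2, 0, 0, 0, 0, 0, 0, 0⟩, ⟨1, 0, 0, 0, 0, 0, 0, 0⟩, ⟨1, 0, 0, 0, 0, 0, 0, 0⟩, ⟨0, -1, 1, 1, 1, -1, 1, 1⟩, ⟨0, 1, -1, 1, -1, 1, -1, -1⟩, ⟨0, -1, 1, 1, 1, -1, 0, 2⟩],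
  [⟨2, 0, 0, 0, 0, 0, 0, 0⟩, ⟨1, 0, 0, 0, 0, 0, 0, 0⟩, ⟨1, 0, 0, 0, 0, 0, 0, 0⟩, ⟨0, 1, 0, 0, 0, 2, -1, -1⟩, ⟨0, -1, 0, 0, 2, 0, -1, 1⟩, ⟨0, 1, 0, 0, 0, 0, 0, 0⟩],
  [⟨2, 0, 0, 0, 0, 0, 0, 0⟩, ⟨1, 0, 0, 0, 0, 0, 0, 0⟩, ⟨1, 0, 0, 0, 0, 0, 0, 0⟩, ⟨0, -1, 0, 0, 0, -2, 1, 1⟩, ⟨0, -1, 0, 0, 2, 0, -1, 1⟩, ⟨0, -1, 0, 0, 0, 0, 0, 0⟩],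
  [⟨2, 0, 0, 0, 0, 0, 0, 0⟩, ⟨1, 0, 0, 0, 0, 0, 0, 0⟩, ⟨1, 0, 0, 0, 0, 0, 0, 0⟩, ⟨-1, 0, 1, -1, -1, -1, 1, 1⟩, ⟨-1, 0, -1, -1, -1, -1, 1, -1⟩, ⟨-1, 0, 1, -1, -1, -1, 2, 0⟩],
  [⟨2, 0, 0, 0, 0, 0, 0, 0⟩, ⟨1, 0, 0, 0, 0, 0, 0, 0⟩, ⟨1, 0, 0, 0, 0, 0, 0, 0⟩, ⟨1, 0, -1, 1, 1, 1, -1, -1⟩, ⟨-1, 0, -1, -1, -1, -1, 1, -1⟩, ⟨1, 0, -1, 1, 1, 1, -2, 0⟩],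
  [⟨2, 0, 0, 0, 0, 0, 0, 0⟩, ⟨1, 0, 0, 0, 0, 0, 0, 0⟩, ⟨1, 0, 0, 0, 0, 0, 0, 0⟩, ⟨0, 1, -1, -1, -1, 1, 1, -1⟩, ⟨0, -1, 1, 1, 1, 1, -1, 1⟩, ⟨0, 1, -1, -1, -1, 1, 0, -2⟩],
  [⟨2, 0, 0, 0, 0, 0, 0, 0⟩, ⟨1, 0, 0, 0, 0, 0, 0, 0⟩, ⟨1, 0, 0, 0, 0, 0, 0, 0⟩, ⟨0, -1, 1, 1, 1, -1, -1, 1⟩, ⟨0, -1, 1, 1, 1, 1, -1, 1⟩, ⟨0, -1, 1, 1, 1, -1, 0, 2⟩],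
  [⟨2, 0, 0, 0, 0, 0, 0, 0⟩, ⟨1, 0, 0, 0, 0, 0, 0, 0⟩, ⟨1, 0, 0, 0, 0, 0, 0, 0⟩, ⟨1, 0, 0, 0, 2, 0, -1, 1⟩, ⟨-1, 0, 0, 0, -2, 0, 1, -1⟩, ⟨-1, 0, 0, 0, 0, 0, 0, 0⟩],
  [⟨2, 0, 0, 0, 0, 0, 0, 0⟩, ⟨1, 0, 0, 0, 0, 0, 0, 0⟩, ⟨1, 0, 0, 0, 0, 0, 0, 0⟩, ⟨-1, 0, 0, 0, -2, 0, 1, -1⟩, ⟨-1, 0, 0, 0, -2, 0, 1, -1⟩, ⟨1, 0, 0, 0, 0, 0, 0, 0⟩],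
  [⟨2, 0, 0, 0, 0, 0, 0, 0⟩, ⟨1, 0, 0, 0, 0, 0, 0, 0⟩, ⟨1, 0, 0, 0, 0, 0, 0, 0⟩, ⟨1, 0, 0, 0, 0, 0, 1, 1⟩, ⟨-1, 0, 0, 0, 0, 0, -1, -1⟩, ⟨-1, 0, 0, 0, 0, 0, 0, 0⟩],
  [⟨2, 0, 0, 0, 0, 0, 0, 0⟩, ⟨1, 0, 0, 0, 0, 0, 0, 0⟩, ⟨1, 0, 0, 0, 0, 0, 0, 0⟩, ⟨-1, 0, 0, 0, 0, 0, -1, -1⟩, ⟨-1, 0, 0, 0, 0, 0, -1, -1⟩, ⟨1, 0, 0, 0, 0, 0, 0, 0⟩],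
  [⟨2, 0, 0, 0, 0, 0, 0, 0⟩, ⟨1, 0, 0, 0, 0, 0, 0, 0⟩, ⟨1, 0, 0, 0, 0, 0, 0, 0⟩, ⟨0, 1, 0, 0, 0, 0, -1, 1⟩, ⟨-2, -1, 2, 0, 0, -2, 1, 1⟩, ⟨0, 1, 0, 0, 0, 0, 0, 0⟩],
  [⟨2, 0, 0, 0, 0, 0, 0, 0⟩, ⟨1, 0, 0, 0, 0, 0, 0, 0⟩, ⟨1, 0, 0, 0, 0, 0, 0, 0⟩, ⟨0, -1, 0, 0, 0, 0, 1, -1⟩, ⟨-2, -1, 2, 0, 0, -2, 1, 1⟩, ⟨0, -1, 0, 0, 0, 0, 0, 0⟩],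
  [⟨2, 0, 0, 0, 0, 0, 0, 0⟩, ⟨1, 0, 0, 0, 0, 0, 0, 0⟩, ⟨1, 0, 0, 0, 0, 0, 0, 0⟩, ⟨0, -1, 0, 0, 0, 0, 1, -1⟩, ⟨2, 1, -2, 0, 0, 2, -1, -1⟩, ⟨0, 1, 0, 0, 0, 0, 0, 0⟩],
  [⟨2, 0, 0, 0, 0, 0, 0, 0⟩, ⟨1, 0, 0, 0, 0, 0, 0, 0⟩, ⟨1, 0, 0, 0, 0, 0, 0, 0⟩, ⟨0, 1, 0, 0, 0, 0, -1, 1⟩, ⟨2, 1, -2, 0, 0, 2, -1, -1⟩, ⟨0, -1, 0, 0, 0, 0, 0, 0⟩],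
  [⟨2, 0, 0, 0, 0, 0, 0, 0⟩, ⟨1, 0, 0, 0, 0, 0, 0, 0⟩, ⟨1, 0, 0, 0, 0, 0, 0, 0⟩, ⟨-1, 0, 0, 0, 0, 0, -1, -1⟩, ⟨1, 0, 0, 0, 0, 0, 1, 1⟩, ⟨-1, 0, 0, 0, 0, 0, 0, 0⟩],
  [⟨2, 0, 0, 0, 0, 0, 0, 0⟩, ⟨1, 0, 0, 0, 0, 0, 0, 0⟩, ⟨1, 0, 0, 0, 0, 0, 0, 0⟩, ⟨1, 0, 0, 0, 0, 0, 1, 1⟩, ⟨1, 0, 0, 0, 0, 0, 1, 1⟩, ⟨1, 0, 0, 0, 0, 0, 0, 0⟩],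
  [⟨2, 0, 0, 0, 0, 0, 0, 0⟩, ⟨1, 0, 0, 0, 0, 0, 0, 0⟩, ⟨1, 0, 0, 0, 0, 0, 0, 0⟩, ⟨-1, 0, 0, 0, -2, 0, 1, -1⟩, ⟨1, 0, 0, 0, 2, 0, -1, 1⟩, ⟨-1, 0, 0, 0, 0, 0, 0, 0⟩],
  [⟨2, 0, 0, 0, 0, 0, 0, 0⟩, ⟨1, 0, 0, 0, 0, 0, 0, 0⟩, ⟨1, 0, 0, 0, 0, 0, 0, 0⟩, ⟨1, 0, 0, 0, 2, 0, -1, 1⟩, ⟨1, 0, 0, 0, 2, 0, -1, 1⟩, ⟨1, 0, 0, 0, 0, 0, 0, 0⟩],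
  [⟨2, 0, 0, 0, 0, 0, 0, 0⟩, ⟨1, 0, 0, 0, 0, 0, 0, 0⟩, ⟨1, 0, 0, 0, 0, 0, 0, 0⟩, ⟨0, -1, 1, 1, 1, -1, -1, 1⟩, ⟨0, 1, -1, -1, -1, -1, 1, -1⟩, ⟨0, 1, -1, -1, -1, 1, 0, -2⟩],
  [⟨2, 0, 0, 0, 0, 0, 0, 0⟩, ⟨1, 0, 0, 0, 0, 0, 0, 0⟩, ⟨1, 0, 0, 0, 0, 0, 0, 0⟩, ⟨0, 1, -1, -1, -1, 1, 1, -1⟩, ⟨0, 1, -1, -1, -1, -1, 1, -1⟩, ⟨0, -1, 1, 1, 1, -1, 0, 2⟩],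
  [⟨2, 0, 0, 0, 0, 0, 0, 0⟩, ⟨1, 0, 0, 0, 0, 0, 0, 0⟩, ⟨1, 0, 0, 0, 0, 0, 0, 0⟩, ⟨1, 0, -1, 1, 1, 1, -1, -1⟩, ⟨1, 0, 1, 1, 1, 1, -1, 1⟩, ⟨-1, 0, 1, -1, -1, -1, 2, 0⟩],
  [⟨2, 0, 0, 0, 0, 0, 0, 0⟩, ⟨1, 0, 0, 0, 0, 0, 0, 0⟩, ⟨1, 0, 0, 0, 0, 0, 0, 0⟩, ⟨-1, 0, 1, -1, -1, -1, 1, 1⟩, ⟨1, 0, 1, 1, 1, 1, -1, 1⟩, ⟨1, 0, -1, 1, 1, 1, -2, 0⟩],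
  [⟨2, 0, 0, 0, 0, 0, 0, 0⟩, ⟨1, 0, 0, 0, 0, 0, 0, 0⟩, ⟨1, 0, 0, 0, 0, 0, 0, 0⟩, ⟨0, -1, 0, 0, 0, -2, 1, 1⟩, ⟨0, 1, 0, 0, -2, 0, 1, -1⟩, ⟨0, 1, 0, 0, 0, 0, 0, 0⟩],
  [⟨2, 0, 0, 0, 0, 0, 0, 0⟩, ⟨1, 0, 0, 0, 0, 0, 0, 0⟩, ⟨1, 0, 0, 0, 0, 0, 0, 0⟩, ⟨0, 1, 0, 0, 0, 2, -1, -1⟩, ⟨0, 1, 0, 0, -2, 0, 1, -1⟩, ⟨0, -1, 0, 0, 0, 0, 0, 0⟩],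
  [⟨2, 0, 0, 0, 0, 0, 0, 0⟩, ⟨1, 0, 0, 0, 0, 0, 0, 0⟩, ⟨1, 0, 0, 0, 0, 0, 0, 0⟩, ⟨0, -1, 1, 1, 1, -1, 1, 1⟩, ⟨0, -1, 1, -1, 1, -1, 1, 1⟩, ⟨0, 1, -1, -1, -1, 1, 0, -2⟩],
  [⟨2, 0, 0, 0, 0, 0, 0, 0⟩, ⟨1, 0, 0, 0, 0, 0, 0, 0⟩, ⟨1, 0, 0, 0, 0, 0, 0, 0⟩, ⟨0, 1, -1, -1, -1, 1, -1, -1⟩, ⟨0, -1, 1, -1, 1, -1, 1, 1⟩, ⟨0, -1, 1, 1, 1, -1, 0, 2⟩],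
  [⟨2, 0, 0, 0, 0, 0, 0, 0⟩, ⟨1, 0, 0, 0, 0, 0, 0, 0⟩, ⟨1, 0, 0, 0, 0, 0, 0, 0⟩, ⟨-1, 0, 0, 0, 0, -2, 1, 1⟩, ⟨1, 0, 0, 0, 0, 2, -1, -1⟩, ⟨-1, 0, 0, 0, 0, 0, 0, 0⟩],
  [⟨2, 0, 0, 0, 0, 0, 0, 0⟩, ⟨1, 0, 0, 0, 0, 0, 0, 0⟩, ⟨1, 0, 0, 0, 0, 0, 0, 0⟩, ⟨1, 0, 0, 0, 0, 2, -1, -1⟩, ⟨1, 0, 0, 0, 0, 2, -1, -1⟩, ⟨1, 0, 0, 0, 0, 0, 0, 0⟩],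
  [⟨2, 0, 0, 0, 0, 0, 0, 0⟩, ⟨1, 0, 0, 0, 0, 0, 0, 0⟩, ⟨1, 0, 0, 0, 0, 0, 0, 0⟩, ⟨0, -1, 0, 0, 2, 0, -1, 1⟩, ⟨0, -1, 0, 0, 0, -2, 1, 1⟩, ⟨0, 1, 0, 0, 0, 0, 0, 0⟩],
  [⟨2, 0, 0, 0, 0, 0, 0, 0⟩, ⟨1, 0, 0, 0, 0, 0, 0, 0⟩, ⟨1, 0, 0, 0, 0, 0, 0, 0⟩, ⟨0, 1, 0, 0, -2, 0, 1, -1⟩, ⟨0, -1, 0, 0, 0, -2, 1, 1⟩, ⟨0, -1, 0, 0, 0, 0, 0, 0⟩],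
  [⟨2, 0, 0, 0, 0, 0, 0, 0⟩, ⟨1, 0, 0, 0, 0, 0, 0, 0⟩, ⟨1, 0, 0, 0, 0, 0, 0, 0⟩, ⟨1, 0, -1, 1, 1, 1, -1, 1⟩, ⟨1, 0, -1, 1, -1, 1, -1, -1⟩, ⟨-1, 0, 1, -1, -1, -1, 2, 0⟩],
  [⟨2, 0, 0, 0, 0, 0, 0, 0⟩, ⟨1, 0, 0, 0, 0, 0, 0, 0⟩, ⟨1, 0, 0, 0, 0, 0, 0, 0⟩, ⟨-1, 0, 1, -1, -1, -1, 1, -1⟩, ⟨1, 0, -1, 1, -1, 1, -1, -1⟩, ⟨1, 0, -1, 1, 1, 1, -2, 0⟩],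
  [⟨2, 0, 0, 0, 0, 0, 0, 0⟩, ⟨1, 0, 0, 0, 0, 0, 0, 0⟩, ⟨1, 0, 0, 0, 0, 0, 0, 0⟩, ⟨1, 0, -1, 1, -1, 1, -1, -1⟩, ⟨-1, 0, 1, -1, -1, -1, 1, -1⟩, ⟨-1, 0, 1, -1, -1, -1, 2, 0⟩],
  [⟨2, 0, 0, 0, 0, 0, 0, 0⟩, ⟨1, 0, 0, 0, 0, 0, 0, 0⟩, ⟨1, 0, 0, 0, 0, 0, 0, 0⟩, ⟨-1, 0, 1, -1, 1, -1, 1, 1⟩, ⟨-1, 0, 1, -1, -1, -1, 1, -1⟩, ⟨1, 0, -1, 1, 1, 1, -2, 0⟩],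
  [⟨2, 0, 0, 0, 0, 0, 0, 0⟩, ⟨1, 0, 0, 0, 0, 0, 0, 0⟩, ⟨1, 0, 0, 0, 0, 0, 0, 0⟩, ⟨0, -1, 1, 1, 1, 1, -1, 1⟩, ⟨0, -1, 1, 1, 1, -1, -1, 1⟩, ⟨0, 1, -1, -1, -1, 1, 0, -2⟩],
  [⟨2, 0, 0, 0, 0, 0, 0, 0⟩, ⟨1, 0, 0, 0, 0, 0, 0, 0⟩, ⟨1, 0, 0, 0, 0, 0, 0, 0⟩, ⟨0, 1, -1, -1, -1, -1, 1, -1⟩, ⟨0, -1, 1, 1, 1, -1, -1, 1⟩, ⟨0, -1, 1, 1, 1, -1, 0, 2⟩],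
  [⟨2, 0, 0, 0, 0, 0, 0, 0⟩, ⟨1, 0, 0, 0, 0, 0, 0, 0⟩, ⟨1, 0, 0, 0, 0, 0, 0, 0⟩, ⟨-1, 0, -1, -1, -1, -1, 1, -1⟩, ⟨1, 0, -1, 1, 1, 1, -1, -1⟩, ⟨-1, 0, 1, -1, -1, -1, 2, 0⟩],
  [⟨2, 0, 0, 0, 0, 0, 0, 0⟩, ⟨1, 0, 0, 0, 0, 0, 0, 0⟩, ⟨1, 0, 0, 0, 0, 0, 0, 0⟩, ⟨1, 0, 1, 1, 1, 1, -1, 1⟩, ⟨1, 0, -1, 1, 1, 1, -1, -1⟩, ⟨1, 0, -1, 1, 1, 1, -2, 0⟩],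
  [⟨2, 0, 0, 0, 0, 0, 0, 0⟩, ⟨1, 0, 0, 0, 0, 0, 0, 0⟩, ⟨1, 0, 0, 0, 0, 0, 0, 0⟩, ⟨0, 1, -1, 1, -1, 1, -1, -1⟩, ⟨0, -1, 1, 1, 1, -1, 1, 1⟩, ⟨0, 1, -1, -1, -1, 1, 0, -2⟩],
  [⟨2, 0, 0, 0, 0, 0, 0, 0⟩, ⟨1, 0, 0, 0, 0, 0, 0, 0⟩, ⟨1, 0, 0, 0, 0, 0, 0, 0⟩, ⟨0, -1, 1, -1, 1, -1, 1, 1⟩, ⟨0, -1, 1, 1, 1, -1, 1, 1⟩, ⟨0, -1, 1, 1, 1, -1, 0, 2⟩],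
  [⟨2, 0, 0, 0, 0, 0, 0, 0⟩, ⟨1, 0, 0, 0, 0, 0, 0, 0⟩, ⟨1, 0, 0, 0, 0, 0, 0, 0⟩, ⟨-2, -1, 2, 0, 0, -2, 1, 1⟩, ⟨0, -1, 0, 0, 0, 0, 1, -1⟩, ⟨0, 1, 0, 0, 0, 0, 0, 0⟩],
  [⟨2, 0, 0, 0, 0, 0, 0, 0⟩, ⟨1, 0, 0, 0, 0, 0, 0, 0⟩, ⟨1, 0, 0, 0, 0, 0, 0, 0⟩, ⟨2, 1, -2, 0, 0, 2, -1, -1⟩, ⟨0, -1, 0, 0, 0, 0, 1, -1⟩, ⟨0, -1, 0, 0, 0, 0, 0, 0⟩],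
  [⟨2, 0, 0, 0, 0, 0, 0, 0⟩, ⟨1, 0, 0, 0, 0, 0, 0, 0⟩, ⟨1, 0, 0, 0, 0, 0, 0, 0⟩, ⟨-1, 2, 0, -2, -2, 0, 1, -1⟩, ⟨1, -2, 0, 2, 2, 0, -1, 1⟩, ⟨-1, 0, 0, 0, 0, 0, 0, 0⟩],
  [⟨2, 0, 0, 0, 0, 0, 0, 0⟩, ⟨1, 0, 0, 0, 0, 0, 0, 0⟩, ⟨1, 0, 0, 0, 0, 0, 0, 0⟩, ⟨1, -2, 0, 2, 2, 0, -1, 1⟩, ⟨1, -2, 0, 2, 2, 0, -1, 1⟩, ⟨1, 0, 0, 0, 0, 0, 0, 0⟩],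
  [⟨0, 0, 0, 0, 0, 0, 0, 0⟩, ⟨0, 0, 0, 0, 0, 0, 0, 0⟩, ⟨4, 0, 0, 0, 0, 0, 0, 0⟩, ⟨0, 0, 0, 0, 0, 0, 0, 0⟩, ⟨0, 0, 0, 0, 0, 0, 0, 0⟩, ⟨0, 0, 0, 0, 0, 0, 0, 0⟩],
  [⟨2, 0, 0, 0, 0, 0, 0, 0⟩, ⟨0, 0, 0, 0, 0, 0, 0, 0⟩, ⟨2, 0, 0, 0, 0, 0, 0, 0⟩, ⟨0, 0, 0, 0, 0, 0, 0, 0⟩, ⟨-2, 0, 0, 0, 0, 0, 0, 0⟩, ⟨0, 0, 0, 0, 0, 0, 0, 0⟩],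
  [⟨2, 0, 0, 0, 0, 0, 0, 0⟩, ⟨0, 0, 0, 0, 0, 0, 0, 0⟩, ⟨2, 0, 0, 0, 0, 0, 0, 0⟩, ⟨0, 0, 0, 0, 0, 0, 0, 0⟩, ⟨0, 2, 0, 0, 0, 0, 0, 0⟩, ⟨0, 0, 0, 0, 0, 0, 0, 0⟩],
  [⟨2, 0, 0, 0, 0, 0, 0, 0⟩, ⟨0, 0, 0, 0, 0, 0, 0, 0⟩, ⟨2, 0, 0, 0, 0, 0, 0, 0⟩, ⟨0, 0, 0, 0, 0, 0, 0, 0⟩, ⟨0, 2, -2, -2, -2, 2, 0, -4⟩, ⟨0, 0, 0, 0, 0, 0, 0, 0⟩],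
  [⟨2, 0, 0, 0, 0, 0, 0, 0⟩, ⟨0, 0, 0, 0, 0, 0, 0, 0⟩, ⟨2, 0, 0, 0, 0, 0, 0, 0⟩, ⟨0, 0, 0, 0, 0, 0, 0, 0⟩, ⟨-2, 0, 2, -2, -2, -2, 4, 0⟩, ⟨0, 0, 0, 0, 0, 0, 0, 0⟩],
  [⟨2, 0, 0, 0, 0, 0, 0, 0⟩, ⟨0, 0, 0, 0, 0, 0, 0, 0⟩, ⟨2, 0, 0, 0, 0, 0, 0, 0⟩, ⟨0, 0, 0, 0, 0, 0, 0, 0⟩, ⟨2, 0, -2, 2, 2, 2, -4, 0⟩, ⟨0, 0, 0, 0, 0, 0, 0, 0⟩],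
  [⟨2, 0, 0, 0, 0, 0, 0, 0⟩, ⟨0, 0, 0, 0, 0, 0, 0, 0⟩, ⟨2, 0, 0, 0, 0, 0, 0, 0⟩, ⟨0, 0, 0, 0, 0, 0, 0, 0⟩, ⟨0, -2, 2, 2, 2, -2, 0, 4⟩, ⟨0, 0, 0, 0, 0, 0, 0, 0⟩],
  [⟨2, 0, 0, 0, 0, 0, 0, 0⟩, ⟨0, 0, 0, 0, 0, 0, 0, 0⟩, ⟨2, 0, 0, 0, 0, 0, 0, 0⟩, ⟨0, 0, 0, 0, 0, 0, 0, 0⟩, ⟨0, -2, 0, 0, 0, 0, 0, 0⟩, ⟨0, 0, 0, 0, 0, 0, 0, 0⟩],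
  [⟨2, 0, 0, 0, 0, 0, 0, 0⟩, ⟨0, 0, 0, 0, 0, 0, 0, 0⟩, ⟨2, 0, 0, 0, 0, 0, 0, 0⟩, ⟨0, 0, 0, 0, 0, 0, 0, 0⟩, ⟨2, 0, 0, 0, 0, 0, 0, 0⟩, ⟨0, 0, 0, 0, 0, 0, 0, 0⟩],
  [⟨1, 1, 0, -1, -1, 0, 0, 0⟩, ⟨1, 0, 0, 0, 0, 0, 0, 0⟩, ⟨2, -1, 0, 1, 1, 0, 0, 0⟩, ⟨0, 1, -1, -1, -2, 0, 1, -1⟩, ⟨1, 0, -1, 0, 0, 1, -1, -1⟩, ⟨-1, 0, 1, 0, -1, 0, 0, 0⟩],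
  [⟨1, 1, 0, -1, -1, 0, 0, 0⟩, ⟨1, 0, 0, 0, 0, 0, 0, 0⟩, ⟨2, -1, 0, 1, 1, 0, 0, 0⟩, ⟨0, -1, 1, 1, 2, 0, -1, 1⟩, ⟨-1, 0, 1, 0, 0, -1, 1, 1⟩, ⟨-1, 0, 1, 0, -1, 0, 0, 0⟩],
  [⟨1, 1, 0, -1, -1, 0, 0, 0⟩, ⟨1, 0, 0, 0, 0, 0, 0, 0⟩, ⟨2, -1, 0, 1, 1, 0, 0, 0⟩, ⟨0, 1, 0, 0, -1, 1, -1, -1⟩, ⟨1, 0, 0, 1, 1, 0, -1, 1⟩, ⟨-1, 0, 0, -1, 0, -1, 0, 0⟩],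
  [⟨1, 1, 0, -1, -1, 0, 0, 0⟩, ⟨1, 0, 0, 0, 0, 0, 0, 0⟩, ⟨2, -1, 0, 1, 1, 0, 0, 0⟩, ⟨0, -1, 0, 0, 1, -1, 1, 1⟩, ⟨-1, 0, 0, -1, -1, 0, 1, -1⟩, ⟨-1, 0, 0, -1, 0, -1, 0, 0⟩],
  [⟨1, 1, 0, -1, -1, 0, 0, 0⟩, ⟨1, 0, 0, 0, 0, 0, 0, 0⟩, ⟨2, -1, 0, 1, 1, 0, 0, 0⟩, ⟨-1, 0, 1, -1, 0, -2, 1, 1⟩, ⟨0, -1, 1, 0, 0, -1, 1, 1⟩, ⟨0, 1, -1, 0, -1, 0, 0, 0⟩],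
  [⟨1, 1, 0, -1, -1, 0, 0, 0⟩, ⟨1, 0, 0, 0, 0, 0, 0, 0⟩, ⟨2, -1, 0, 1, 1, 0, 0, 0⟩, ⟨1, 0, -1, 1, 0, 2, -1, -1⟩, ⟨0, 1, -1, 0, 0, 1, -1, -1⟩, ⟨0, 1, -1, 0, -1, 0, 0, 0⟩],
  [⟨1, 1, 0, -1, -1, 0, 0, 0⟩, ⟨1, 0, 0, 0, 0, 0, 0, 0⟩, ⟨2, -1, 0, 1, 1, 0, 0, 0⟩, ⟨1, 0, 0, 0, 1, 1, -1, 1⟩, ⟨0, -1, 0, 1, 1, 0, -1, 1⟩, ⟨0, 1, 0, -1, 0, 1, 0, 0⟩],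
  [⟨1, 1, 0, -1, -1, 0, 0, 0⟩, ⟨1, 0, 0, 0, 0, 0, 0, 0⟩, ⟨2, -1, 0, 1, 1, 0, 0, 0⟩, ⟨-1, 0, 0, 0, -1, -1, 1, -1⟩, ⟨0, 1, 0, -1, -1, 0, 1, -1⟩, ⟨0, 1, 0, -1, 0, 1, 0, 0⟩],
  [⟨2, -1, 0, 1, 1, 0, 0, 0⟩, ⟨1, 0, 0, 0, 0, 0, 0, 0⟩, ⟨1, 1, 0, -1, -1, 0, 0, 0⟩, ⟨-1, 0, 0, 0, -1, -1, 0, 0⟩, ⟨-1, 1, 0, -1, -1, 0, 1, -1⟩, ⟨-1, 1, 0, -1, -2, -1, 1, -1⟩],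
  [⟨2, -1, 0, 1, 1, 0, 0, 0⟩, ⟨1, 0, 0, 0, 0, 0, 0, 0⟩, ⟨1, 1, 0, -1, -1, 0, 0, 0⟩, ⟨1, 0, 0, 0, 1, 1, 0, 0⟩, ⟨1, -1, 0, 1, 1, 0, -1, 1⟩, ⟨-1, 1, 0, -1, -2, -1, 1, -1⟩],
  [⟨2, -1, 0, 1, 1, 0, 0, 0⟩, ⟨1, 0, 0, 0, 0, 0, 0, 0⟩, ⟨1, 1, 0, -1, -1, 0, 0, 0⟩, ⟨0, 1, -1, -1, 0, 0, 0, 0⟩, ⟨0, 0, 1, 0, 0, -1, 1, 1⟩, ⟨0, 0, 1, 0, 1, 0, -1, 1⟩],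
  [⟨2, -1, 0, 1, 1, 0, 0, 0⟩, ⟨1, 0, 0, 0, 0, 0, 0, 0⟩, ⟨1, 1, 0, -1, -1, 0, 0, 0⟩, ⟨0, -1, 1, 1, 0, 0, 0, 0⟩, ⟨0, 0, -1, 0, 0, 1, -1, -1⟩, ⟨0, 0, 1, 0, 1, 0, -1, 1⟩],
  [⟨2, -1, 0, 1, 1, 0, 0, 0⟩, ⟨1, 0, 0, 0, 0, 0, 0, 0⟩, ⟨1, 1, 0, -1, -1, 0, 0, 0⟩, ⟨-1, 0, 1, -1, 0, 0, 0, 0⟩, ⟨1, 1, -1, 0, 0, 1, -1, -1⟩, ⟨1, 1, -1, 0, -1, 2, -1, -1⟩],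
  [⟨2, -1, 0, 1, 1, 0, 0, 0⟩, ⟨1, 0, 0, 0, 0, 0, 0, 0⟩, ⟨1, 1, 0, -1, -1, 0, 0, 0⟩, ⟨1, 0, -1, 1, 0, 0, 0, 0⟩, ⟨-1, -1, 1, 0, 0, -1, 1, 1⟩, ⟨1, 1, -1, 0, -1, 2, -1, -1⟩],
  [⟨2, -1, 0, 1, 1, 0, 0, 0⟩, ⟨1, 0, 0, 0, 0, 0, 0, 0⟩, ⟨1, 1, 0, -1, -1, 0, 0, 0⟩, ⟨0, 1, 0, 0, -1, 1, 0, 0⟩, ⟨0, 0, 0, -1, -1, 0, 1, -1⟩, ⟨0, 0, 0, -1, 0, -1, 1, 1⟩],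
  [⟨2, -1, 0, 1, 1, 0, 0, 0⟩, ⟨1, 0, 0, 0, 0, 0, 0, 0⟩, ⟨1, 1, 0, -1, -1, 0, 0, 0⟩, ⟨0, -1, 0, 0, 1, -1, 0, 0⟩, ⟨0, 0, 0, 1, 1, 0, -1, 1⟩, ⟨0, 0, 0, -1, 0, -1, 1, 1⟩],
  [⟨2, -1, 0, 1, 1, 0, 0, 0⟩, ⟨1, 0, 0, 0, 0, 0, 0, 0⟩, ⟨1, 1, 0, -1, -1, 0, 0, 0⟩, ⟨0, 1, 0, 0, -1, 1, 0, 0⟩, ⟨0, 0, 0, 1, 1, 0, -1, 1⟩, ⟨0, 0, 0, 1, 0, 1, -1, -1⟩],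
  [⟨2, -1, 0, 1, 1, 0, 0, 0⟩, ⟨1, 0, 0, 0, 0, 0, 0, 0⟩, ⟨1, 1, 0, -1, -1, 0, 0, 0⟩, ⟨0, -1, 0, 0, 1, -1, 0, 0⟩, ⟨0, 0, 0, -1, -1, 0, 1, -1⟩, ⟨0, 0, 0, 1, 0, 1, -1, -1⟩],
  [⟨2, -1, 0, 1, 1, 0, 0, 0⟩, ⟨1, 0, 0, 0, 0, 0, 0, 0⟩, ⟨1, 1, 0, -1, -1, 0, 0, 0⟩, ⟨-1, 0, 1, -1, 0, 0, 0, 0⟩, ⟨-1, -1, 1, 0, 0, -1, 1, 1⟩, ⟨-1, -1, 1, 0, 1, -2, 1, 1⟩],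
  [⟨2, -1, 0, 1, 1, 0, 0, 0⟩, ⟨1, 0, 0, 0, 0, 0, 0, 0⟩, ⟨1, 1, 0, -1, -1, 0, 0, 0⟩, ⟨1, 0, -1, 1, 0, 0, 0, 0⟩, ⟨1, 1, -1, 0, 0, 1, -1, -1⟩, ⟨-1, -1, 1, 0, 1, -2, 1, 1⟩],
  [⟨2, -1, 0, 1, 1, 0, 0, 0⟩, ⟨1, 0, 0, 0, 0, 0, 0, 0⟩, ⟨1, 1, 0, -1, -1, 0, 0, 0⟩, ⟨0, 1, -1, -1, 0, 0, 0, 0⟩, ⟨0, 0, -1, 0, 0, 1, -1, -1⟩, ⟨0, 0, -1, 0, -1, 0, 1, -1⟩],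
  [⟨2, -1, 0, 1, 1, 0, 0, 0⟩, ⟨1, 0, 0, 0, 0, 0, 0, 0⟩, ⟨1, 1, 0, -1, -1, 0, 0, 0⟩, ⟨0, -1, 1, 1, 0, 0, 0, 0⟩, ⟨0, 0, 1, 0, 0, -1, 1, 1⟩, ⟨0, 0, -1, 0, -1, 0, 1, -1⟩],
  [⟨2, -1, 0, 1, 1, 0, 0, 0⟩, ⟨1, 0, 0, 0, 0, 0, 0, 0⟩, ⟨1, 1, 0, -1, -1, 0, 0, 0⟩, ⟨-1, 0, 0, 0, -1, -1, 0, 0⟩, ⟨1, -1, 0, 1, 1, 0, -1, 1⟩, ⟨1, -1, 0, 1, 2, 1, -1, 1⟩],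
  [⟨2, -1, 0, 1, 1, 0, 0, 0⟩, ⟨1, 0, 0, 0, 0, 0, 0, 0⟩, ⟨1, 1, 0, -1, -1, 0, 0, 0⟩, ⟨1, 0, 0, 0, 1, 1, 0, 0⟩, ⟨-1, 1, 0, -1, -1, 0, 1, -1⟩, ⟨1, -1, 0, 1, 2, 1, -1, 1⟩],
  [⟨1, 1, 0, -1, -1, 0, 0, 0⟩, ⟨1, 0, 0, 0, 0, 0, 0, 0⟩, ⟨2, -1, 0, 1, 1, 0, 0, 0⟩, ⟨1, 0, 0, 0, 1, 1, -1, 1⟩, ⟨0, 1, 0, -1, -1, 0, 1, -1⟩, ⟨0, -1, 0, 1, 0, -1, 0, 0⟩],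
  [⟨1, 1, 0, -1, -1, 0, 0, 0⟩, ⟨1, 0, 0, 0, 0, 0, 0, 0⟩, ⟨2, -1, 0, 1, 1, 0, 0, 0⟩, ⟨-1, 0, 0, 0, -1, -1, 1, -1⟩, ⟨0, -1, 0, 1, 1, 0, -1, 1⟩, ⟨0, -1, 0, 1, 0, -1, 0, 0⟩],
  [⟨1, 1, 0, -1, -1, 0, 0, 0⟩, ⟨1, 0, 0, 0, 0, 0, 0, 0⟩, ⟨2, -1, 0, 1, 1, 0, 0, 0⟩, ⟨-1, 0, 1, -1, 0, -2, 1, 1⟩, ⟨0, 1, -1, 0, 0, 1, -1, -1⟩, ⟨0, -1, 1, 0, 1, 0, 0, 0⟩],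
  [⟨1, 1, 0, -1, -1, 0, 0, 0⟩, ⟨1, 0, 0, 0, 0, 0, 0, 0⟩, ⟨2, -1, 0, 1, 1, 0, 0, 0⟩, ⟨1, 0, -1, 1, 0, 2, -1, -1⟩, ⟨0, -1, 1, 0, 0, -1, 1, 1⟩, ⟨0, -1, 1, 0, 1, 0, 0, 0⟩],
  [⟨1, 1, 0, -1, -1, 0, 0, 0⟩, ⟨1, 0, 0, 0, 0, 0, 0, 0⟩, ⟨2, -1, 0, 1, 1, 0, 0, 0⟩, ⟨0, 1, 0, 0, -1, 1, -1, -1⟩, ⟨-1, 0, 0, -1, -1, 0, 1, -1⟩, ⟨1, 0, 0, 1, 0, 1, 0, 0⟩],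
  [⟨1, 1, 0, -1, -1, 0, 0, 0⟩, ⟨1, 0, 0, 0, 0, 0, 0, 0⟩, ⟨2, -1, 0, 1, 1, 0, 0, 0⟩, ⟨0, -1, 0, 0, 1, -1, 1, 1⟩, ⟨1, 0, 0, 1, 1, 0, -1, 1⟩, ⟨1, 0, 0, 1, 0, 1, 0, 0⟩],
  [⟨1, 1, 0, -1, -1, 0, 0, 0⟩, ⟨1, 0, 0, 0, 0, 0, 0, 0⟩, ⟨2, -1, 0, 1, 1, 0, 0, 0⟩, ⟨0, 1, -1, -1, -2, 0, 1, -1⟩, ⟨-1, 0, 1, 0, 0, -1, 1, 1⟩, ⟨1, 0, -1, 0, 1, 0, 0, 0⟩],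
  [⟨1, 1, 0, -1, -1, 0, 0, 0⟩, ⟨1, 0, 0, 0, 0, 0, 0, 0⟩, ⟨2, -1, 0, 1, 1, 0, 0, 0⟩, ⟨0, -1, 1, 1, 2, 0, -1, 1⟩, ⟨1, 0, -1, 0, 0, 1, -1, -1⟩, ⟨1, 0, -1, 0, 1, 0, 0, 0⟩],
  [⟨0, 0, 0, 0, 0, 0, 0, 0⟩, ⟨4, 0, 0, 0, 0, 0, 0, 0⟩, ⟨0, 0, 0, 0, 0, 0, 0, 0⟩, ⟨0, 0, 0, 0, 0, 0, 0, 0⟩, ⟨0, 0, 0, 0, 0, 0, 0, 0⟩, ⟨0, 0, 0, 0, 0, 0, 0, 0⟩],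
  [⟨0, 0, 0, 0, 0, 0, 0, 0⟩, ⟨2, 0, 0, 0, 0, 0, 0, 0⟩, ⟨2, 0, 0, 0, 0, 0, 0, 0⟩, ⟨0, 0, 0, 0, 0, 0, 0, 0⟩, ⟨0, 0, 0, 0, 0, 0, 0, 0⟩, ⟨-2, 0, 0, 0, 0, 0, 0, 0⟩],
  [⟨0, 0, 0, 0, 0, 0, 0, 0⟩, ⟨2, 0, 0, 0, 0, 0, 0, 0⟩, ⟨2, 0, 0, 0, 0, 0, 0, 0⟩, ⟨0, 0, 0, 0, 0, 0, 0, 0⟩, ⟨0, 0, 0, 0, 0, 0, 0, 0⟩, ⟨0, -2, 0, 0, 0, 0, 0, 0⟩],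
  [⟨0, 0, 0, 0, 0, 0, 0, 0⟩, ⟨2, 0, 0, 0, 0, 0, 0, 0⟩, ⟨2, 0, 0, 0, 0, 0, 0, 0⟩, ⟨0, 0, 0, 0, 0, 0, 0, 0⟩, ⟨0, 0, 0, 0, 0, 0, 0, 0⟩, ⟨0, -2, 2, 2, 2, -2, 0, 4⟩],
  [⟨0, 0, 0, 0, 0, 0, 0, 0⟩, ⟨2, 0, 0, 0, 0, 0, 0, 0⟩, ⟨2, 0, 0, 0, 0, 0, 0, 0⟩, ⟨0, 0, 0, 0, 0, 0, 0, 0⟩, ⟨0, 0, 0, 0, 0, 0, 0, 0⟩, ⟨2, 0, -2, 2, 2, 2, -4, 0⟩],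
  [⟨0, 0, 0, 0, 0, 0, 0, 0⟩, ⟨2, 0, 0, 0, 0, 0, 0, 0⟩, ⟨2, 0, 0, 0, 0, 0, 0, 0⟩, ⟨0, 0, 0, 0, 0, 0, 0, 0⟩, ⟨0, 0, 0, 0, 0, 0, 0, 0⟩, ⟨-2, 0, 2, -2, -2, -2, 4, 0⟩],
  [⟨0, 0, 0, 0, 0, 0, 0, 0⟩, ⟨2, 0, 0, 0, 0, 0, 0, 0⟩, ⟨2, 0, 0, 0, 0, 0, 0, 0⟩, ⟨0, 0, 0, 0, 0, 0, 0, 0⟩, ⟨0, 0, 0, 0, 0, 0, 0, 0⟩, ⟨0, 2, -2, -2, -2, 2, 0, -4⟩],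
  [⟨0, 0, 0, 0, 0, 0, 0, 0⟩, ⟨2, 0, 0, 0, 0, 0, 0, 0⟩, ⟨2, 0, 0, 0, 0, 0, 0, 0⟩, ⟨0, 0, 0, 0, 0, 0, 0, 0⟩, ⟨0, 0, 0, 0, 0, 0, 0, 0⟩, ⟨0, 2, 0, 0, 0, 0, 0, 0⟩],
  [⟨0, 0, 0, 0, 0, 0, 0, 0⟩, ⟨2, 0, 0, 0, 0, 0, 0, 0⟩, ⟨2, 0, 0, 0, 0, 0, 0, 0⟩, ⟨0, 0, 0, 0, 0, 0, 0, 0⟩, ⟨0, 0, 0, 0, 0, 0, 0, 0⟩, ⟨2, 0, 0, 0, 0, 0, 0, 0⟩]]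

def certOK : List V3 → List (ℕ × Ic) → Bool
  | [], _ => true
  | _ :: _, [] => false
  | W :: Ws, (i, c) :: cs =>
    ((c.Tq == 16) && match Rep315[i]? with
      | some R => W == smulM c R
      | none => false) && certOK Ws cs

theorem lineCert_ok : certOK RepAll lineCert = true := by decide +kernel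

theorem Rep315_keys : Rep315.map lineKey = keyLit := by decide +kernel

theorem keyLit_nodup : keyLit.Nodup := by decide +kernel

theorem Rep315_length : Rep315.length = 315 := by decide +kernel

theorem Rep315_sub : ∀ R ∈ Rep315, R ∈ RepAll := by decide +kernel

end Cfsg.Agent.Lib.Helper27.J2
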