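import Cfsg.Agent.Lib.Helper27.J2Complete

/-!
# Reflections on the model, and the "reach" certificates
-/

set_option autoImplicit false

namespace Cfsg.Agent.Lib.Helper27.J2
open Quaternion Cfsg.Spor

/-- left multiplication of a model vector by a model icosian -/
def smulM (u : Ic) (V : V3) : V3 := ⟨u.mul V.x, u.mul V.y, u.mul V.z⟩

theorem embV_smulM (u : Ic) (V : V3) : embV (smulM u V) = smulV (emb u) (embV V) := by
  funext t
  fin_cases t
  · exact emb_mul _ _
  · exact emb_mul _ _
  · exact emb_mul _ _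

/-- the reflection in `R`, on the model -/
def reflM (R V : V3) : V3 :=
  ⟨V.x.sub ((qipM V R).half.mul R.x), V.y.sub ((qipM V R).half.mul R.y),
    V.z.sub ((qipM V R).half.mul R.z)⟩

theorem embV_reflM {R V : V3} (hR : inLam R = true) (hV : inLam V = true) :
    embV (reflM R V) = qrefl (embV R) (embV V) := by
  have hr := (embV_mem_icoLeech_iff R).2 hR
  have hv := (embV_mem_icoLeech_iff V).2 hV
  obtain ⟨a, ha, h⟩ := qip_mem_two hv hr
  obtain ⟨A, rfl⟩ := exists_of_mem_icosians ha
  have h1 : qipM V R = Ic.zsmul 2 A := by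
    apply emb_injective
    rw [← qip_embV, h, emb_zsmul]
    push_cast
    rw [two_smul_eq]
  have h2 : (qipM V R).half = A := by
    rw [h1]
    apply Ic.ext' <;> simp [Ic.half, Ic.zsmul]
  rw [qrefl_eq _ _ h]
  funext t
  fin_cases t
  · show emb (V.x.sub ((qipM V R).half.mul R.x)) = emb V.x - emb A * emb R.x
    rw [h2, emb_sub, emb_mul]
  · show emb (V.y.sub ((qipM V R).half.mul R.y)) = emb V.y - emb A * emb R.y
    rw [h2, emb_sub, emb_mul]
  · show emb (V.z.sub ((qipM V R).half.mul R.z)) = emb V.z - emb A * emb R.z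
    rw [h2, emb_sub, emb_mul]

theorem RepAll_min : ∀ R ∈ RepAll, inLam R = true ∧ qipM R R = Ic.four := by decide +kernel

/-- the base vector `(2, 0, 0)` -/
def E1 : V3 := ⟨Ic.two, Ic.zero, Ic.zero⟩

theorem E1_mem : E1 ∈ RepAll := two_mem_RepAll

theorem embV_mem_of_RepAll {W : V3} (h : W ∈ RepAll) : embV W ∈ icoLeech :=
  (embV_mem_icoLeech_iff W).2 (RepAll_min W h).1

theorem qip_of_RepAll {W : V3} (h : W ∈ RepAll) : qip (embV W) (embV W) = 4 := by
  rw [qip_embV, (RepAll_min W h).2, emb_four]

/-- the base vector as an element of the lattice -/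
noncomputable def e1 : icoLeech := ⟨embV E1, embV_mem_of_RepAll E1_mem⟩

theorem star_mul_self_eq (u : ℍ[ℝ]) : star u * u = u * star u := by
  rw [Quaternion.star_mul_self, Quaternion.self_mul_star]

/-- `W` (up to a unit) is the image of the base vector under an element of the group -/
def Reach (W : V3) : Prop :=
  ∃ g ∈ twoJ2, ∃ u ∈ icosians, u * star u = 1 ∧
    ((g e1 : icoLeech) : Fin 3 → ℍ[ℝ]) = smulV u (embV W)

theorem reach_E1 : Reach E1 :=
  ⟨1, Subgroup.one_mem _, 1, Subring.one_mem _, by simp, by simp [e1, smulV_one]⟩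

theorem reach_step {W W' R : V3} {c : Ic} (hW : Reach W) (hWL : inLam W = true)
    (hR : R ∈ RepAll) (hc : c.Tq = 16) (h : reflM R W = smulM c W') : Reach W' := by
  obtain ⟨g, hg, u, hu, hu1, hgu⟩ := hW
  obtain ⟨hRL, hR4⟩ := RepAll_min R hR
  have hq : qip (embV R) (embV R) = 4 := qip_of_RepAll hR
  let r : icoLeech := ⟨embV R, embV_mem_of_RepAll hR⟩
  obtain ⟨hc1, hc2⟩ := unit_of_Tq hc
  refine ⟨reflPerm r hq * g, Subgroup.mul_mem _ (reflPerm_mem r hq) hg, u * emb c,
    Subring.mul_mem _ hu (emb_mem_icosians c), ?_, ?_⟩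
  · rw [star_mul, mul_assoc, ← mul_assoc (emb c), hc2, one_mul, hu1]
  · rw [Equiv.Perm.mul_apply, reflPerm_apply, hgu]
    show qrefl (embV R) (smulV u (embV W)) = _
    rw [qrefl_smulV, ← embV_reflM hRL hWL, h, embV_smulM, smulV_smulV]

/-- one step of a certificate: `refl R_a W_p = c • W_j` (indices into `RepAll`) -/
structure Step where
  j : ℕ
  p : ℕ
  a : ℕ
  c : Ic

def stepOK (reached : List ℕ) (s : Step) : Bool :=
  reached.contains s.p && (s.c.Tq == 16) &&
    match RepAll[s.j]?, RepAll[s.p]?, RepAll[s.a]? with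
    | some W', some W, some R => reflM R W == smulM s.c W'
    | _, _, _ => false

def runSteps : List ℕ → List Step → Option (List ℕ)
  | r, [] => some r
  | r, s :: ss => if stepOK r s then runSteps (s.j :: r) ss else none

theorem runSteps_reach : ∀ (ss : List Step) (r r' : List ℕ),
    (∀ i ∈ r, ∀ W, RepAll[i]? = some W → Reach W) →
    runSteps r ss = some r' → ∀ i ∈ r', ∀ W, RepAll[i]? = some W → Reach W := by
  intro ss
  induction ss with
  | nil =>
    intro r r' hr h
    simp only [runSteps, Option.some.injEq] at h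
    subst h; exact hr
  | cons s ss ih =>
    intro r r' hr h
    simp only [runSteps] at h
    split_ifs at h with hs
    apply ih (s.j :: r) r' ?_ h
    intro i hi W hW
    rcases List.mem_cons.1 hi with rfl | hi
    · simp only [stepOK, Bool.and_eq_true, List.contains_iff_mem, beq_iff_eq] at hs
      obtain ⟨⟨h1, h2⟩, h3⟩ := hs
      rw [hW] at h3
      cases hp : RepAll[s.p]? with
      | none => rw [hp] at h3; simp at h3
      | some Wp =>
        cases ha : RepAll[s.a]? with
        | none => rw [hp, ha] at h3; simp at h3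
        | some R =>
          rw [hp, ha] at h3
          simp only [beq_iff_eq] at h3
          have hWp : Wp ∈ RepAll := List.mem_of_getElem? hp
          have hR : R ∈ RepAll := List.mem_of_getElem? ha
          exact reach_step (hr _ h1 Wp hp) (RepAll_min _ hWp).1 hR h2 h3
    · exact hr i hi W hW

end Cfsg.Agent.Lib.Helper27.J2
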