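import Cfsg.Agent.Lib.Helper27.J2Stab

/-!
# The order of the icosian reflection group `2.J₂` and its centre
-/

set_option autoImplicit false

namespace Cfsg.Agent.Lib.Helper27.J2
open Quaternion Cfsg.Spor

/-! ### the stabiliser of `e1` has order 32 -/

theorem stab_apply (g : MulAction.stabilizer twoJ2 e1) :
    ((g : twoJ2) : Equiv.Perm icoLeech) e1 = e1 :=
  MulAction.mem_stabilizer_iff.1 g.2

theorem w0_qip : qip (w0 : Fin 3 → ℍ[ℝ]) w0 = 4 := qip_of_qipM (Msig_min W0 W0_mem).2.1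

/-- the image of `w0` under an element of the stabiliser -/
noncomputable def stabMap (g : MulAction.stabilizer twoJ2 e1) : Fin 3 → ℍ[ℝ] :=
  ((((g : twoJ2) : Equiv.Perm icoLeech) w0 : icoLeech) : Fin 3 → ℍ[ℝ])

theorem stabMap_injective : Function.Injective stabMap := by
  intro g g' h
  have hg := stab_apply g
  have hg' := stab_apply g'
  set a : Equiv.Perm icoLeech := ((g : twoJ2) : Equiv.Perm icoLeech) with ha
  set b : Equiv.Perm icoLeech := ((g' : twoJ2) : Equiv.Perm icoLeech) with hb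
  have hw : a w0 = b w0 := Subtype.ext h
  have hk : IsUni (a⁻¹ * b) := (isUni_of_mem (g : twoJ2).2).inv.mul (isUni_of_mem (g' : twoJ2).2)
  have hk1 : (a⁻¹ * b) e1 = e1 := by
    rw [Equiv.Perm.mul_apply, hg', Equiv.Perm.inv_eq_iff_eq, hg]
  have hk2 : (a⁻¹ * b) w0 = w0 := by
    rw [Equiv.Perm.mul_apply, ← hw, permInvApply]
  have h1 := eq_one_of_fix hk hk1 hk2
  have h2 : a = b := inv_mul_eq_one.1 h1
  exact Subtype.ext (Subtype.ext h2)

theorem range_stabMap : Set.range stabMap = embV '' {W | W ∈ Msig} := by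
  ext v
  constructor
  · rintro ⟨g, rfl⟩
    have hg := stab_apply g
    have hU := isUni_of_mem (g : twoJ2).2
    have h4 : qip (stabMap g) (stabMap g) = 4 := by
      unfold stabMap
      rw [hU.qip]; exact w0_qip
    have h0 : stabMap g 0 = emb Ic.sig := by
      unfold stabMap
      rw [coord0_of_fix hU hg w0]
      change emb W0.x = _
      rw [(Msig_min W0 W0_mem).2.2]
    obtain ⟨W, hW, hv⟩ := mem_Msig_of (Subtype.property _) h4 h0
    exact ⟨W, hW, hv.symm⟩
  · rintro ⟨W, hW, rfl⟩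
    obtain ⟨g, hg, hg1, hgw⟩ := reachS_of_mem hW
    exact ⟨⟨⟨g, hg⟩, MulAction.mem_stabilizer_iff.2 hg1⟩, hgw⟩

theorem card_stab : Nat.card (MulAction.stabilizer twoJ2 e1) = 32 := by
  classical
  rw [Nat.card_congr (Equiv.ofInjective stabMap stabMap_injective), Nat.card_coe_set_eq,
    range_stabMap]
  have h : {W | W ∈ Msig} = (Msig.toFinset : Set V3) := by ext; simp
  rw [h, Set.ncard_image_of_injective _ embV_injective, Set.ncard_coe_finset,
    List.toFinset_card_of_nodup Msig_nodup, Msig_length]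

/-! ### the orbit of `e1` -/

theorem orbit_e1 :
    MulAction.orbit twoJ2 e1 = {x : icoLeech | qip (x : Fin 3 → ℍ[ℝ]) x = 4} := by
  ext x
  constructor
  · rintro ⟨g, rfl⟩
    exact ((isUni_of_mem g.2).qip e1 e1).trans e1_qip
  · intro hx
    obtain ⟨g, hg, rfl⟩ := exists_map_e1 x hx
    exact ⟨⟨g, hg⟩, rfl⟩

theorem card_orbit : Nat.card (MulAction.orbit twoJ2 e1) = 37800 := by
  rw [Nat.card_coe_set_eq, orbit_e1]
  have h : Subtype.val '' {x : icoLeech | qip (x : Fin 3 → ℍ[ℝ]) x = 4} =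
      {r : Fin 3 → ℍ[ℝ] | r ∈ icoLeech ∧ qip r r = 4} := by
    ext r
    constructor
    · rintro ⟨x, hx, rfl⟩; exact ⟨x.2, hx⟩
    · rintro ⟨h1, h2⟩; exact ⟨⟨r, h1⟩, h2, rfl⟩
  rw [← Set.ncard_image_of_injective _ Subtype.val_injective, h, ncard_min]

/-- **the reflection group has order 1209600** -/
theorem card_twoJ2 : Nat.card twoJ2 = 1209600 := by
  rw [Subgroup.card_eq_card_quotient_mul_card_subgroup (MulAction.stabilizer twoJ2 e1),
    ← Nat.card_congr (MulAction.orbitEquivQuotientStabilizer twoJ2 e1), card_orbit, card_stab]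

/-! ### the central element `-1` -/

noncomputable def negPerm : Equiv.Perm icoLeech where
  toFun x := ⟨-(x : Fin 3 → ℍ[ℝ]), icoLeech_neg x.2⟩
  invFun x := ⟨-(x : Fin 3 → ℍ[ℝ]), icoLeech_neg x.2⟩
  left_inv x := Subtype.ext (neg_neg _)
  right_inv x := Subtype.ext (neg_neg _)

theorem negPerm_apply (x : icoLeech) : ((negPerm x : icoLeech) : Fin 3 → ℍ[ℝ]) = -x := rfl

theorem e2_qip : qip (e2 : Fin 3 → ℍ[ℝ]) e2 = 4 := qip_of_qipM X34_min.2.2.2.2.2.1
theorem e3_qip : qip (e3 : Fin 3 → ℍ[ℝ]) e3 = 4 := qip_of_qipM X34_min.2.2.2.2.2.2.2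

theorem qrefl_E1 (y : Fin 3 → ℍ[ℝ]) : qrefl (embV E1) y = ![-y 0, y 1, y 2] := by
  have h : qip y (embV E1) = 2 * y 0 := by rw [qip_E1, mul_two_eq]
  rw [qrefl_eq _ _ h]
  funext t
  fin_cases t <;> simp [embV, E1, emb_two, emb_zero, mul_two]

theorem qrefl_E2 (y : Fin 3 → ℍ[ℝ]) : qrefl (embV E2) y = ![y 0, -y 1, y 2] := by
  have h : qip y (embV E2) = 2 * y 1 := by rw [qip_E2, mul_two_eq]
  rw [qrefl_eq _ _ h]
  funext t
  fin_cases t <;> simp [embV, E2, emb_two, emb_zero, mul_two]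

theorem qrefl_E3 (y : Fin 3 → ℍ[ℝ]) : qrefl (embV E3) y = ![y 0, y 1, -y 2] := by
  have h : qip y (embV E3) = 2 * y 2 := by rw [qip_E3, mul_two_eq]
  rw [qrefl_eq _ _ h]
  funext t
  fin_cases t <;> simp [embV, E3, emb_two, emb_zero, mul_two]

theorem negPerm_eq : negPerm = reflPerm e1 e1_qip * reflPerm e2 e2_qip * reflPerm e3 e3_qip := by
  ext x : 1
  apply Subtype.ext
  rw [Equiv.Perm.mul_apply, Equiv.Perm.mul_apply, reflPerm_apply, reflPerm_apply, reflPerm_apply,
    negPerm_apply]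
  change _ = qrefl (embV E1) (qrefl (embV E2) (qrefl (embV E3) _))
  rw [qrefl_E3, qrefl_E2, qrefl_E1]
  funext t
  fin_cases t <;> simp

theorem negPerm_mem : negPerm ∈ twoJ2 := by
  rw [negPerm_eq]
  exact Subgroup.mul_mem _ (Subgroup.mul_mem _ (reflPerm_mem _ _) (reflPerm_mem _ _))
    (reflPerm_mem _ _)

theorem negPerm_mul_self : negPerm * negPerm = 1 := by
  ext x : 1
  apply Subtype.ext
  rw [Equiv.Perm.mul_apply, negPerm_apply, negPerm_apply, neg_neg]
  rfl

theorem negPerm_comm {g : Equiv.Perm icoLeech} (hg : IsUni g) : g * negPerm = negPerm * g := by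
  ext x : 1
  apply Subtype.ext
  rw [Equiv.Perm.mul_apply, Equiv.Perm.mul_apply, negPerm_apply]
  -- `g (-x) = - g x` from additivity
  have h0 : ((negPerm x : icoLeech) : Fin 3 → ℍ[ℝ]) = smulV (-1) x := by
    rw [negPerm_apply]; funext t; simp
  rw [hg.smul (-1) (Subring.neg_mem _ (Subring.one_mem _)) x (negPerm x) h0]
  funext t; simp

theorem negPerm_ne_one : negPerm ≠ 1 := by
  intro h
  have h1 := congrArg (fun f : Equiv.Perm icoLeech => ((f e1 : icoLeech) : Fin 3 → ℍ[ℝ]) 0) h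
  simp only [negPerm_apply, Equiv.Perm.one_apply, Pi.neg_apply] at h1
  change -emb Ic.two = emb Ic.two at h1
  rw [emb_two] at h1
  have h2 : (2 : ℍ[ℝ]) + 2 = 0 := by
    nth_rewrite 1 [← h1]; simp
  have h3 : (2 : ℍ[ℝ]) * 2 = 0 := by rw [mul_two]; exact h2
  rcases mul_eq_zero.1 h3 with h | h <;> exact quat_two_ne_zero h

/-! ### the centre -/

/-- equal reflections come from proportional vectors -/
theorem reflPerm_eq_imp {r r' : icoLeech} {hr : qip (r : Fin 3 → ℍ[ℝ]) r = 4}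
    {hr' : qip (r' : Fin 3 → ℍ[ℝ]) r' = 4} (h : reflPerm r hr = reflPerm r' hr') :
    ∃ q : ℍ[ℝ], star q * q = 1 ∧ (r : Fin 3 → ℍ[ℝ]) = smulV q r' := by
  have h1 : qrefl (r : Fin 3 → ℍ[ℝ]) r = qrefl (r' : Fin 3 → ℍ[ℝ]) r := by
    have := congrArg (fun f : Equiv.Perm icoLeech => ((f r : icoLeech) : Fin 3 → ℍ[ℝ])) h
    simpa only [reflPerm_apply] using this
  set b : ℍ[ℝ] := (1 / 2 : ℝ) • qip (r : Fin 3 → ℍ[ℝ]) r' with hb
  have h2 : ∀ t, (r : Fin 3 → ℍ[ℝ]) t = (2⁻¹ * b) * (r' : Fin 3 → ℍ[ℝ]) t := by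
    intro t
    have := congrFun h1 t
    simp only [qrefl, hr] at this
    have h3 : ((1 / 2 : ℝ) • (4 : ℍ[ℝ])) = 2 := by
      rw [qip_two_cast, qip_four_cast, ← Quaternion.coe_smul]; norm_num
    rw [h3] at this
    have h5 : (2 : ℍ[ℝ]) * (r : Fin 3 → ℍ[ℝ]) t = b * (r' : Fin 3 → ℍ[ℝ]) t :=
      sub_right_injective this
    rw [mul_assoc, ← h5, ← mul_assoc, inv_mul_cancel₀ quat_two_ne_zero, one_mul]
  have h3 : (r : Fin 3 → ℍ[ℝ]) = smulV (2⁻¹ * b) r' := funext h2
  refine ⟨2⁻¹ * b, ?_, h3⟩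
  have h5 : qip (r : Fin 3 → ℍ[ℝ]) r =
      (2⁻¹ * b) * qip (r' : Fin 3 → ℍ[ℝ]) r' * star (2⁻¹ * b) := by
    conv_lhs => rw [h3]
    rw [qip_smul_left, qip_smul_right, ← mul_assoc]
  rw [hr, hr', qip_four_cast, ← Quaternion.coe_commutes, mul_assoc] at h5
  rw [star_mul_self_eq]
  have h7 : ((4 : ℝ) : ℍ[ℝ]) * 1 = ((4 : ℝ) : ℍ[ℝ]) * ((2⁻¹ * b) * star (2⁻¹ * b)) := by
    rw [mul_one]; exact h5
  exact (mul_left_cancel₀ quat_four_ne_zero h7).symm

theorem bI_mem_Units : Ic.bI ∈ Units := mem_Units.2 (by decide)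
theorem bG_mem_Units : Ic.bG ∈ Units := mem_Units.2 (by decide)

/-- an element of the group commuting with everything maps `e1` to `± e1` -/
theorem central_e1 {z : Equiv.Perm icoLeech} (hz : z ∈ twoJ2)
    (hc : ∀ g ∈ twoJ2, g * z = z * g) :
    z e1 = e1 ∨ z e1 = negPerm e1 := by
  have hU := isUni_of_mem hz
  -- `z e1 = q • e1`
  have h1 : z * reflPerm e1 e1_qip * z⁻¹ = reflPerm e1 e1_qip := by
    rw [← hc _ (reflPerm_mem e1 e1_qip), mul_inv_cancel_right]
  rw [conj_reflPerm hU] at h1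
  obtain ⟨q, hq, hqe⟩ := reflPerm_eq_imp h1
  have hq' : q * star q = 1 := by rw [← star_mul_self_eq]; exact hq
  -- `q` is an icosian
  have hmem := (z e1).2
  obtain ⟨-, hm1, -, hm3⟩ := hmem
  have hv0 : ((z e1 : icoLeech) : Fin 3 → ℍ[ℝ]) 0 = q * 2 := by
    rw [hqe]; change q * emb Ic.two = _; rw [emb_two]
  have hv1 : ((z e1 : icoLeech) : Fin 3 → ℍ[ℝ]) 1 = 0 := by
    rw [hqe]; change q * emb Ic.zero = _; rw [emb_zero, mul_zero]
  have hv2 : ((z e1 : icoLeech) : Fin 3 → ℍ[ℝ]) 2 = 0 := by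
    rw [hqe]; change q * emb Ic.zero = _; rw [emb_zero, mul_zero]
  rw [hv0, hv1, sub_zero] at hm1
  rw [hv0, hv1, hv2, add_zero, add_zero] at hm3
  obtain ⟨w, hw, hqw⟩ := mem_two_of_mem_both hm1 hm3
  have hqI : q ∈ icosians := by
    have : q = w := two_mul_cancel (by rw [← hqw, mul_two_eq])
    rw [this]; exact hw
  obtain ⟨c, hcU, hcq⟩ := exists_unit_of_icosian hqI hq'
  -- `c` commutes with the units
  have hcomm : ∀ c' ∈ Units, c.mul c' = c'.mul c := by
    intro c' hc'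
    obtain ⟨k, hk, hke⟩ := inS_of_unit hc'
    have hkU := isUni_of_mem hk
    have e1' : ((z (k e1) : icoLeech) : Fin 3 → ℍ[ℝ]) = smulV (emb c' * q) (embV E1) := by
      rw [hU.smul (emb c') (emb_mem_icosians c') e1 (k e1) hke, hqe, smulV_smulV]; rfl
    have e2' : ((k (z e1) : icoLeech) : Fin 3 → ℍ[ℝ]) = smulV (q * emb c') (embV E1) := by
      rw [hkU.smul q hqI e1 (z e1) hqe, hke, smulV_smulV]
    have e3' : z (k e1) = k (z e1) := by
      have := congrArg (fun f : Equiv.Perm icoLeech => f e1) (hc k hk)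
      simpa only [Equiv.Perm.mul_apply] using this.symm
    rw [e3'] at e1'
    have e4 := congrFun (e1'.symm.trans e2') 0
    simp only [smulV_apply] at e4
    change emb c' * q * emb Ic.two = q * emb c' * emb Ic.two at e4
    rw [emb_two] at e4
    have e5 := mul_right_cancel₀ quat_two_ne_zero e4
    apply emb_injective
    rw [emb_mul, emb_mul, hcq, e5]
  rcases unit_central c hcU (hcomm _ bI_mem_Units) (hcomm _ bG_mem_Units) with rfl | rfl
  · left
    apply Subtype.ext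
    rw [hqe, ← hcq, emb_one, smulV_one]
  · right
    apply Subtype.ext
    rw [hqe, ← hcq, emb_neg, emb_one, negPerm_apply]
    funext t; simp

/-- a central element fixing `e1` is trivial -/
theorem central_eq_one {z : Equiv.Perm icoLeech} (hz : z ∈ twoJ2)
    (hc : ∀ g ∈ twoJ2, g * z = z * g) (h1 : z e1 = e1) : z = 1 := by
  apply eq_one_of_fix (isUni_of_mem hz) h1
  obtain ⟨g, hg, hgw⟩ := exists_map_e1 w0 w0_qip
  have := congrArg (fun f : Equiv.Perm icoLeech => f e1) (hc g hg)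
  simp only [Equiv.Perm.mul_apply] at this
  rw [← hgw, ← this, h1]

theorem central_cases {z : Equiv.Perm icoLeech} (hz : z ∈ twoJ2)
    (hc : ∀ g ∈ twoJ2, g * z = z * g) : z = 1 ∨ z = negPerm := by
  rcases central_e1 hz hc with h | h
  · left; exact central_eq_one hz hc h
  · right
    have hz' : negPerm * z ∈ twoJ2 := Subgroup.mul_mem _ negPerm_mem hz
    have hc' : ∀ g ∈ twoJ2, g * (negPerm * z) = (negPerm * z) * g := by
      intro g hg
      rw [← mul_assoc, negPerm_comm (isUni_of_mem hg), mul_assoc, hc g hg, mul_assoc]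
    have h1 : (negPerm * z) e1 = e1 := by
      rw [Equiv.Perm.mul_apply, h, ← Equiv.Perm.mul_apply, negPerm_mul_self]; rfl
    have h2 := central_eq_one hz' hc' h1
    calc z = negPerm * (negPerm * z) := by rw [← mul_assoc, negPerm_mul_self, one_mul]
      _ = negPerm := by rw [h2, mul_one]

/-- `-1` as an element of the group -/
noncomputable def negEl : twoJ2 := ⟨negPerm, negPerm_mem⟩

theorem negEl_mem_center : negEl ∈ Subgroup.center twoJ2 := by
  rw [Subgroup.mem_center_iff]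
  intro g
  apply Subtype.ext
  exact negPerm_comm (isUni_of_mem g.2)

theorem center_cases (z : twoJ2) (hz : z ∈ Subgroup.center twoJ2) : z = 1 ∨ z = negEl := by
  rw [Subgroup.mem_center_iff] at hz
  have hc : ∀ g ∈ twoJ2, g * (z : Equiv.Perm icoLeech) = (z : Equiv.Perm icoLeech) * g := by
    intro g hg
    exact congrArg Subtype.val (hz ⟨g, hg⟩)
  rcases central_cases z.2 hc with h | h
  · left; exact Subtype.ext h
  · right; exact Subtype.ext h

theorem card_center : Nat.card (Subgroup.center twoJ2) = 2 := by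
  rw [Nat.card_eq_two_iff]
  refine ⟨⟨1, Subgroup.one_mem _⟩, ⟨negEl, negEl_mem_center⟩, ?_, ?_⟩
  · intro h
    have h1 : (1 : twoJ2) = negEl := congrArg Subtype.val h
    have h2 : (1 : Equiv.Perm icoLeech) = negPerm := congrArg Subtype.val h1
    exact negPerm_ne_one h2.symm
  · ext z
    simp only [Set.mem_insert_iff, Set.mem_singleton_iff, Set.mem_univ, iff_true]
    rcases center_cases z.1 z.2 with h | h
    · left; exact Subtype.ext h
    · right; exact Subtype.ext h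

/-- **the Hall–Janko group has order 604800** -/
theorem card_J2 : Nat.card J2 = 604800 := by
  have h := Subgroup.card_eq_card_quotient_mul_card_subgroup (Subgroup.center twoJ2)
  rw [card_twoJ2, card_center] at h
  change Nat.card (twoJ2 ⧸ Subgroup.center twoJ2) = 604800
  omega

end Cfsg.Agent.Lib.Helper27.J2
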