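import Cfsg.Agent.Lib.Helper27.J2ReflPerm

/-!
# Computational checks for the automorphism group of `J₂`
-/

set_option autoImplicit false

namespace Cfsg.Agent.Lib.Helper27.J2

/-- replace the placeholder `315` by `j` -/
def substW (w : List ℕ) (j : ℕ) : List ℕ := w.map fun k => if k = 315 then j else k

/-- a condition `(w, d, b)`: "the `d`-th power of the word `w` is trivial in `J₂`" has truth value `b` -/
def condOK (c : List ℕ × ℕ × Bool) (j : ℕ) : Bool :=
  fix3 ((wordF (substW c.1 j))^[c.2.1]) == c.2.2

def conds1 : List (List ℕ × ℕ × Bool) := [([160, 315], 3, true), ([160, 315], 1, false)]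

def conds2 : List (List ℕ × ℕ × Bool) :=
  [([160, 315], 5, true), ([160, 121, 315], 10, true), ([121, 315], 3, true), ([160, 315], 1, false)]

def conds3 : List (List ℕ × ℕ × Bool) :=
  [([160, 303, 121, 315], 8, true), ([160, 121, 315], 10, true), ([121, 303, 315], 15, true),
    ([160, 121, 303, 315], 6, true)]

def candJ (cs : List (List ℕ × ℕ × Bool)) : List ℕ :=
  (List.range 315).filter fun j => cs.all fun c => condOK c j

theorem cand1_length : (candJ conds1).length = 160 := by decide +kernel

theorem cand2_length : (candJ conds2).length = 24 := by decide +kernel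

theorem cand3_eq : candJ conds3 = [278] := by decide +kernel

/-- the generators satisfy their own conditions -/
theorem conds_self : (conds1.all fun c => condOK c 121) = true ∧ (conds2.all fun c => condOK c 303) = true ∧
    (conds3.all fun c => condOK c 278) = true := by decide +kernel

/-- `(r₂₆₅ r₃₀₇)² = r₁₆₀` modulo the centre -/
theorem sq_witness : fix3 (wordF [265, 307, 265, 307, 160]) = true := by decide +kernel

/-- an element of order 4 has its square among the reflections -/
def sqOK (f : ℕ → ℕ) : Bool :=
  !(fix3 (f^[4])) || fix3 (f^[2]) || (List.range 315).any fun j => fix3 fun m => f (f (pget (rP j) m))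

def loopAll (P : (ℕ → ℕ) → Bool) : Bool :=
  (tIdx.map mP).all fun pt => (u1Idx.map mP).all fun pu => (u2Idx.map mP).all fun pv =>
    P (comp3 pt pu pv)

theorem all_sqOK : loopAll sqOK = true := by decide +kernel

/-- no element of `J₂` maps the lines `160, 121, 303` to `160, 121, 169` -/
theorem theta_not_inner : ((u1Idx.map mP).all fun pu => (u2Idx.map mP).all fun pv =>
    !((pget pu (pget pv 121) == 121) && (pget pu (pget pv 303) == 169))) = true := by decide +kernel

/-- no reflection is central -/
theorem refl_nonfix : ((List.range 315).all fun j => !fix3 (pget (rP j))) = true := by decide +kernel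

end Cfsg.Agent.Lib.Helper27.J2
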