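import Cfsg.Agent.Lib.Helper27.J2OutUpper
import Cfsg.Prelude.Def_KGroupFacts

/-!
# An outer automorphism of `J₂`, and `|Out(J₂)| = 2`
-/

set_option autoImplicit false

namespace Cfsg.Agent.Lib.Helper27.J2
open Quaternion Cfsg.Spor

/-! ### the permutation representation on the 315 lines -/

/-- the action of `J₂` on the 315 reflections -/
noncomputable def rhoJ : J2 →* Equiv.Perm ReflSet :=
  QuotientGroup.lift (Subgroup.center twoJ2) (MulAction.toPermHom twoJ2 ReflSet) (by
    intro z hz
    rw [MonoidHom.mem_ker]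
    ext x : 1
    exact center_smul hz x)

theorem rhoJ_piJ2 (g : twoJ2) (x : ReflSet) : rhoJ (piJ2 g) x = g • x := rfl

theorem rhoJ_injective : Function.Injective rhoJ := by
  rw [injective_iff_map_eq_one]
  intro u hu
  obtain ⟨g, rfl⟩ := piJ2_surjective u
  rw [piJ2_eq_one]
  have h : ∀ x : ReflSet, g • x = x := fun x => by
    rw [← rhoJ_piJ2, hu]; rfl
  rcases central_of_fix3 (h _) (h _) (h _) with h1 | h1
  · rw [h1]; exact Subgroup.one_mem _
  · rw [h1]; exact negEl_mem_center

theorem rhoJ_tauJ {j m : ℕ} (hj : j < 315) (hm : m < 315) :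
    rhoJ (tauJ j) (idxRefl m) = idxRefl (pget (rP j) m) := by
  rw [tauJ, rhoJ_piJ2, (actsF_refl hj).apply hm]

/-! ### the permutation `θ` of the lines -/

theorem theta_spec {m : ℕ} (hm : m < 315) : pget thetaP m < 315 ∧ pget thetaInvP m < 315 ∧
    pget thetaP (pget thetaInvP m) = m ∧ pget thetaInvP (pget thetaP m) = m := by
  have h := List.all_eq_true.1 theta_inv_ok m (List.mem_range.2 hm)
  simp only [Bool.and_eq_true, decide_eq_true_eq, beq_iff_eq] at h
  exact ⟨h.1.1.1, h.1.1.2, h.1.2, h.2⟩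

/-- the index of a reflection -/
noncomputable def idxOf (x : ReflSet) : ℕ := Classical.choose (exists_idx x)

theorem idxOf_lt (x : ReflSet) : idxOf x < 315 := (Classical.choose_spec (exists_idx x)).1

theorem idxRefl_idxOf (x : ReflSet) : idxRefl (idxOf x) = x :=
  (Classical.choose_spec (exists_idx x)).2.symm

theorem idxOf_idxRefl {j : ℕ} (hj : j < 315) : idxOf (idxRefl j) = j :=
  idxRefl_inj (idxOf_lt _) hj (idxRefl_idxOf _)

noncomputable def thetaFun (x : ReflSet) : ReflSet := idxRefl (pget thetaP (idxOf x))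

noncomputable def thetaInvFun (x : ReflSet) : ReflSet := idxRefl (pget thetaInvP (idxOf x))

noncomputable def thetaR : Equiv.Perm ReflSet where
  toFun := thetaFun
  invFun := thetaInvFun
  left_inv x := by
    have h := theta_spec (idxOf_lt x)
    rw [thetaInvFun, thetaFun, idxOf_idxRefl h.1, h.2.2.2, idxRefl_idxOf]
  right_inv x := by
    have h := theta_spec (idxOf_lt x)
    rw [thetaFun, thetaInvFun, idxOf_idxRefl h.2.1, h.2.2.1, idxRefl_idxOf]

theorem thetaR_apply (x : ReflSet) : thetaR x = thetaFun x := by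
  simp only [thetaR, Equiv.coe_fn_mk]

theorem thetaR_idx {m : ℕ} (hm : m < 315) : thetaR (idxRefl m) = idxRefl (pget thetaP m) := by
  rw [thetaR_apply, thetaFun, idxOf_idxRefl hm]

theorem theta_conj_spec {j : ℕ} (hj : j ∈ [160, 121, 303, 278]) {m : ℕ} (hm : m < 315) :
    pget thetaP (pget (rP j) m) = pget (rP (pget thetaP j)) (pget thetaP m) := by
  have h := theta_conj_ok
  simp only [List.all_eq_true, List.mem_range, beq_iff_eq] at h
  exact h j hj m hm

theorem thetaR_conj {j : ℕ} (hj : j ∈ [160, 121, 303, 278]) :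
    thetaR * rhoJ (tauJ j) * thetaR⁻¹ = rhoJ (tauJ (pget thetaP j)) := by
  have hj315 : j < 315 := by
    simp only [List.mem_cons, List.not_mem_nil, or_false] at hj
    rcases hj with rfl | rfl | rfl | rfl <;> norm_num
  ext x : 1
  obtain ⟨y, rfl⟩ := thetaR.surjective x
  have hinv : thetaR⁻¹ (thetaR y) = y := thetaR.symm_apply_apply y
  rw [Equiv.Perm.mul_apply, Equiv.Perm.mul_apply, hinv]
  obtain ⟨m, hm, hy⟩ := exists_idx y
  rw [hy]
  have h1 := (actsF_refl hj315 m hm).1
  rw [rhoJ_tauJ hj315 hm, thetaR_idx h1, thetaR_idx hm,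
    rhoJ_tauJ (theta_spec hj315).1 (theta_spec hm).1, theta_conj_spec hj hm]

/-! ### the automorphism -/

/-- conjugation by `θ`, composed with the representation -/
noncomputable def thetaHom : J2 →* Equiv.Perm ReflSet :=
  (MulAut.conj thetaR).toMonoidHom.comp rhoJ

theorem thetaHom_apply (u : J2) : thetaHom u = thetaR * rhoJ u * thetaR⁻¹ := rfl

theorem thetaHom_mem (u : J2) : thetaHom u ∈ rhoJ.range := by
  have h : Subgroup.map thetaHom ⊤ ≤ rhoJ.range := by
    rw [← closure_tauJ, MonoidHom.map_closure, Subgroup.closure_le]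
    rintro _ ⟨u, hu, rfl⟩
    have hmem : ∀ j ∈ [160, 121, 303, 278], thetaHom (tauJ j) ∈ rhoJ.range := by
      intro j hj
      rw [thetaHom_apply, thetaR_conj hj]
      exact ⟨_, rfl⟩
    rcases hu with rfl | rfl | rfl | rfl
    · exact hmem 160 (by simp)
    · exact hmem 121 (by simp)
    · exact hmem 303 (by simp)
    · exact hmem 278 (by simp)
  exact h ⟨u, Subgroup.mem_top u, rfl⟩

noncomputable def betaHom : J2 →* J2 :=
  (MonoidHom.ofInjective rhoJ_injective).symm.toMonoidHom.comp
    (thetaHom.codRestrict rhoJ.range thetaHom_mem)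

theorem rhoJ_betaHom (u : J2) : rhoJ (betaHom u) = thetaR * rhoJ u * thetaR⁻¹ := by
  change rhoJ ((MonoidHom.ofInjective rhoJ_injective).symm ⟨thetaHom u, thetaHom_mem u⟩) = _
  rw [MonoidHom.apply_ofInjective_symm]
  rfl

theorem betaHom_bijective : Function.Bijective betaHom := by
  rw [← Finite.injective_iff_bijective]
  intro u v h
  have h1 := congrArg rhoJ h
  rw [rhoJ_betaHom, rhoJ_betaHom] at h1
  apply rhoJ_injective
  have h2 := congrArg (fun p => thetaR⁻¹ * p * thetaR) h1
  simpa [mul_assoc] using h2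

/-- the outer automorphism -/
noncomputable def alphaJ : MulAut J2 := MulEquiv.ofBijective betaHom betaHom_bijective

theorem alphaJ_tauJ {j : ℕ} (hj : j ∈ [160, 121, 303, 278]) :
    alphaJ (tauJ j) = tauJ (pget thetaP j) := by
  apply rhoJ_injective
  change rhoJ (betaHom (tauJ j)) = _
  rw [rhoJ_betaHom, thetaR_conj hj]

theorem theta_not_inner_spec (a : Fin 160) (b : Fin 12) :
    ¬ (pget (mP (u1 a)) (pget (mP (u2 b)) 121) = 121 ∧ pget (mP (u1 a)) (pget (mP (u2 b)) 303) = 169) := by
  have h := theta_not_inner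
  simp only [List.all_eq_true, List.mem_map, forall_exists_index, and_imp,
    forall_apply_eq_imp_iff₂, Bool.not_eq_true', Bool.and_eq_false_iff, beq_eq_false_iff_ne] at h
  rintro ⟨h1, h2⟩
  rcases h _ (u1_mem a) _ (u2_mem b) with h3 | h3
  · exact h3 h1
  · exact h3 h2

theorem alphaJ_notMem_inn : alphaJ ∉ Cfsg.Inn J2 := by
  rintro ⟨u, hu⟩
  obtain ⟨g, rfl⟩ := piJ2_surjective u
  -- the action of `g` on the generators
  have key : ∀ j ∈ [160, 121, 303, 278], g • idxRefl j = idxRefl (pget thetaP j) := by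
    intro j hj
    have hj315 : j < 315 := by
      simp only [List.mem_cons, List.not_mem_nil, or_false] at hj
      rcases hj with rfl | rfl | rfl | rfl <;> norm_num
    have h1 := alphaJ_tauJ hj
    rw [← hu, MulAut.conj_apply] at h1
    obtain ⟨k, hk, hk'⟩ := exists_idx (g • idxRefl j)
    have h2 : piJ2 g * tauJ j * (piJ2 g)⁻¹ = tauJ k := by
      rw [tauJ, tauJ, ← hk', reflG_smul, map_mul, map_mul, map_inv]
    rw [h2] at h1
    rw [hk', tauJ_injective hk (theta_spec hj315).1 h1]
  have h160 := key 160 (by simp)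
  have h121 := key 121 (by simp)
  have h303 := key 303 (by simp)
  rw [theta_gens.1] at h160
  rw [theta_gens.2.1] at h121
  rw [theta_gens.2.2.1] at h303
  have hm : g ∈ Lsub := by
    rw [MulAction.mem_stabilizer_iff, ← idxRefl_160]; exact h160
  obtain ⟨p, hp⟩ := exists_phi hm
  have hact : ActsF (mE (u1 p.1) * mE (u2 p.2.1))
      (fun x => pget (mP (u1 p.1)) (pget (mP (u2 p.2.1)) x)) :=
    ((actsF_mE (u1_lt _)).mul (actsF_mE (u2_lt _))).congr fun _ _ => rfl
  have hg : ∀ x : ReflSet, g • x = (mE (u1 p.1) * mE (u2 p.2.1)) • x := by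
    intro x
    rw [← hp, phi, mul_smul, negEl_pow_smul]
  rw [hg, hact.apply (by norm_num)] at h121 h303
  exact theta_not_inner_spec p.1 p.2.1
    ⟨idxRefl_inj (hact 121 (by norm_num)).1 (by norm_num) h121,
      idxRefl_inj (hact 303 (by norm_num)).1 (by norm_num) h303⟩

/-! ### the count -/

theorem center_J2 : Subgroup.center J2 = ⊥ := by
  have hs := isSimpleGroup_J2
  rcases hs.eq_bot_or_eq_top_of_normal (Subgroup.center J2) inferInstance with h | h
  · exact h
  · exfalso
    apply fusA_comm_notMem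
    rw [← piJ2_eq_one]
    have hc : piJ2 fusQ ∈ Subgroup.center J2 := by rw [h]; exact Subgroup.mem_top _
    rw [map_mul, map_mul, map_inv, map_mul, map_inv,
      Subgroup.mem_center_iff.1 hc (piJ2 fusA)]
    group

theorem card_inn : Nat.card (Cfsg.Inn J2) = 604800 := by
  have hinj : Function.Injective (MulAut.conj : J2 →* MulAut J2) := by
    rw [injective_iff_map_eq_one]
    intro u hu
    have : u ∈ Subgroup.center J2 := by
      rw [Subgroup.mem_center_iff]
      intro v
      have h1 := DFunLike.congr_fun hu v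
      rw [MulAut.conj_apply, MulAut.one_apply] at h1
      calc v * u = (u * v * u⁻¹) * u := by rw [h1]
        _ = u * v := by group
    rw [center_J2, Subgroup.mem_bot] at this
    exact this
  rw [← card_J2]
  exact (Nat.card_congr (MonoidHom.ofInjective hinj).toEquiv).symm

theorem card_out_J2 : Nat.card (Cfsg.Out J2) = 2 := by
  have h1 := Subgroup.card_eq_card_quotient_mul_card_subgroup (Cfsg.Inn J2)
  rw [card_inn] at h1
  have h2 := card_aut_le
  rw [h1] at h2
  have hle : Nat.card (MulAut J2 ⧸ Cfsg.Inn J2) ≤ 2 := by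
    have h3 : Nat.card (MulAut J2 ⧸ Cfsg.Inn J2) * 604800 ≤ 2 * 604800 := by
      refine h2.trans ?_
      norm_num
    exact Nat.le_of_mul_le_mul_right h3 (by norm_num)
  have hfin : Finite (Cfsg.Out J2) := inferInstanceAs (Finite (MulAut J2 ⧸ Cfsg.Inn J2))
  have hnt : Nontrivial (Cfsg.Out J2) := by
    refine ⟨⟨(QuotientGroup.mk alphaJ : MulAut J2 ⧸ Cfsg.Inn J2), 1, ?_⟩⟩
    intro h
    exact alphaJ_notMem_inn ((QuotientGroup.eq_one_iff alphaJ).1 h)
  have hgt : 1 < Nat.card (Cfsg.Out J2) := Finite.one_lt_card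
  exact le_antisymm hle hgt

end Cfsg.Agent.Lib.Helper27.J2
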