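import Cfsg.Agent.Lib.Helper27.J2PermBase

/-!
# The element orders of the Hall–Janko group: `1, 2, 3, 4, 5, 6, 7, 8, 10, 12, 15`
-/

set_option autoImplicit false

namespace Cfsg.Agent.Lib.Helper27.J2
open Quaternion Cfsg.Spor

/-! ### conjugating into a coset of the stabiliser -/

theorem rootOf_class : ∀ i < 5, classLit.getD (rootOf i) 0 = i := by decide +kernel
theorem rootOf_lt : ∀ i < 6, rootOf i < 315 := by decide +kernel
theorem rootOf_five : rootOf 5 = 160 := by decide +kernel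

theorem idxRefl_root_mem (i : Fin 5) : idxRefl (rootOf i) ∈ Osub i := by
  have hlt : rootOf i < Rep315.length := by rw [Rep315_length]; exact rootOf_lt i (by omega)
  have h1 : Rep315[rootOf i]? = some Rep315[rootOf i] := List.getElem?_eq_getElem hlt
  refine ⟨Rep315[rootOf i], List.getElem_mem hlt, ?_, idxRefl_of_getElem? h1⟩
  rw [← lineClass_eq h1]
  exact rootOf_class i i.2

theorem exists_conj_root (g : twoJ2) :
    ∃ l : twoJ2, ∃ i < 6, (l * g * l⁻¹) • aRefl = idxRefl (rootOf i) := by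
  by_cases hx : g • aRefl = aRefl
  · refine ⟨1, 5, by norm_num, ?_⟩
    rw [one_mul, inv_one, mul_one, hx, rootOf_five, idxRefl_160]
  · obtain ⟨i, hi⟩ := Osub_cover _ hx
    obtain ⟨k, hk1, hk2⟩ := Osub_trans i _ hi _ (idxRefl_root_mem i)
    refine ⟨k, i.val, by omega, ?_⟩
    rw [mul_smul, mul_smul, inv_smul_eq_iff.2 hk1.symm, hk2]

/-! ### the order check -/

theorem loopV_spec {pt pu : ℕ} : ∀ {vs : List ℕ}, loopV pt pu vs = true →
    ∀ pv ∈ vs, ordOK (comp3 pt pu pv) = true := by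
  intro vs
  induction vs with
  | nil => intro _ pv h; simp at h
  | cons v vs ih =>
    intro h pv hpv
    simp only [loopV, Bool.and_eq_true] at h
    rcases List.mem_cons.1 hpv with rfl | hpv
    · exact h.1
    · exact ih h.2 pv hpv

theorem loopU_spec {pt : ℕ} {vs : List ℕ} : ∀ {us : List ℕ}, loopU pt vs us = true →
    ∀ pu ∈ us, ∀ pv ∈ vs, ordOK (comp3 pt pu pv) = true := by
  intro us
  induction us with
  | nil => intro _ pu h; simp at h
  | cons u us ih =>
    intro h pu hpu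
    simp only [loopU, Bool.and_eq_true] at h
    rcases List.mem_cons.1 hpu with rfl | hpu
    · exact loopV_spec h.1
    · exact ih h.2 pu hpu

theorem loopT_spec {us vs : List ℕ} : ∀ {ts : List ℕ}, loopT us vs ts = true →
    ∀ pt ∈ ts, ∀ pu ∈ us, ∀ pv ∈ vs, ordOK (comp3 pt pu pv) = true := by
  intro ts
  induction ts with
  | nil => intro _ pt h; simp at h
  | cons t ts ih =>
    intro h pt hpt
    simp only [loopT, Bool.and_eq_true] at h
    rcases List.mem_cons.1 hpt with rfl | hpt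
    · exact loopU_spec h.1
    · exact ih h.2 pt hpt

theorem tIdx_length : tIdx.length = 6 := by decide

theorem tIdx_mem {i : ℕ} (hi : i < 6) : tIdx.getD i 0 ∈ tIdx := by
  have h : i < tIdx.length := by rw [tIdx_length]; exact hi
  rw [List.getD_eq_getElem _ _ h]
  exact List.getElem_mem h

theorem tIdx_lt {i : ℕ} (hi : i < 6) : tIdx.getD i 0 < 256 := by
  have := List.all_eq_true.1 idx_lt.1 _ (tIdx_mem hi)
  simpa using this

theorem tIdx_root {i : ℕ} (hi : i < 6) : pget (mP (tIdx.getD i 0)) 160 = rootOf i := by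
  have := List.all_eq_true.1 tIdx_ok i (List.mem_range.2 hi)
  simpa using this

theorem ordOK_all {i : ℕ} (hi : i < 6) (a : Fin 160) (b : Fin 12) :
    ordOK (comp3 (mP (tIdx.getD i 0)) (mP (u1 a)) (mP (u2 b))) = true :=
  loopT_spec all_ordOK _ (List.mem_map.2 ⟨_, tIdx_mem hi, rfl⟩) _ (List.mem_map.2 ⟨_, u1_mem a, rfl⟩) _
    (List.mem_map.2 ⟨_, u2_mem b, rfl⟩)

theorem cycAux_spec (f : ℕ → ℕ) (x0 : ℕ) : ∀ (fuel k x : ℕ), x = f^[k] x0 →
    cycAux f x0 fuel k x ≠ 0 → f^[cycAux f x0 fuel k x] x0 = x0 := by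
  intro fuel
  induction fuel with
  | zero => intro k x _ h; simp [cycAux] at h
  | succ fuel ih =>
    intro k x hx h
    rw [cycAux] at h ⊢
    split_ifs at h ⊢ with hxx
    · rw [← hx, hxx]
    · exact ih (k + 1) (f x) (by rw [hx, Function.iterate_succ_apply']) h

theorem cyc_spec {f : ℕ → ℕ} {x0 : ℕ} (h : cyc f x0 ≠ 0) : f^[cyc f x0] x0 = x0 :=
  cycAux_spec f x0 15 1 (f x0) rfl h

theorem specList_pos : ∀ n ∈ specList, 0 < n ∧ n ≤ 15 := by decide

theorem ordOK_spec {f : ℕ → ℕ} (h : ordOK f = true) :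
    ∃ n ∈ specList, f^[n] 160 = 160 ∧ f^[n] 0 = 0 ∧ f^[n] 1 = 1 := by
  simp only [ordOK, List.contains_iff_mem] at h
  have hn0 := (specList_pos _ h).1
  have h12 : Nat.lcm (cyc f 160) (cyc f 0) ≠ 0 := fun h0 => by rw [h0, Nat.lcm_zero_left] at hn0; omega
  have h3 : cyc f 1 ≠ 0 := fun h0 => by rw [h0, Nat.lcm_zero_right] at hn0; omega
  have h1 : cyc f 160 ≠ 0 := fun h0 => by rw [h0, Nat.lcm_zero_left] at h12; exact h12 rfl
  have h2 : cyc f 0 ≠ 0 := fun h0 => by rw [h0, Nat.lcm_zero_right] at h12; exact h12 rfl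
  refine ⟨_, h, ?_, ?_, ?_⟩
  · exact Function.IsPeriodicPt.trans_dvd (cyc_spec h1)
      ((Nat.dvd_lcm_left _ _).trans (Nat.dvd_lcm_left _ _))
  · exact Function.IsPeriodicPt.trans_dvd (cyc_spec h2)
      ((Nat.dvd_lcm_right _ _).trans (Nat.dvd_lcm_left _ _))
  · exact Function.IsPeriodicPt.trans_dvd (cyc_spec h3) (Nat.dvd_lcm_right _ _)

/-! ### every element has a power in `{±1}` with exponent in the list -/

/-- `z = ±1` -/
def IsPM (z : twoJ2) : Prop := z = 1 ∨ z = negEl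

theorem IsPM.mul {a b : twoJ2} (ha : IsPM a) (hb : IsPM b) : IsPM (a * b) := by
  rcases ha with rfl | rfl <;> rcases hb with rfl | rfl
  · left; simp
  · right; simp
  · right; simp
  · left; exact negEl_mul_self

theorem IsPM.pow {a : twoJ2} (ha : IsPM a) (n : ℕ) : IsPM (a ^ n) := by
  induction n with
  | zero => left; simp
  | succ n ih => rw [pow_succ]; exact ih.mul ha

theorem IsPM.mem_center {a : twoJ2} (ha : IsPM a) : a ∈ Subgroup.center twoJ2 := by
  rcases ha with rfl | rfl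
  · exact Subgroup.one_mem _
  · exact negEl_mem_center

theorem exists_pow_central (g : twoJ2) : ∃ n ∈ specList, IsPM (g ^ n) := by
  obtain ⟨l, i, hi, hl⟩ := exists_conj_root g
  have hti := tIdx_lt hi
  have ht : mE (tIdx.getD i 0) • aRefl = idxRefl (rootOf i) := by
    rw [← idxRefl_160, (actsF_mE hti).apply (by norm_num), tIdx_root hi]
  have hm : (mE (tIdx.getD i 0))⁻¹ * (l * g * l⁻¹) ∈ Lsub := by
    rw [MulAction.mem_stabilizer_iff, mul_smul, hl, ← ht, inv_smul_smul]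
  obtain ⟨p, hp⟩ := exists_phi hm
  have hz : negEl ^ p.2.2.val ∈ Subgroup.center twoJ2 := Subgroup.pow_mem _ negEl_mem_center _
  have hg' : l * g * l⁻¹ = negEl ^ p.2.2.val *
      (mE (tIdx.getD i 0) * (mE (u1 p.1) * mE (u2 p.2.1))) := by
    have h1 : l * g * l⁻¹ = mE (tIdx.getD i 0) * phi p := by rw [hp]; group
    rw [h1, phi, ← mul_assoc, Subgroup.mem_center_iff.1 hz (mE (tIdx.getD i 0)), mul_assoc]
  have hact : ActsF (mE (tIdx.getD i 0) * (mE (u1 p.1) * mE (u2 p.2.1)))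
      (comp3 (mP (tIdx.getD i 0)) (mP (u1 p.1)) (mP (u2 p.2.1))) :=
    ((actsF_mE hti).mul ((actsF_mE (u1_lt _)).mul (actsF_mE (u2_lt _)))).congr fun j _ => rfl
  obtain ⟨n, hn, f160, f0, f1⟩ := ordOK_spec (ordOK_all hi p.1 p.2.1)
  have hwn := hact.pow n
  have hc : IsPM ((mE (tIdx.getD i 0) * (mE (u1 p.1) * mE (u2 p.2.1))) ^ n) :=
    central_of_fix3 (hwn.fix (by norm_num) f160) (hwn.fix (by norm_num) f0)
      (hwn.fix (by norm_num) f1)
  have hcomm : Commute (negEl ^ p.2.2.val) (mE (tIdx.getD i 0) * (mE (u1 p.1) * mE (u2 p.2.1))) :=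
    (Subgroup.mem_center_iff.1 hz _).symm
  have hg'n : IsPM ((l * g * l⁻¹) ^ n) := by
    rw [hg', hcomm.mul_pow]
    exact (IsPM.pow (IsPM.pow (Or.inr rfl) _) _).mul hc
  refine ⟨n, hn, ?_⟩
  have e : g ^ n = l⁻¹ * (l * g * l⁻¹) ^ n * l := by
    rw [conj_pow]; group
  rw [e, Subgroup.mem_center_iff.1 hg'n.mem_center l⁻¹, inv_mul_cancel_right]
  exact hg'n

/-! ### the spectrum -/

theorem mk_pow_eq_one {g : twoJ2} {n : ℕ} (h : IsPM (g ^ n)) :
    (QuotientGroup.mk g : J2) ^ n = 1 := by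
  rw [← QuotientGroup.mk_pow, QuotientGroup.eq_one_iff]
  exact h.mem_center

theorem specList_dvd : ∀ n ∈ specList, ∀ d ≤ 15, d ∣ n → d ∈ specList := by decide

theorem orderOf_mem_specList (x : J2) : orderOf x ∈ specList := by
  obtain ⟨g, rfl⟩ := QuotientGroup.mk_surjective x
  obtain ⟨n, hn, h⟩ := exists_pow_central g
  have hd := orderOf_dvd_of_pow_eq_one (mk_pow_eq_one h)
  obtain ⟨h0, h15⟩ := specList_pos n hn
  exact specList_dvd n hn _ ((Nat.le_of_dvd h0 hd).trans h15) hd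

theorem specList_primes : ∀ n ∈ specList, ∀ p ≤ 15, p ∣ n →
    p ∈ [2, 3, 5, 7] ∨ p ∈ [1, 4, 6, 8, 10, 12, 15] := by decide

/-- a criterion for the order of the image in `J₂` of a product of three macro elements -/
theorem orderOf_mk_of_check {a b c n : ℕ} (ha : a < 256) (hb : b < 256) (hc : c < 256)
    (hn : n ∈ specList)
    (h1 : (comp3 (mP a) (mP b) (mP c))^[n] 160 = 160 ∧ (comp3 (mP a) (mP b) (mP c))^[n] 0 = 0 ∧
      (comp3 (mP a) (mP b) (mP c))^[n] 1 = 1)
    (h2 : ∀ p ∈ [2, 3, 5, 7], p ∣ n → ∃ x < 315, (comp3 (mP a) (mP b) (mP c))^[n / p] x ≠ x) :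
    orderOf (QuotientGroup.mk (mE a * (mE b * mE c)) : J2) = n := by
  have hact : ActsF (mE a * (mE b * mE c)) (comp3 (mP a) (mP b) (mP c)) :=
    ((actsF_mE ha).mul ((actsF_mE hb).mul (actsF_mE hc))).congr fun j _ => rfl
  obtain ⟨h0, h15⟩ := specList_pos n hn
  apply orderOf_eq_of_pow_and_pow_div_prime h0
  · apply mk_pow_eq_one
    have hwn := hact.pow n
    exact central_of_fix3 (hwn.fix (by norm_num) h1.1) (hwn.fix (by norm_num) h1.2.1)
      (hwn.fix (by norm_num) h1.2.2)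
  · intro p hp hpn hone
    have hp15 : p ≤ 15 := (Nat.le_of_dvd h0 hpn).trans h15
    have hp4 : p ∈ [2, 3, 5, 7] := by
      rcases specList_primes n hn p hp15 hpn with h | h
      · exact h
      · exfalso
        simp only [List.mem_cons, List.not_mem_nil, or_false] at h
        rcases h with rfl | rfl | rfl | rfl | rfl | rfl | rfl <;> norm_num at hp
    obtain ⟨x, hx, hne⟩ := h2 p hp4 hpn
    rw [← QuotientGroup.mk_pow, QuotientGroup.eq_one_iff] at hone
    have h3 := (hact.pow (n / p)).apply hx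
    rw [center_smul hone] at h3
    exact hne (idxRefl_inj ((hact.pow (n / p)) x hx).1 hx h3.symm)

end Cfsg.Agent.Lib.Helper27.J2
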