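import Cfsg.Agent.Lib.Helper27.J2OutData
import Cfsg.Agent.Lib.Helper27.J2Spectrum

/-!
# The class of `2A`-involutions of `J₂` is invariant under automorphisms
-/

set_option autoImplicit false

namespace Cfsg.Agent.Lib.Helper27.J2
open Quaternion Cfsg.Spor

/-- the `2A`-involution of index `j` -/
noncomputable def tauJ (j : ℕ) : J2 := piJ2 (reflG (idxRefl j))

theorem reflG_mul_self (x : ReflSet) : reflG x * reflG x = 1 := by
  obtain ⟨R, hR, rfl⟩ := exists_reflEl x
  apply Subtype.ext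
  exact reflOf_mul_self (Rep315_sub R hR)

theorem tauJ_mul_self (j : ℕ) : tauJ j * tauJ j = 1 := by
  rw [tauJ, ← map_mul, reflG_mul_self, map_one]

theorem tauJ_inv (j : ℕ) : (tauJ j)⁻¹ = tauJ j := inv_eq_of_mul_eq_one_right (tauJ_mul_self j)

theorem piJ2_eq_iff {g h : twoJ2} : piJ2 g = piJ2 h ↔ g = h ∨ g = negEl * h := by
  constructor
  · intro e
    have h1 : piJ2 (g * h⁻¹) = 1 := by rw [map_mul, map_inv, e, mul_inv_cancel]
    rcases center_cases _ (piJ2_eq_one.1 h1) with h2 | h2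
    · left; exact mul_inv_eq_one.1 h2
    · right; exact mul_inv_eq_iff_eq_mul.1 h2
  · rintro (rfl | rfl)
    · rfl
    · rw [map_mul, piJ2_eq_one.2 negEl_mem_center, one_mul]

theorem tauJ_injective {i j : ℕ} (hi : i < 315) (hj : j < 315) (h : tauJ i = tauJ j) : i = j := by
  rcases piJ2_eq_iff.1 h with h1 | h1
  · exact idxRefl_inj hi hj (reflG_injective h1)
  · exact absurd h1 (reflG_ne_negEl_mul _ _)

theorem reflG_notMem_center (x : ReflSet) : reflG x ∉ Subgroup.center twoJ2 := by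
  obtain ⟨j, hj, hx⟩ := exists_idx x
  rw [hx]
  intro h
  have h1 := (mem_center_iff_fix3 (actsF_refl hj)).1 h
  have h2 := List.all_eq_true.1 refl_nonfix j (List.mem_range.2 hj)
  rw [h1] at h2
  exact absurd h2 (by decide)

theorem tauJ_ne_one (j : ℕ) : tauJ j ≠ 1 := fun h => reflG_notMem_center _ (piJ2_eq_one.1 h)

theorem piJ2_surjective : Function.Surjective piJ2 := QuotientGroup.mk'_surjective _

/-- conjugates of the `tauJ j` are of the same form -/
theorem conj_tauJ (u : J2) {j : ℕ} (hj : j < 315) : ∃ k < 315, u * tauJ j * u⁻¹ = tauJ k := by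
  obtain ⟨g, rfl⟩ := piJ2_surjective u
  obtain ⟨k, hk, h⟩ := exists_idx (g • idxRefl j)
  refine ⟨k, hk, ?_⟩
  rw [tauJ, tauJ, ← h, reflG_smul, map_mul, map_mul, map_inv]

theorem piJ2_wordEl (w : List ℕ) : piJ2 (wordEl w) = (w.map tauJ).prod := by
  rw [wordEl, map_list_prod, List.map_map]
  rfl

/-! ### squares of elements of order four -/

theorem loopAll_spec {P : (ℕ → ℕ) → Bool} (h : loopAll P = true) {i : ℕ} (hi : i < 6)
    (a : Fin 160) (b : Fin 12) :
    P (comp3 (mP (tIdx.getD i 0)) (mP (u1 a)) (mP (u2 b))) = true := by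
  simp only [loopAll, List.all_eq_true, List.mem_map, forall_exists_index, and_imp,
    forall_apply_eq_imp_iff₂] at h
  exact h _ (tIdx_mem hi) _ (u1_mem a) _ (u2_mem b)

/-- every element of `2.J₂` is conjugate, modulo the centre, to a product of three macro elements -/
theorem exists_conj_decomp (g : twoJ2) : ∃ l : twoJ2, ∃ i < 6, ∃ (a : Fin 160) (b : Fin 12),
    ∃ z ∈ Subgroup.center twoJ2,
      l * g * l⁻¹ = z * (mE (tIdx.getD i 0) * (mE (u1 a) * mE (u2 b))) ∧
      ActsF (mE (tIdx.getD i 0) * (mE (u1 a) * mE (u2 b)))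
        (comp3 (mP (tIdx.getD i 0)) (mP (u1 a)) (mP (u2 b))) := by
  obtain ⟨l, i, hi, hl⟩ := exists_conj_root g
  have hti := tIdx_lt hi
  have ht : mE (tIdx.getD i 0) • aRefl = idxRefl (rootOf i) := by
    rw [← idxRefl_160, (actsF_mE hti).apply (by norm_num), tIdx_root hi]
  have hm : (mE (tIdx.getD i 0))⁻¹ * (l * g * l⁻¹) ∈ Lsub := by
    rw [MulAction.mem_stabilizer_iff, mul_smul, hl, ← ht, inv_smul_smul]
  obtain ⟨p, hp⟩ := exists_phi hm
  have hz : negEl ^ p.2.2.val ∈ Subgroup.center twoJ2 := Subgroup.pow_mem _ negEl_mem_center _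
  refine ⟨l, i, hi, p.1, p.2.1, negEl ^ p.2.2.val, hz, ?_, ?_⟩
  · have h1 : l * g * l⁻¹ = mE (tIdx.getD i 0) * phi p := by rw [hp]; group
    rw [h1, phi, ← mul_assoc, Subgroup.mem_center_iff.1 hz (mE (tIdx.getD i 0)), mul_assoc]
  · exact ((actsF_mE hti).mul ((actsF_mE (u1_lt _)).mul (actsF_mE (u2_lt _)))).congr fun j _ => rfl

theorem sq_mem_tau (v : J2) (h4 : v ^ 4 = 1) (h2 : v ^ 2 ≠ 1) : ∃ j < 315, v ^ 2 = tauJ j := by
  obtain ⟨g, rfl⟩ := piJ2_surjective v
  obtain ⟨l, i, hi, a, b, z, hz, hg, hact⟩ := exists_conj_decomp g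
  set m := mE (tIdx.getD i 0) * (mE (u1 a) * mE (u2 b)) with hm
  set f := comp3 (mP (tIdx.getD i 0)) (mP (u1 a)) (mP (u2 b)) with hf
  have hpm : piJ2 (l * g * l⁻¹) = piJ2 m := by
    rw [hg, map_mul, piJ2_eq_one.2 hz, one_mul]
  have hconj : ∀ n : ℕ, piJ2 m ^ n = piJ2 l * piJ2 g ^ n * (piJ2 l)⁻¹ := by
    intro n
    rw [← hpm, map_mul, map_mul, map_inv, conj_pow]
  have h4' : fix3 (f^[4]) = true := by
    rw [← piJ2_pow_eq_one_iff hact, hconj, h4, mul_one, mul_inv_cancel]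
  have h2' : fix3 (f^[2]) ≠ true := by
    rw [Ne, ← piJ2_pow_eq_one_iff hact, hconj]
    intro h
    apply h2
    have := congrArg (fun x => (piJ2 l)⁻¹ * x * piJ2 l) h
    simpa [mul_assoc] using this
  have hsq := loopAll_spec all_sqOK hi a b
  rw [← hf] at hsq
  simp only [sqOK, Bool.or_eq_true, Bool.not_eq_true', List.any_eq_true, List.mem_range] at hsq
  rcases hsq with (hsq | hsq) | ⟨j, hj, hsq⟩
  · rw [h4'] at hsq; exact absurd hsq (by decide)
  · exact absurd hsq h2'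
  · -- `m * m * r_j` is central
    have hact2 : ActsF (m * m * reflG (idxRefl j)) (fun x => f (f (pget (rP j) x))) :=
      ((hact.mul hact).mul (actsF_refl hj)).congr fun _ _ => rfl
    have hc := (mem_center_iff_fix3 hact2).2 hsq
    have h5 : piJ2 m ^ 2 * tauJ j = 1 := by
      rw [tauJ, pow_two, ← map_mul, ← map_mul]
      exact piJ2_eq_one.2 hc
    have h6 : piJ2 m ^ 2 = tauJ j := by
      rw [← tauJ_inv j]; exact eq_inv_of_mul_eq_one_left h5
    rw [hconj 2] at h6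
    obtain ⟨k, hk, hk'⟩ := conj_tauJ (piJ2 l)⁻¹ hj
    refine ⟨k, hk, ?_⟩
    rw [← hk', ← h6]
    group

/-- every `tauJ j` is the square of an element of order four -/
theorem exists_sqrt_tauJ {j : ℕ} (hj : j < 315) : ∃ w : J2, w ^ 4 = 1 ∧ w ^ 2 = tauJ j := by
  -- first for `j = 160`
  have h0 : (tauJ 265 * tauJ 307) ^ 2 = tauJ 160 := by
    have hw : ∀ j ∈ [265, 307, 265, 307, 160], j < 315 := by decide
    have h1 := (mem_center_iff_fix3 (actsF_wordEl _ hw)).2 sq_witness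
    have h2 := piJ2_eq_one.2 h1
    rw [piJ2_wordEl] at h2
    simp only [List.map_cons, List.map_nil, List.prod_cons, List.prod_nil, mul_one] at h2
    rw [← tauJ_inv 160, pow_two]
    apply eq_inv_of_mul_eq_one_left
    rw [← h2]; group
  have h160 : ∃ w : J2, w ^ 4 = 1 ∧ w ^ 2 = tauJ 160 := by
    refine ⟨tauJ 265 * tauJ 307, ?_, h0⟩
    have : (tauJ 265 * tauJ 307) ^ 4 = ((tauJ 265 * tauJ 307) ^ 2) ^ 2 := by rw [← pow_mul]
    rw [this, h0, pow_two, tauJ_mul_self]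
  obtain ⟨w, hw4, hw2⟩ := h160
  -- transport by transitivity
  obtain ⟨g, hg⟩ := MulAction.exists_smul_eq twoJ2 (idxRefl 160) (idxRefl j)
  refine ⟨piJ2 g * w * (piJ2 g)⁻¹, ?_, ?_⟩
  · rw [conj_pow, hw4, mul_one, mul_inv_cancel]
  · rw [conj_pow, hw2, tauJ, tauJ, ← hg, reflG_smul, map_mul, map_mul, map_inv]

/-- the class of the `tauJ j` is invariant under automorphisms -/
theorem aut_tauJ (α : MulAut J2) {j : ℕ} (hj : j < 315) : ∃ k < 315, α (tauJ j) = tauJ k := by
  obtain ⟨w, hw4, hw2⟩ := exists_sqrt_tauJ hj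
  have h4 : (α w) ^ 4 = 1 := by rw [← map_pow, hw4, map_one]
  have h2 : (α w) ^ 2 = α (tauJ j) := by rw [← map_pow, hw2]
  have hne : (α w) ^ 2 ≠ 1 := by
    rw [h2]
    intro h
    exact tauJ_ne_one j (by simpa using h)
  obtain ⟨k, hk, hk'⟩ := sq_mem_tau (α w) h4 hne
  exact ⟨k, hk, by rw [← h2, hk']⟩

end Cfsg.Agent.Lib.Helper27.J2
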