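import Cfsg.Agent.Lib.Helper27.J2OutTau

/-!
# `|Aut(J₂)| ≤ 2 |J₂|`
-/

set_option autoImplicit false

namespace Cfsg.Agent.Lib.Helper27.J2
open Quaternion Cfsg.Spor

/-! ### an orbit–stabiliser bound -/

theorem card_le_of_orbit_subset {A X : Type*} [Group A] [Finite A] [MulAction A X]
    (K : Subgroup A) (x : X) (F : List X) (h : ∀ k ∈ K, k • x ∈ F) :
    Nat.card K ≤ F.length * Nat.card (K ⊓ MulAction.stabilizer A x : Subgroup A) := by
  classical
  have e1 := Nat.card_congr (MulAction.orbitProdStabilizerEquivGroup K x)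
  rw [Nat.card_prod] at e1
  have hsub : MulAction.orbit K x ⊆ (↑F.toFinset : Set X) := by
    rintro _ ⟨k, rfl⟩
    simp only [Finset.mem_coe, List.mem_toFinset]
    exact h k.1 k.2
  have h1 : Nat.card (MulAction.orbit K x) ≤ F.length := by
    rw [Nat.card_coe_set_eq]
    calc (MulAction.orbit K x).ncard ≤ (↑F.toFinset : Set X).ncard :=
          Set.ncard_le_ncard hsub (Finset.finite_toSet _)
      _ = F.toFinset.card := Set.ncard_coe_finset _
      _ ≤ F.length := List.toFinset_card_le F
  have h2 : Nat.card (MulAction.stabilizer K x) =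
      Nat.card (K ⊓ MulAction.stabilizer A x : Subgroup A) := by
    apply Nat.card_congr
    exact
      { toFun := fun k => ⟨k.1.1, ⟨k.1.2, k.2⟩⟩
        invFun := fun a => ⟨⟨a.1, a.2.1⟩, a.2.2⟩
        left_inv := fun k => rfl
        right_inv := fun a => rfl }
  rw [← e1, h2]
  exact Nat.mul_le_mul_right _ h1

/-! ### the conditions are invariant -/

theorem substW_lt {w : List ℕ} {j : ℕ} (hw : ∀ k ∈ w, k ≤ 315) (hj : j < 315) :
    ∀ k ∈ substW w j, k < 315 := by
  intro k hk
  obtain ⟨k', hk', rfl⟩ := List.mem_map.1 hk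
  by_cases h : k' = 315
  · simp [h, hj]
  · simp only [h, if_false]
    have := hw k' hk'
    omega

theorem map_tauJ_substW (α : MulAut J2) {j0 j : ℕ} (hα : α (tauJ j0) = tauJ j) :
    ∀ w : List ℕ, (∀ k ∈ w, k ≠ 315 → α (tauJ k) = tauJ k) →
      ((substW w j).map tauJ).prod = α (((substW w j0).map tauJ).prod) := by
  intro w
  induction w with
  | nil => intro _; simp [substW]
  | cons k w ih =>
    intro hw
    have h1 := ih fun k' hk' => hw k' (List.mem_cons_of_mem _ hk')
    simp only [substW, List.map_cons, List.prod_cons, map_mul] at h1 ⊢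
    rw [h1]
    congr 1
    by_cases h : k = 315
    · simp [h, hα]
    · simp only [h, if_false]
      exact (hw k List.mem_cons_self h).symm

theorem condOK_aut (α : MulAut J2) (c : List ℕ × ℕ × Bool) {j0 j : ℕ} (hj0 : j0 < 315)
    (hj : j < 315) (hle : ∀ k ∈ c.1, k ≤ 315)
    (hfix : ∀ k ∈ c.1, k ≠ 315 → α (tauJ k) = tauJ k)
    (hα : α (tauJ j0) = tauJ j) : condOK c j = condOK c j0 := by
  have key : fix3 ((wordF (substW c.1 j))^[c.2.1]) = fix3 ((wordF (substW c.1 j0))^[c.2.1]) := by
    rw [Bool.eq_iff_iff, ← piJ2_pow_eq_one_iff (actsF_wordEl _ (substW_lt hle hj)),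
      ← piJ2_pow_eq_one_iff (actsF_wordEl _ (substW_lt hle hj0)), piJ2_wordEl, piJ2_wordEl,
      map_tauJ_substW α hα c.1 hfix]
    have e : ∀ x : J2, (α x) ^ c.2.1 = 1 ↔ x ^ c.2.1 = 1 := by
      intro x
      constructor
      · intro h
        have h' : α (x ^ c.2.1) = α 1 := by rw [map_pow, h, map_one]
        exact α.injective h'
      · intro h
        rw [← map_pow, h, map_one]
    exact e _
  simp only [condOK, key]

theorem stage_cand (cs : List (List ℕ × ℕ × Bool)) (ks : List ℕ) {j0 : ℕ} (hj0 : j0 < 315)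
    (hks : ∀ c ∈ cs, ∀ k ∈ c.1, k = 315 ∨ k ∈ ks) (hks' : ∀ k ∈ ks, k < 315)
    (hself : (cs.all fun c => condOK c j0) = true)
    (α : MulAut J2) (hα : ∀ k ∈ ks, α (tauJ k) = tauJ k) :
    α (tauJ j0) ∈ (candJ cs).map tauJ := by
  obtain ⟨j, hj, hj'⟩ := aut_tauJ α hj0
  rw [hj']
  refine List.mem_map.2 ⟨j, ?_, rfl⟩
  rw [candJ, List.mem_filter]
  refine ⟨List.mem_range.2 hj, ?_⟩
  rw [List.all_eq_true] at hself ⊢
  intro c hc
  rw [condOK_aut α c hj0 hj ?_ ?_ hj']
  · exact hself c hc
  · intro k hk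
    rcases hks c hc k hk with h | h
    · omega
    · exact (hks' k h).le
  · intro k hk hne
    rcases hks c hc k hk with h | h
    · exact absurd h hne
    · exact hα k h

/-! ### generation -/

theorem closure_tauJ : Subgroup.closure ({tauJ 160, tauJ 121, tauJ 303, tauJ 278} : Set J2) = ⊤ := by
  have h1 : Subgroup.map piJ2 gen4 = ⊤ := by
    rw [gen4_eq_top, ← MonoidHom.range_eq_map, MonoidHom.range_eq_top]
    exact piJ2_surjective
  rw [gen4, MonoidHom.map_closure] at h1
  rw [eq_top_iff, ← h1]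
  apply Subgroup.closure_mono
  rintro _ ⟨g, ⟨a, ha, rfl⟩, rfl⟩
  have h4 : a = 0 ∨ a = 1 ∨ a = 2 ∨ a = 3 := by omega
  rcases h4 with rfl | rfl | rfl | rfl
  · left; rfl
  · right; left; rfl
  · right; right; left; rfl
  · right; right; right; rfl

theorem aut_eq_one_of_fix (α : MulAut J2) (h0 : α (tauJ 160) = tauJ 160) (h1 : α (tauJ 121) = tauJ 121)
    (h2 : α (tauJ 303) = tauJ 303) (h3 : α (tauJ 278) = tauJ 278) : α = 1 := by
  have : (α : J2 →* J2) = MonoidHom.id J2 := by
    apply MonoidHom.eq_of_eqOn_dense closure_tauJ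
    intro x hx
    rcases hx with rfl | rfl | rfl | rfl
    · exact h0
    · exact h1
    · exact h2
    · exact h3
  ext x
  exact DFunLike.congr_fun this x

/-! ### the bound -/

instance instFiniteJ2 : Finite J2 := Nat.finite_of_card_ne_zero (by rw [card_J2]; norm_num)

instance instFiniteAutJ2 : Finite (MulAut J2) :=
  Finite.of_injective (fun e : MulAut J2 => (e : J2 → J2)) DFunLike.coe_injective

theorem conds_shape : (∀ c ∈ conds1, ∀ k ∈ c.1, k = 315 ∨ k ∈ [160]) ∧
    (∀ c ∈ conds2, ∀ k ∈ c.1, k = 315 ∨ k ∈ [160, 121]) ∧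
    (∀ c ∈ conds3, ∀ k ∈ c.1, k = 315 ∨ k ∈ [160, 121, 303]) := by decide

theorem card_aut_le : Nat.card (MulAut J2) ≤ 1209600 := by
  let A := MulAut J2
  let K1 : Subgroup A := ⊤ ⊓ MulAction.stabilizer A (tauJ 160)
  let K2 : Subgroup A := K1 ⊓ MulAction.stabilizer A (tauJ 121)
  let K3 : Subgroup A := K2 ⊓ MulAction.stabilizer A (tauJ 303)
  let K4 : Subgroup A := K3 ⊓ MulAction.stabilizer A (tauJ 278)
  have hK1 : ∀ k ∈ K1, k (tauJ 160) = tauJ 160 := fun k hk => hk.2
  have hK2 : ∀ k ∈ K2, k (tauJ 160) = tauJ 160 ∧ k (tauJ 121) = tauJ 121 :=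
    fun k hk => ⟨hK1 k hk.1, hk.2⟩
  have hK3 : ∀ k ∈ K3, k (tauJ 160) = tauJ 160 ∧ k (tauJ 121) = tauJ 121 ∧ k (tauJ 303) = tauJ 303 :=
    fun k hk => ⟨(hK2 k hk.1).1, (hK2 k hk.1).2, hk.2⟩
  -- stage 0
  have s0 : Nat.card (⊤ : Subgroup A) ≤ 315 * Nat.card K1 := by
    have := card_le_of_orbit_subset (⊤ : Subgroup A) (tauJ 160) ((List.range 315).map tauJ) (by
      intro k _
      obtain ⟨j, hj, hj'⟩ := aut_tauJ k (j := 160) (by norm_num)
      exact List.mem_map.2 ⟨j, List.mem_range.2 hj, hj'.symm⟩)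
    rw [List.length_map, List.length_range] at this
    exact this
  -- stage 1
  have s1 : Nat.card K1 ≤ 160 * Nat.card K2 := by
    have := card_le_of_orbit_subset K1 (tauJ 121) ((candJ conds1).map tauJ) (by
      intro k hk
      exact stage_cand conds1 [160] (by norm_num) conds_shape.1 (by decide) conds_self.1 k (by
        intro k' hk'
        rw [List.mem_singleton] at hk'
        subst hk'
        exact hK1 k hk))
    rw [List.length_map, cand1_length] at this
    exact this
  -- stage 2
  have s2 : Nat.card K2 ≤ 24 * Nat.card K3 := by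
    have := card_le_of_orbit_subset K2 (tauJ 303) ((candJ conds2).map tauJ) (by
      intro k hk
      exact stage_cand conds2 [160, 121] (by norm_num) conds_shape.2.1 (by decide) conds_self.2.1 k (by
        intro k' hk'
        simp only [List.mem_cons, List.not_mem_nil, or_false] at hk'
        rcases hk' with rfl | rfl
        · exact (hK2 k hk).1
        · exact (hK2 k hk).2))
    rw [List.length_map, cand2_length] at this
    exact this
  -- stage 3
  have s3 : Nat.card K3 ≤ 1 * Nat.card K4 := by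
    have := card_le_of_orbit_subset K3 (tauJ 278) ((candJ conds3).map tauJ) (by
      intro k hk
      exact stage_cand conds3 [160, 121, 303] (by norm_num) conds_shape.2.2 (by decide)
        conds_self.2.2 k (by
        intro k' hk'
        simp only [List.mem_cons, List.not_mem_nil, or_false] at hk'
        rcases hk' with rfl | rfl | rfl
        · exact (hK3 k hk).1
        · exact (hK3 k hk).2.1
        · exact (hK3 k hk).2.2))
    rw [List.length_map, cand3_eq] at this
    exact this
  have s4 : Nat.card K4 = 1 := by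
    have : K4 = ⊥ := by
      rw [eq_bot_iff]
      intro k hk
      rw [Subgroup.mem_bot]
      exact aut_eq_one_of_fix k (hK3 k hk.1).1 (hK3 k hk.1).2.1 (hK3 k hk.1).2.2 hk.2
    rw [this]
    exact Subgroup.card_bot
  have htop : Nat.card (⊤ : Subgroup A) = Nat.card A := Subgroup.card_top
  rw [s4] at s3
  change Nat.card A ≤ 1209600
  omega

end Cfsg.Agent.Lib.Helper27.J2
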