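import Cfsg.Agent.Lib.Helper27.J2PermData
import Cfsg.Agent.Lib.Helper27.J2CentMain

/-!
# The action of `2.J₂` on the 315 reflections, in packed permutations
-/

set_option autoImplicit false

namespace Cfsg.Agent.Lib.Helper27.J2
open Quaternion Cfsg.Spor

/-! ### indexing the reflections -/

/-- the reflection of index `j` -/
noncomputable def idxRefl (j : ℕ) : ReflSet :=
  if h : j < Rep315.length then reflEl Rep315[j] (List.getElem_mem h) else aRefl

theorem idxRefl_of_getElem? {j : ℕ} {R : V3} (h : Rep315[j]? = some R) :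
    idxRefl j = reflEl R (List.mem_of_getElem? h) := by
  obtain ⟨hj, hR⟩ := List.getElem?_eq_some_iff.1 h
  subst hR
  simp only [idxRefl, dif_pos hj]

theorem idxRefl_160 : idxRefl 160 = aRefl := idxRefl_of_getElem? E1_index.1

theorem idxRefl_inj {i j : ℕ} (hi : i < 315) (hj : j < 315) (h : idxRefl i = idxRefl j) : i = j := by
  rw [← Rep315_length] at hi hj
  simp only [idxRefl, dif_pos hi, dif_pos hj] at h
  exact (List.Nodup.getElem_inj_iff Rep315_nodup).1 (reflEl_inj h)

theorem exists_idx (x : ReflSet) : ∃ j < 315, x = idxRefl j := by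
  obtain ⟨R, hR, rfl⟩ := exists_reflEl x
  obtain ⟨j, hj, hjR⟩ := List.mem_iff_getElem.1 hR
  refine ⟨j, by rw [← Rep315_length]; exact hj, ?_⟩
  subst hjR
  simp only [idxRefl, dif_pos hj]

/-! ### group elements acting by a function on the indices -/

/-- `g` acts on the 315 reflections as `f` acts on their indices -/
def ActsF (g : twoJ2) (f : ℕ → ℕ) : Prop := ∀ j < 315, f j < 315 ∧ g • idxRefl j = idxRefl (f j)

theorem ActsF.one : ActsF 1 id := fun j hj => ⟨hj, one_smul _ _⟩

theorem ActsF.mul {g h : twoJ2} {f f' : ℕ → ℕ} (hg : ActsF g f) (hh : ActsF h f') :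
    ActsF (g * h) (f ∘ f') := by
  intro j hj
  obtain ⟨h1, h2⟩ := hh j hj
  obtain ⟨h3, h4⟩ := hg _ h1
  exact ⟨h3, by rw [mul_smul, h2, h4]; rfl⟩

theorem ActsF.congr {g : twoJ2} {f f' : ℕ → ℕ} (hg : ActsF g f) (h : ∀ j < 315, f j = f' j) :
    ActsF g f' := by
  intro j hj
  rw [← h j hj]
  exact hg j hj

theorem ActsF.pow {g : twoJ2} {f : ℕ → ℕ} (hg : ActsF g f) (n : ℕ) : ActsF (g ^ n) (f^[n]) := by
  induction n with
  | zero => simpa using ActsF.one
  | succ n ih =>
    rw [pow_succ', Function.iterate_succ']
    exact hg.mul ih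

theorem ActsF.apply {g : twoJ2} {f : ℕ → ℕ} (hg : ActsF g f) {j : ℕ} (hj : j < 315) :
    g • idxRefl j = idxRefl (f j) := (hg j hj).2

theorem ActsF.fix {g : twoJ2} {f : ℕ → ℕ} (hg : ActsF g f) {j : ℕ} (hj : j < 315) (h : f j = j) :
    g • idxRefl j = idxRefl j := by rw [hg.apply hj, h]

/-! ### the generating reflections -/

open Classical in
/-- the reflection in `A`, as an element of `2.J₂` -/
noncomputable def reflT (A : V3) : twoJ2 :=
  if h : A ∈ RepAll then ⟨reflOf A, reflOf_mem h⟩ else 1

theorem reflT_val {A : V3} (hA : A ∈ RepAll) : (reflT A : Equiv.Perm icoLeech) = reflOf A := by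
  simp only [reflT, dif_pos hA]

theorem reflT_smul {A R R' : V3} {c : Ic} (hA : A ∈ RepAll) (hR : R ∈ Rep315) (hR' : R' ∈ Rep315)
    (hc : c.Tq = 16) (h : reflM A R = smulM c R') : reflT A • reflEl R hR = reflEl R' hR' := by
  obtain ⟨hc1, hc2⟩ := unit_of_Tq hc
  have hRA := Rep315_sub R hR
  have hRA' := Rep315_sub R' hR'
  apply Subtype.ext
  rw [smul_val, reflT_val hA]
  change reflOf A * reflOf R * (reflOf A)⁻¹ = reflOf R'
  rw [reflOf_eq hRA, conj_reflPerm (isUni_of_mem (reflOf_mem hA))]
  ext x : 1
  apply Subtype.ext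
  rw [reflPerm_apply, reflOf_apply hRA', reflOf_apply hA]
  change qrefl (qrefl (embV A) (embV R)) x = _
  rw [← embV_reflM (RepAll_min A hA).1 (RepAll_min R hRA).1, h, embV_smulM,
    qrefl_smulV_left _ hc1]

theorem checkGen_spec (A : V3) (P : ℕ) : ∀ (cs : List Ic) (Rs : List V3) (j : ℕ),
    checkGen A P cs Rs j = true → ∀ k (hk : k < Rs.length), ∃ c : Ic, c.Tq = 16 ∧
      ∃ R', Rep315[pget P (j + k)]? = some R' ∧ reflM A Rs[k] = smulM c R' := by
  intro cs
  induction cs with
  | nil =>
    intro Rs j h k hk
    cases Rs with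
    | nil => simp at hk
    | cons R Rs => simp [checkGen] at h
  | cons c cs ih =>
    intro Rs j h k hk
    cases Rs with
    | nil => simp at hk
    | cons R Rs =>
      simp only [checkGen, Bool.and_eq_true, beq_iff_eq] at h
      obtain ⟨⟨h1, h2⟩, h3⟩ := h
      cases k with
      | zero =>
        cases hR' : Rep315[pget P j]? with
        | none => rw [hR'] at h2; simp at h2
        | some R' =>
          rw [hR'] at h2
          simp only [beq_iff_eq] at h2
          exact ⟨c, h1, R', by simpa using hR', by simpa using h2⟩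
      | succ k =>
        obtain ⟨c', hc', R', hR', hh⟩ := ih Rs (j + 1) h3 k (by simpa using hk)
        exact ⟨c', hc', R', by rw [← hR']; congr 2; omega, by simpa using hh⟩

/-- the four generators -/
noncomputable def genEls : List twoJ2 := genIdx.map fun i => reflT (Rep315.getD i E1)

theorem actsF_gen_of_check {a : ℕ} {cs : List Ic} (h : genCheck a cs = true) :
    ActsF (genEls.getD a 1) (pget (genPerm.getD a 0)) := by
  unfold genCheck at h
  cases hA : Rep315[genIdx.getD a 0]? with
  | none => rw [hA] at h; simp at h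
  | some A =>
    cases hP : genPerm[a]? with
    | none => rw [hA, hP] at h; simp at h
    | some P =>
      rw [hA, hP] at h
      simp only at h
      have hAm : A ∈ Rep315 := List.mem_of_getElem? hA
      have ha : a < genIdx.length := by
        have : a < genPerm.length := (List.getElem?_eq_some_iff.1 hP).1
        simpa [genPerm, genIdx] using this
      have e1 : genEls.getD a 1 = reflT A := by
        simp only [genEls]
        rw [List.getD_eq_getElem?_getD, List.getElem?_map, List.getElem?_eq_getElem ha]
        simp only [Option.map_some, Option.getD_some]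
        congr 1
        rw [List.getD_eq_getElem?_getD, List.getElem?_eq_getElem ha] at hA
        simp only [Option.getD_some] at hA
        rw [List.getD_eq_getElem?_getD, hA]; rfl
      have e2 : genPerm.getD a 0 = P := by
        rw [List.getD_eq_getElem?_getD, hP]; rfl
      rw [e1, e2]
      intro j hj
      have hj' : j < Rep315.length := by rw [Rep315_length]; exact hj
      obtain ⟨c, hc, R', hR', hh⟩ := checkGen_spec A P cs Rep315 0 h j hj'
      rw [Nat.zero_add] at hR'
      have hlt : pget P j < 315 := by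
        rw [← Rep315_length]; exact (List.getElem?_eq_some_iff.1 hR').1
      refine ⟨hlt, ?_⟩
      rw [idxRefl_of_getElem? hR', idxRefl_of_getElem? (List.getElem?_eq_getElem hj')]
      exact reflT_smul (Rep315_sub A hAm) _ _ hc hh

end Cfsg.Agent.Lib.Helper27.J2
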