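import Cfsg.Agent.Lib.Helper27.J2PermMacro

/-!
# A base for the action of `J₂` on the 315 reflections

The stabiliser `Lsub` of the base reflection is `{±1} × U₁ × U₂`; an element of `2.J₂` fixing the
reflections `160, 0, 1` is `±1`.
-/

set_option autoImplicit false

namespace Cfsg.Agent.Lib.Helper27.J2
open Quaternion Cfsg.Spor

theorem center_smul {z : twoJ2} (hz : z ∈ Subgroup.center twoJ2) (x : ReflSet) : z • x = x := by
  apply Subtype.ext
  rw [smul_val]
  have h := Subgroup.mem_center_iff.1 hz (reflG x)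
  have h' : x.1 * (z : Equiv.Perm icoLeech) = z * x.1 := congrArg Subtype.val h
  rw [← h', mul_inv_cancel_right]

theorem negEl_smul (x : ReflSet) : negEl • x = x := center_smul negEl_mem_center x

theorem negEl_pow_smul (s : ℕ) (x : ReflSet) : negEl ^ s • x = x :=
  center_smul (Subgroup.pow_mem _ negEl_mem_center s) x

theorem negEl_mul_self : negEl * negEl = 1 := Subtype.ext negPerm_mul_self

theorem idx_lt : (tIdx.all fun k => decide (k < 256)) = true ∧ (u1Idx.all fun k => decide (k < 256)) = true ∧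
    (u2Idx.all fun k => decide (k < 256)) = true := by decide +kernel

/-- the index of the `i`-th element of the first transversal -/
def u1 (i : Fin 160) : ℕ := u1Idx.getD i.val 0
/-- the index of the `j`-th element of the second transversal -/
def u2 (j : Fin 12) : ℕ := u2Idx.getD j.val 0

theorem u1_mem (i : Fin 160) : u1 i ∈ u1Idx := by
  have h : i.val < u1Idx.length := by rw [u1Idx_ok.1]; exact i.2
  rw [u1, List.getD_eq_getElem _ _ h]
  exact List.getElem_mem h

theorem u2_mem (j : Fin 12) : u2 j ∈ u2Idx := by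
  have h : j.val < u2Idx.length := by rw [u2Idx_ok.1]; exact j.2
  rw [u2, List.getD_eq_getElem _ _ h]
  exact List.getElem_mem h

theorem u1_lt (i : Fin 160) : u1 i < 256 := by
  have := List.all_eq_true.1 idx_lt.2.1 _ (u1_mem i)
  simpa using this

theorem u2_lt (j : Fin 12) : u2 j < 256 := by
  have := List.all_eq_true.1 idx_lt.2.2 _ (u2_mem j)
  simpa using this

theorem u1_fix (i : Fin 160) : pget (mP (u1 i)) 160 = 160 := by
  have := List.all_eq_true.1 u1Idx_ok.2.1 _ (u1_mem i)
  simpa using this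

theorem u2_fix (j : Fin 12) : pget (mP (u2 j)) 160 = 160 ∧ pget (mP (u2 j)) 0 = 0 := by
  have := List.all_eq_true.1 u2Idx_ok.2.1 _ (u2_mem j)
  simpa using this

theorem u1_inj {i i' : Fin 160} (h : pget (mP (u1 i)) 0 = pget (mP (u1 i')) 0) : i = i' := by
  have hn := u1Idx_ok.2.2
  have hi : i.val < (u1Idx.map fun k => pget (mP k) 0).length := by
    rw [List.length_map, u1Idx_ok.1]; exact i.2
  have hi' : i'.val < (u1Idx.map fun k => pget (mP k) 0).length := by
    rw [List.length_map, u1Idx_ok.1]; exact i'.2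
  apply Fin.ext
  apply (List.Nodup.getElem_inj_iff hn (hi := hi) (hj := hi')).1
  rw [List.getElem_map, List.getElem_map]
  have e1 : u1Idx[i.val]'(by rw [u1Idx_ok.1]; exact i.2) = u1 i := by
    rw [u1, List.getD_eq_getElem]
  have e2 : u1Idx[i'.val]'(by rw [u1Idx_ok.1]; exact i'.2) = u1 i' := by
    rw [u1, List.getD_eq_getElem]
  rw [e1, e2]; exact h

theorem u2_inj {j j' : Fin 12} (h : pget (mP (u2 j)) 1 = pget (mP (u2 j')) 1) : j = j' := by
  have hn := u2Idx_ok.2.2
  have hi : j.val < (u2Idx.map fun k => pget (mP k) 1).length := by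
    rw [List.length_map, u2Idx_ok.1]; exact j.2
  have hi' : j'.val < (u2Idx.map fun k => pget (mP k) 1).length := by
    rw [List.length_map, u2Idx_ok.1]; exact j'.2
  apply Fin.ext
  apply (List.Nodup.getElem_inj_iff hn (hi := hi) (hj := hi')).1
  rw [List.getElem_map, List.getElem_map]
  have e1 : u2Idx[j.val]'(by rw [u2Idx_ok.1]; exact j.2) = u2 j := by
    rw [u2, List.getD_eq_getElem]
  have e2 : u2Idx[j'.val]'(by rw [u2Idx_ok.1]; exact j'.2) = u2 j' := by
    rw [u2, List.getD_eq_getElem]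
  rw [e1, e2]; exact h

/-- the parametrisation of the stabiliser of the base reflection -/
noncomputable def phi (p : Fin 160 × Fin 12 × Fin 2) : twoJ2 :=
  negEl ^ p.2.2.val * (mE (u1 p.1) * mE (u2 p.2.1))

theorem phi_smul_160 (p : Fin 160 × Fin 12 × Fin 2) : phi p • idxRefl 160 = idxRefl 160 := by
  rw [phi, mul_smul, mul_smul, (actsF_mE (u2_lt _)).fix (by norm_num) (u2_fix _).1,
    (actsF_mE (u1_lt _)).fix (by norm_num) (u1_fix _), negEl_pow_smul]

theorem phi_smul_0 (p : Fin 160 × Fin 12 × Fin 2) :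
    phi p • idxRefl 0 = idxRefl (pget (mP (u1 p.1)) 0) := by
  rw [phi, mul_smul, mul_smul, (actsF_mE (u2_lt _)).fix (by norm_num) (u2_fix _).2,
    (actsF_mE (u1_lt _)).apply (by norm_num), negEl_pow_smul]

theorem phi_smul_1 (p : Fin 160 × Fin 12 × Fin 2) :
    phi p • idxRefl 1 = mE (u1 p.1) • idxRefl (pget (mP (u2 p.2.1)) 1) := by
  rw [phi, mul_smul, mul_smul, (actsF_mE (u2_lt _)).apply (by norm_num), negEl_pow_smul]

theorem phi_mem (p : Fin 160 × Fin 12 × Fin 2) : phi p ∈ Lsub := by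
  rw [MulAction.mem_stabilizer_iff, ← idxRefl_160]
  exact phi_smul_160 p

/-- two parameters with the same action on the reflections `0` and `1` agree up to the sign -/
theorem phi_param_eq {p q : Fin 160 × Fin 12 × Fin 2} (h0 : phi p • idxRefl 0 = phi q • idxRefl 0)
    (h1 : phi p • idxRefl 1 = phi q • idxRefl 1) : p.1 = q.1 ∧ p.2.1 = q.2.1 := by
  rw [phi_smul_0, phi_smul_0] at h0
  have hb : ∀ i : Fin 160, pget (mP (u1 i)) 0 < 315 := fun i =>
    ((actsF_mE (u1_lt i)) 0 (by norm_num)).1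
  have e1 : p.1 = q.1 := u1_inj (idxRefl_inj (hb _) (hb _) h0)
  refine ⟨e1, ?_⟩
  rw [phi_smul_1, phi_smul_1, e1] at h1
  have h2 := smul_left_cancel _ h1
  have hb2 : ∀ j : Fin 12, pget (mP (u2 j)) 1 < 315 := fun j =>
    ((actsF_mE (u2_lt j)) 1 (by norm_num)).1
  exact u2_inj (idxRefl_inj (hb2 _) (hb2 _) h2)

theorem negEl_pow_fin_inj {s t : Fin 2} (h : negEl ^ s.val = negEl ^ t.val) : s = t := by
  have hne : negEl ≠ 1 := fun h => negPerm_ne_one (congrArg Subtype.val h)
  fin_cases s <;> fin_cases t <;> simp_all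

theorem phi_injective : Function.Injective phi := by
  intro p q h
  obtain ⟨e1, e2⟩ := phi_param_eq (p := p) (q := q) (by rw [h]) (by rw [h])
  have e3 : p.2.2 = q.2.2 := by
    rw [phi, phi, e1, e2] at h
    exact negEl_pow_fin_inj (mul_right_cancel h)
  exact Prod.ext e1 (Prod.ext e2 e3)

theorem exists_phi {m : twoJ2} (hm : m ∈ Lsub) : ∃ p, phi p = m := by
  let Φ : Fin 160 × Fin 12 × Fin 2 → Lsub := fun p => ⟨phi p, phi_mem p⟩
  have hinj : Function.Injective Φ := fun p q h => phi_injective (congrArg Subtype.val h)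
  have hbij := hinj.bijective_of_nat_card_le (by
    rw [card_Lsub]; simp [Nat.card_prod])
  obtain ⟨p, hp⟩ := hbij.2 ⟨m, hm⟩
  exact ⟨p, congrArg Subtype.val hp⟩

/-- an element fixing the reflections `160`, `0`, `1` is `±1` -/
theorem central_of_fix3 {h : twoJ2} (h160 : h • idxRefl 160 = idxRefl 160)
    (h0 : h • idxRefl 0 = idxRefl 0) (h1 : h • idxRefl 1 = idxRefl 1) : h = 1 ∨ h = negEl := by
  have hm : h ∈ Lsub := by
    rw [MulAction.mem_stabilizer_iff, ← idxRefl_160]; exact h160
  obtain ⟨p, hp⟩ := exists_phi hm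
  obtain ⟨q, hq⟩ := exists_phi (Subgroup.one_mem Lsub)
  obtain ⟨e1, e2⟩ := phi_param_eq (p := p) (q := q) (by rw [hp, hq, h0, one_smul])
    (by rw [hp, hq, h1, one_smul])
  have hh : h = negEl ^ p.2.2.val * (negEl ^ q.2.2.val)⁻¹ := by
    rw [← hp, eq_mul_inv_iff_mul_eq]
    have : phi q = 1 := hq
    rw [phi] at this
    rw [phi, e1, e2]
    have h3 : mE (u1 q.1) * mE (u2 q.2.1) = (negEl ^ q.2.2.val)⁻¹ := by
      rw [eq_inv_iff_mul_eq_one,
        Subgroup.mem_center_iff.1 (Subgroup.pow_mem _ negEl_mem_center _) _]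
      exact this
    rw [h3]
    group
  rw [hh]
  have hs := negEl_mul_self
  have hi : negEl⁻¹ = negEl := inv_eq_of_mul_eq_one_right hs
  rcases p with ⟨_, _, s⟩
  rcases q with ⟨_, _, t⟩
  fin_cases s <;> fin_cases t <;> simp [hi, hs]

end Cfsg.Agent.Lib.Helper27.J2
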