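import Cfsg.Agent.Lib.Helper27.J2Perm

/-!
# The macro elements of `2.J₂` and their packed permutations
-/

set_option autoImplicit false

namespace Cfsg.Agent.Lib.Helper27.J2
open Quaternion Cfsg.Spor

/-- build the list of elements: each new one is the product of the listed earlier ones -/
noncomputable def buildEls : List (List ℕ) → List twoJ2 → List twoJ2
  | [], acc => acc
  | d :: ds, acc => buildEls ds (acc ++ [(d.map fun i => acc.getD i 1).prod])

noncomputable def macroEls : List twoJ2 := buildEls macroDefs genEls

/-- the `k`-th macro element -/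
noncomputable def mE (k : ℕ) : twoJ2 := macroEls.getD k 1

theorem mP_gen : ∀ a < 4, mP a = genPerm.getD a 0 := by decide +kernel

theorem buildEls_length : ∀ (ds : List (List ℕ)) (acc : List twoJ2),
    (buildEls ds acc).length = acc.length + ds.length := by
  intro ds
  induction ds with
  | nil => intro acc; simp [buildEls]
  | cons d ds ih => intro acc; rw [buildEls, ih]; simp; omega

theorem actsF_prod (acc : List twoJ2) (hacc : ∀ k < acc.length, ActsF (acc.getD k 1) (pget (mP k))) :
    ∀ d : List ℕ, (∀ i ∈ d, i < acc.length) →
      ActsF (d.map fun i => acc.getD i 1).prod (fun j => (d.map fun i => macroPerms.getD i 0).foldr pget j) := by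
  intro d
  induction d with
  | nil => intro _; exact ActsF.one
  | cons i d ih =>
    intro hd
    rw [List.map_cons, List.prod_cons]
    have h1 := hacc i (hd i List.mem_cons_self)
    have h2 := ih fun i' hi' => hd i' (List.mem_cons_of_mem _ hi')
    exact (h1.mul h2).congr fun j _ => rfl

theorem chkComp_spec {p : ℕ} {qs : List ℕ} (h : chkComp p qs = true) :
    ∀ j < 315, qs.foldr pget j = pget p j := by
  intro j hj
  simp only [chkComp, List.all_eq_true, List.mem_range, beq_iff_eq] at h
  exact (h j hj).symm

theorem buildEls_acts : ∀ (ds : List (List ℕ)) (acc : List twoJ2),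
    (∀ k < acc.length, ActsF (acc.getD k 1) (pget (mP k))) →
    runMacros ds acc.length = true →
    ∀ k < (buildEls ds acc).length, ActsF ((buildEls ds acc).getD k 1) (pget (mP k)) := by
  intro ds
  induction ds with
  | nil => intro acc hacc _ k hk; exact hacc k hk
  | cons d ds ih =>
    intro acc hacc hrun k hk
    simp only [runMacros, Bool.and_eq_true] at hrun
    obtain ⟨hok, hrest⟩ := hrun
    simp only [macroOK, Bool.and_eq_true, List.all_eq_true, decide_eq_true_eq] at hok
    obtain ⟨hlt, hchk⟩ := hok
    rw [buildEls] at hk ⊢
    apply ih _ ?_ (by simpa using hrest) k hk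
    intro k' hk'
    rw [List.length_append, List.length_singleton] at hk'
    rcases Nat.lt_succ_iff_lt_or_eq.1 hk' with h1 | h1
    · rw [List.getD_append _ _ _ _ h1]
      exact hacc k' h1
    · subst h1
      rw [List.getD_append_right _ _ _ _ (le_refl _), Nat.sub_self]
      simp only [List.getD_cons_zero]
      exact (actsF_prod acc hacc d hlt).congr (chkComp_spec hchk)

theorem genEls_length : genEls.length = 4 := by simp [genEls, genIdx]

theorem actsF_genEls : ∀ k < genEls.length, ActsF (genEls.getD k 1) (pget (mP k)) := by
  intro k hk
  rw [genEls_length] at hk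
  rw [mP_gen k hk]
  have h4 : k = 0 ∨ k = 1 ∨ k = 2 ∨ k = 3 := by omega
  rcases h4 with rfl | rfl | rfl | rfl
  · exact actsF_gen_of_check genCheck_ok0
  · exact actsF_gen_of_check genCheck_ok1
  · exact actsF_gen_of_check genCheck_ok2
  · exact actsF_gen_of_check genCheck_ok3

theorem macroEls_length : macroEls.length = 256 := by
  rw [macroEls, buildEls_length, genEls_length, macro_lengths.1]

/-- every macro element acts by its packed permutation -/
theorem actsF_mE {k : ℕ} (hk : k < 256) : ActsF (mE k) (pget (mP k)) := by
  have h := buildEls_acts macroDefs genEls actsF_genEls (by rw [genEls_length]; exact macros_ok) k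
    (by rw [← macroEls, macroEls_length]; exact hk)
  exact h

end Cfsg.Agent.Lib.Helper27.J2
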