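import Cfsg.Agent.Lib.Helper27.J2PrimData
import Cfsg.Agent.Lib.Helper27.SuborbitSimple

/-!
# `J₂` acts primitively on the 315 reflections
-/

set_option autoImplicit false

namespace Cfsg.Agent.Lib.Helper27.J2
open Quaternion Cfsg.Spor

/-! ### words of reflections -/

/-- the group element of a word of reflections -/
noncomputable def wordPerm (w : List V3) : Equiv.Perm icoLeech := (w.map reflOf).prod

theorem wordPerm_mem {w : List V3} (hw : ∀ A ∈ w, A ∈ RepAll) : wordPerm w ∈ twoJ2 := by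
  induction w with
  | nil => exact Subgroup.one_mem _
  | cons A w ih =>
    rw [wordPerm, List.map_cons, List.prod_cons]
    exact Subgroup.mul_mem _ (reflOf_mem (hw A List.mem_cons_self))
      (ih fun B hB => hw B (List.mem_cons_of_mem _ hB))

theorem wordM_spec {w : List V3} (hw : ∀ A ∈ w, A ∈ RepAll) (V : V3) (hV : inLam V = true)
    (x : icoLeech) (hx : (x : Fin 3 → ℍ[ℝ]) = embV V) :
    inLam (wordM w V) = true ∧ ((wordPerm w x : icoLeech) : Fin 3 → ℍ[ℝ]) = embV (wordM w V) := by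
  induction w with
  | nil => exact ⟨hV, hx⟩
  | cons A w ih =>
    obtain ⟨h1, h2⟩ := ih fun B hB => hw B (List.mem_cons_of_mem _ hB)
    have hA := hw A List.mem_cons_self
    have h3 : embV (wordM (A :: w) V) = qrefl (embV A) (embV (wordM w V)) :=
      embV_reflM (RepAll_min A hA).1 h1
    constructor
    · rw [← embV_mem_icoLeech_iff, h3]
      exact qrefl_mem (embV_mem_of_RepAll hA) ((embV_mem_icoLeech_iff _).2 h1)
    · rw [h3, ← h2]
      change (((reflOf A * wordPerm w) x : icoLeech) : Fin 3 → ℍ[ℝ]) = _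
      rw [Equiv.Perm.mul_apply, reflOf_apply hA]

/-! ### reaching the lines from the roots by the stabiliser of the line of `e1` -/

/-- `g` stabilises the line of `e1` -/
def FixLine (g : Equiv.Perm icoLeech) : Prop :=
  ∃ c : Ic, c.Tq = 16 ∧ ((g e1 : icoLeech) : Fin 3 → ℍ[ℝ]) = smulV (emb c) (embV E1)

theorem fixLine_gen {p : List V3 × Ic} (hp : p ∈ gensL) : FixLine (wordPerm p.1) := by
  obtain ⟨h1, h2, h3⟩ := gensL_ok p hp
  refine ⟨p.2, h2, ?_⟩
  rw [(wordM_spec h1 E1 (RepAll_min E1 E1_mem).1 e1 rfl).2, h3, embV_smulM]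

theorem FixLine.mul {g k : Equiv.Perm icoLeech} (hg : FixLine g) (hgU : IsUni g) (hk : FixLine k) :
    FixLine (g * k) := by
  obtain ⟨c, hc, hge⟩ := hg
  obtain ⟨d, hd, hke⟩ := hk
  obtain ⟨hc1, hc2⟩ := unit_of_Tq hc
  obtain ⟨hd1, hd2⟩ := unit_of_Tq hd
  obtain ⟨x, hx⟩ := exists_of_mem_icosians
    (Subring.mul_mem _ (emb_mem_icosians d) (emb_mem_icosians c))
  refine ⟨x, ?_, ?_⟩
  · apply Tq_of_nrm_one
    rw [hx, star_mul, mul_assoc, ← mul_assoc (emb c), hc2, one_mul, hd2]
  · rw [Equiv.Perm.mul_apply, hgU.smul (emb d) (emb_mem_icosians d) e1 (k e1) hke, hge, smulV_smulV, hx]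

/-- `R` (up to a unit) is the image of the root `Rep315[r]` under an element stabilising the line of `e1` -/
def ReachL (r : ℕ) (R : V3) : Prop :=
  ∃ R0, Rep315[r]? = some R0 ∧ ∃ g ∈ twoJ2, FixLine g ∧ ∃ x0 : icoLeech,
    (x0 : Fin 3 → ℍ[ℝ]) = embV R0 ∧ ∃ u ∈ icosians, u * star u = 1 ∧
      ((g x0 : icoLeech) : Fin 3 → ℍ[ℝ]) = smulV u (embV R)

theorem Rep315_inLam {R : V3} (hR : R ∈ Rep315) : inLam R = true :=
  (RepAll_min R (Rep315_sub R hR)).1

theorem reachL_root {r : ℕ} {R0 : V3} (h : Rep315[r]? = some R0) : ReachL r R0 := by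
  have hR0 : R0 ∈ Rep315 := List.mem_of_getElem? h
  refine ⟨R0, h, 1, Subgroup.one_mem _, ⟨Ic.one, Tq_one, ?_⟩,
    ⟨embV R0, (embV_mem_icoLeech_iff R0).2 (Rep315_inLam hR0)⟩, rfl, 1, Subring.one_mem _, by simp, ?_⟩
  · rw [emb_one, smulV_one]; rfl
  · rw [smulV_one]; rfl

theorem reachL_step {r : ℕ} {R R' : V3} {p : List V3 × Ic} {c : Ic} (hR : ReachL r R)
    (hRm : R ∈ Rep315) (hp : p ∈ gensL) (hc : c.Tq = 16) (h : wordM p.1 R = smulM c R') :
    ReachL r R' := by
  obtain ⟨R0, hR0, g, hg, hgF, x0, hx0, u, hu, hu1, hgx⟩ := hR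
  obtain ⟨h1, h2, h3⟩ := gensL_ok p hp
  obtain ⟨hc1, hc2⟩ := unit_of_Tq hc
  have hkm := wordPerm_mem h1
  let x : icoLeech := ⟨embV R, (embV_mem_icoLeech_iff R).2 (Rep315_inLam hRm)⟩
  have hw := (wordM_spec h1 R (Rep315_inLam hRm) x rfl).2
  refine ⟨R0, hR0, wordPerm p.1 * g, Subgroup.mul_mem _ hkm hg,
    (fixLine_gen hp).mul (isUni_of_mem hkm) hgF, x0, hx0, u * emb c,
    Subring.mul_mem _ hu (emb_mem_icosians c), ?_, ?_⟩
  · rw [star_mul, mul_assoc, ← mul_assoc (emb c), hc2, one_mul, hu1]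
  · rw [Equiv.Perm.mul_apply, (isUni_of_mem hkm).smul u hu x (g x0) hgx, hw, h, embV_smulM,
      smulV_smulV]

theorem runLineSteps_reach : ∀ (ss : List (ℕ × ℕ × ℕ × ℕ × Ic)) (l l' : List (ℕ × ℕ)),
    (∀ q ∈ l, ∀ R, Rep315[q.1]? = some R → ReachL q.2 R) →
    runLineSteps l ss = some l' → ∀ q ∈ l', ∀ R, Rep315[q.1]? = some R → ReachL q.2 R := by
  intro ss
  induction ss with
  | nil =>
    intro l l' hl h
    simp only [runLineSteps, Option.some.injEq] at h
    subst h; exact hl
  | cons s ss ih =>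
    intro l l' hl h
    simp only [runLineSteps] at h
    split_ifs at h with hs
    apply ih ((s.1, s.2.2.1) :: l) l' ?_ h
    intro q hq R hR
    rcases List.mem_cons.1 hq with rfl | hq
    · simp only [lineStepOK, Bool.and_eq_true, List.contains_iff_mem, beq_iff_eq] at hs
      obtain ⟨⟨h1, h2⟩, h3⟩ := hs
      simp only at hR
      rw [hR] at h3
      cases hp : Rep315[s.2.1]? with
      | none => rw [hp] at h3; simp at h3
      | some Rp =>
        cases hγ : gensL[s.2.2.2.1]? with
        | none => rw [hp, hγ] at h3; simp at h3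
        | some γ =>
          rw [hp, hγ] at h3
          simp only [beq_iff_eq] at h3
          exact reachL_step (hl _ h1 Rp hp) (List.mem_of_getElem? hp) (List.mem_of_getElem? hγ) h2 h3
    · exact hl q hq R hR

theorem rootList_reach : ∀ q ∈ rootList, ∀ R, Rep315[q.1]? = some R → ReachL q.2 R := by
  intro q hq R hR
  simp only [rootList, List.mem_cons, List.not_mem_nil, or_false] at hq
  rcases hq with rfl | rfl | rfl | rfl | rfl | rfl <;> exact reachL_root hR

/-- every line is reached from the root of its class -/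
theorem reachL_of_index {j : ℕ} (hj : j < 315) {R : V3} (hR : Rep315[j]? = some R) :
    ReachL (rootOf (classLit.getD j 0)) R := by
  have h := lineSteps_ok
  cases hr : runLineSteps rootList lineSteps with
  | none => rw [hr] at h; simp at h
  | some l =>
    rw [hr] at h
    simp only [Option.map_some, Option.some.injEq, List.all_eq_true, List.mem_range,
      List.contains_iff_mem] at h
    exact runLineSteps_reach lineSteps rootList l rootList_reach hr _ (h j hj) R hR

theorem lineClass_eq {j : ℕ} {R : V3} (hR : Rep315[j]? = some R) : classLit.getD j 0 = lineClass R := by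
  have h1 : (Rep315.map lineClass)[j]? = some (lineClass R) := by
    rw [List.getElem?_map, hR]; rfl
  rw [classLit_eq] at h1
  rw [List.getD_eq_getElem?_getD, h1]; rfl

theorem reachL_of_mem {R : V3} (hR : R ∈ Rep315) : ReachL (rootOf (lineClass R)) R := by
  obtain ⟨j, hj, hjR⟩ := List.mem_iff_getElem.1 hR
  have h1 : Rep315[j]? = some R := by rw [List.getElem?_eq_getElem hj, hjR]
  rw [← lineClass_eq h1]
  exact reachL_of_index (by rw [← Rep315_length]; exact hj) h1

end Cfsg.Agent.Lib.Helper27.J2
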