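import Cfsg.Agent.Lib.Helper27.J2Order

/-!
# Data for the primitivity of `J₂` on the 315 lines: the suborbits of the stabiliser of a line
-/

set_option autoImplicit false

namespace Cfsg.Agent.Lib.Helper27.J2

/-- apply a word of reflections (the head is applied last) -/
def wordM (w : List V3) (V : V3) : V3 := w.foldr reflM V

/-- generators of the stabiliser of the line of `(2,0,0)`: a word of reflections and the unit `c`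
with `word (2,0,0) = c • (2,0,0)` -/
def gensL : List (List V3 × Ic) := [
  ([⟨⟨0, 0, 0, 0, 0, 0, 0, 0⟩, ⟨0, 0, 0, 0, 0, 0, 0, 0⟩, ⟨2, 0, 0, 0, 0, 0, 0, 0⟩⟩], ⟨1, 0, 0, 0, 0, 0, 0, 0⟩),
  ([⟨⟨0, 0, 0, 0, 0, 0, 0, 0⟩, ⟨2, 0, 0, 0, 0, 0, 0, 0⟩, ⟨0, 0, 0, 0, 0, 0, 0, 0⟩⟩], ⟨1, 0, 0, 0, 0, 0, 0, 0⟩),
  ([⟨⟨0, 0, 0, 0, 0, 0, 0, 0⟩, ⟨-1, 2, 0, -2, -2, 0, 1, -1⟩, ⟨1, -2, 0, 2, 2, 0, -1, 1⟩⟩], ⟨1, 0, 0, 0, 0, 0, 0, 0⟩),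
  ([⟨⟨0, 0, 0, 0, 0, 0, 0, 0⟩, ⟨-1, 2, 0, -2, -2, 0, 1, -1⟩, ⟨1, 0, 0, 0, 0, 0, 1, 1⟩⟩], ⟨1, 0, 0, 0, 0, 0, 0, 0⟩),
  ([⟨⟨0, 0, 0, 0, 0, 0, 0, 0⟩, ⟨-1, 2, 0, -2, -2, 0, 1, -1⟩, ⟨1, 0, 0, 0, 2, 0, -1, 1⟩⟩], ⟨1, 0, 0, 0, 0, 0, 0, 0⟩),
  ([⟨⟨0, 0, 0, 0, 0, 0, 0, 0⟩, ⟨-1, 2, 0, -2, -2, 0, 1, -1⟩, ⟨1, 0, 0, 0, 0, 2, -1, -1⟩⟩], ⟨1, 0, 0, 0, 0, 0, 0, 0⟩),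
  ([⟨⟨0, 0, 0, 0, 0, 0, 0, 0⟩, ⟨-1, 2, 0, -2, -2, 0, 1, -1⟩, ⟨-1, 0, 0, 0, 0, -2, 1, 1⟩⟩], ⟨1, 0, 0, 0, 0, 0, 0, 0⟩),
  ([⟨⟨0, 0, 0, 0, 0, 0, 0, 0⟩, ⟨-1, 2, 0, -2, -2, 0, 1, -1⟩, ⟨-1, 0, 0, 0, -2, 0, 1, -1⟩⟩], ⟨1, 0, 0, 0, 0, 0, 0, 0⟩),
  ([⟨⟨0, 0, 0, 0, 0, 0, 0, 0⟩, ⟨-1, 2, 0, -2, -2, 0, 1, -1⟩, ⟨-1, 0, 0, 0, 0, 0, -1, -1⟩⟩], ⟨1, 0, 0, 0, 0, 0, 0, 0⟩),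
  ([⟨⟨0, 0, 0, 0, 0, 0, 0, 0⟩, ⟨-1, 2, 0, -2, -2, 0, 1, -1⟩, ⟨-1, 2, 0, -2, -2, 0, 1, -1⟩⟩], ⟨1, 0, 0, 0, 0, 0, 0, 0⟩),
  ([⟨⟨2, 0, 0, 0, 0, 0, 0, 0⟩, ⟨0, 0, 0, 0, 0, 0, 0, 0⟩, ⟨0, 0, 0, 0, 0, 0, 0, 0⟩⟩], ⟨-1, 0, 0, 0, 0, 0, 0, 0⟩),
  ([⟨⟨-1, 2, 0, -2, -2, 0, 1, -1⟩, ⟨1, 0, 0, 0, 0, 0, 1, 1⟩, ⟨0, 0, 0, 0, 0, 0, 0, 0⟩⟩, ⟨⟨-1, 2, 0, -2, -2, 0, 1, -1⟩, ⟨1, -2, 0, 2, 2, 0, -1, 1⟩, ⟨0, 0, 0, 0, 0, 0, 0, 0⟩⟩], ⟨0, -1, 0, 0, 0, 0, 0, 0⟩),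
  ([⟨⟨-1, 2, 0, -2, -2, 0, 1, -1⟩, ⟨1, 0, 0, 0, 2, 0, -1, 1⟩, ⟨0, 0, 0, 0, 0, 0, 0, 0⟩⟩, ⟨⟨-1, 2, 0, -2, -2, 0, 1, -1⟩, ⟨1, -2, 0, 2, 2, 0, -1, 1⟩, ⟨0, 0, 0, 0, 0, 0, 0, 0⟩⟩], ⟨0, -1, 1, 1, 1, -1, 0, 2⟩),
  ([⟨⟨0, 0, 0, 0, 0, 2, -1, -1⟩, ⟨-1, 0, 0, 0, 0, 0, 0, 0⟩, ⟨1, 0, 0, 0, 0, 0, 0, 0⟩⟩, ⟨⟨0, 0, 0, 0, 0, 0, -1, 1⟩, ⟨-1, 0, 0, 0, 0, 0, 0, 0⟩, ⟨1, 0, 0, 0, 0, 0, 0, 0⟩⟩], ⟨1, 0, -1, 1, 0, 1, -1, 0⟩)]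

theorem gensL_ok : ∀ p ∈ gensL, (∀ A ∈ p.1, A ∈ RepAll) ∧ p.2.Tq = 16 ∧ wordM p.1 E1 = smulM p.2 E1 := by
  decide +kernel

def Ic.tau2 : Ic := ⟨2, -1, 0, 1, 1, 0, 0, 0⟩
def Ic.sig2 : Ic := ⟨1, 1, 0, -1, -1, 0, 0, 0⟩

/-- the class of a line: the norm of the first coordinate -/
def lineClass (R : V3) : ℕ :=
  let n := R.x.mul R.x.conj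
  if n = Ic.zero then 0 else if n = Ic.tau2 then 1 else if n = Ic.sig2 then 2
  else if n = Ic.two then 3 else if n = Ic.one then 4 else 5

def classLit : List ℕ := [4, 4, 4, 4, 4, 4, 4, 4, 4, 4, 4, 4, 4, 4, 4, 4, 4, 4, 4, 4, 4, 4, 4, 4, 4, 4, 4, 4, 4, 4, 4, 4, 4, 4, 4, 4, 4, 4, 4, 4, 4, 4, 4, 4, 4, 4, 4, 4, 4, 4, 4, 4, 4, 4, 4, 4, 4, 4, 4, 4, 4, 4, 4, 4, 4, 4, 4, 4, 4, 4, 4, 4, 4, 4, 4, 4, 4, 4, 4, 4, 4, 4, 4, 4, 4, 4, 4, 4, 4, 4, 4, 4, 4, 4, 4, 4, 4, 4, 4, 4, 4, 4, 4, 4, 4, 4, 4, 4, 4, 4, 4, 4, 4, 4, 4, 4, 4, 4, 4, 4, 4, 4, 4, 4, 4, 4, 4, 4, 4, 4, 4, 4, 4, 4, 4, 4, 4, 4, 4, 4, 4, 4, 4, 4, 4, 4, 4, 4, 4, 4, 4, 4, 4, 4, 4, 4, 4, 4, 4, 4, 5, 3, 3, 3, 3, 3, 3, 3, 3,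 1, 1, 1, 1, 1, 1, 1, 1, 2, 2, 2, 2, 2, 2, 2, 2, 2, 2, 2, 2, 2, 2, 2, 2, 1, 1, 1, 1, 1, 1, 1, 1, 3, 3, 3, 3, 3, 3, 3, 3, 3, 3, 3, 3, 3, 3, 3, 3, 3, 3, 3, 3, 3, 3, 3, 3, 3, 3, 3, 3, 3, 3, 3, 3, 3, 3, 3, 3, 3, 3, 3, 3, 3, 3, 3, 3, 3, 3, 3, 3, 3, 3, 3, 3, 3, 3, 3, 3, 3, 3, 3, 3, 3, 3, 3, 3, 0, 3, 3, 3, 3, 3, 3, 3, 3, 2, 2, 2, 2, 2, 2, 2, 2, 1, 1, 1, 1, 1, 1, 1, 1, 1, 1, 1, 1, 1, 1, 1, 1, 2, 2, 2, 2, 2, 2, 2, 2, 0, 0, 0, 0, 0, 0, 0, 0, 0]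

theorem classLit_eq : Rep315.map lineClass = classLit := by decide +kernel

/-- the root of each class -/
def rootOf (k : ℕ) : ℕ := [265, 169, 177, 161, 0, 160].getD k 0

/-- steps `(j, p, r, γ, c)`: `gensL[γ] (Rep315[p]) = c • Rep315[j]`, where `p` is reached from the root `r` -/
def lineSteps : List (ℕ × ℕ × ℕ × ℕ × Ic) := [
  (7, 0, 0, 0, ⟨1, 0, 0, 0, 0, 0, 0, 0⟩),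
  (56, 0, 0, 1, ⟨1, 0, 0, 0, 0, 0, 0, 0⟩),
  (96, 0, 0, 2, ⟨1, 0, 0, 0, 0, 0, 0, 0⟩),
  (126, 0, 0, 3, ⟨1, 0, 0, 0, 0, 0, 0, 0⟩),
  (114, 0, 0, 4, ⟨1, 0, 0, 0, 0, 0, 0, 0⟩),
  (118, 0, 0, 5, ⟨1, 0, 0, 0, 0, 0, 0, 0⟩),
  (137, 0, 0, 6, ⟨1, 0, 0, 0, 0, 0, 0, 0⟩),
  (141, 0, 0, 7, ⟨1, 0, 0, 0, 0, 0, 0, 0⟩),
  (129, 0, 0, 8, ⟨1, 0, 0, 0, 0, 0, 0, 0⟩),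
  (159, 0, 0, 9, ⟨1, 0, 0, 0, 0, 0, 0, 0⟩),
  (63, 0, 0, 10, ⟨-1, 0, 0, 0, 0, 0, 0, 0⟩),
  (60, 0, 0, 11, ⟨0, -1, 0, 0, 0, 0, 0, 0⟩),
  (61, 0, 0, 12, ⟨0, -1, 1, 1, 1, -1, 0, 2⟩),
  (140, 0, 0, 13, ⟨1, 0, -1, 1, 0, 1, -1, 0⟩),
  (158, 7, 0, 2, ⟨1, 0, 0, 0, 0, 0, 0, 0⟩),
  (128, 7, 0, 3, ⟨1, 0, 0, 0, 0, 0, 0, 0⟩),
  (136, 7, 0, 5, ⟨1, 0, 0, 0, 0, 0, 0, 0⟩),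
  (119, 7, 0, 6, ⟨1, 0, 0, 0, 0, 0, 0, 0⟩),
  (115, 7, 0, 7, ⟨1, 0, 0, 0, 0, 0, 0, 0⟩),
  (127, 7, 0, 8, ⟨1, 0, 0, 0, 0, 0, 0, 0⟩),
  (97, 7, 0, 9, ⟨1, 0, 0, 0, 0, 0, 0, 0⟩),
  (59, 7, 0, 11, ⟨0, -1, 0, 0, 0, 0, 0, 0⟩),
  (58, 7, 0, 12, ⟨0, -1, 1, 1, 1, -1, 0, 2⟩),
  (11, 7, 0, 13, ⟨1, 0, -1, 1, 0, 1, -1, 0⟩),
  (4, 56, 0, 11, ⟨0, -1, 0, 0, 0, 0, 0, 0⟩),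
  (5, 56, 0, 12, ⟨0, -1, 1, 1, 1, -1, 0, 2⟩),
  (52, 56, 0, 13, ⟨1, 0, -1, 1, 0, 1, -1, 0⟩),
  (45, 96, 0, 4, ⟨1, 0, 0, 0, 0, 0, 0, 0⟩),
  (36, 96, 0, 5, ⟨1, 0, 0, 0, 0, 0, 0, 0⟩),
  (27, 96, 0, 6, ⟨1, 0, 0, 0, 0, 0, 0, 0⟩),
  (18, 96, 0, 7, ⟨1, 0, 0, 0, 0, 0, 0, 0⟩),
  (156, 96, 0, 11, ⟨0, -1, 0, 0, 0, 0, 0, 0⟩),
  (154, 96, 0, 12, ⟨0, -1, 1, 1, 1, -1, 0, 2⟩),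
  (21, 96, 0, 13, ⟨1, 0, -1, 1, 0, 1, -1, 0⟩),
  (35, 126, 0, 4, ⟨1, 0, 0, 0, 0, 0, 0, 0⟩),
  (42, 126, 0, 6, ⟨1, 0, 0, 0, 0, 0, 0, 0⟩),
  (28, 126, 0, 7, ⟨1, 0, 0, 0, 0, 0, 0, 0⟩),
  (131, 126, 0, 11, ⟨0, -1, 0, 0, 0, 0, 0, 0⟩),
  (149, 126, 0, 12, ⟨0, -1, 1, 1, 1, -1, 0, 2⟩),
  (51, 114, 0, 5, ⟨1, 0, 0, 0, 0, 0, 0, 0⟩),
  (12, 114, 0, 6, ⟨1, 0, 0, 0, 0, 0, 0, 0⟩),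
  (146, 114, 0, 11, ⟨0, -1, 0, 0, 0, 0, 0, 0⟩),
  (133, 114, 0, 12, ⟨0, -1, 1, 1, 1, -1, 0, 2⟩),
  (135, 118, 0, 11, ⟨0, -1, 0, 0, 0, 0, 0, 0⟩),
  (144, 118, 0, 12, ⟨0, -1, 1, 1, 1, -1, 0, 2⟩),
  (120, 137, 0, 11, ⟨0, -1, 0, 0, 0, 0, 0, 0⟩),
  (111, 137, 0, 12, ⟨0, -1, 1, 1, 1, -1, 0, 2⟩),
  (109, 141, 0, 11, ⟨0, -1, 0, 0, 0, 0, 0, 0⟩),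
  (122, 141, 0, 12, ⟨0, -1, 1, 1, 1, -1, 0, 2⟩),
  (124, 129, 0, 11, ⟨0, -1, 0, 0, 0, 0, 0, 0⟩),
  (106, 129, 0, 12, ⟨0, -1, 1, 1, 1, -1, 0, 2⟩),
  (99, 159, 0, 11, ⟨0, -1, 0, 0, 0, 0, 0, 0⟩),
  (101, 159, 0, 12, ⟨0, -1, 1, 1, 1, -1, 0, 2⟩),
  (3, 63, 0, 11, ⟨0, -1, 0, 0, 0, 0, 0, 0⟩),
  (2, 63, 0, 12, ⟨0, -1, 1, 1, 1, -1, 0, 2⟩),
  (1, 60, 0, 12, ⟨0, -1, 1, 1, 1, -1, 0, 2⟩),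
  (33, 60, 0, 13, ⟨1, 0, -1, 1, 0, 1, -1, 0⟩),
  (6, 61, 0, 11, ⟨0, -1, 0, 0, 0, 0, 0, 0⟩),
  (147, 61, 0, 13, ⟨1, 0, -1, 1, 0, 1, -1, 0⟩),
  (108, 140, 0, 11, ⟨0, -1, 0, 0, 0, 0, 0, 0⟩),
  (123, 140, 0, 12, ⟨0, -1, 1, 1, 1, -1, 0, 2⟩),
  (98, 158, 0, 11, ⟨0, -1, 0, 0, 0, 0, 0, 0⟩),
  (100, 158, 0, 12, ⟨0, -1, 1, 1, 1, -1, 0, 2⟩),
  (125, 128, 0, 11, ⟨0, -1, 0, 0, 0, 0, 0, 0⟩),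
  (107, 128, 0, 12, ⟨0, -1, 1, 1, 1, -1, 0, 2⟩),
  (121, 136, 0, 11, ⟨0, -1, 0, 0, 0, 0, 0, 0⟩),
  (110, 136, 0, 12, ⟨0, -1, 1, 1, 1, -1, 0, 2⟩),
  (134, 119, 0, 11, ⟨0, -1, 0, 0, 0, 0, 0, 0⟩),
  (145, 119, 0, 12, ⟨0, -1, 1, 1, 1, -1, 0, 2⟩),
  (132, 115, 0, 12, ⟨0, -1, 1, 1, 1, -1, 0, 2⟩),
  (130, 127, 0, 11, ⟨0, -1, 0, 0, 0, 0, 0, 0⟩),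
  (148, 127, 0, 12, ⟨0, -1, 1, 1, 1, -1, 0, 2⟩),
  (157, 97, 0, 11, ⟨0, -1, 0, 0, 0, 0, 0, 0⟩),
  (155, 97, 0, 12, ⟨0, -1, 1, 1, 1, -1, 0, 2⟩),
  (48, 11, 0, 11, ⟨0, -1, 0, 0, 0, 0, 0, 0⟩),
  (9, 11, 0, 12, ⟨0, -1, 1, 1, 1, -1, 0, 2⟩),
  (57, 4, 0, 12, ⟨0, -1, 1, 1, 1, -1, 0, 2⟩),
  (62, 5, 0, 11, ⟨0, -1, 0, 0, 0, 0, 0, 0⟩),
  (15, 52, 0, 11, ⟨0, -1, 0, 0, 0, 0, 0, 0⟩),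
  (54, 52, 0, 12, ⟨0, -1, 1, 1, 1, -1, 0, 2⟩),
  (43, 45, 0, 11, ⟨0, -1, 0, 0, 0, 0, 0, 0⟩),
  (23, 45, 0, 12, ⟨0, -1, 1, 1, 1, -1, 0, 2⟩),
  (37, 36, 0, 11, ⟨0, -1, 0, 0, 0, 0, 0, 0⟩),
  (26, 27, 0, 11, ⟨0, -1, 0, 0, 0, 0, 0, 0⟩),
  (30, 27, 0, 12, ⟨0, -1, 1, 1, 1, -1, 0, 2⟩),
  (20, 18, 0, 11, ⟨0, -1, 0, 0, 0, 0, 0, 0⟩),
  (40, 18, 0, 12, ⟨0, -1, 1, 1, 1, -1, 0, 2⟩),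
  (103, 156, 0, 12, ⟨0, -1, 1, 1, 1, -1, 0, 2⟩),
  (102, 154, 0, 11, ⟨0, -1, 0, 0, 0, 0, 0, 0⟩),
  (44, 154, 0, 13, ⟨1, 0, -1, 1, 0, 1, -1, 0⟩),
  (19, 21, 0, 11, ⟨0, -1, 0, 0, 0, 0, 0, 0⟩),
  (47, 21, 0, 12, ⟨0, -1, 1, 1, 1, -1, 0, 2⟩),
  (34, 35, 0, 11, ⟨0, -1, 0, 0, 0, 0, 0, 0⟩),
  (38, 35, 0, 12, ⟨0, -1, 1, 1, 1, -1, 0, 2⟩),
  (16, 42, 0, 12, ⟨0, -1, 1, 1, 1, -1, 0, 2⟩),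
  (29, 28, 0, 11, ⟨0, -1, 0, 0, 0, 0, 0, 0⟩),
  (25, 28, 0, 12, ⟨0, -1, 1, 1, 1, -1, 0, 2⟩),
  (105, 131, 0, 12, ⟨0, -1, 1, 1, 1, -1, 0, 2⟩),
  (104, 149, 0, 11, ⟨0, -1, 0, 0, 0, 0, 0, 0⟩),
  (8, 51, 0, 11, ⟨0, -1, 0, 0, 0, 0, 0, 0⟩),
  (49, 51, 0, 12, ⟨0, -1, 1, 1, 1, -1, 0, 2⟩),
  (55, 12, 0, 11, ⟨0, -1, 0, 0, 0, 0, 0, 0⟩),
  (14, 12, 0, 12, ⟨0, -1, 1, 1, 1, -1, 0, 2⟩),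
  (116, 146, 0, 12, ⟨0, -1, 1, 1, 1, -1, 0, 2⟩),
  (117, 133, 0, 11, ⟨0, -1, 0, 0, 0, 0, 0, 0⟩),
  (112, 135, 0, 12, ⟨0, -1, 1, 1, 1, -1, 0, 2⟩),
  (113, 144, 0, 11, ⟨0, -1, 0, 0, 0, 0, 0, 0⟩),
  (143, 120, 0, 12, ⟨0, -1, 1, 1, 1, -1, 0, 2⟩),
  (142, 111, 0, 11, ⟨0, -1, 0, 0, 0, 0, 0, 0⟩),
  (139, 109, 0, 12, ⟨0, -1, 1, 1, 1, -1, 0, 2⟩),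
  (138, 122, 0, 11, ⟨0, -1, 0, 0, 0, 0, 0, 0⟩),
  (150, 124, 0, 12, ⟨0, -1, 1, 1, 1, -1, 0, 2⟩),
  (151, 106, 0, 11, ⟨0, -1, 0, 0, 0, 0, 0, 0⟩),
  (152, 99, 0, 12, ⟨0, -1, 1, 1, 1, -1, 0, 2⟩),
  (153, 101, 0, 11, ⟨0, -1, 0, 0, 0, 0, 0, 0⟩),
  (76, 1, 0, 13, ⟨1, 0, -1, 1, 0, 1, -1, 0⟩),
  (39, 33, 0, 11, ⟨0, -1, 0, 0, 0, 0, 0, 0⟩),
  (89, 6, 0, 13, ⟨1, 0, -1, 1, 0, 1, -1, 0⟩),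
  (50, 48, 0, 12, ⟨0, -1, 1, 1, 1, -1, 0, 2⟩),
  (53, 9, 0, 11, ⟨0, -1, 0, 0, 0, 0, 0, 0⟩),
  (70, 57, 0, 13, ⟨1, 0, -1, 1, 0, 1, -1, 0⟩),
  (83, 62, 0, 13, ⟨1, 0, -1, 1, 0, 1, -1, 0⟩),
  (13, 15, 0, 12, ⟨0, -1, 1, 1, 1, -1, 0, 2⟩),
  (10, 54, 0, 11, ⟨0, -1, 0, 0, 0, 0, 0, 0⟩),
  (17, 43, 0, 12, ⟨0, -1, 1, 1, 1, -1, 0, 2⟩),
  (22, 23, 0, 11, ⟨0, -1, 0, 0, 0, 0, 0, 0⟩),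
  (32, 37, 0, 12, ⟨0, -1, 1, 1, 1, -1, 0, 2⟩),
  (31, 26, 0, 12, ⟨0, -1, 1, 1, 1, -1, 0, 2⟩),
  (24, 30, 0, 11, ⟨0, -1, 0, 0, 0, 0, 0, 0⟩),
  (46, 20, 0, 12, ⟨0, -1, 1, 1, 1, -1, 0, 2⟩),
  (41, 40, 0, 11, ⟨0, -1, 0, 0, 0, 0, 0, 0⟩),
  (82, 103, 0, 13, ⟨1, 0, -1, 1, 0, 1, -1, 0⟩),
  (88, 102, 0, 13, ⟨1, 0, -1, 1, 0, 1, -1, 0⟩),
  (65, 105, 0, 13, ⟨1, 0, -1, 1, 0, 1, -1, 0⟩),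
  (81, 104, 0, 13, ⟨1, 0, -1, 1, 0, 1, -1, 0⟩),
  (92, 116, 0, 13, ⟨1, 0, -1, 1, 0, 1, -1, 0⟩),
  (85, 117, 0, 13, ⟨1, 0, -1, 1, 0, 1, -1, 0⟩),
  (68, 112, 0, 13, ⟨1, 0, -1, 1, 0, 1, -1, 0⟩),
  (72, 113, 0, 13, ⟨1, 0, -1, 1, 0, 1, -1, 0⟩),
  (91, 143, 0, 13, ⟨1, 0, -1, 1, 0, 1, -1, 0⟩),
  (87, 142, 0, 13, ⟨1, 0, -1, 1, 0, 1, -1, 0⟩),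
  (67, 139, 0, 13, ⟨1, 0, -1, 1, 0, 1, -1, 0⟩),
  (74, 138, 0, 13, ⟨1, 0, -1, 1, 0, 1, -1, 0⟩),
  (94, 150, 0, 13, ⟨1, 0, -1, 1, 0, 1, -1, 0⟩),
  (78, 151, 0, 13, ⟨1, 0, -1, 1, 0, 1, -1, 0⟩),
  (77, 152, 0, 13, ⟨1, 0, -1, 1, 0, 1, -1, 0⟩),
  (71, 153, 0, 13, ⟨1, 0, -1, 1, 0, 1, -1, 0⟩),
  (80, 76, 0, 11, ⟨0, -1, 0, 0, 0, 0, 0, 0⟩),
  (86, 39, 0, 13, ⟨1, 0, -1, 1, 0, 1, -1, 0⟩),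
  (66, 89, 0, 12, ⟨0, -1, 1, 1, 1, -1, 0, 2⟩),
  (95, 50, 0, 13, ⟨1, 0, -1, 1, 0, 1, -1, 0⟩),
  (93, 70, 0, 12, ⟨0, -1, 1, 1, 1, -1, 0, 2⟩),
  (79, 83, 0, 11, ⟨0, -1, 0, 0, 0, 0, 0, 0⟩),
  (64, 13, 0, 13, ⟨1, 0, -1, 1, 0, 1, -1, 0⟩),
  (75, 22, 0, 13, ⟨1, 0, -1, 1, 0, 1, -1, 0⟩),
  (69, 32, 0, 13, ⟨1, 0, -1, 1, 0, 1, -1, 0⟩),
  (90, 31, 0, 13, ⟨1, 0, -1, 1, 0, 1, -1, 0⟩),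
  (73, 24, 0, 13, ⟨1, 0, -1, 1, 0, 1, -1, 0⟩),
  (84, 41, 0, 13, ⟨1, 0, -1, 1, 0, 1, -1, 0⟩),
  (168, 161, 161, 1, ⟨1, 0, 0, 0, 0, 0, 0, 0⟩),
  (266, 161, 161, 2, ⟨-1, 0, 0, 0, 0, 0, 0, 0⟩),
  (272, 161, 161, 3, ⟨0, -1, 0, 0, 1, -1, 0, 1⟩),
  (271, 161, 161, 4, ⟨0, -1, 1, 1, 1, 0, -1, 1⟩),
  (270, 161, 161, 5, ⟨1, 0, -1, 1, 0, 1, -1, 0⟩),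
  (269, 161, 161, 6, ⟨-1, 0, 1, -1, 0, -1, 1, 0⟩),
  (268, 161, 161, 7, ⟨0, 1, -1, -1, -1, 0, 1, -1⟩),
  (267, 161, 161, 8, ⟨0, 1, 0, 0, -1, 1, 0, -1⟩),
  (273, 161, 161, 9, ⟨1, 0, 0, 0, 0, 0, 0, 0⟩),
  (212, 161, 161, 13, ⟨0, -1, 0, 1, 1, -1, 0, 1⟩),
  (254, 168, 161, 13, ⟨0, 1, 0, -1, -1, 1, 0, -1⟩),
  (167, 266, 161, 3, ⟨-1, 0, 0, 0, 0, 0, 0, 0⟩),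
  (166, 266, 161, 4, ⟨-1, 0, 0, 0, 0, 0, 0, 0⟩),
  (165, 266, 161, 5, ⟨-1, 0, 0, 0, 0, 0, 0, 0⟩),
  (164, 266, 161, 6, ⟨-1, 0, 0, 0, 0, 0, 0, 0⟩),
  (163, 266, 161, 7, ⟨-1, 0, 0, 0, 0, 0, 0, 0⟩),
  (162, 266, 161, 8, ⟨-1, 0, 0, 0, 0, 0, 0, 0⟩),
  (251, 266, 161, 13, ⟨-1, 1, 0, -1, -1, -1, 1, 0⟩),
  (207, 272, 161, 13, ⟨-1, 1, 0, -1, -1, -1, 1, 0⟩),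
  (241, 271, 161, 13, ⟨-1, 1, 0, -1, -1, -1, 1, 0⟩),
  (253, 270, 161, 13, ⟨-1, 1, 0, -1, -1, -1, 1, 0⟩),
  (211, 269, 161, 13, ⟨-1, 1, 0, -1, -1, -1, 1, 0⟩),
  (223, 268, 161, 13, ⟨-1, 1, 0, -1, -1, -1, 1, 0⟩),
  (257, 267, 161, 13, ⟨-1, 1, 0, -1, -1, -1, 1, 0⟩),
  (213, 273, 161, 13, ⟨-1, 1, 0, -1, -1, -1, 1, 0⟩),
  (206, 212, 161, 11, ⟨1, 0, 0, 0, 0, 0, 0, 0⟩),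
  (249, 212, 161, 12, ⟨1, 0, 0, 0, 0, 0, 0, 0⟩),
  (260, 254, 161, 11, ⟨1, 0, 0, 0, 0, 0, 0, 0⟩),
  (215, 254, 161, 12, ⟨1, 0, 0, 0, 0, 0, 0, 0⟩),
  (224, 167, 161, 13, ⟨-1, 0, 0, 0, -1, 0, 0, -1⟩),
  (208, 166, 161, 13, ⟨0, 0, 0, 0, -1, 0, 1, 0⟩),
  (214, 165, 161, 13, ⟨-1, 1, 0, -1, -1, -1, 1, 0⟩),
  (252, 164, 161, 13, ⟨1, -1, 0, 1, 1, 1, -1, 0⟩),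
  (258, 163, 161, 13, ⟨0, 0, 0, 0, 1, 0, -1, 0⟩),
  (242, 162, 161, 13, ⟨1, 0, 0, 0, 1, 0, 0, 1⟩),
  (239, 251, 161, 11, ⟨1, 0, 0, 0, 0, 0, 0, 0⟩),
  (262, 251, 161, 12, ⟨1, 0, 0, 0, 0, 0, 0, 0⟩),
  (255, 207, 161, 11, ⟨1, 0, 0, 0, 0, 0, 0, 0⟩),
  (244, 207, 161, 12, ⟨1, 0, 0, 0, 0, 0, 0, 0⟩),
  (219, 241, 161, 11, ⟨1, 0, 0, 0, 0, 0, 0, 0⟩),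
  (234, 241, 161, 12, ⟨1, 0, 0, 0, 0, 0, 0, 0⟩),
  (259, 253, 161, 11, ⟨1, 0, 0, 0, 0, 0, 0, 0⟩),
  (216, 253, 161, 12, ⟨1, 0, 0, 0, 0, 0, 0, 0⟩),
  (205, 211, 161, 11, ⟨1, 0, 0, 0, 0, 0, 0, 0⟩),
  (250, 211, 161, 12, ⟨1, 0, 0, 0, 0, 0, 0, 0⟩),
  (245, 223, 161, 11, ⟨1, 0, 0, 0, 0, 0, 0, 0⟩),
  (232, 223, 161, 12, ⟨1, 0, 0, 0, 0, 0, 0, 0⟩),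
  (209, 257, 161, 11, ⟨1, 0, 0, 0, 0, 0, 0, 0⟩),
  (222, 257, 161, 12, ⟨1, 0, 0, 0, 0, 0, 0, 0⟩),
  (225, 213, 161, 11, ⟨1, 0, 0, 0, 0, 0, 0, 0⟩),
  (204, 213, 161, 12, ⟨1, 0, 0, 0, 0, 0, 0, 0⟩),
  (227, 206, 161, 12, ⟨1, 0, 0, 0, 0, 0, 0, 0⟩),
  (238, 249, 161, 11, ⟨1, 0, 0, 0, 0, 0, 0, 0⟩),
  (226, 249, 161, 13, ⟨0, -1, 1, 0, 0, -1, 1, 1⟩),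
  (237, 260, 161, 12, ⟨1, 0, 0, 0, 0, 0, 0, 0⟩),
  (228, 215, 161, 11, ⟨1, 0, 0, 0, 0, 0, 0, 0⟩),
  (240, 215, 161, 13, ⟨0, -1, 1, 0, 0, -1, 1, 1⟩),
  (246, 224, 161, 11, ⟨1, 0, 0, 0, 0, 0, 0, 0⟩),
  (231, 224, 161, 12, ⟨1, 0, 0, 0, 0, 0, 0, 0⟩),
  (256, 208, 161, 11, ⟨1, 0, 0, 0, 0, 0, 0, 0⟩),
  (243, 208, 161, 12, ⟨1, 0, 0, 0, 0, 0, 0, 0⟩),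
  (203, 214, 161, 12, ⟨1, 0, 0, 0, 0, 0, 0, 0⟩),
  (261, 252, 161, 12, ⟨1, 0, 0, 0, 0, 0, 0, 0⟩),
  (210, 258, 161, 11, ⟨1, 0, 0, 0, 0, 0, 0, 0⟩),
  (221, 258, 161, 12, ⟨1, 0, 0, 0, 0, 0, 0, 0⟩),
  (220, 242, 161, 11, ⟨1, 0, 0, 0, 0, 0, 0, 0⟩),
  (233, 242, 161, 12, ⟨1, 0, 0, 0, 0, 0, 0, 0⟩),
  (230, 239, 161, 12, ⟨1, 0, 0, 0, 0, 0, 0, 0⟩),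
  (235, 262, 161, 11, ⟨1, 0, 0, 0, 0, 0, 0, 0⟩),
  (248, 255, 161, 12, ⟨1, 0, 0, 0, 0, 0, 0, 0⟩),
  (217, 244, 161, 11, ⟨1, 0, 0, 0, 0, 0, 0, 0⟩),
  (264, 219, 161, 12, ⟨1, 0, 0, 0, 0, 0, 0, 0⟩),
  (201, 234, 161, 11, ⟨1, 0, 0, 0, 0, 0, 0, 0⟩),
  (202, 245, 161, 12, ⟨1, 0, 0, 0, 0, 0, 0, 0⟩),
  (263, 232, 161, 11, ⟨1, 0, 0, 0, 0, 0, 0, 0⟩),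
  (218, 209, 161, 12, ⟨1, 0, 0, 0, 0, 0, 0, 0⟩),
  (247, 222, 161, 11, ⟨1, 0, 0, 0, 0, 0, 0, 0⟩),
  (236, 225, 161, 12, ⟨1, 0, 0, 0, 0, 0, 0, 0⟩),
  (229, 204, 161, 11, ⟨1, 0, 0, 0, 0, 0, 0, 0⟩),
  (200, 169, 169, 0, ⟨-1, 0, 0, 0, 0, 0, 0, 0⟩),
  (170, 169, 169, 1, ⟨1, 0, 0, 0, 0, 0, 0, 0⟩),
  (284, 169, 169, 2, ⟨1, 0, 0, 0, 0, 0, 0, 0⟩),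
  (297, 169, 169, 3, ⟨0, -1, 0, 0, 0, 0, 0, 0⟩),
  (291, 169, 169, 4, ⟨0, -1, 1, 1, 1, -1, 0, 2⟩),
  (292, 169, 169, 5, ⟨1, 0, -1, 1, 1, 1, -2, 0⟩),
  (293, 169, 169, 6, ⟨-1, 0, 1, -1, -1, -1, 2, 0⟩),
  (290, 169, 169, 7, ⟨0, 1, -1, -1, -1, 1, 0, -2⟩),
  (296, 169, 169, 8, ⟨0, 1, 0, 0, 0, 0, 0, 0⟩),
  (285, 169, 169, 9, ⟨-1, 0, 0, 0, 0, 0, 0, 0⟩),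
  (199, 169, 169, 10, ⟨1, 0, 0, 0, 0, 0, 0, 0⟩),
  (174, 169, 169, 11, ⟨1, 0, 0, 0, 0, 0, 0, 0⟩),
  (175, 169, 169, 12, ⟨1, 0, 0, 0, 0, 0, 0, 0⟩),
  (197, 169, 169, 13, ⟨0, 0, 1, 0, 0, 0, 0, 0⟩),
  (295, 200, 169, 2, ⟨1, 0, 0, 0, 0, 0, 0, 0⟩),
  (282, 200, 169, 3, ⟨0, -1, 0, 0, 0, 0, 0, 0⟩),
  (288, 200, 169, 4, ⟨0, -1, 1, 1, 1, -1, 0, 2⟩),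
  (287, 200, 169, 5, ⟨1, 0, -1, 1, 1, 1, -2, 0⟩),
  (286, 200, 169, 6, ⟨-1, 0, 1, -1, -1, -1, 2, 0⟩),
  (289, 200, 169, 7, ⟨0, 1, -1, -1, -1, 1, 0, -2⟩),
  (283, 200, 169, 8, ⟨0, 1, 0, 0, 0, 0, 0, 0⟩),
  (294, 200, 169, 9, ⟨-1, 0, 0, 0, 0, 0, 0, 0⟩),
  (195, 200, 169, 11, ⟨1, 0, 0, 0, 0, 0, 0, 0⟩),
  (194, 200, 169, 12, ⟨1, 0, 0, 0, 0, 0, 0, 0⟩),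
  (173, 170, 169, 11, ⟨1, 0, 0, 0, 0, 0, 0, 0⟩),
  (176, 170, 169, 12, ⟨1, 0, 0, 0, 0, 0, 0, 0⟩),
  (172, 284, 169, 4, ⟨0, 1, -1, -1, -1, 1, 0, -2⟩),
  (196, 284, 169, 5, ⟨-1, 0, 1, -1, -1, -1, 2, 0⟩),
  (198, 284, 169, 7, ⟨0, -1, 1, 1, 1, -1, 0, 2⟩),
  (171, 297, 169, 5, ⟨-1, 0, 1, -1, -1, -1, 2, 0⟩),
  (193, 291, 169, 5, ⟨-1, 0, 1, -1, -1, -1, 2, 0⟩),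
  (192, 177, 177, 0, ⟨-1, 0, 0, 0, 0, 0, 0, 0⟩),
  (178, 177, 177, 1, ⟨1, 0, 0, 0, 0, 0, 0, 0⟩),
  (280, 177, 177, 2, ⟨1, 0, 0, 0, 0, 0, 0, 0⟩),
  (301, 177, 177, 3, ⟨0, -1, 0, 0, 0, 0, 0, 0⟩),
  (303, 177, 177, 4, ⟨0, -1, 1, 1, 1, -1, 0, 2⟩),
  (305, 177, 177, 5, ⟨1, 0, -1, 1, 1, 1, -2, 0⟩),
  (304, 177, 177, 6, ⟨-1, 0, 1, -1, -1, -1, 2, 0⟩),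
  (302, 177, 177, 7, ⟨0, 1, -1, -1, -1, 1, 0, -2⟩),
  (300, 177, 177, 8, ⟨0, 1, 0, 0, 0, 0, 0, 0⟩),
  (281, 177, 177, 9, ⟨-1, 0, 0, 0, 0, 0, 0, 0⟩),
  (191, 177, 177, 10, ⟨1, 0, 0, 0, 0, 0, 0, 0⟩),
  (183, 177, 177, 11, ⟨1, 0, 0, 0, 0, 0, 0, 0⟩),
  (179, 177, 177, 12, ⟨1, 0, 0, 0, 0, 0, 0, 0⟩),
  (276, 177, 177, 13, ⟨1, 1, -1, 0, 0, 1, -1, 0⟩),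
  (299, 192, 177, 2, ⟨1, 0, 0, 0, 0, 0, 0, 0⟩),
  (278, 192, 177, 3, ⟨0, -1, 0, 0, 0, 0, 0, 0⟩),
  (274, 192, 177, 5, ⟨1, 0, -1, 1, 1, 1, -2, 0⟩),
  (275, 192, 177, 6, ⟨-1, 0, 1, -1, -1, -1, 2, 0⟩),
  (277, 192, 177, 7, ⟨0, 1, -1, -1, -1, 1, 0, -2⟩),
  (279, 192, 177, 8, ⟨0, 1, 0, 0, 0, 0, 0, 0⟩),
  (298, 192, 177, 9, ⟨-1, 0, 0, 0, 0, 0, 0, 0⟩),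
  (186, 192, 177, 11, ⟨1, 0, 0, 0, 0, 0, 0, 0⟩),
  (190, 192, 177, 12, ⟨1, 0, 0, 0, 0, 0, 0, 0⟩),
  (188, 192, 177, 13, ⟨0, 0, 0, 0, -1, -1, 1, 0⟩),
  (184, 178, 177, 11, ⟨1, 0, 0, 0, 0, 0, 0, 0⟩),
  (180, 178, 177, 12, ⟨1, 0, 0, 0, 0, 0, 0, 0⟩),
  (182, 178, 177, 13, ⟨0, 0, 0, 0, -1, -1, 1, 0⟩),
  (189, 301, 177, 4, ⟨0, 1, -1, -1, -1, 1, 0, -2⟩),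
  (185, 301, 177, 6, ⟨1, 0, -1, 1, 1, 1, -2, 0⟩),
  (187, 303, 177, 5, ⟨-1, 0, 1, -1, -1, -1, 2, 0⟩),
  (181, 303, 177, 6, ⟨1, 0, -1, 1, 1, 1, -2, 0⟩),
  (306, 265, 265, 2, ⟨1, 0, 0, 0, 0, 0, 0, 0⟩),
  (311, 265, 265, 13, ⟨0, 0, 0, 0, 0, 1, -1, 0⟩),
  (310, 306, 265, 13, ⟨0, 0, 0, 0, 0, -1, 0, 1⟩),
  (312, 311, 265, 11, ⟨0, 1, 0, 0, -1, 1, 0, -1⟩),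
  (308, 311, 265, 12, ⟨0, 1, -1, -1, -1, 0, 1, -1⟩),
  (309, 310, 265, 11, ⟨0, 1, 0, 0, -1, 1, 0, -1⟩),
  (313, 310, 265, 12, ⟨0, 1, -1, -1, -1, 0, 1, -1⟩),
  (314, 312, 265, 12, ⟨0, 1, -1, -1, -1, 0, 1, -1⟩),
  (307, 308, 265, 11, ⟨0, 1, 0, 0, -1, 1, 0, -1⟩)]

def lineStepOK (reached : List (ℕ × ℕ)) (s : ℕ × ℕ × ℕ × ℕ × Ic) : Bool :=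
  reached.contains (s.2.1, s.2.2.1) && (s.2.2.2.2.Tq == 16) &&
    match Rep315[s.1]?, Rep315[s.2.1]?, gensL[s.2.2.2.1]? with
    | some R', some R, some γ => wordM γ.1 R == smulM s.2.2.2.2 R'
    | _, _, _ => false

def runLineSteps : List (ℕ × ℕ) → List (ℕ × ℕ × ℕ × ℕ × Ic) → Option (List (ℕ × ℕ))
  | r, [] => some r
  | r, s :: ss => if lineStepOK r s then runLineSteps ((s.1, s.2.2.1) :: r) ss else none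

def rootList : List (ℕ × ℕ) := [(265, 265), (169, 169), (177, 177), (161, 161), (0, 0), (160, 160)]

theorem lineSteps_ok : (runLineSteps rootList lineSteps).map
    (fun r => (List.range 315).all fun j => r.contains (j, rootOf (classLit.getD j 0))) = some true := by
  decide +kernel

theorem classLit_count : classLit.count 0 = 10 ∧ classLit.count 1 = 32 ∧ classLit.count 2 = 32 ∧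
    classLit.count 3 = 80 ∧ classLit.count 4 = 160 ∧ classLit.count 5 = 1 := by
  decide +kernel

theorem classLit_length : classLit.length = 315 := by decide +kernel

theorem E1_index : Rep315[160]? = some E1 ∧ classLit.getD 160 0 = 5 := by decide +kernel

theorem prim_arith : ∀ I : Finset (Fin 5), (1 + ∑ i ∈ I, (![10, 32, 32, 80, 160] : Fin 5 → ℕ) i) ∣ 315 →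
    I = ∅ ∨ I = Finset.univ := by
  decide

end Cfsg.Agent.Lib.Helper27.J2
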