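import Cfsg.Agent.Lib.Helper27.J2ReflPermData
import Cfsg.Agent.Lib.Helper27.J2FusAB

/-!
# The permutations of the 315 lines induced by all reflections of `2.J₂`; words in reflections
-/

set_option autoImplicit false

namespace Cfsg.Agent.Lib.Helper27.J2
open Quaternion Cfsg.Spor

/-! ### the generators as reflections -/

theorem reflT_eq_reflG {j : ℕ} {R : V3} (h : Rep315[j]? = some R) :
    reflT R = reflG (idxRefl j) := by
  have hRA : R ∈ RepAll := Rep315_sub R (List.mem_of_getElem? h)
  apply Subtype.ext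
  rw [reflT_val hRA, idxRefl_of_getElem? h]
  rfl

theorem getD_Rep315 {j : ℕ} (hj : j < 315) : Rep315[j]? = some (Rep315.getD j E1) := by
  have h : j < Rep315.length := by rw [Rep315_length]; exact hj
  rw [List.getD_eq_getElem _ _ h, List.getElem?_eq_getElem h]

theorem genEls_getD {a : ℕ} (ha : a < 4) :
    genEls.getD a 1 = reflG (idxRefl (genIdx.getD a 0)) := by
  have h4 : a = 0 ∨ a = 1 ∨ a = 2 ∨ a = 3 := by omega
  rcases h4 with rfl | rfl | rfl | rfl
  · change reflT (Rep315.getD 160 E1) = reflG (idxRefl 160)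
    exact reflT_eq_reflG (getD_Rep315 (by norm_num))
  · change reflT (Rep315.getD 121 E1) = reflG (idxRefl 121)
    exact reflT_eq_reflG (getD_Rep315 (by norm_num))
  · change reflT (Rep315.getD 303 E1) = reflG (idxRefl 303)
    exact reflT_eq_reflG (getD_Rep315 (by norm_num))
  · change reflT (Rep315.getD 278 E1) = reflG (idxRefl 278)
    exact reflT_eq_reflG (getD_Rep315 (by norm_num))

theorem buildEls_getD_lt : ∀ (ds : List (List ℕ)) (acc : List twoJ2) (k : ℕ), k < acc.length →
    (buildEls ds acc).getD k 1 = acc.getD k 1 := by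
  intro ds
  induction ds with
  | nil => intro acc k _; rfl
  | cons d ds ih =>
    intro acc k hk
    rw [buildEls, ih _ k (by rw [List.length_append]; omega), List.getD_append _ _ _ _ hk]

theorem mE_gen {a : ℕ} (ha : a < 4) : mE a = reflG (idxRefl (genIdx.getD a 0)) := by
  rw [mE, macroEls, buildEls_getD_lt _ _ _ (by rw [genEls_length]; exact ha), genEls_getD ha]

theorem mE_zero : mE 0 = reflG (idxRefl 160) := mE_gen (by norm_num)

/-- the subgroup generated by the four generating reflections -/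
noncomputable def gen4 : Subgroup twoJ2 :=
  Subgroup.closure {g | ∃ a < 4, g = reflG (idxRefl (genIdx.getD a 0))}

theorem getD_mem_or {acc : List twoJ2} (S : Subgroup twoJ2) (hacc : ∀ g ∈ acc, g ∈ S) (i : ℕ) :
    acc.getD i 1 ∈ S := by
  by_cases hi : i < acc.length
  · rw [List.getD_eq_getElem _ _ hi]; exact hacc _ (List.getElem_mem hi)
  · rw [List.getD_eq_default _ _ (by omega)]; exact S.one_mem

theorem buildEls_mem (S : Subgroup twoJ2) : ∀ (ds : List (List ℕ)) (acc : List twoJ2),
    (∀ g ∈ acc, g ∈ S) → ∀ g ∈ buildEls ds acc, g ∈ S := by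
  intro ds
  induction ds with
  | nil => intro acc hacc g hg; exact hacc g hg
  | cons d ds ih =>
    intro acc hacc g hg
    rw [buildEls] at hg
    refine ih _ ?_ g hg
    intro g' hg'
    rcases List.mem_append.1 hg' with h | h
    · exact hacc g' h
    · rw [List.mem_singleton] at h
      subst h
      apply Subgroup.list_prod_mem
      intro x hx
      obtain ⟨i, -, rfl⟩ := List.mem_map.1 hx
      exact getD_mem_or S hacc i

theorem mE_mem_gen4 (k : ℕ) : mE k ∈ gen4 := by
  rw [mE]
  apply getD_mem_or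
  apply buildEls_mem
  intro g hg
  obtain ⟨a, ha, rfl⟩ := List.getElem_of_mem hg
  rw [genEls_length] at ha
  have := genEls_getD ha
  rw [List.getD_eq_getElem _ _ (by rw [genEls_length]; exact ha)] at this
  rw [this]
  exact Subgroup.subset_closure ⟨a, ha, rfl⟩

/-! ### all reflections -/

theorem comp3_acts {a b c : ℕ} (ha : a < 256) (hb : b < 256) (hc : c < 256) :
    ActsF (mE a * mE b * mE c) (comp3 (mP a) (mP b) (mP c)) :=
  (((actsF_mE ha).mul (actsF_mE hb)).mul (actsF_mE hc)).congr fun _ _ => rfl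

theorem ActsF.surj {g : twoJ2} {f : ℕ → ℕ} (hg : ActsF g f) {k : ℕ} (hk : k < 315) :
    ∃ m < 315, f m = k := by
  obtain ⟨m, hm, h⟩ := exists_idx (g⁻¹ • idxRefl k)
  refine ⟨m, hm, ?_⟩
  have h1 : g • idxRefl m = idxRefl k := by rw [← h, smul_inv_smul]
  rw [hg.apply hm] at h1
  exact idxRefl_inj (hg m hm).1 hk h1

theorem reflOK_spec {j : ℕ} (hj : j < 315) : ∃ a b c, a < 256 ∧ b < 256 ∧ c < 256 ∧
    comp3 (mP a) (mP b) (mP c) 160 = j ∧ ∀ m < 315,
      pget (rP j) (comp3 (mP a) (mP b) (mP c) m) = comp3 (mP a) (mP b) (mP c) (pget (mP 0) m) := by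
  have h := List.all_eq_true.1 reflOK_all j (List.mem_range.2 hj)
  unfold reflOK at h
  cases hc : conjL[j]? with
  | none => rw [hc] at h; simp at h
  | some p =>
    obtain ⟨a, b, c⟩ := p
    rw [hc] at h
    simp only [Bool.and_eq_true, decide_eq_true_eq, beq_iff_eq, List.all_eq_true,
      List.mem_range] at h
    obtain ⟨⟨⟨⟨ha, hb⟩, hc'⟩, h160⟩, hall⟩ := h
    exact ⟨a, b, c, ha, hb, hc', h160, hall⟩

/-- the reflection of index `j` as a word in the macro elements -/
theorem exists_conj_macro {j : ℕ} (hj : j < 315) : ∃ c ∈ gen4,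
    reflG (idxRefl j) = c * mE 0 * c⁻¹ ∧ ActsF (reflG (idxRefl j)) (pget (rP j)) := by
  obtain ⟨a, b, c, ha, hb, hc, h160, hall⟩ := reflOK_spec hj
  have hact := comp3_acts ha hb hc
  set g := mE a * mE b * mE c with hg
  have hgj : g • idxRefl 160 = idxRefl j := by rw [hact.apply (by norm_num), h160]
  have heq : reflG (idxRefl j) = g * mE 0 * g⁻¹ := by rw [← hgj, reflG_smul, mE_zero]
  refine ⟨g, gen4.mul_mem (gen4.mul_mem (mE_mem_gen4 a) (mE_mem_gen4 b)) (mE_mem_gen4 c), heq, ?_⟩
  intro k hk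
  obtain ⟨m, hm, hmk⟩ := hact.surj hk
  have h0 := actsF_mE (k := 0) (by norm_num)
  have hlt : comp3 (mP a) (mP b) (mP c) (pget (mP 0) m) < 315 := (hact _ (h0 m hm).1).1
  have hval : pget (rP j) k = comp3 (mP a) (mP b) (mP c) (pget (mP 0) m) := by
    rw [← hmk]; exact hall m hm
  refine ⟨by rw [hval]; exact hlt, ?_⟩
  rw [heq, mul_smul, mul_smul, ← hmk, ← hact.apply hm, inv_smul_smul, h0.apply hm,
    hact.apply (h0 m hm).1, ← hall m hm]

theorem actsF_refl {j : ℕ} (hj : j < 315) : ActsF (reflG (idxRefl j)) (pget (rP j)) := by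
  obtain ⟨_, _, _, h⟩ := exists_conj_macro hj
  exact h

theorem gen4_eq_top : gen4 = ⊤ := by
  rw [eq_top_iff, ← closure_reflG, Subgroup.closure_le]
  intro y hy
  obtain ⟨x, hx⟩ := hy
  obtain ⟨j, hj, hxj⟩ := exists_idx x
  obtain ⟨c, hc, heq, -⟩ := exists_conj_macro hj
  rw [SetLike.mem_coe, ← hx, hxj, heq]
  exact gen4.mul_mem (gen4.mul_mem hc (mE_mem_gen4 0)) (gen4.inv_mem hc)

/-! ### words in the reflections -/

/-- the product of the reflections with the listed indices -/
noncomputable def wordEl (w : List ℕ) : twoJ2 := (w.map fun j => reflG (idxRefl j)).prod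

/-- the induced map on indices -/
def wordF (w : List ℕ) (m : ℕ) : ℕ := w.foldr (fun j acc => pget (rP j) acc) m

theorem actsF_wordEl : ∀ (w : List ℕ), (∀ j ∈ w, j < 315) → ActsF (wordEl w) (wordF w) := by
  intro w
  induction w with
  | nil => intro _; exact ActsF.one
  | cons j w ih =>
    intro hw
    have h1 := actsF_refl (hw j List.mem_cons_self)
    have h2 := ih fun j' hj' => hw j' (List.mem_cons_of_mem _ hj')
    rw [wordEl, List.map_cons, List.prod_cons]
    exact (h1.mul h2).congr fun _ _ => rfl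

def fix3 (f : ℕ → ℕ) : Bool := (f 160 == 160) && (f 0 == 0) && (f 1 == 1)

theorem mem_center_iff_fix3 {g : twoJ2} {f : ℕ → ℕ} (hf : ActsF g f) :
    g ∈ Subgroup.center twoJ2 ↔ fix3 f = true := by
  simp only [fix3, Bool.and_eq_true, beq_iff_eq]
  constructor
  · intro h
    have h1 := fun j (hj : j < 315) =>
      idxRefl_inj (hf j hj).1 hj ((hf.apply hj).symm.trans (center_smul h _))
    exact ⟨⟨h1 160 (by norm_num), h1 0 (by norm_num)⟩, h1 1 (by norm_num)⟩
  · rintro ⟨⟨h160, h0⟩, h1⟩
    exact central_of_fix3' hf h160 h0 h1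

/-- the key criterion: a power of the image in `J₂` is trivial iff the permutation power fixes the base -/
theorem piJ2_pow_eq_one_iff {g : twoJ2} {f : ℕ → ℕ} (hf : ActsF g f) (d : ℕ) :
    piJ2 g ^ d = 1 ↔ fix3 (f^[d]) = true := by
  rw [← map_pow, piJ2_eq_one, mem_center_iff_fix3 (hf.pow d)]

end Cfsg.Agent.Lib.Helper27.J2
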