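import Cfsg.Agent.Lib.Helper27.J2EnumData

/-!
# Representatives of the minimal vectors of the icosian Leech lattice up to units and rotations
-/

set_option autoImplicit false

namespace Cfsg.Agent.Lib.Helper27.J2

/-- the 160 minimal vectors with first coordinate `1` -/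
def M10 : List V3 := [
  ⟨⟨1, 0, 0, 0, 0, 0, 0, 0⟩, ⟨-1, 0, 0, 0, 0, 0, 0, 0⟩, ⟨0, 0, 0, 0, 0, 0, -1, 1⟩⟩, ⟨⟨1, 0, 0, 0, 0, 0, 0, 0⟩, ⟨-1, 0, 0, 0, 0, 0, 0, 0⟩, ⟨0, 0, 0, 0, 0, 2, -1, -1⟩⟩,
  ⟨⟨1, 0, 0, 0, 0, 0, 0, 0⟩, ⟨-1, 0, 0, 0, 0, 0, 0, 0⟩, ⟨0, 0, 0, 0, 2, 0, -1, 1⟩⟩, ⟨⟨1, 0, 0, 0, 0, 0, 0, 0⟩, ⟨-1, 0, 0, 0, 0, 0, 0, 0⟩, ⟨0, 0, 0, 0, 0, 0, 1, 1⟩⟩,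
  ⟨⟨1, 0, 0, 0, 0, 0, 0, 0⟩, ⟨-1, 0, 0, 0, 0, 0, 0, 0⟩, ⟨0, 0, 0, 0, 0, 0, -1, -1⟩⟩, ⟨⟨1, 0, 0, 0, 0, 0, 0, 0⟩, ⟨-1, 0, 0, 0, 0, 0, 0, 0⟩, ⟨0, 0, 0, 0, -2, 0, 1, -1⟩⟩,
  ⟨⟨1, 0, 0, 0, 0, 0, 0, 0⟩, ⟨-1, 0, 0, 0, 0, 0, 0, 0⟩, ⟨0, 0, 0, 0, 0, -2, 1, 1⟩⟩, ⟨⟨1, 0, 0, 0, 0, 0, 0, 0⟩, ⟨-1, 0, 0, 0, 0, 0, 0, 0⟩, ⟨0, 0, 0, 0, 0, 0, 1, -1⟩⟩,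
  ⟨⟨1, 0, 0, 0, 0, 0, 0, 0⟩, ⟨0, -1, 0, 0, 0, 0, 0, 0⟩, ⟨-1, 1, 0, -2, -2, 0, 1, -1⟩⟩, ⟨⟨1, 0, 0, 0, 0, 0, 0, 0⟩, ⟨0, -1, 0, 0, 0, 0, 0, 0⟩, ⟨-1, -1, 0, 0, 0, -2, 1, 1⟩⟩,
  ⟨⟨1, 0, 0, 0, 0, 0, 0, 0⟩, ⟨0, -1, 0, 0, 0, 0, 0, 0⟩, ⟨-1, 1, 0, 0, -2, 0, 1, -1⟩⟩, ⟨⟨1, 0, 0, 0, 0, 0, 0, 0⟩, ⟨0, -1, 0, 0, 0, 0, 0, 0⟩, ⟨1, 1, -2, 0, 0, 2, -1, -1⟩⟩,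
  ⟨⟨1, 0, 0, 0, 0, 0, 0, 0⟩, ⟨0, -1, 0, 0, 0, 0, 0, 0⟩, ⟨-1, -1, 2, 0, 0, -2, 1, 1⟩⟩, ⟨⟨1, 0, 0, 0, 0, 0, 0, 0⟩, ⟨0, -1, 0, 0, 0, 0, 0, 0⟩, ⟨1, -1, 0, 0, 2, 0, -1, 1⟩⟩,
  ⟨⟨1, 0, 0, 0, 0, 0, 0, 0⟩, ⟨0, -1, 0, 0, 0, 0, 0, 0⟩, ⟨1, 1, 0, 0, 0, 2, -1, -1⟩⟩, ⟨⟨1, 0, 0, 0, 0, 0, 0, 0⟩, ⟨0, -1, 0, 0, 0, 0, 0, 0⟩, ⟨1, -1, 0, 2, 2, 0, -1, 1⟩⟩,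
  ⟨⟨1, 0, 0, 0, 0, 0, 0, 0⟩, ⟨0, -1, 1, 1, 1, -1, 0, 2⟩, ⟨-1, 1, 1, -1, -1, -1, 1, 1⟩⟩, ⟨⟨1, 0, 0, 0, 0, 0, 0, 0⟩, ⟨0, -1, 1, 1, 1, -1, 0, 2⟩, ⟨-1, -1, 1, 1, 1, -1, -1, 1⟩⟩,
  ⟨⟨1, 0, 0, 0, 0, 0, 0, 0⟩, ⟨0, -1, 1, 1, 1, -1, 0, 2⟩, ⟨-1, -1, 1, -1, 1, -1, 1, 1⟩⟩, ⟨⟨1, 0, 0, 0, 0, 0, 0, 0⟩, ⟨0, -1, 1, 1, 1, -1, 0, 2⟩, ⟨-1, 1, -1, -1, -1, -1, 1, -1⟩⟩,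
  ⟨⟨1, 0, 0, 0, 0, 0, 0, 0⟩, ⟨0, -1, 1, 1, 1, -1, 0, 2⟩, ⟨1, -1, 1, 1, 1, 1, -1, 1⟩⟩, ⟨⟨1, 0, 0, 0, 0, 0, 0, 0⟩, ⟨0, -1, 1, 1, 1, -1, 0, 2⟩, ⟨1, 1, -1, 1, -1, 1, -1, -1⟩⟩,
  ⟨⟨1, 0, 0, 0, 0, 0, 0, 0⟩, ⟨0, -1, 1, 1, 1, -1, 0, 2⟩, ⟨1, 1, -1, -1, -1, 1, 1, -1⟩⟩, ⟨⟨1, 0, 0, 0, 0, 0, 0, 0⟩, ⟨0, -1, 1, 1, 1, -1, 0, 2⟩, ⟨1, -1, -1, 1, 1, 1, -1, -1⟩⟩,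
  ⟨⟨1, 0, 0, 0, 0, 0, 0, 0⟩, ⟨1, 0, -1, 1, 1, 1, -2, 0⟩, ⟨0, 2, -1, -1, -1, 1, -1, -1⟩⟩, ⟨⟨1, 0, 0, 0, 0, 0, 0, 0⟩, ⟨1, 0, -1, 1, 1, 1, -2, 0⟩, ⟨-2, 0, 1, -1, -1, -1, 1, -1⟩⟩,
  ⟨⟨1, 0, 0, 0, 0, 0, 0, 0⟩, ⟨1, 0, -1, 1, 1, 1, -2, 0⟩, ⟨0, 0, -1, 1, -1, 1, -1, -1⟩⟩, ⟨⟨1, 0, 0, 0, 0, 0, 0, 0⟩, ⟨1, 0, -1, 1, 1, 1, -2, 0⟩, ⟨0, 0, 1, 1, 1, 1, -1, 1⟩⟩,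
  ⟨⟨1, 0, 0, 0, 0, 0, 0, 0⟩, ⟨1, 0, -1, 1, 1, 1, -2, 0⟩, ⟨0, 0, -1, -1, -1, -1, 1, -1⟩⟩, ⟨⟨1, 0, 0, 0, 0, 0, 0, 0⟩, ⟨1, 0, -1, 1, 1, 1, -2, 0⟩, ⟨0, 0, 1, -1, 1, -1, 1, 1⟩⟩,
  ⟨⟨1, 0, 0, 0, 0, 0, 0, 0⟩, ⟨1, 0, -1, 1, 1, 1, -2, 0⟩, ⟨2, 0, -1, 1, 1, 1, -1, 1⟩⟩, ⟨⟨1, 0, 0, 0, 0, 0, 0, 0⟩, ⟨1, 0, -1, 1, 1, 1, -2, 0⟩, ⟨0, -2, 1, 1, 1, -1, 1, 1⟩⟩,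
  ⟨⟨1, 0, 0, 0, 0, 0, 0, 0⟩, ⟨-1, 0, 1, -1, -1, -1, 2, 0⟩, ⟨0, 2, -1, -1, -1, 1, -1, -1⟩⟩, ⟨⟨1, 0, 0, 0, 0, 0, 0, 0⟩, ⟨-1, 0, 1, -1, -1, -1, 2, 0⟩, ⟨-2, 0, 1, -1, -1, -1, 1, -1⟩⟩,
  ⟨⟨1, 0, 0, 0, 0, 0, 0, 0⟩, ⟨-1, 0, 1, -1, -1, -1, 2, 0⟩, ⟨0, 0, -1, 1, -1, 1, -1, -1⟩⟩, ⟨⟨1, 0, 0, 0, 0, 0, 0, 0⟩, ⟨-1, 0, 1, -1, -1, -1, 2, 0⟩, ⟨0, 0, 1, 1, 1, 1, -1, 1⟩⟩,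
  ⟨⟨1, 0, 0, 0, 0, 0, 0, 0⟩, ⟨-1, 0, 1, -1, -1, -1, 2, 0⟩, ⟨0, 0, -1, -1, -1, -1, 1, -1⟩⟩, ⟨⟨1, 0, 0, 0, 0, 0, 0, 0⟩, ⟨-1, 0, 1, -1, -1, -1, 2, 0⟩, ⟨0, 0, 1, -1, 1, -1, 1, 1⟩⟩,
  ⟨⟨1, 0, 0, 0, 0, 0, 0, 0⟩, ⟨-1, 0, 1, -1, -1, -1, 2, 0⟩, ⟨2, 0, -1, 1, 1, 1, -1, 1⟩⟩, ⟨⟨1, 0, 0, 0, 0, 0, 0, 0⟩, ⟨-1, 0, 1, -1, -1, -1, 2, 0⟩, ⟨0, -2, 1, 1, 1, -1, 1, 1⟩⟩,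
  ⟨⟨1, 0, 0, 0, 0, 0, 0, 0⟩, ⟨0, 1, -1, -1, -1, 1, 0, -2⟩, ⟨-1, 1, 1, -1, -1, -1, 1, 1⟩⟩, ⟨⟨1, 0, 0, 0, 0, 0, 0, 0⟩, ⟨0, 1, -1, -1, -1, 1, 0, -2⟩, ⟨-1, -1, 1, 1, 1, -1, -1, 1⟩⟩,
  ⟨⟨1, 0, 0, 0, 0, 0, 0, 0⟩, ⟨0, 1, -1, -1, -1, 1, 0, -2⟩, ⟨-1, -1, 1, -1, 1, -1, 1, 1⟩⟩, ⟨⟨1, 0, 0, 0, 0, 0, 0, 0⟩, ⟨0, 1, -1, -1, -1, 1, 0, -2⟩, ⟨-1, 1, -1, -1, -1, -1, 1, -1⟩⟩,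
  ⟨⟨1, 0, 0, 0, 0, 0, 0, 0⟩, ⟨0, 1, -1, -1, -1, 1, 0, -2⟩, ⟨1, -1, 1, 1, 1, 1, -1, 1⟩⟩, ⟨⟨1, 0, 0, 0, 0, 0, 0, 0⟩, ⟨0, 1, -1, -1, -1, 1, 0, -2⟩, ⟨1, 1, -1, 1, -1, 1, -1, -1⟩⟩,
  ⟨⟨1, 0, 0, 0, 0, 0, 0, 0⟩, ⟨0, 1, -1, -1, -1, 1, 0, -2⟩, ⟨1, 1, -1, -1, -1, 1, 1, -1⟩⟩, ⟨⟨1, 0, 0, 0, 0, 0, 0, 0⟩, ⟨0, 1, -1, -1, -1, 1, 0, -2⟩, ⟨1, -1, -1, 1, 1, 1, -1, -1⟩⟩,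
  ⟨⟨1, 0, 0, 0, 0, 0, 0, 0⟩, ⟨0, 1, 0, 0, 0, 0, 0, 0⟩, ⟨-1, 1, 0, -2, -2, 0, 1, -1⟩⟩, ⟨⟨1, 0, 0, 0, 0, 0, 0, 0⟩, ⟨0, 1, 0, 0, 0, 0, 0, 0⟩, ⟨-1, -1, 0, 0, 0, -2, 1, 1⟩⟩,
  ⟨⟨1, 0, 0, 0, 0, 0, 0, 0⟩, ⟨0, 1, 0, 0, 0, 0, 0, 0⟩, ⟨-1, 1, 0, 0, -2, 0, 1, -1⟩⟩, ⟨⟨1, 0, 0, 0, 0, 0, 0, 0⟩, ⟨0, 1, 0, 0, 0, 0, 0, 0⟩, ⟨1, 1, -2, 0, 0, 2, -1, -1⟩⟩,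
  ⟨⟨1, 0, 0, 0, 0, 0, 0, 0⟩, ⟨0, 1, 0, 0, 0, 0, 0, 0⟩, ⟨-1, -1, 2, 0, 0, -2, 1, 1⟩⟩, ⟨⟨1, 0, 0, 0, 0, 0, 0, 0⟩, ⟨0, 1, 0, 0, 0, 0, 0, 0⟩, ⟨1, -1, 0, 0, 2, 0, -1, 1⟩⟩,
  ⟨⟨1, 0, 0, 0, 0, 0, 0, 0⟩, ⟨0, 1, 0, 0, 0, 0, 0, 0⟩, ⟨1, 1, 0, 0, 0, 2, -1, -1⟩⟩, ⟨⟨1, 0, 0, 0, 0, 0, 0, 0⟩, ⟨0, 1, 0, 0, 0, 0, 0, 0⟩, ⟨1, -1, 0, 2, 2, 0, -1, 1⟩⟩,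
  ⟨⟨1, 0, 0, 0, 0, 0, 0, 0⟩, ⟨1, 0, 0, 0, 0, 0, 0, 0⟩, ⟨0, 0, 0, 0, 0, 0, -1, 1⟩⟩, ⟨⟨1, 0, 0, 0, 0, 0, 0, 0⟩, ⟨1, 0, 0, 0, 0, 0, 0, 0⟩, ⟨0, 0, 0, 0, 0, 2, -1, -1⟩⟩,
  ⟨⟨1, 0, 0, 0, 0, 0, 0, 0⟩, ⟨1, 0, 0, 0, 0, 0, 0, 0⟩, ⟨0, 0, 0, 0, 2, 0, -1, 1⟩⟩, ⟨⟨1, 0, 0, 0, 0, 0, 0, 0⟩, ⟨1, 0, 0, 0, 0, 0, 0, 0⟩, ⟨0, 0, 0, 0, 0, 0, 1, 1⟩⟩,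
  ⟨⟨1, 0, 0, 0, 0, 0, 0, 0⟩, ⟨1, 0, 0, 0, 0, 0, 0, 0⟩, ⟨0, 0, 0, 0, 0, 0, -1, -1⟩⟩, ⟨⟨1, 0, 0, 0, 0, 0, 0, 0⟩, ⟨1, 0, 0, 0, 0, 0, 0, 0⟩, ⟨0, 0, 0, 0, -2, 0, 1, -1⟩⟩,
  ⟨⟨1, 0, 0, 0, 0, 0, 0, 0⟩, ⟨1, 0, 0, 0, 0, 0, 0, 0⟩, ⟨0, 0, 0, 0, 0, -2, 1, 1⟩⟩, ⟨⟨1, 0, 0, 0, 0, 0, 0, 0⟩, ⟨1, 0, 0, 0, 0, 0, 0, 0⟩, ⟨0, 0, 0, 0, 0, 0, 1, -1⟩⟩,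
  ⟨⟨1, 0, 0, 0, 0, 0, 0, 0⟩, ⟨-1, 0, 1, 0, -1, 0, 0, 0⟩, ⟨0, 0, 1, 0, 1, 0, -1, 1⟩⟩, ⟨⟨1, 0, 0, 0, 0, 0, 0, 0⟩, ⟨-1, 0, 1, 0, -1, 0, 0, 0⟩, ⟨0, 0, -1, 0, -1, 0, 1, -1⟩⟩,
  ⟨⟨1, 0, 0, 0, 0, 0, 0, 0⟩, ⟨-1, 0, 0, -1, 0, -1, 0, 0⟩, ⟨0, 0, 0, -1, 0, -1, 1, 1⟩⟩, ⟨⟨1, 0, 0, 0, 0, 0, 0, 0⟩, ⟨-1, 0, 0, -1, 0, -1, 0, 0⟩, ⟨0, 0, 0, 1, 0, 1, -1, -1⟩⟩,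
  ⟨⟨1, 0, 0, 0, 0, 0, 0, 0⟩, ⟨0, 1, -1, 0, -1, 0, 0, 0⟩, ⟨1, 1, -1, 0, -1, 2, -1, -1⟩⟩, ⟨⟨1, 0, 0, 0, 0, 0, 0, 0⟩, ⟨0, 1, -1, 0, -1, 0, 0, 0⟩, ⟨-1, -1, 1, 0, 1, -2, 1, 1⟩⟩,
  ⟨⟨1, 0, 0, 0, 0, 0, 0, 0⟩, ⟨0, 1, 0, -1, 0, 1, 0, 0⟩, ⟨-1, 1, 0, -1, -2, -1, 1, -1⟩⟩, ⟨⟨1, 0, 0, 0, 0, 0, 0, 0⟩, ⟨0, 1, 0, -1, 0, 1, 0, 0⟩, ⟨1, -1, 0, 1, 2, 1, -1, 1⟩⟩,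
  ⟨⟨1, 0, 0, 0, 0, 0, 0, 0⟩, ⟨-1, 1, 0, -1, -2, -1, 1, -1⟩, ⟨0, 1, 0, -1, 0, 1, 0, 0⟩⟩, ⟨⟨1, 0, 0, 0, 0, 0, 0, 0⟩, ⟨-1, 1, 0, -1, -2, -1, 1, -1⟩, ⟨0, -1, 0, 1, 0, -1, 0, 0⟩⟩,
  ⟨⟨1, 0, 0, 0, 0, 0, 0, 0⟩, ⟨0, 0, 1, 0, 1, 0, -1, 1⟩, ⟨-1, 0, 1, 0, -1, 0, 0, 0⟩⟩, ⟨⟨1, 0, 0, 0, 0, 0, 0, 0⟩, ⟨0, 0, 1, 0, 1, 0, -1, 1⟩, ⟨1, 0, -1, 0, 1, 0, 0, 0⟩⟩,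
  ⟨⟨1, 0, 0, 0, 0, 0, 0, 0⟩, ⟨1, 1, -1, 0, -1, 2, -1, -1⟩, ⟨0, 1, -1, 0, -1, 0, 0, 0⟩⟩, ⟨⟨1, 0, 0, 0, 0, 0, 0, 0⟩, ⟨1, 1, -1, 0, -1, 2, -1, -1⟩, ⟨0, -1, 1, 0, 1, 0, 0, 0⟩⟩,
  ⟨⟨1, 0, 0, 0, 0, 0, 0, 0⟩, ⟨0, 0, 0, -1, 0, -1, 1, 1⟩, ⟨-1, 0, 0, -1, 0, -1, 0, 0⟩⟩, ⟨⟨1, 0, 0, 0, 0, 0, 0, 0⟩, ⟨0, 0, 0, -1, 0, -1, 1, 1⟩, ⟨1, 0, 0, 1, 0, 1, 0, 0⟩⟩,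
  ⟨⟨1, 0, 0, 0, 0, 0, 0, 0⟩, ⟨0, 0, 0, 1, 0, 1, -1, -1⟩, ⟨-1, 0, 0, -1, 0, -1, 0, 0⟩⟩, ⟨⟨1, 0, 0, 0, 0, 0, 0, 0⟩, ⟨0, 0, 0, 1, 0, 1, -1, -1⟩, ⟨1, 0, 0, 1, 0, 1, 0, 0⟩⟩,
  ⟨⟨1, 0, 0, 0, 0, 0, 0, 0⟩, ⟨-1, -1, 1, 0, 1, -2, 1, 1⟩, ⟨0, 1, -1, 0, -1, 0, 0, 0⟩⟩, ⟨⟨1, 0, 0, 0, 0, 0, 0, 0⟩, ⟨-1, -1, 1, 0, 1, -2, 1, 1⟩, ⟨0, -1, 1, 0, 1, 0, 0, 0⟩⟩,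
  ⟨⟨1, 0, 0, 0, 0, 0, 0, 0⟩, ⟨0, 0, -1, 0, -1, 0, 1, -1⟩, ⟨-1, 0, 1, 0, -1, 0, 0, 0⟩⟩, ⟨⟨1, 0, 0, 0, 0, 0, 0, 0⟩, ⟨0, 0, -1, 0, -1, 0, 1, -1⟩, ⟨1, 0, -1, 0, 1, 0, 0, 0⟩⟩,
  ⟨⟨1, 0, 0, 0, 0, 0, 0, 0⟩, ⟨1, -1, 0, 1, 2, 1, -1, 1⟩, ⟨0, 1, 0, -1, 0, 1, 0, 0⟩⟩, ⟨⟨1, 0, 0, 0, 0, 0, 0, 0⟩, ⟨1, -1, 0, 1, 2, 1, -1, 1⟩, ⟨0, -1, 0, 1, 0, -1, 0, 0⟩⟩,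
  ⟨⟨1, 0, 0, 0, 0, 0, 0, 0⟩, ⟨0, -1, 0, 1, 0, -1, 0, 0⟩, ⟨-1, 1, 0, -1, -2, -1, 1, -1⟩⟩, ⟨⟨1, 0, 0, 0, 0, 0, 0, 0⟩, ⟨0, -1, 0, 1, 0, -1, 0, 0⟩, ⟨1, -1, 0, 1, 2, 1, -1, 1⟩⟩,
  ⟨⟨1, 0, 0, 0, 0, 0, 0, 0⟩, ⟨0, -1, 1, 0, 1, 0, 0, 0⟩, ⟨1, 1, -1, 0, -1, 2, -1, -1⟩⟩, ⟨⟨1, 0, 0, 0, 0, 0, 0, 0⟩, ⟨0, -1, 1, 0, 1, 0, 0, 0⟩, ⟨-1, -1, 1, 0, 1, -2, 1, 1⟩⟩,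
  ⟨⟨1, 0, 0, 0, 0, 0, 0, 0⟩, ⟨1, 0, 0, 1, 0, 1, 0, 0⟩, ⟨0, 0, 0, -1, 0, -1, 1, 1⟩⟩, ⟨⟨1, 0, 0, 0, 0, 0, 0, 0⟩, ⟨1, 0, 0, 1, 0, 1, 0, 0⟩, ⟨0, 0, 0, 1, 0, 1, -1, -1⟩⟩,
  ⟨⟨1, 0, 0, 0, 0, 0, 0, 0⟩, ⟨1, 0, -1, 0, 1, 0, 0, 0⟩, ⟨0, 0, 1, 0, 1, 0, -1, 1⟩⟩, ⟨⟨1, 0, 0, 0, 0, 0, 0, 0⟩, ⟨1, 0, -1, 0, 1, 0, 0, 0⟩, ⟨0, 0, -1, 0, -1, 0, 1, -1⟩⟩,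
  ⟨⟨1, 0, 0, 0, 0, 0, 0, 0⟩, ⟨0, 0, 0, 0, 0, 0, -1, 1⟩, ⟨-1, 0, 0, 0, 0, 0, 0, 0⟩⟩, ⟨⟨1, 0, 0, 0, 0, 0, 0, 0⟩, ⟨0, 0, 0, 0, 0, 0, -1, 1⟩, ⟨1, 0, 0, 0, 0, 0, 0, 0⟩⟩,
  ⟨⟨1, 0, 0, 0, 0, 0, 0, 0⟩, ⟨-1, 1, 0, -2, -2, 0, 1, -1⟩, ⟨0, -1, 0, 0, 0, 0, 0, 0⟩⟩, ⟨⟨1, 0, 0, 0, 0, 0, 0, 0⟩, ⟨-1, 1, 0, -2, -2, 0, 1, -1⟩, ⟨0, 1, 0, 0, 0, 0, 0, 0⟩⟩,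
  ⟨⟨1, 0, 0, 0, 0, 0, 0, 0⟩, ⟨-1, 1, 1, -1, -1, -1, 1, 1⟩, ⟨0, -1, 1, 1, 1, -1, 0, 2⟩⟩, ⟨⟨1, 0, 0, 0, 0, 0, 0, 0⟩, ⟨-1, 1, 1, -1, -1, -1, 1, 1⟩, ⟨0, 1, -1, -1, -1, 1, 0, -2⟩⟩,
  ⟨⟨1, 0, 0, 0, 0, 0, 0, 0⟩, ⟨0, 2, -1, -1, -1, 1, -1, -1⟩, ⟨1, 0, -1, 1, 1, 1, -2, 0⟩⟩, ⟨⟨1, 0, 0, 0, 0, 0, 0, 0⟩, ⟨0, 2, -1, -1, -1, 1, -1, -1⟩, ⟨-1, 0, 1, -1, -1, -1, 2, 0⟩⟩,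
  ⟨⟨1, 0, 0, 0, 0, 0, 0, 0⟩, ⟨-1, -1, 1, 1, 1, -1, -1, 1⟩, ⟨0, -1, 1, 1, 1, -1, 0, 2⟩⟩, ⟨⟨1, 0, 0, 0, 0, 0, 0, 0⟩, ⟨-1, -1, 1, 1, 1, -1, -1, 1⟩, ⟨0, 1, -1, -1, -1, 1, 0, -2⟩⟩,
  ⟨⟨1, 0, 0, 0, 0, 0, 0, 0⟩, ⟨-2, 0, 1, -1, -1, -1, 1, -1⟩, ⟨1, 0, -1, 1, 1, 1, -2, 0⟩⟩, ⟨⟨1, 0, 0, 0, 0, 0, 0, 0⟩, ⟨-2, 0, 1, -1, -1, -1, 1, -1⟩, ⟨-1, 0, 1, -1, -1, -1, 2, 0⟩⟩,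
  ⟨⟨1, 0, 0, 0, 0, 0, 0, 0⟩, ⟨0, 0, -1, 1, -1, 1, -1, -1⟩, ⟨1, 0, -1, 1, 1, 1, -2, 0⟩⟩, ⟨⟨1, 0, 0, 0, 0, 0, 0, 0⟩, ⟨0, 0, -1, 1, -1, 1, -1, -1⟩, ⟨-1, 0, 1, -1, -1, -1, 2, 0⟩⟩,
  ⟨⟨1, 0, 0, 0, 0, 0, 0, 0⟩, ⟨-1, -1, 0, 0, 0, -2, 1, 1⟩, ⟨0, -1, 0, 0, 0, 0, 0, 0⟩⟩, ⟨⟨1, 0, 0, 0, 0, 0, 0, 0⟩, ⟨-1, -1, 0, 0, 0, -2, 1, 1⟩, ⟨0, 1, 0, 0, 0, 0, 0, 0⟩⟩,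
  ⟨⟨1, 0, 0, 0, 0, 0, 0, 0⟩, ⟨0, 0, 0, 0, 0, 2, -1, -1⟩, ⟨-1, 0, 0, 0, 0, 0, 0, 0⟩⟩, ⟨⟨1, 0, 0, 0, 0, 0, 0, 0⟩, ⟨0, 0, 0, 0, 0, 2, -1, -1⟩, ⟨1, 0, 0, 0, 0, 0, 0, 0⟩⟩,
  ⟨⟨1, 0, 0, 0, 0, 0, 0, 0⟩, ⟨-1, -1, 1, -1, 1, -1, 1, 1⟩, ⟨0, -1, 1, 1, 1, -1, 0, 2⟩⟩, ⟨⟨1, 0, 0, 0, 0, 0, 0, 0⟩, ⟨-1, -1, 1, -1, 1, -1, 1, 1⟩, ⟨0, 1, -1, -1, -1, 1, 0, -2⟩⟩,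
  ⟨⟨1, 0, 0, 0, 0, 0, 0, 0⟩, ⟨-1, 1, 0, 0, -2, 0, 1, -1⟩, ⟨0, -1, 0, 0, 0, 0, 0, 0⟩⟩, ⟨⟨1, 0, 0, 0, 0, 0, 0, 0⟩, ⟨-1, 1, 0, 0, -2, 0, 1, -1⟩, ⟨0, 1, 0, 0, 0, 0, 0, 0⟩⟩,
  ⟨⟨1, 0, 0, 0, 0, 0, 0, 0⟩, ⟨0, 0, 1, 1, 1, 1, -1, 1⟩, ⟨1, 0, -1, 1, 1, 1, -2, 0⟩⟩, ⟨⟨1, 0, 0, 0, 0, 0, 0, 0⟩, ⟨0, 0, 1, 1, 1, 1, -1, 1⟩, ⟨-1, 0, 1, -1, -1, -1, 2, 0⟩⟩,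
  ⟨⟨1, 0, 0, 0, 0, 0, 0, 0⟩, ⟨-1, 1, -1, -1, -1, -1, 1, -1⟩, ⟨0, -1, 1, 1, 1, -1, 0, 2⟩⟩, ⟨⟨1, 0, 0, 0, 0, 0, 0, 0⟩, ⟨-1, 1, -1, -1, -1, -1, 1, -1⟩, ⟨0, 1, -1, -1, -1, 1, 0, -2⟩⟩,
  ⟨⟨1, 0, 0, 0, 0, 0, 0, 0⟩, ⟨0, 0, 0, 0, 2, 0, -1, 1⟩, ⟨-1, 0, 0, 0, 0, 0, 0, 0⟩⟩, ⟨⟨1, 0, 0, 0, 0, 0, 0, 0⟩, ⟨0, 0, 0, 0, 2, 0, -1, 1⟩, ⟨1, 0, 0, 0, 0, 0, 0, 0⟩⟩,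
  ⟨⟨1, 0, 0, 0, 0, 0, 0, 0⟩, ⟨0, 0, 0, 0, 0, 0, 1, 1⟩, ⟨-1, 0, 0, 0, 0, 0, 0, 0⟩⟩, ⟨⟨1, 0, 0, 0, 0, 0, 0, 0⟩, ⟨0, 0, 0, 0, 0, 0, 1, 1⟩, ⟨1, 0, 0, 0, 0, 0, 0, 0⟩⟩,
  ⟨⟨1, 0, 0, 0, 0, 0, 0, 0⟩, ⟨1, 1, -2, 0, 0, 2, -1, -1⟩, ⟨0, -1, 0, 0, 0, 0, 0, 0⟩⟩, ⟨⟨1, 0, 0, 0, 0, 0, 0, 0⟩, ⟨1, 1, -2, 0, 0, 2, -1, -1⟩, ⟨0, 1, 0, 0, 0, 0, 0, 0⟩⟩,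
  ⟨⟨1, 0, 0, 0, 0, 0, 0, 0⟩, ⟨-1, -1, 2, 0, 0, -2, 1, 1⟩, ⟨0, -1, 0, 0, 0, 0, 0, 0⟩⟩, ⟨⟨1, 0, 0, 0, 0, 0, 0, 0⟩, ⟨-1, -1, 2, 0, 0, -2, 1, 1⟩, ⟨0, 1, 0, 0, 0, 0, 0, 0⟩⟩,
  ⟨⟨1, 0, 0, 0, 0, 0, 0, 0⟩, ⟨0, 0, 0, 0, 0, 0, -1, -1⟩, ⟨-1, 0, 0, 0, 0, 0, 0, 0⟩⟩, ⟨⟨1, 0, 0, 0, 0, 0, 0, 0⟩, ⟨0, 0, 0, 0, 0, 0, -1, -1⟩, ⟨1, 0, 0, 0, 0, 0, 0, 0⟩⟩,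
  ⟨⟨1, 0, 0, 0, 0, 0, 0, 0⟩, ⟨0, 0, 0, 0, -2, 0, 1, -1⟩, ⟨-1, 0, 0, 0, 0, 0, 0, 0⟩⟩, ⟨⟨1, 0, 0, 0, 0, 0, 0, 0⟩, ⟨0, 0, 0, 0, -2, 0, 1, -1⟩, ⟨1, 0, 0, 0, 0, 0, 0, 0⟩⟩,
  ⟨⟨1, 0, 0, 0, 0, 0, 0, 0⟩, ⟨1, -1, 1, 1, 1, 1, -1, 1⟩, ⟨0, -1, 1, 1, 1, -1, 0, 2⟩⟩, ⟨⟨1, 0, 0, 0, 0, 0, 0, 0⟩, ⟨1, -1, 1, 1, 1, 1, -1, 1⟩, ⟨0, 1, -1, -1, -1, 1, 0, -2⟩⟩,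
  ⟨⟨1, 0, 0, 0, 0, 0, 0, 0⟩, ⟨0, 0, -1, -1, -1, -1, 1, -1⟩, ⟨1, 0, -1, 1, 1, 1, -2, 0⟩⟩, ⟨⟨1, 0, 0, 0, 0, 0, 0, 0⟩, ⟨0, 0, -1, -1, -1, -1, 1, -1⟩, ⟨-1, 0, 1, -1, -1, -1, 2, 0⟩⟩,
  ⟨⟨1, 0, 0, 0, 0, 0, 0, 0⟩, ⟨1, -1, 0, 0, 2, 0, -1, 1⟩, ⟨0, -1, 0, 0, 0, 0, 0, 0⟩⟩, ⟨⟨1, 0, 0, 0, 0, 0, 0, 0⟩, ⟨1, -1, 0, 0, 2, 0, -1, 1⟩, ⟨0, 1, 0, 0, 0, 0, 0, 0⟩⟩,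
  ⟨⟨1, 0, 0, 0, 0, 0, 0, 0⟩, ⟨1, 1, -1, 1, -1, 1, -1, -1⟩, ⟨0, -1, 1, 1, 1, -1, 0, 2⟩⟩, ⟨⟨1, 0, 0, 0, 0, 0, 0, 0⟩, ⟨1, 1, -1, 1, -1, 1, -1, -1⟩, ⟨0, 1, -1, -1, -1, 1, 0, -2⟩⟩,
  ⟨⟨1, 0, 0, 0, 0, 0, 0, 0⟩, ⟨0, 0, 0, 0, 0, -2, 1, 1⟩, ⟨-1, 0, 0, 0, 0, 0, 0, 0⟩⟩, ⟨⟨1, 0, 0, 0, 0, 0, 0, 0⟩, ⟨0, 0, 0, 0, 0, -2, 1, 1⟩, ⟨1, 0, 0, 0, 0, 0, 0, 0⟩⟩,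
  ⟨⟨1, 0, 0, 0, 0, 0, 0, 0⟩, ⟨1, 1, 0, 0, 0, 2, -1, -1⟩, ⟨0, -1, 0, 0, 0, 0, 0, 0⟩⟩, ⟨⟨1, 0, 0, 0, 0, 0, 0, 0⟩, ⟨1, 1, 0, 0, 0, 2, -1, -1⟩, ⟨0, 1, 0, 0, 0, 0, 0, 0⟩⟩,
  ⟨⟨1, 0, 0, 0, 0, 0, 0, 0⟩, ⟨0, 0, 1, -1, 1, -1, 1, 1⟩, ⟨1, 0, -1, 1, 1, 1, -2, 0⟩⟩, ⟨⟨1, 0, 0, 0, 0, 0, 0, 0⟩, ⟨0, 0, 1, -1, 1, -1, 1, 1⟩, ⟨-1, 0, 1, -1, -1, -1, 2, 0⟩⟩,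
  ⟨⟨1, 0, 0, 0, 0, 0, 0, 0⟩, ⟨2, 0, -1, 1, 1, 1, -1, 1⟩, ⟨1, 0, -1, 1, 1, 1, -2, 0⟩⟩, ⟨⟨1, 0, 0, 0, 0, 0, 0, 0⟩, ⟨2, 0, -1, 1, 1, 1, -1, 1⟩, ⟨-1, 0, 1, -1, -1, -1, 2, 0⟩⟩,
  ⟨⟨1, 0, 0, 0, 0, 0, 0, 0⟩, ⟨1, 1, -1, -1, -1, 1, 1, -1⟩, ⟨0, -1, 1, 1, 1, -1, 0, 2⟩⟩, ⟨⟨1, 0, 0, 0, 0, 0, 0, 0⟩, ⟨1, 1, -1, -1, -1, 1, 1, -1⟩, ⟨0, 1, -1, -1, -1, 1, 0, -2⟩⟩,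
  ⟨⟨1, 0, 0, 0, 0, 0, 0, 0⟩, ⟨0, -2, 1, 1, 1, -1, 1, 1⟩, ⟨1, 0, -1, 1, 1, 1, -2, 0⟩⟩, ⟨⟨1, 0, 0, 0, 0, 0, 0, 0⟩, ⟨0, -2, 1, 1, 1, -1, 1, 1⟩, ⟨-1, 0, 1, -1, -1, -1, 2, 0⟩⟩,
  ⟨⟨1, 0, 0, 0, 0, 0, 0, 0⟩, ⟨1, -1, -1, 1, 1, 1, -1, -1⟩, ⟨0, -1, 1, 1, 1, -1, 0, 2⟩⟩, ⟨⟨1, 0, 0, 0, 0, 0, 0, 0⟩, ⟨1, -1, -1, 1, 1, 1, -1, -1⟩, ⟨0, 1, -1, -1, -1, 1, 0, -2⟩⟩,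
  ⟨⟨1, 0, 0, 0, 0, 0, 0, 0⟩, ⟨1, -1, 0, 2, 2, 0, -1, 1⟩, ⟨0, -1, 0, 0, 0, 0, 0, 0⟩⟩, ⟨⟨1, 0, 0, 0, 0, 0, 0, 0⟩, ⟨1, -1, 0, 2, 2, 0, -1, 1⟩, ⟨0, 1, 0, 0, 0, 0, 0, 0⟩⟩,
  ⟨⟨1, 0, 0, 0, 0, 0, 0, 0⟩, ⟨0, 0, 0, 0, 0, 0, 1, -1⟩, ⟨-1, 0, 0, 0, 0, 0, 0, 0⟩⟩, ⟨⟨1, 0, 0, 0, 0, 0, 0, 0⟩, ⟨0, 0, 0, 0, 0, 0, 1, -1⟩, ⟨1, 0, 0, 0, 0, 0, 0, 0⟩⟩]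

/-- the 8 elements `y = b h` (`b` a unit) with `h + y ∈ I h̄` -/
def Ylist : List Ic := [⟨1, -2, 0, 2, 2, 0, -1, 1⟩, ⟨1, 0, 0, 0, 0, 0, 1, 1⟩, ⟨1, 0, 0, 0, 2, 0, -1, 1⟩, ⟨1, 0, 0, 0, 0, 2, -1, -1⟩, ⟨-1, 0, 0, 0, 0, -2, 1, 1⟩, ⟨-1, 0, 0, 0, -2, 0, 1, -1⟩, ⟨-1, 0, 0, 0, 0, 0, -1, -1⟩, ⟨-1, 2, 0, -2, -2, 0, 1, -1⟩]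

/-- icosians of small norm congruent to `1` modulo `I h` -/
def cand1 : List Ic := candLit.filter fun y => inIh (Ic.one.sub y)

theorem M10_complete : ∀ y ∈ cand1, ∀ z ∈ cand1, y.Tq + z.Tq = 48 → inLam ⟨Ic.one, y, z⟩ = true →
    qipM ⟨Ic.one, y, z⟩ ⟨Ic.one, y, z⟩ = Ic.four → (⟨Ic.one, y, z⟩ : V3) ∈ M10 := by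
  decide +kernel

theorem Ylist_complete : ∀ b ∈ candLit, b.Tq = 16 → inIhb (Ic.Hc.add (b.mul Ic.Hc)) = true →
    b.mul Ic.Hc ∈ Ylist := by
  decide +kernel

theorem inIh_one : inIh Ic.one = false := by decide

end Cfsg.Agent.Lib.Helper27.J2
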