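import Cfsg.Agent.Lib.Helper7.StemThreeB

/-!
# Stem extensions with kernel of exponent 2: lifting `SL₂(3)`-configurations

`σ : Γ →* G` is surjective with central kernel of exponent 2.

* `q8_lift`: if `g` has order 3 and cycles `x ↦ y ↦ x y` (so that `⟨x, y⟩` is a quotient of `Q₈`
  inside `⟨x, y, g⟩`, a quotient of `SL₂(3)`), then arbitrary lifts `X, Y` of `x, y` satisfy the
  quaternion relations `X² = Y²`, `Y X = X² X Y`, `X⁴ = 1`.
* `central_of_map_central`: in a perfect `Γ`, an element whose image is central is central.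
* `ker_eq_bot_two_sl23`: a Sylow 2-subgroup `2^{1+4} : Q₈` assembled from four such configurations splits.
* `ker_eq_bot_abelian_rank2`: the abelian rank 2 case for an odd prime.
-/

set_option autoImplicit false

namespace Cfsg.Agent.Lib.Helper27.StemQ

open Subgroup Cfsg.Agent.Lib.Helper7.Stem
open scoped commutatorElement

universe u v

variable {Γ : Type u} {G : Type v} [Group Γ] [Group G]

section basic

variable (σ : Γ →* G) (hc : σ.ker ≤ center Γ) (hexp : ∀ k ∈ σ.ker, k * k = 1)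
include hc hexp

omit hc in
/-- a lift with trivial cube of an element with trivial cube -/
theorem exists_lift_cube (hsurj : Function.Surjective σ) {g : G} (hg : g ^ 3 = 1) :
    ∃ g' : Γ, σ g' = g ∧ g' ^ 3 = 1 := by
  obtain ⟨g₀, hg₀⟩ := hsurj g
  have hk : g₀ ^ 3 ∈ σ.ker := by rw [MonoidHom.mem_ker, map_pow, hg₀, hg]
  have h2 := hexp _ hk
  refine ⟨g₀ * g₀ ^ 3, ?_, ?_⟩
  · rw [map_mul, MonoidHom.mem_ker.mp hk, mul_one, hg₀]
  · have hcom : Commute g₀ (g₀ ^ 3) := (Commute.refl g₀).pow_right 3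
    rw [hcom.mul_pow]
    have : (g₀ ^ 3) ^ 3 = g₀ ^ 3 := by
      rw [pow_succ, pow_two, h2, one_mul]
    rw [this, h2]

/-- the quaternion relations for arbitrary lifts of an `SL₂(3)`-configuration -/
theorem q8_lift (hsurj : Function.Surjective σ) {x y g : G} (hg : g ^ 3 = 1)
    (hgx : g * x * g⁻¹ = y) (hgy : g * y * g⁻¹ = x * y) {X Y : Γ} (hX : σ X = x) (hY : σ Y = y) :
    X * X = Y * Y ∧ Y * X = X * X * X * Y ∧ X * X * (X * X) = 1 := by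
  obtain ⟨g', hg', hg'3⟩ := exists_lift_cube σ hexp hsurj hg
  obtain ⟨Y₀, hY₀⟩ : ∃ Y₀, Y₀ = g' * X * g'⁻¹ := ⟨_, rfl⟩
  obtain ⟨K₀, hK₀⟩ : ∃ K₀, K₀ = g' * Y₀ * g'⁻¹ := ⟨_, rfl⟩
  have hσY₀ : σ Y₀ = y := by rw [hY₀, map_mul, map_mul, map_inv, hg', hX, hgx]
  have hσK₀ : σ K₀ = x * y := by rw [hK₀, map_mul, map_mul, map_inv, hg', hσY₀, hgy]
  have hXK : X = g' * K₀ * g'⁻¹ := by
    rw [hK₀, hY₀]
    have h3 : g' * g' * g' = 1 := by rw [← hg'3, pow_succ, pow_two]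
    have : g' * (g' * (g' * X * g'⁻¹) * g'⁻¹) * g'⁻¹ = (g' * g' * g') * X * (g' * g' * g')⁻¹ := by
      group
    rw [this, h3]; group
  obtain ⟨a, ha⟩ : ∃ a, a = (X * Y₀)⁻¹ * K₀ := ⟨_, rfl⟩
  have hak : a ∈ σ.ker := by
    rw [MonoidHom.mem_ker, ha, map_mul, map_inv, map_mul, hX, hσY₀, hσK₀, inv_mul_cancel]
  have hac := Subgroup.mem_center_iff.mp (hc hak)
  have ha2 := hexp _ hak
  have hconja : g' * a * g'⁻¹ = a := by rw [hac g']; group
  have e1 : K₀ = X * Y₀ * a := by rw [ha]; group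
  have e2 : X = Y₀ * K₀ * a := by
    calc X = g' * K₀ * g'⁻¹ := hXK
      _ = g' * (X * Y₀ * a) * g'⁻¹ := by rw [← e1]
      _ = (g' * X * g'⁻¹) * (g' * Y₀ * g'⁻¹) * (g' * a * g'⁻¹) := by group
      _ = Y₀ * K₀ * a := by rw [← hY₀, ← hK₀, hconja]
  have e3 : Y₀ = K₀ * X * a := by
    calc Y₀ = g' * X * g'⁻¹ := hY₀
      _ = g' * (Y₀ * K₀ * a) * g'⁻¹ := by rw [← e2]
      _ = (g' * Y₀ * g'⁻¹) * (g' * K₀ * g'⁻¹) * (g' * a * g'⁻¹) := by group
      _ = K₀ * X * a := by rw [← hK₀, ← hXK, hconja]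
  have hYY : Y₀ * Y₀ = X * X := by
    calc Y₀ * Y₀ = Y₀ * (K₀ * X * a) := by rw [← e3]
      _ = Y₀ * K₀ * (X * a) := by group
      _ = Y₀ * K₀ * (a * X) := by rw [hac X]
      _ = (Y₀ * K₀ * a) * X := by group
      _ = X * X := by rw [← e2]
  have hYX : Y₀ * X = X * X * X * Y₀ := by
    calc Y₀ * X = Y₀ * (Y₀ * K₀ * a) := by rw [← e2]
      _ = (Y₀ * Y₀) * (K₀ * a) := by group
      _ = (X * X) * (K₀ * a) := by rw [hYY]
      _ = (X * X) * ((X * Y₀ * a) * a) := by rw [← e1]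
      _ = X * X * X * Y₀ * (a * a) := by group
      _ = X * X * X * Y₀ := by rw [ha2, mul_one]
  have hconj : Y₀ * X * Y₀⁻¹ = X * X * X := by rw [hYX]; group
  have h5 : Y₀ * (X * X) * Y₀⁻¹ = X * X := by rw [← hYY]; group
  have h6 : Y₀ * (X * X) * Y₀⁻¹ = (Y₀ * X * Y₀⁻¹) * (Y₀ * X * Y₀⁻¹) := by group
  have hcc : X * X * (X * X) = 1 := by
    rw [hconj, h5] at h6
    have h7 : X * X * 1 = X * X * (X * X * (X * X)) := by
      rw [mul_one]
      calc X * X = X * X * X * (X * X * X) := h6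
        _ = X * X * (X * X * (X * X)) := by group
    exact (mul_left_cancel h7).symm
  -- transfer to `Y`
  obtain ⟨v, hv⟩ : ∃ v, v = Y₀⁻¹ * Y := ⟨_, rfl⟩
  have hvk : v ∈ σ.ker := by
    rw [MonoidHom.mem_ker, hv, map_mul, map_inv, hσY₀, hY, inv_mul_cancel]
  have hvc := Subgroup.mem_center_iff.mp (hc hvk)
  have hYv : Y = Y₀ * v := by rw [hv]; group
  refine ⟨?_, ?_, hcc⟩
  · rw [← hYY]
    exact sq_eq_of_map_eq σ hc hexp (by rw [hσY₀, hY])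
  · calc Y * X = Y₀ * (v * X) := by rw [hYv]; group
      _ = Y₀ * (X * v) := by rw [← hvc X]
      _ = (Y₀ * X) * v := by group
      _ = (X * X * X * Y₀) * v := by rw [hYX]
      _ = X * X * X * Y := by rw [hYv]; group

end basic

section perfect

/-- a stem extension of a perfect group is perfect -/
theorem commutator_eq_top_of_stem (σ : Γ →* G) (hσ : Cfsg.IsStemExtension σ)
    (hperf : commutator G = ⊤) : commutator Γ = ⊤ := by
  rw [eq_top_iff]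
  intro γ _
  have h1 : σ γ ∈ (commutator Γ).map σ := by
    rw [commutator_def, Subgroup.map_commutator, ← MonoidHom.range_eq_map,
      MonoidHom.range_eq_top.2 hσ.1, ← commutator_def, hperf]
    trivial
  obtain ⟨c, hc, hcγ⟩ := h1
  have hk : c⁻¹ * γ ∈ σ.ker := by
    rw [MonoidHom.mem_ker, map_mul, map_inv, hcγ, inv_mul_cancel]
  have : γ = c * (c⁻¹ * γ) := by group
  rw [this]
  exact (commutator Γ).mul_mem hc (hσ.2.2 hk)

/-- in a perfect group with central kernel, an element with central image is central -/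
theorem central_of_map_central (σ : Γ →* G) (hc : σ.ker ≤ center Γ) (hperf : commutator Γ = ⊤)
    {d : Γ} (hd : σ d ∈ center G) : d ∈ center Γ := by
  have hdG := Subgroup.mem_center_iff.mp hd
  have key : ∀ a : Γ, d * a * d⁻¹ * a⁻¹ ∈ σ.ker := by
    intro a
    rw [MonoidHom.mem_ker, map_mul, map_mul, map_mul, map_inv, map_inv, ← hdG (σ a)]
    group
  have hle : commutator Γ ≤ centralizer {d} := by
    rw [commutator_eq_closure, closure_le]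
    rintro _ ⟨a, b, rfl⟩
    rw [SetLike.mem_coe, mem_centralizer_iff]
    intro h hh
    rw [Set.mem_singleton_iff] at hh
    subst hh
    -- h ⁅a,b⁆ h⁻¹ = ⁅a,b⁆
    have ea : h * a * h⁻¹ = a * (a⁻¹ * (h * a * h⁻¹ * a⁻¹) * a) := by group
    have ka : a⁻¹ * (h * a * h⁻¹ * a⁻¹) * a ∈ center Γ :=
      (center Γ).normal_of_characteristic.conj_mem _ (hc (key a)) a⁻¹ |> fun h' => by simpa using h'
    have eb : h * b * h⁻¹ = b * (b⁻¹ * (h * b * h⁻¹ * b⁻¹) * b) := by group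
    have kb : b⁻¹ * (h * b * h⁻¹ * b⁻¹) * b ∈ center Γ :=
      (center Γ).normal_of_characteristic.conj_mem _ (hc (key b)) b⁻¹ |> fun h' => by simpa using h'
    have e : h * ⁅a, b⁆ * h⁻¹ = ⁅h * a * h⁻¹, h * b * h⁻¹⁆ := by
      simp only [commutatorElement_def]; group
    have : h * ⁅a, b⁆ * h⁻¹ = ⁅a, b⁆ := by
      rw [e, ea, eb, commutatorElement_mul_central ka kb]
    calc h * ⁅a, b⁆ = (h * ⁅a, b⁆ * h⁻¹) * h := by group
      _ = ⁅a, b⁆ * h := by rw [this]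
  rw [hperf] at hle
  have := hle (mem_top d)
  rw [Subgroup.mem_center_iff]
  intro g
  have hg : g ∈ centralizer {d} := hle (mem_top g)
  rw [mem_centralizer_iff] at hg
  exact (hg d rfl).symm

end perfect

section two

/-- conjugating a relation `b a b⁻¹ = c a` -/
theorem conj_rel {g a b c : Γ} (h : b * a * b⁻¹ = c * a) :
    (g * b * g⁻¹) * (g * a * g⁻¹) * (g * b * g⁻¹)⁻¹ = (g * c * g⁻¹) * (g * a * g⁻¹) := by
  calc (g * b * g⁻¹) * (g * a * g⁻¹) * (g * b * g⁻¹)⁻¹ = g * (b * a * b⁻¹) * g⁻¹ := by group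
    _ = g * (c * a) * g⁻¹ := by rw [h]
    _ = (g * c * g⁻¹) * (g * a * g⁻¹) := by group

theorem conj_of_central {d x : Γ} (hd : d ∈ center Γ) : d * x * d⁻¹ = x := by
  rw [← Subgroup.mem_center_iff.mp hd x]; group

/-- The Sylow 2-subgroup `2^{1+4} : Q₈` of `2.J₂`-type splits in every stem extension with kernel of
exponent 2: `x1` and its conjugates under `⟨p, q⟩ ≅ Q₈` pairwise lie in `SL₂(3)`-configurations. -/
theorem ker_eq_bot_two_sl23 [Finite Γ] [Finite G] (σ : Γ →* G) (hσ : Cfsg.IsStemExtension σ)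
    (hexp : ∀ k ∈ σ.ker, k * k = 1) (hperf : commutator G = ⊤)
    (x1 p q gs g2 g3 g4 : G)
    (hgs : gs ^ 3 = 1) (hgsp : gs * p * gs⁻¹ = q) (hgsq : gs * q * gs⁻¹ = p * q)
    (hpp : p * p ∈ center G)
    (hg2 : g2 ^ 3 = 1) (hg2x : g2 * x1 * g2⁻¹ = p * x1 * p⁻¹)
    (hg2y : g2 * (p * x1 * p⁻¹) * g2⁻¹ = x1 * (p * x1 * p⁻¹))
    (hg3 : g3 ^ 3 = 1) (hg3x : g3 * x1 * g3⁻¹ = q * x1 * q⁻¹)
    (hg3y : g3 * (q * x1 * q⁻¹) * g3⁻¹ = x1 * (q * x1 * q⁻¹))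
    (hg4 : g4 ^ 3 = 1) (hg4x : g4 * x1 * g4⁻¹ = p * (q * x1 * q⁻¹) * p⁻¹)
    (hg4y : g4 * (p * (q * x1 * q⁻¹) * p⁻¹) * g4⁻¹ = x1 * (p * (q * x1 * q⁻¹) * p⁻¹))
    (hP : 256 ≤ Nat.card ↥(zpowers (x1 * x1) ⊔ zpowers x1 ⊔ zpowers (p * x1 * p⁻¹) ⊔
      zpowers (q * x1 * q⁻¹) ⊔ zpowers (p * (q * x1 * q⁻¹) * p⁻¹) ⊔ zpowers (p * p) ⊔ zpowers p ⊔
      zpowers q))
    (m : ℕ) (hG : Nat.card G = 256 * m) (hm : Odd m) : σ.ker = ⊥ := by
  have hcen := hσ.2.1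
  have hsurj := hσ.1
  have hΓperf := commutator_eq_top_of_stem σ hσ hperf
  obtain ⟨X1, hX1⟩ := hsurj x1
  obtain ⟨P, hP'⟩ := hsurj p
  obtain ⟨Q, hQ'⟩ := hsurj q
  obtain ⟨X2, hX2d⟩ : ∃ X2, X2 = P * X1 * P⁻¹ := ⟨_, rfl⟩
  obtain ⟨X3, hX3d⟩ : ∃ X3, X3 = Q * X1 * Q⁻¹ := ⟨_, rfl⟩
  obtain ⟨X4, hX4d⟩ : ∃ X4, X4 = P * X3 * P⁻¹ := ⟨_, rfl⟩
  have hX2 : σ X2 = p * x1 * p⁻¹ := by rw [hX2d, map_mul, map_mul, map_inv, hP', hX1]
  have hX3 : σ X3 = q * x1 * q⁻¹ := by rw [hX3d, map_mul, map_mul, map_inv, hQ', hX1]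
  have hX4 : σ X4 = p * (q * x1 * q⁻¹) * p⁻¹ := by rw [hX4d, map_mul, map_mul, map_inv, hP', hX3]
  obtain ⟨hPQ1, hPQ2, hPQ3⟩ := q8_lift σ hcen hexp hsurj hgs hgsp hgsq hP' hQ'
  obtain ⟨h12a, h12b, h12c⟩ := q8_lift σ hcen hexp hsurj hg2 hg2x hg2y hX1 hX2
  obtain ⟨h13a, h13b, -⟩ := q8_lift σ hcen hexp hsurj hg3 hg3x hg3y hX1 hX3
  obtain ⟨h14a, h14b, -⟩ := q8_lift σ hcen hexp hsurj hg4 hg4x hg4y hX1 hX4
  obtain ⟨D, hD⟩ : ∃ D, D = P * P := ⟨_, rfl⟩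
  obtain ⟨C, hC⟩ : ∃ C, C = X1 * X1 := ⟨_, rfl⟩
  rw [← hD] at hPQ1 hPQ2 hPQ3
  rw [← hC] at h12a h12b h12c h13a h13b h14a h14b
  have hDcen : D ∈ center Γ := by
    apply central_of_map_central σ hcen hΓperf
    rw [hD, map_mul, hP']; exact hpp
  have hDx : ∀ x : Γ, D * x * D⁻¹ = x := fun x => conj_of_central hDcen
  -- conjugation relations
  have r12 : X2 * X1 * X2⁻¹ = C * X1 := by rw [h12b]; group
  have r13 : X3 * X1 * X3⁻¹ = C * X1 := by rw [h13b]; group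
  have r14 : X4 * X1 * X4⁻¹ = C * X1 := by rw [h14b]; group
  have rQP : Q * P * Q⁻¹ = D * P := by rw [hPQ2]; group
  have cP1 : P * X1 * P⁻¹ = X2 := hX2d.symm
  have cP2 : P * X2 * P⁻¹ = X1 := by
    rw [hX2d]
    calc P * (P * X1 * P⁻¹) * P⁻¹ = (P * P) * X1 * (P * P)⁻¹ := by group
      _ = X1 := by rw [← hD]; exact hDx X1
  have cP3 : P * X3 * P⁻¹ = X4 := hX4d.symm
  have cP4 : P * X4 * P⁻¹ = X3 := by
    rw [hX4d]
    calc P * (P * X3 * P⁻¹) * P⁻¹ = (P * P) * X3 * (P * P)⁻¹ := by group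
      _ = X3 := by rw [← hD]; exact hDx X3
  have cQ1 : Q * X1 * Q⁻¹ = X3 := hX3d.symm
  have cQ3 : Q * X3 * Q⁻¹ = X1 := by
    rw [hX3d]
    calc Q * (Q * X1 * Q⁻¹) * Q⁻¹ = (Q * Q) * X1 * (Q * Q)⁻¹ := by group
      _ = X1 := by rw [← hPQ1]; exact hDx X1
  have cQ2 : Q * X2 * Q⁻¹ = X4 := by
    have e : Q * P = D * P * Q := hPQ2
    calc Q * X2 * Q⁻¹ = (Q * P) * X1 * (Q * P)⁻¹ := by rw [hX2d]; group
      _ = (D * P * Q) * X1 * (D * P * Q)⁻¹ := by rw [e]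
      _ = D * (P * (Q * X1 * Q⁻¹) * P⁻¹) * D⁻¹ := by group
      _ = P * (Q * X1 * Q⁻¹) * P⁻¹ := hDx _
      _ = X4 := by rw [← hX3d, ← hX4d]
  have cQ4 : Q * X4 * Q⁻¹ = X2 := by
    rw [← cQ2]
    calc Q * (Q * X2 * Q⁻¹) * Q⁻¹ = (Q * Q) * X2 * (Q * Q)⁻¹ := by group
      _ = X2 := by rw [← hPQ1]; exact hDx X2
  have cPC : P * C * P⁻¹ = C := by
    calc P * C * P⁻¹ = (P * X1 * P⁻¹) * (P * X1 * P⁻¹) := by rw [hC]; group
      _ = C := by rw [cP1, ← h12a]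
  have cQC : Q * C * Q⁻¹ = C := by
    calc Q * C * Q⁻¹ = (Q * X1 * Q⁻¹) * (Q * X1 * Q⁻¹) := by rw [hC]; group
      _ = C := by rw [cQ1, ← h13a]
  have r24 : X4 * X2 * X4⁻¹ = C * X2 := by
    have := conj_rel (g := P) r13
    rw [cP3, cP1, cPC] at this
    exact this
  have r34 : X4 * X3 * X4⁻¹ = C * X3 := by
    have := conj_rel (g := Q) r12
    rw [cQ2, cQ1, cQC] at this
    exact this
  have r23 : X3 * X2 * X3⁻¹ = C * X2 := by
    have := conj_rel (g := P) r14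
    rw [cP4, cP1, cPC] at this
    exact this
  -- `C` commutes with the `X`s
  have cC1 : X1 * C * X1⁻¹ = C := by rw [hC]; group
  have cC2 : X2 * C * X2⁻¹ = C := by rw [h12a]; group
  have cC3 : X3 * C * X3⁻¹ = C := by rw [h13a]; group
  have cC4 : X4 * C * X4⁻¹ = C := by rw [h14a]; group
  -- the chain
  set Q0 := zpowers C with hQ0
  set Q1 := Q0 ⊔ zpowers X1 with hQ1
  set Q2 := Q1 ⊔ zpowers X2 with hQ2
  set Q3 := Q2 ⊔ zpowers X3 with hQ3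
  set Q4 := Q3 ⊔ zpowers X4 with hQ4
  set Q5 := Q4 ⊔ zpowers D with hQ5
  set Q6 := Q5 ⊔ zpowers P with hQ6
  set Q7 := Q6 ⊔ zpowers Q with hQ7
  have mC0 : C ∈ Q0 := mem_zpowers C
  have l01 : Q0 ≤ Q1 := le_sup_left
  have l12 : Q1 ≤ Q2 := le_sup_left
  have l23 : Q2 ≤ Q3 := le_sup_left
  have l34 : Q3 ≤ Q4 := le_sup_left
  have l45 : Q4 ≤ Q5 := le_sup_left
  have l56 : Q5 ≤ Q6 := le_sup_left
  have mX1 : X1 ∈ Q1 := (le_sup_right : zpowers X1 ≤ Q1) (mem_zpowers X1)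
  have mX2 : X2 ∈ Q2 := (le_sup_right : zpowers X2 ≤ Q2) (mem_zpowers X2)
  have mX3 : X3 ∈ Q3 := (le_sup_right : zpowers X3 ≤ Q3) (mem_zpowers X3)
  have mX4 : X4 ∈ Q4 := (le_sup_right : zpowers X4 ≤ Q4) (mem_zpowers X4)
  have mD : D ∈ Q5 := (le_sup_right : zpowers D ≤ Q5) (mem_zpowers D)
  have mP : P ∈ Q6 := (le_sup_right : zpowers P ≤ Q6) (mem_zpowers P)
  have c0 : Nat.card ↥Q0 ≤ 2 := by
    rw [hQ0, Nat.card_zpowers]
    exact Nat.le_of_dvd (by norm_num) (orderOf_dvd_of_pow_eq_one (by rw [pow_two]; exact h12c))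
  -- generic: conjugation on `zpowers C`
  have hz : ∀ (g : Γ) (R : Subgroup Γ), g * C * g⁻¹ ∈ R → ∀ x ∈ Q0, g * x * g⁻¹ ∈ R := by
    intro g R hg x hx
    have hle : Q0 ≤ R.comap (MulAut.conj g).toMonoidHom := by
      rw [hQ0, zpowers_le, mem_comap]
      simpa [MulAut.conj_apply] using hg
    have := hle hx
    rw [mem_comap] at this
    simpa [MulAut.conj_apply] using this
  have n1 : ∀ x ∈ Q0, X1 * x * X1⁻¹ ∈ Q0 := hz X1 Q0 (by rw [cC1]; exact mC0)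
  have c1 : Nat.card ↥Q1 ≤ 2 * Nat.card ↥Q0 :=
    card_sup_zpowers_le (by norm_num) (by rw [pow_two, ← hC]; exact mC0) n1
  have n2 : ∀ x ∈ Q1, X2 * x * X2⁻¹ ∈ Q1 :=
    conj_sup_zpowers_mem (hz X2 Q1 (by rw [cC2]; exact l01 mC0))
      (by rw [r12]; exact Q1.mul_mem (l01 mC0) mX1)
  have c2 : Nat.card ↥Q2 ≤ 2 * Nat.card ↥Q1 :=
    card_sup_zpowers_le (by norm_num) (by rw [pow_two, ← h12a]; exact l01 mC0) n2
  have n3 : ∀ x ∈ Q2, X3 * x * X3⁻¹ ∈ Q2 :=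
    conj_sup_zpowers_mem
      (conj_sup_zpowers_mem (hz X3 Q2 (by rw [cC3]; exact l12 (l01 mC0)))
        (by rw [r13]; exact Q2.mul_mem (l12 (l01 mC0)) (l12 mX1)))
      (by rw [r23]; exact Q2.mul_mem (l12 (l01 mC0)) mX2)
  have c3 : Nat.card ↥Q3 ≤ 2 * Nat.card ↥Q2 :=
    card_sup_zpowers_le (by norm_num) (by rw [pow_two, ← h13a]; exact l12 (l01 mC0)) n3
  have mC3 : C ∈ Q3 := l23 (l12 (l01 mC0))
  have n4 : ∀ x ∈ Q3, X4 * x * X4⁻¹ ∈ Q3 :=
    conj_sup_zpowers_mem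
      (conj_sup_zpowers_mem
        (conj_sup_zpowers_mem (hz X4 Q3 (by rw [cC4]; exact mC3))
          (by rw [r14]; exact Q3.mul_mem mC3 (l23 (l12 mX1))))
        (by rw [r24]; exact Q3.mul_mem mC3 (l23 mX2)))
      (by rw [r34]; exact Q3.mul_mem mC3 mX3)
  have c4 : Nat.card ↥Q4 ≤ 2 * Nat.card ↥Q3 :=
    card_sup_zpowers_le (by norm_num) (by rw [pow_two, ← h14a]; exact mC3) n4
  have n5 : ∀ x ∈ Q4, D * x * D⁻¹ ∈ Q4 := by
    intro x hx; rw [hDx x]; exact hx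
  have c5 : Nat.card ↥Q5 ≤ 2 * Nat.card ↥Q4 :=
    card_sup_zpowers_le (by norm_num) (by rw [pow_two, hPQ3]; exact one_mem _) n5
  have mC5 : C ∈ Q5 := l45 (l34 mC3)
  have m1 : X1 ∈ Q5 := l45 (l34 (l23 (l12 mX1)))
  have m2 : X2 ∈ Q5 := l45 (l34 (l23 mX2))
  have m3 : X3 ∈ Q5 := l45 (l34 mX3)
  have m4 : X4 ∈ Q5 := l45 mX4
  have n6 : ∀ x ∈ Q5, P * x * P⁻¹ ∈ Q5 :=
    conj_sup_zpowers_mem
      (conj_sup_zpowers_mem
        (conj_sup_zpowers_mem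
          (conj_sup_zpowers_mem
            (conj_sup_zpowers_mem (hz P Q5 (by rw [cPC]; exact mC5))
              (by rw [cP1]; exact m2))
            (by rw [cP2]; exact m1))
          (by rw [cP3]; exact m4))
        (by rw [cP4]; exact m3))
      (by
        have : P * D * P⁻¹ = D := by rw [hD]; group
        rw [this]; exact mD)
  have c6 : Nat.card ↥Q6 ≤ 2 * Nat.card ↥Q5 :=
    card_sup_zpowers_le (by norm_num) (by rw [pow_two, ← hD]; exact mD) n6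
  have n7 : ∀ x ∈ Q6, Q * x * Q⁻¹ ∈ Q6 :=
    conj_sup_zpowers_mem
      (conj_sup_zpowers_mem
        (conj_sup_zpowers_mem
          (conj_sup_zpowers_mem
            (conj_sup_zpowers_mem
              (conj_sup_zpowers_mem (hz Q Q6 (by rw [cQC]; exact l56 mC5))
                (by rw [cQ1]; exact l56 m3))
              (by rw [cQ2]; exact l56 m4))
            (by rw [cQ3]; exact l56 m1))
          (by rw [cQ4]; exact l56 m2))
        (by
          have : Q * D * Q⁻¹ = D := by rw [hPQ1]; group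
          rw [this]; exact l56 mD))
      (by rw [rQP]; exact Q6.mul_mem (l56 mD) mP)
  have c7 : Nat.card ↥Q7 ≤ 2 * Nat.card ↥Q6 :=
    card_sup_zpowers_le (by norm_num) (by rw [pow_two, ← hPQ1]; exact l56 mD) n7
  have hcQ : Nat.card ↥Q7 ≤ 256 := by omega
  have hmap : Q7.map σ = zpowers (x1 * x1) ⊔ zpowers x1 ⊔ zpowers (p * x1 * p⁻¹) ⊔
      zpowers (q * x1 * q⁻¹) ⊔ zpowers (p * (q * x1 * q⁻¹) * p⁻¹) ⊔ zpowers (p * p) ⊔ zpowers p ⊔
      zpowers q := by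
    rw [hQ7, hQ6, hQ5, hQ4, hQ3, hQ2, hQ1, hQ0]
    simp only [Subgroup.map_sup, MonoidHom.map_zpowers]
    rw [hX1, hX2, hX3, hX4, hP', hQ', hC, hD, map_mul, map_mul, hX1, hP']
  have hcP : 256 ≤ Nat.card ↥(Q7.map σ) := by rw [hmap]; exact hP
  have hQker : Q7 ⊓ σ.ker = ⊥ := inf_ker_eq_bot_of_card_le σ Q7 (hcQ.trans hcP)
  have hcardP : Nat.card ↥(Q7.map σ) = 256 := le_antisymm ((card_map_le σ Q7).trans hcQ) hcP
  have hidx : (Q7.map σ).index = m := by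
    have := (Q7.map σ).card_mul_index
    rw [hcardP, hG] at this
    omega
  rw [eq_bot_iff]
  intro x hx
  rw [mem_bot]
  have h1 := pow_index_eq_one_of_compl σ hσ Q7 hQker x hx
  rw [hidx] at h1
  have h2 : x ^ 2 = 1 := by rw [pow_two]; exact hexp x hx
  have h3 : orderOf x ∣ Nat.gcd m 2 := Nat.dvd_gcd (orderOf_dvd_of_pow_eq_one h1)
    (orderOf_dvd_of_pow_eq_one h2)
  have hm2 : Nat.gcd m 2 = 1 := Nat.coprime_two_right.mpr hm
  rw [hm2, Nat.dvd_one] at h3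
  exact orderOf_eq_one_iff.mp h3

end two

section oddp

variable (σ : Γ →* G) (hc : σ.ker ≤ center Γ) (p : ℕ) (hexp : ∀ k ∈ σ.ker, k ^ p = 1)
include hc hexp

theorem pow_eq_of_map_eq {x x' : Γ} (h : σ x = σ x') : x ^ p = x' ^ p := by
  have hk : x⁻¹ * x' ∈ σ.ker := by
    rw [MonoidHom.mem_ker, map_mul, map_inv, h, inv_mul_cancel]
  have hcom : Commute x (x⁻¹ * x') := Subgroup.mem_center_iff.mp (hc hk) x
  have e : x' = x * (x⁻¹ * x') := by group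
  rw [e, hcom.mul_pow, hexp _ hk, mul_one]

/-- a lift of an element of odd order `p` that is conjugate to its inverse has trivial `p`-th power -/
theorem pow_eq_one_of_real (hp : Odd p) (hsurj : Function.Surjective σ) {a t : G} (ha : a ^ p = 1)
    (hta : t * a * t⁻¹ = a⁻¹) {a' : Γ} (ha' : σ a' = a) : a' ^ p = 1 := by
  obtain ⟨τ, hτ⟩ := hsurj t
  have hker : a' ^ p ∈ σ.ker := by rw [MonoidHom.mem_ker, map_pow, ha', ha]
  have hcen := Subgroup.mem_center_iff.mp (hc hker)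
  have h1 : (τ * a' * τ⁻¹) ^ p = (a'⁻¹) ^ p :=
    pow_eq_of_map_eq σ hc p hexp (by rw [map_mul, map_mul, map_inv, map_inv, hτ, ha', hta])
  have h2 : (τ * a' * τ⁻¹) ^ p = a' ^ p := by
    rw [conj_pow, hcen τ]; group
  rw [h2, inv_pow] at h1
  -- k = k⁻¹
  have h3 : a' ^ p * a' ^ p = 1 := by
    nth_rewrite 1 [h1]; group
  have h4 : (a' ^ p) ^ 2 = 1 := by rw [pow_two]; exact h3
  have h5 : (a' ^ p) ^ p = 1 := hexp _ hker
  have h6 : orderOf (a' ^ p) ∣ Nat.gcd 2 p :=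
    Nat.dvd_gcd (orderOf_dvd_of_pow_eq_one h4) (orderOf_dvd_of_pow_eq_one h5)
  rw [Nat.coprime_two_left.mpr hp, Nat.dvd_one] at h6
  exact orderOf_eq_one_iff.mp h6

end oddp

/-- The abelian rank 2 case for an odd prime `p`: commuting `a, b` of order `p` generating a subgroup of
order `≥ p²`, `t` inverting `a` and centralizing `b`, `t'` inverting `b`. -/
theorem ker_eq_bot_abelian_rank2 [Finite Γ] [Finite G] (σ : Γ →* G) (hσ : Cfsg.IsStemExtension σ)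
    (p : ℕ) (hp : Odd p) (hp0 : 0 < p) (hexp : ∀ k ∈ σ.ker, k ^ p = 1) (a b t t' : G)
    (ha : a ^ p = 1) (hb : b ^ p = 1) (hab : a * b = b * a) (hta : t * a * t⁻¹ = a⁻¹)
    (htb : t * b * t⁻¹ = b) (ht'b : t' * b * t'⁻¹ = b⁻¹)
    (hP : p * p ≤ Nat.card ↥(zpowers a ⊔ zpowers b))
    (m : ℕ) (hG : Nat.card G = p * p * m) (hm : Nat.Coprime m p) : σ.ker = ⊥ := by
  have hcen := hσ.2.1
  have hsurj := hσ.1
  obtain ⟨a', ha'⟩ := hsurj a
  obtain ⟨b', hb'⟩ := hsurj b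
  obtain ⟨τ, hτ⟩ := hsurj t
  have hap : a' ^ p = 1 := pow_eq_one_of_real σ hcen p hexp hp hsurj ha hta ha'
  have hbp : b' ^ p = 1 := pow_eq_one_of_real σ hcen p hexp hp hsurj hb ht'b hb'
  obtain ⟨κ, hκdef⟩ : ∃ κ, κ = ⁅a', b'⁆ := ⟨_, rfl⟩
  have hκker : κ ∈ σ.ker := by
    rw [hκdef, MonoidHom.mem_ker, commutatorElement_def, map_mul, map_mul, map_mul, map_inv,
      map_inv, ha', hb', hab]
    group
  have hκc := Subgroup.mem_center_iff.mp (hcen hκker)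
  have hrel : a' * b' = κ * b' * a' := by rw [hκdef, commutatorElement_def]; group
  -- conjugate by `τ`
  have hk1 : a' * (τ * a' * τ⁻¹) ∈ σ.ker := by
    rw [MonoidHom.mem_ker, map_mul, map_mul, map_mul, map_inv, ha', hτ, hta, mul_inv_cancel]
  have hk2 : b'⁻¹ * (τ * b' * τ⁻¹) ∈ σ.ker := by
    rw [MonoidHom.mem_ker, map_mul, map_inv, map_mul, map_mul, map_inv, hb', hτ, htb,
      inv_mul_cancel]
  have e1 : τ * a' * τ⁻¹ = a'⁻¹ * (a' * (τ * a' * τ⁻¹)) := by group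
  have e2 : τ * b' * τ⁻¹ = b' * (b'⁻¹ * (τ * b' * τ⁻¹)) := by group
  have hconj : τ * κ * τ⁻¹ = ⁅τ * a' * τ⁻¹, τ * b' * τ⁻¹⁆ := by
    rw [hκdef]; simp only [commutatorElement_def]; group
  have h1 : τ * κ * τ⁻¹ = κ := by rw [hκc τ]; group
  have h2 : ⁅a'⁻¹, b'⁆ = κ⁻¹ := by
    rw [commutatorElement_def, inv_inv]
    have : b' * a' = κ⁻¹ * (a' * b') := by rw [hrel]; group
    calc a'⁻¹ * b' * a' * b'⁻¹ = a'⁻¹ * (b' * a') * b'⁻¹ := by group
      _ = a'⁻¹ * (κ⁻¹ * (a' * b')) * b'⁻¹ := by rw [this]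
      _ = (a'⁻¹ * κ⁻¹ * a') := by group
      _ = κ⁻¹ := by
        have := hκc a'
        calc a'⁻¹ * κ⁻¹ * a' = (a'⁻¹ * κ * a')⁻¹ := by group
          _ = (a'⁻¹ * (a' * κ))⁻¹ := by rw [this]; group
          _ = κ⁻¹ := by group
  have h3 : κ = κ⁻¹ := by
    rw [← h2]
    nth_rewrite 1 [← h1]
    rw [hconj, e1, e2, commutatorElement_mul_central (hcen hk1) (hcen hk2)]
  have hκ1 : κ = 1 := by
    have h4 : κ ^ 2 = 1 := by
      rw [pow_two]; nth_rewrite 1 [h3]; group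
    have h5 : κ ^ p = 1 := hexp _ hκker
    have h6 : orderOf κ ∣ Nat.gcd 2 p :=
      Nat.dvd_gcd (orderOf_dvd_of_pow_eq_one h4) (orderOf_dvd_of_pow_eq_one h5)
    rw [Nat.coprime_two_left.mpr hp, Nat.dvd_one] at h6
    exact orderOf_eq_one_iff.mp h6
  have hcomm : a' * b' = b' * a' := by rw [hrel, hκ1, one_mul]
  -- the complement
  set Q := zpowers a' ⊔ zpowers b' with hQ
  have hca : Nat.card ↥(zpowers a') ≤ p := by
    rw [Nat.card_zpowers]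
    exact Nat.le_of_dvd hp0 (orderOf_dvd_of_pow_eq_one hap)
  have hb_norm : ∀ q ∈ zpowers a', b' * q * b'⁻¹ ∈ zpowers a' := by
    intro q hq
    have hcq : Commute b' q := by
      obtain ⟨k, rfl⟩ := mem_zpowers_iff.mp hq
      exact (Commute.zpow_right (show Commute b' a' from hcomm.symm) k)
    have : b' * q * b'⁻¹ = q := by rw [hcq.eq]; group
    rw [this]; exact hq
  have hcQ : Nat.card ↥Q ≤ p * Nat.card ↥(zpowers a') :=
    card_sup_zpowers_le hp0 (by rw [hbp]; exact one_mem _) hb_norm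
  have hcQ9 : Nat.card ↥Q ≤ p * p := hcQ.trans (Nat.mul_le_mul_left p hca)
  have hmap : Q.map σ = zpowers a ⊔ zpowers b := by
    rw [hQ, Subgroup.map_sup, MonoidHom.map_zpowers, MonoidHom.map_zpowers, ha', hb']
  have hcP : p * p ≤ Nat.card ↥(Q.map σ) := by rw [hmap]; exact hP
  have hQker : Q ⊓ σ.ker = ⊥ := inf_ker_eq_bot_of_card_le σ Q (hcQ9.trans hcP)
  have hcardP : Nat.card ↥(Q.map σ) = p * p := le_antisymm ((card_map_le σ Q).trans hcQ9) hcP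
  have hidx : (Q.map σ).index = m := by
    have := (Q.map σ).card_mul_index
    rw [hcardP, hG] at this
    exact Nat.eq_of_mul_eq_mul_left (Nat.mul_pos hp0 hp0) this
  rw [eq_bot_iff]
  intro x hx
  rw [mem_bot]
  have h1 := pow_index_eq_one_of_compl σ hσ Q hQker x hx
  rw [hidx] at h1
  have h2 := hexp x hx
  have h3 : orderOf x ∣ Nat.gcd m p := Nat.dvd_gcd (orderOf_dvd_of_pow_eq_one h1)
    (orderOf_dvd_of_pow_eq_one h2)
  rw [hm, Nat.dvd_one] at h3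
  exact orderOf_eq_one_iff.mp h3

end Cfsg.Agent.Lib.Helper27.StemQ
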