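import Cfsg.Agent.Lib.Helper27.J2SchurData
import Cfsg.Agent.Lib.Helper27.StemQ
import Cfsg.Agent.Lib.Helper7.StemReduce
import Cfsg.Agent.S3958

/-!
# The Schur multiplier of `J₂` is cyclic of order 2

`2.J₂` has trivial Schur multiplier (prime by prime: Sylow subgroups of `2.J₂` lift to complements of the
kernel in any stem extension with kernel of prime exponent), hence `2.J₂ → J₂` is a Schur cover.
-/

set_option autoImplicit false

namespace Cfsg.Agent.Lib.Helper27.J2
open Cfsg Cfsg.Spor Subgroup Cfsg.Agent.Lib.Helper7.Stem Cfsg.Agent.Lib.Helper27.StemQ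
open scoped commutatorElement

/-! ### words and elements -/

theorem okW_spec {a : List ℕ} (h : okW a = true) : ∀ j ∈ a, j < 315 := by
  simpa [okW] using h

theorem eqW_spec {a b : List ℕ} (ha : okW a = true) (hb : okW b = true) (h : eqW a b = true) :
    wordEl a = wordEl b :=
  eq_of_sig_eq (okW_spec ha) (okW_spec hb) (by simpa [eqW] using h)

theorem wordEl_cj (a b : List ℕ) : wordEl (cj a b) = wordEl a * wordEl b * (wordEl a)⁻¹ := by
  rw [cj, wordEl_append, wordEl_append, wordEl_reverse]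

theorem wordEl_three (a : List ℕ) : wordEl (a ++ a ++ a) = wordEl a ^ 3 := by
  rw [wordEl_append, wordEl_append, pow_succ, pow_two]

theorem wordEl_rep (n : ℕ) (a : List ℕ) : wordEl (rep n a) = wordEl a ^ n := by
  induction n with
  | zero => simp [rep, wordEl_nil]
  | succ n ih =>
    have : rep (n + 1) a = a ++ rep n a := by simp [rep, List.replicate_succ]
    rw [this, wordEl_append, ih, pow_succ']

/-- the commutator word of `p` and `q` -/
def wC : List ℕ := wP ++ wQ ++ wP.reverse ++ wQ.reverse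

theorem comm_rels : (fix3 (wordF wC) && !eqW wC []) = true := by decide +kernel

theorem negEl_eq_commutator : negEl = ⁅wordEl wP, wordEl wQ⁆ := by
  have hr := comm_rels
  simp only [Bool.and_eq_true, Bool.not_eq_true'] at hr
  obtain ⟨r1, r2⟩ := hr
  have e : ⁅wordEl wP, wordEl wQ⁆ = wordEl wC := by
    rw [wC, wordEl_append, wordEl_append, wordEl_append, wordEl_reverse, wordEl_reverse,
      commutatorElement_def]
  rw [e]
  have hc : wordEl wC ∈ Subgroup.center twoJ2 :=
    (mem_center_iff_fix3 (actsF_wordEl _ (okW_spec (by decide)))).2 r1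
  rcases center_cases _ hc with h | h
  · exfalso
    have := sig_eq_of_eq (w := wC) (w' := []) (okW_spec (by decide)) (okW_spec (by decide))
      (by rw [h, wordEl_nil])
    have h2 : eqW wC [] = true := by simpa [eqW] using this
    rw [r2] at h2
    exact Bool.false_ne_true h2
  · exact h.symm

theorem commutator_twoJ2 : commutator twoJ2 = ⊤ := by
  apply eq_top_of_commutator_le (N := commutator twoJ2) le_rfl
  intro z hz
  rcases center_cases z hz with h | h
  · rw [h]; exact Subgroup.one_mem _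
  · rw [h, negEl_eq_commutator, commutator_def]
    exact Subgroup.commutator_mem_commutator (Subgroup.mem_top (wordEl wP))
      (Subgroup.mem_top (wordEl wQ))

theorem card_twoJ2_256 : Nat.card twoJ2 = 256 * 4725 := by rw [card_twoJ2]
theorem card_twoJ2_27 : Nat.card twoJ2 = 27 * 44800 := by rw [card_twoJ2]
theorem card_twoJ2_25 : Nat.card twoJ2 = 5 * 5 * 48384 := by rw [card_twoJ2]
theorem card_twoJ2_7 : Nat.card twoJ2 = 7 * 172800 := by rw [card_twoJ2]

/-! ### the prime 2 -/

theorem ker_two {Δ : Type} [Group Δ] [Finite Δ] (τ : Δ →* twoJ2) (hτ : IsStemExtension τ)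
    (hexp : ∀ k ∈ τ.ker, k ^ 2 = 1) : τ.ker = ⊥ := by
  have hr := two_rels
  simp only [Bool.and_eq_true] at hr
  obtain ⟨⟨⟨⟨⟨⟨⟨⟨⟨⟨⟨⟨r1, r2⟩, r3⟩, r4⟩, r5⟩, r6⟩, r7⟩, r8⟩, r9⟩, r10⟩, r11⟩, r12⟩, r13⟩ := hr
  have e2 : wordEl wX2 = wordEl wP * wordEl wX1 * (wordEl wP)⁻¹ := wordEl_cj _ _
  have e3 : wordEl wX3 = wordEl wQ * wordEl wX1 * (wordEl wQ)⁻¹ := wordEl_cj _ _
  have e4 : wordEl wX4 = wordEl wP * (wordEl wQ * wordEl wX1 * (wordEl wQ)⁻¹) * (wordEl wP)⁻¹ := by
    rw [wX4, wordEl_cj, e3]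
  refine ker_eq_bot_two_sl23 τ hτ (fun k hk => by rw [← pow_two]; exact hexp k hk) commutator_twoJ2
    (wordEl wX1) (wordEl wP) (wordEl wQ) (wordEl wGs) (wordEl wG2) (wordEl wG3) (wordEl wG4)
    ?_ ?_ ?_ ?_ ?_ ?_ ?_ ?_ ?_ ?_ ?_ ?_ ?_ ?_ 4725 card_twoJ2_256 (by decide)
  · rw [← wordEl_three, eqW_spec (by decide) (by decide) r1, wordEl_nil]
  · rw [← wordEl_cj]; exact eqW_spec (by decide) (by decide) r2
  · rw [← wordEl_cj, ← wordEl_append]; exact eqW_spec (by decide) (by decide) r3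
  · rw [← wordEl_append]
    exact (mem_center_iff_fix3 (actsF_wordEl _ (okW_spec (by decide)))).2 r4
  · rw [← wordEl_three, eqW_spec (by decide) (by decide) r5, wordEl_nil]
  · rw [← wordEl_cj, ← e2]; exact eqW_spec (by decide) (by decide) r6
  · rw [← e2, ← wordEl_cj, ← wordEl_append]; exact eqW_spec (by decide) (by decide) r7
  · rw [← wordEl_three, eqW_spec (by decide) (by decide) r8, wordEl_nil]
  · rw [← wordEl_cj, ← e3]; exact eqW_spec (by decide) (by decide) r9
  · rw [← e3, ← wordEl_cj, ← wordEl_append]; exact eqW_spec (by decide) (by decide) r10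
  · rw [← wordEl_three, eqW_spec (by decide) (by decide) r11, wordEl_nil]
  · rw [← wordEl_cj, ← e4]; exact eqW_spec (by decide) (by decide) r12
  · rw [← e4, ← wordEl_cj, ← wordEl_append]; exact eqW_spec (by decide) (by decide) r13
  · -- the order of the Sylow 2-subgroup
    rw [← e4, ← e3, ← e2]
    set H := zpowers (wordEl wX1 * wordEl wX1) ⊔ zpowers (wordEl wX1) ⊔ zpowers (wordEl wX2) ⊔
      zpowers (wordEl wX3) ⊔ zpowers (wordEl wX4) ⊔ zpowers (wordEl wP * wordEl wP) ⊔
      zpowers (wordEl wP) ⊔ zpowers (wordEl wQ) with hH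
    have mQ : wordEl wQ ∈ H := (le_sup_right : zpowers (wordEl wQ) ≤ H) (mem_zpowers _)
    have mP : wordEl wP ∈ H :=
      (le_sup_right.trans le_sup_left : zpowers (wordEl wP) ≤ H) (mem_zpowers _)
    have m4 : wordEl wX4 ∈ H :=
      (le_sup_right.trans (le_sup_left.trans (le_sup_left.trans le_sup_left)) :
        zpowers (wordEl wX4) ≤ H) (mem_zpowers _)
    have m3 : wordEl wX3 ∈ H :=
      (le_sup_right.trans (le_sup_left.trans (le_sup_left.trans (le_sup_left.trans le_sup_left))) :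
        zpowers (wordEl wX3) ≤ H) (mem_zpowers _)
    have m2 : wordEl wX2 ∈ H :=
      (le_sup_right.trans (le_sup_left.trans (le_sup_left.trans (le_sup_left.trans
        (le_sup_left.trans le_sup_left)))) : zpowers (wordEl wX2) ≤ H) (mem_zpowers _)
    have m1 : wordEl wX1 ∈ H :=
      (le_sup_right.trans (le_sup_left.trans (le_sup_left.trans (le_sup_left.trans
        (le_sup_left.trans (le_sup_left.trans le_sup_left))))) : zpowers (wordEl wX1) ≤ H)
        (mem_zpowers _)
    have := card_ge_of_sigs H ws256 (fun w hw => okW_spec (List.all_eq_true.1 ws256_ok w hw)) ?_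
      ws256_nodup
    · rw [ws256_length] at this; exact this
    · intro w hw
      simp only [ws256, List.mem_flatMap, List.mem_map, List.mem_range] at hw
      obtain ⟨e0, -, e1, -, e2', -, e3', -, e4', -, f, -, g, -, rfl⟩ := hw
      simp only [wordEl_append, wordEl_rep]
      exact H.mul_mem (H.mul_mem (H.mul_mem (H.mul_mem (H.mul_mem (H.mul_mem
        (H.pow_mem (H.mul_mem m1 m1) _) (H.pow_mem m1 _)) (H.pow_mem m2 _)) (H.pow_mem m3 _))
        (H.pow_mem m4 _)) (H.pow_mem mP _)) (H.pow_mem mQ _)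

/-! ### the prime 3 -/

theorem ker_three {Δ : Type} [Group Δ] [Finite Δ] (τ : Δ →* twoJ2) (hτ : IsStemExtension τ)
    (hexp : ∀ k ∈ τ.ker, k ^ 3 = 1) : τ.ker = ⊥ := by
  have hr := three_rels
  simp only [Bool.and_eq_true] at hr
  obtain ⟨⟨⟨⟨⟨⟨⟨⟨r1, r2⟩, r3⟩, r4⟩, r5⟩, r6⟩, r7⟩, r8⟩, r9⟩ := hr
  have eW : wordEl wW3 = wordEl wA3 * wordEl wB3 * (wordEl wA3)⁻¹ * (wordEl wB3)⁻¹ := by
    rw [wW3, wordEl_append, wordEl_append, wordEl_append, wordEl_reverse, wordEl_reverse]
  refine ker_eq_bot_three_extraspecial τ hτ hexp (wordEl wA3) (wordEl wB3) (wordEl wW3) (wordEl wT3)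
    (wordEl wU3) ?_ ?_ ?_ ?_ ?_ ?_ ?_ ?_ ?_ ?_ ?_ 44800 card_twoJ2_27 (by decide)
  · rw [← wordEl_three, eqW_spec (by decide) (by decide) r1, wordEl_nil]
  · rw [← wordEl_three, eqW_spec (by decide) (by decide) r2, wordEl_nil]
  · rw [← wordEl_three, eqW_spec (by decide) (by decide) r3, wordEl_nil]
  · rw [eW]; group
  · rw [← wordEl_append, ← wordEl_append]; exact eqW_spec (by decide) (by decide) r4
  · rw [← wordEl_append, ← wordEl_append]; exact eqW_spec (by decide) (by decide) r5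
  · rw [← wordEl_append, ← wordEl_append, ← wordEl_append]
    exact eqW_spec (by decide) (by decide) r6
  · rw [← wordEl_append, ← wordEl_append, ← wordEl_append]
    exact eqW_spec (by decide) (by decide) r7
  · rw [← wordEl_append, ← wordEl_append]; exact eqW_spec (by decide) (by decide) r8
  · rw [← wordEl_append, ← wordEl_append, ← wordEl_append]
    exact eqW_spec (by decide) (by decide) r9
  · set H := zpowers (wordEl wW3) ⊔ zpowers (wordEl wA3) ⊔ zpowers (wordEl wB3) with hH
    have mB : wordEl wB3 ∈ H := (le_sup_right : zpowers (wordEl wB3) ≤ H) (mem_zpowers _)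
    have mA : wordEl wA3 ∈ H :=
      (le_sup_right.trans le_sup_left : zpowers (wordEl wA3) ≤ H) (mem_zpowers _)
    have mW : wordEl wW3 ∈ H :=
      (le_sup_left.trans le_sup_left : zpowers (wordEl wW3) ≤ H) (mem_zpowers _)
    have := card_ge_of_sigs H ws27 (fun w hw => okW_spec (List.all_eq_true.1 ws27_ok w hw)) ?_
      ws27_nodup
    · rw [ws27_length] at this; exact this
    · intro w hw
      simp only [ws27, List.mem_flatMap, List.mem_map, List.mem_range] at hw
      obtain ⟨i, -, j, -, k, -, rfl⟩ := hw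
      simp only [wordEl_append, wordEl_rep]
      exact H.mul_mem (H.mul_mem (H.pow_mem mW _) (H.pow_mem mA _)) (H.pow_mem mB _)

/-! ### the prime 5 -/

theorem ker_five {Δ : Type} [Group Δ] [Finite Δ] (τ : Δ →* twoJ2) (hτ : IsStemExtension τ)
    (hexp : ∀ k ∈ τ.ker, k ^ 5 = 1) : τ.ker = ⊥ := by
  have hr := five_rels
  simp only [Bool.and_eq_true] at hr
  obtain ⟨⟨⟨⟨⟨r1, r2⟩, r3⟩, r4⟩, r5⟩, r6⟩ := hr
  refine ker_eq_bot_abelian_rank2 τ hτ 5 (by decide) (by norm_num) hexp (wordEl wA5) (wordEl wB5)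
    (wordEl wT5) (wordEl wU5) ?_ ?_ ?_ ?_ ?_ ?_ ?_ 48384 card_twoJ2_25 (by decide)
  · rw [← wordEl_rep, eqW_spec (by decide) (by decide) r1, wordEl_nil]
  · rw [← wordEl_rep, eqW_spec (by decide) (by decide) r2, wordEl_nil]
  · rw [← wordEl_append, ← wordEl_append]; exact eqW_spec (by decide) (by decide) r3
  · rw [← wordEl_cj, ← wordEl_reverse]; exact eqW_spec (by decide) (by decide) r4
  · rw [← wordEl_cj]; exact eqW_spec (by decide) (by decide) r5
  · rw [← wordEl_cj, ← wordEl_reverse]; exact eqW_spec (by decide) (by decide) r6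
  · set H := zpowers (wordEl wA5) ⊔ zpowers (wordEl wB5) with hH
    have mB : wordEl wB5 ∈ H := (le_sup_right : zpowers (wordEl wB5) ≤ H) (mem_zpowers _)
    have mA : wordEl wA5 ∈ H := (le_sup_left : zpowers (wordEl wA5) ≤ H) (mem_zpowers _)
    have := card_ge_of_sigs H ws25 (fun w hw => okW_spec (List.all_eq_true.1 ws25_ok w hw)) ?_
      ws25_nodup
    · rw [ws25_length] at this; exact this
    · intro w hw
      simp only [ws25, List.mem_flatMap, List.mem_map, List.mem_range] at hw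
      obtain ⟨i, -, j, -, rfl⟩ := hw
      simp only [wordEl_append, wordEl_rep]
      exact H.mul_mem (H.pow_mem mA _) (H.pow_mem mB _)

/-! ### the prime 7 -/

theorem ker_seven {Δ : Type} [Group Δ] [Finite Δ] (τ : Δ →* twoJ2) (hτ : IsStemExtension τ)
    (hexp : ∀ k ∈ τ.ker, k ^ 7 = 1) : τ.ker = ⊥ := by
  have hr := seven_rels
  simp only [Bool.and_eq_true, Bool.not_eq_true'] at hr
  obtain ⟨r1, r2⟩ := hr
  have h7 : wordEl wY7 ^ 7 = 1 := by
    rw [← wordEl_rep, eqW_spec (by decide) (by decide) r1, wordEl_nil]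
  have hne : wordEl wY7 ≠ 1 := by
    intro h
    have := sig_eq_of_eq (w := wY7) (w' := []) (okW_spec (by decide)) (okW_spec (by decide))
      (by rw [h, wordEl_nil])
    have h2 : eqW wY7 [] = true := by simpa [eqW] using this
    rw [r2] at h2
    exact Bool.false_ne_true h2
  haveI : Fact (Nat.Prime 7) := ⟨by norm_num⟩
  have ho : orderOf (wordEl wY7) = 7 := orderOf_eq_prime h7 hne
  exact ker_eq_bot_of_orderOf τ hτ 7 hexp (wordEl wY7) ho 172800 card_twoJ2_7 (by norm_num)
    (by decide)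

/-! ### the multipliers -/

theorem multiplier_twoJ2 : HasCyclicSchurMultiplier twoJ2 1 := by
  apply hasCyclicSchurMultiplier_one_of_primes
  intro p hp Δ _ _ τ hτ hexp
  by_cases h2 : p = 2
  · subst h2; exact ker_two τ hτ hexp
  by_cases h3 : p = 3
  · subst h3; exact ker_three τ hτ hexp
  by_cases h5 : p = 5
  · subst h5; exact ker_five τ hτ hexp
  by_cases h7 : p = 7
  · subst h7; exact ker_seven τ hτ hexp
  apply ker_eq_bot_of_coprime_card τ hτ p hexp
  rw [card_twoJ2, Nat.coprime_comm, Nat.Prime.coprime_iff_not_dvd hp]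
  intro hd
  have e : 1209600 = 2 ^ 8 * 3 ^ 3 * 5 ^ 2 * 7 := by norm_num
  rw [e] at hd
  rcases (Nat.Prime.dvd_mul hp).1 hd with hd | hd
  · rcases (Nat.Prime.dvd_mul hp).1 hd with hd | hd
    · rcases (Nat.Prime.dvd_mul hp).1 hd with hd | hd
      · exact h2 ((Nat.prime_dvd_prime_iff_eq hp Nat.prime_two).1 (hp.dvd_of_dvd_pow hd))
      · exact h3 ((Nat.prime_dvd_prime_iff_eq hp Nat.prime_three).1 (hp.dvd_of_dvd_pow hd))
    · exact h5 ((Nat.prime_dvd_prime_iff_eq hp Nat.prime_five).1 (hp.dvd_of_dvd_pow hd))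
  · exact h7 ((Nat.prime_dvd_prime_iff_eq hp (by norm_num)).1 hd)

/-- the covering map `2.J₂ → J₂` -/
noncomputable def covJ2 : twoJ2 →* J2 := QuotientGroup.mk' (Subgroup.center twoJ2)

theorem covJ2_ker : covJ2.ker = Subgroup.center twoJ2 := QuotientGroup.ker_mk' _

theorem covJ2_stem : IsStemExtension covJ2 := by
  refine ⟨QuotientGroup.mk'_surjective _, ?_, ?_⟩
  · rw [covJ2_ker]
  · rw [commutator_twoJ2]; exact le_top

theorem multiplier_J2 : HasCyclicSchurMultiplier J2 2 := by
  have hcard : Nat.card ↥covJ2.ker = 2 := by rw [covJ2_ker]; exact card_center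
  have hcard2 : Nat.card (Multiplicative (ZMod 2)) = 2 := by
    rw [Nat.card_eq_fintype_card]; rfl
  haveI : Fact (Nat.Prime 2) := ⟨Nat.prime_two⟩
  let e : ↥covJ2.ker ≃* Multiplicative (ZMod 2) := mulEquivOfPrimeCardEq hcard hcard2
  refine ⟨⟨twoJ2, inferInstance, inferInstance, covJ2, covJ2_stem, ⟨e⟩⟩, ?_⟩
  intro Δ _ _ τ hτ
  obtain ⟨π, hπ⟩ := Cfsg.Agent.S3958.result covJ2 covJ2_stem multiplier_twoJ2 Δ τ hτ
  exact ⟨π.comp e.symm.toMonoidHom, hπ.comp e.symm.surjective⟩

end Cfsg.Agent.Lib.Helper27.J2
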