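import Cfsg.Agent.Lib.Helper27.J2Exact

/-!
# Data for the Schur multiplier of `J₂`: words in the reflections and the checks of their relations
-/

set_option autoImplicit false

namespace Cfsg.Agent.Lib.Helper27.J2

/-- conjugation of words -/
def cj (a b : List ℕ) : List ℕ := a ++ b ++ a.reverse

/-- equality of the elements of two words, decided on signatures -/
def eqW (a b : List ℕ) : Bool := decide (sig a = sig b)

/-- the indices are in range -/
def okW (a : List ℕ) : Bool := a.all fun j => decide (j < 315)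

/-! ### the prime 2 -/

def wX1 : List ℕ := [307, 265]
def wP : List ℕ := [2, 35, 131, 305]
def wQ : List ℕ := [2, 17, 137, 281]
def wGs : List ℕ := [2, 58, 219, 291]
def wG2 : List ℕ := [3, 26, 106, 160]
def wG3 : List ℕ := [3, 20, 43, 150]
def wG4 : List ℕ := [1, 13, 50, 144]
def wX2 : List ℕ := cj wP wX1
def wX3 : List ℕ := cj wQ wX1
def wX4 : List ℕ := cj wP wX3

theorem two_rels :
    (eqW (wGs ++ wGs ++ wGs) [] && eqW (cj wGs wP) wQ && eqW (cj wGs wQ) (wP ++ wQ) &&
      fix3 (wordF (wP ++ wP)) &&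
      eqW (wG2 ++ wG2 ++ wG2) [] && eqW (cj wG2 wX1) wX2 && eqW (cj wG2 wX2) (wX1 ++ wX2) &&
      eqW (wG3 ++ wG3 ++ wG3) [] && eqW (cj wG3 wX1) wX3 && eqW (cj wG3 wX3) (wX1 ++ wX3) &&
      eqW (wG4 ++ wG4 ++ wG4) [] && eqW (cj wG4 wX1) wX4 && eqW (cj wG4 wX4) (wX1 ++ wX4)) = true := by
  decide +kernel

/-- repetition of a word -/
def rep (n : ℕ) (w : List ℕ) : List ℕ := (List.replicate n w).flatten

/-- the 256 words of the Sylow 2-subgroup -/
def ws256 : List (List ℕ) :=
  (List.range 2).flatMap fun e0 => (List.range 2).flatMap fun e1 => (List.range 2).flatMap fun e2 =>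
    (List.range 2).flatMap fun e3 => (List.range 2).flatMap fun e4 => (List.range 4).flatMap fun f =>
      (List.range 2).map fun g =>
        rep e0 (wX1 ++ wX1) ++ rep e1 wX1 ++ rep e2 wX2 ++ rep e3 wX3 ++ rep e4 wX4 ++ rep f wP ++
          rep g wQ

theorem ws256_length : ws256.length = 256 := by decide +kernel

theorem ws256_ok : (ws256.all okW) = true := by decide +kernel

theorem ws256_nodup : (ws256.map sig).Nodup := by decide +kernel

/-! ### the prime 3 -/

def wA3 : List ℕ := [160, 0]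
def wB3 : List ℕ := [160, 11]
def wW3 : List ℕ := wA3 ++ wB3 ++ wA3.reverse ++ wB3.reverse
def wT3 : List ℕ := [160]
def wU3 : List ℕ := [3, 16, 33, 43]

theorem three_rels :
    (eqW (wA3 ++ wA3 ++ wA3) [] && eqW (wB3 ++ wB3 ++ wB3) [] && eqW (wW3 ++ wW3 ++ wW3) [] &&
      eqW (wA3 ++ wW3) (wW3 ++ wA3) && eqW (wB3 ++ wW3) (wW3 ++ wB3) &&
      eqW (wT3 ++ wA3) (wA3 ++ wA3 ++ wT3) && eqW (wT3 ++ wB3) (wB3 ++ wB3 ++ wT3) &&
      eqW (wT3 ++ wW3) (wW3 ++ wT3) && eqW (wU3 ++ wW3) (wW3 ++ wW3 ++ wU3)) = true := by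
  decide +kernel

def ws27 : List (List ℕ) :=
  (List.range 3).flatMap fun i => (List.range 3).flatMap fun j => (List.range 3).map fun k =>
    rep i wW3 ++ rep j wA3 ++ rep k wB3

theorem ws27_length : ws27.length = 27 := by decide +kernel
theorem ws27_ok : (ws27.all okW) = true := by decide +kernel
theorem ws27_nodup : (ws27.map sig).Nodup := by decide +kernel

/-! ### the prime 5 -/

def wA5 : List ℕ := [160, 169]
def wB5 : List ℕ := [3, 28, 102, 153]
def wT5 : List ℕ := [160]
def wU5 : List ℕ := [1, 19, 172, 253]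

theorem five_rels :
    (eqW (rep 5 wA5) [] && eqW (rep 5 wB5) [] && eqW (wA5 ++ wB5) (wB5 ++ wA5) &&
      eqW (cj wT5 wA5) wA5.reverse && eqW (cj wT5 wB5) wB5 && eqW (cj wU5 wB5) wB5.reverse) = true := by
  decide +kernel

def ws25 : List (List ℕ) :=
  (List.range 5).flatMap fun i => (List.range 5).map fun j => rep i wA5 ++ rep j wB5

theorem ws25_length : ws25.length = 25 := by decide +kernel
theorem ws25_ok : (ws25.all okW) = true := by decide +kernel
theorem ws25_nodup : (ws25.map sig).Nodup := by decide +kernel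

/-! ### the prime 7 -/

def wY7 : List ℕ := [189, 309, 242, 297]

theorem seven_rels : (eqW (rep 7 wY7) [] && !eqW wY7 []) = true := by decide +kernel

end Cfsg.Agent.Lib.Helper27.J2
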