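import Cfsg.Agent.Lib.Helper27.J2Prim

/-!
# The Hall–Janko group is simple (Iwasawa's criterion on the 315 reflections)
-/

set_option autoImplicit false

namespace Cfsg.Agent.Lib.Helper27.J2
open Quaternion Cfsg.Spor
open scoped Pointwise

/-- the set of the 315 reflections -/
abbrev ReflSet : Type := {f : Equiv.Perm icoLeech // IsIcoReflection f}

theorem isIcoReflection_conj {g : Equiv.Perm icoLeech} (hg : g ∈ twoJ2) {f : Equiv.Perm icoLeech}
    (hf : IsIcoReflection f) : IsIcoReflection (g * f * g⁻¹) := by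
  obtain ⟨r, hr, rfl⟩ := (isIcoReflection_iff f).1 hf
  rw [conj_reflPerm (isUni_of_mem hg)]
  exact isIcoReflection_reflPerm _ _

noncomputable instance instMulActionReflSet : MulAction twoJ2 ReflSet where
  smul g f := ⟨(g : Equiv.Perm icoLeech) * f.1 * (g : Equiv.Perm icoLeech)⁻¹,
    isIcoReflection_conj g.2 f.2⟩
  one_smul f := Subtype.ext (by
    change ((1 : twoJ2) : Equiv.Perm icoLeech) * f.1 * ((1 : twoJ2) : Equiv.Perm icoLeech)⁻¹ = f.1
    simp)
  mul_smul g h f := Subtype.ext (by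
    change ((g * h : twoJ2) : Equiv.Perm icoLeech) * f.1 * ((g * h : twoJ2) : Equiv.Perm icoLeech)⁻¹ =
      (g : Equiv.Perm icoLeech) * ((h : Equiv.Perm icoLeech) * f.1 * (h : Equiv.Perm icoLeech)⁻¹) *
        (g : Equiv.Perm icoLeech)⁻¹
    simp [mul_assoc])

theorem smul_val (g : twoJ2) (f : ReflSet) :
    (g • f).1 = (g : Equiv.Perm icoLeech) * f.1 * (g : Equiv.Perm icoLeech)⁻¹ := rfl

instance instPretransitiveReflSet : MulAction.IsPretransitive twoJ2 ReflSet :=
  ⟨fun x y => by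
    obtain ⟨g, hg, h⟩ := transitive_on_reflections x.1 y.1 x.2 y.2
    exact ⟨⟨g, hg⟩, Subtype.ext h⟩⟩

theorem card_ReflSet : Nat.card ReflSet = 315 := by
  have h := ncard_refl
  rw [← Nat.card_coe_set_eq] at h
  exact h

/-- the reflection of a representative -/
noncomputable def reflEl (R : V3) (hR : R ∈ Rep315) : ReflSet :=
  ⟨reflOf R, isIcoReflection_reflOf (Rep315_sub R hR)⟩

theorem E1_mem_Rep315 : E1 ∈ Rep315 := List.mem_of_getElem? E1_index.1

/-- the base point: the reflection in `(2,0,0)` -/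
noncomputable def aRefl : ReflSet := reflEl E1 E1_mem_Rep315

theorem lineClass_E1 : lineClass E1 = 5 := by
  rw [← lineClass_eq E1_index.1]; exact E1_index.2

theorem lineClass_le (R : V3) : lineClass R ≤ 5 := by
  unfold lineClass
  simp only
  split_ifs <;> omega

theorem classLit_five : ∀ j < 315, classLit.getD j 0 = 5 → j = 160 := by decide +kernel

theorem eq_E1_of_class {R : V3} (hR : R ∈ Rep315) (h : lineClass R = 5) : R = E1 := by
  obtain ⟨j, hj, hjR⟩ := List.mem_iff_getElem.1 hR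
  have h1 : Rep315[j]? = some R := by rw [List.getElem?_eq_getElem hj, hjR]
  have h2 := lineClass_eq h1
  rw [h] at h2
  have h3 := classLit_five j (by rw [← Rep315_length]; exact hj) h2
  subst h3
  rw [E1_index.1] at h1
  exact (Option.some.inj h1).symm

theorem exists_reflEl (f : ReflSet) : ∃ R, ∃ hR : R ∈ Rep315, f = reflEl R hR := by
  obtain ⟨R, hR, h⟩ := exists_reflOf f.2
  exact ⟨R, hR, Subtype.ext h⟩

theorem reflEl_inj {R R' : V3} {hR : R ∈ Rep315} {hR' : R' ∈ Rep315}
    (h : reflEl R hR = reflEl R' hR') : R = R' :=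
  reflOf_inj hR hR' (congrArg Subtype.val h)

/-- the suborbits of the stabiliser of the base point -/
def Osub (i : Fin 5) : Set ReflSet :=
  {f | ∃ R, ∃ hR : R ∈ Rep315, lineClass R = i.val ∧ f = reflEl R hR}

def csub : Fin 5 → ℕ := ![10, 32, 32, 80, 160]

theorem Osub_cover (x : ReflSet) (hx : x ≠ aRefl) : ∃ i, x ∈ Osub i := by
  obtain ⟨R, hR, rfl⟩ := exists_reflEl x
  have h5 := lineClass_le R
  have hne : lineClass R ≠ 5 := by
    intro h
    have := eq_E1_of_class hR h
    subst this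
    exact hx rfl
  exact ⟨⟨lineClass R, by omega⟩, R, hR, rfl, rfl⟩

theorem aRefl_notMem (i : Fin 5) : aRefl ∉ Osub i := by
  rintro ⟨R, hR, hc, h⟩
  have := reflEl_inj h
  subst this
  rw [lineClass_E1] at hc
  have := i.2
  omega

theorem Osub_disj (i j : Fin 5) (hij : i ≠ j) : Disjoint (Osub i) (Osub j) := by
  rw [Set.disjoint_left]
  rintro f ⟨R, hR, hc, rfl⟩ ⟨R', hR', hc', h⟩
  have := reflEl_inj h
  subst this
  exact hij (Fin.ext (hc.symm.trans hc'))

open Classical in
theorem Osub_card (i : Fin 5) : (Osub i).ncard = csub i := by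
  let φ : V3 → ReflSet := fun R => if hR : R ∈ Rep315 then reflEl R hR else aRefl
  let S : Finset V3 := (Rep315.filter fun R => lineClass R = i.val).toFinset
  have hS : ∀ R, R ∈ S ↔ R ∈ Rep315 ∧ lineClass R = i.val := by
    intro R
    simp only [S, List.mem_toFinset, List.mem_filter, decide_eq_true_eq]
  have hset : Osub i = φ '' (S : Set V3) := by
    ext f
    constructor
    · rintro ⟨R, hR, hc, rfl⟩
      exact ⟨R, (hS R).2 ⟨hR, hc⟩, dif_pos hR⟩
    · rintro ⟨R, hRS, rfl⟩
      obtain ⟨hR, hc⟩ := (hS R).1 hRS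
      exact ⟨R, hR, hc, dif_pos hR⟩
  have hinj : Set.InjOn φ (S : Set V3) := by
    intro R hRS R' hRS' h
    obtain ⟨hR, -⟩ := (hS R).1 hRS
    obtain ⟨hR', -⟩ := (hS R').1 hRS'
    simp only [φ, dif_pos hR, dif_pos hR'] at h
    exact reflEl_inj h
  rw [hset, Set.InjOn.ncard_image hinj, Set.ncard_coe_finset,
    List.toFinset_card_of_nodup (Rep315_nodup.filter _)]
  have hcount : (Rep315.filter fun R => lineClass R = i.val).length = classLit.count i.val := by
    rw [← classLit_eq, List.count, List.countP_map, List.countP_eq_length_filter]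
    congr 1
  rw [hcount]
  obtain ⟨h0, h1, h2, h3, h4, -⟩ := classLit_count
  fin_cases i
  · exact h0
  · exact h1
  · exact h2
  · exact h3
  · exact h4

/-! ### the stabiliser of the base point is transitive on the suborbits -/

theorem reflOf_E1_eq : reflOf E1 = reflPerm e1 e1_qip := reflOf_eq E1_mem

theorem fixLine_smul {g : twoJ2} (hg : FixLine (g : Equiv.Perm icoLeech)) : g • aRefl = aRefl := by
  obtain ⟨c, hc, hge⟩ := hg
  obtain ⟨hc1, hc2⟩ := unit_of_Tq hc
  apply Subtype.ext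
  rw [smul_val]
  change (g : Equiv.Perm icoLeech) * reflOf E1 * (g : Equiv.Perm icoLeech)⁻¹ = reflOf E1
  rw [reflOf_E1_eq, conj_reflPerm (isUni_of_mem g.2)]
  ext x : 1
  apply Subtype.ext
  rw [reflPerm_apply, reflPerm_apply, hge, qrefl_smulV_left _ hc1]
  rfl

theorem reachL_smul {r : ℕ} {R : V3} (hR : R ∈ Rep315) (h : ReachL r R) :
    ∃ R0, ∃ h0 : R0 ∈ Rep315, Rep315[r]? = some R0 ∧
      ∃ g : twoJ2, g • aRefl = aRefl ∧ g • reflEl R0 h0 = reflEl R hR := by
  obtain ⟨R0, hR0, g, hg, hgF, x0, hx0, u, hu, hu1, hgx⟩ := h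
  have h0 : R0 ∈ Rep315 := List.mem_of_getElem? hR0
  refine ⟨R0, h0, hR0, ⟨g, hg⟩, fixLine_smul hgF, ?_⟩
  apply Subtype.ext
  rw [smul_val]
  change g * reflOf R0 * g⁻¹ = reflOf R
  have hq0 : qip (x0 : Fin 3 → ℍ[ℝ]) x0 = 4 := by rw [hx0]; exact qip_of_RepAll (Rep315_sub R0 h0)
  have e0 : reflOf R0 = reflPerm x0 hq0 := by
    rw [reflOf_eq (Rep315_sub R0 h0)]
    congr 1
    exact Subtype.ext hx0.symm
  rw [e0, conj_reflPerm (isUni_of_mem hg)]
  ext x : 1
  apply Subtype.ext
  rw [reflPerm_apply, reflOf_apply (Rep315_sub R hR), hgx,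
    qrefl_smulV_left u (by rw [star_mul_self_eq, hu1])]

theorem Osub_trans (i : Fin 5) : ∀ x ∈ Osub i, ∀ y ∈ Osub i,
    ∃ g : twoJ2, g • aRefl = aRefl ∧ g • x = y := by
  rintro x ⟨R, hR, hc, rfl⟩ y ⟨R', hR', hc', rfl⟩
  have h1 := reachL_of_mem hR
  have h2 := reachL_of_mem hR'
  rw [hc] at h1
  rw [hc'] at h2
  obtain ⟨R0, h0, hr0, g, hga, hgx⟩ := reachL_smul hR h1
  obtain ⟨R0', h0', hr0', g', hga', hgx'⟩ := reachL_smul hR' h2
  have hRR : R0 = R0' := Option.some.inj (hr0.symm.trans hr0')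
  subst hRR
  refine ⟨g' * g⁻¹, ?_, ?_⟩
  · rw [mul_smul, inv_smul_eq_iff.2 hga.symm, hga']
  · rw [mul_smul, ← hgx, inv_smul_smul, hgx']

/-! ### primitivity -/

instance instPreprimitiveReflSet : MulAction.IsPreprimitive twoJ2 ReflSet := by
  apply MulAction.IsPreprimitive.of_isTrivialBlock_base aRefl
  intro B haB hB
  have hfin : ∀ i, (Osub i).Finite := by
    intro i
    have : Finite ReflSet := Nat.finite_of_card_ne_zero (by rw [card_ReflSet]; norm_num)
    exact Set.toFinite _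
  obtain ⟨I, hI, hBeq, hBcard⟩ := exists_index_of_invariant (G := twoJ2) Set.univ aRefl Osub csub
    (fun x _ hx => Osub_cover x hx) aRefl_notMem hfin Osub_card Osub_disj Osub_trans B
    (Set.subset_univ _) haB (fun g hg b hb => by
      have h1 : g ∈ MulAction.stabilizer twoJ2 B :=
        hB.stabilizer_le haB (MulAction.mem_stabilizer_iff.2 hg)
      have h2 : g • B = B := MulAction.mem_stabilizer_iff.1 h1
      rw [← h2]
      exact Set.smul_mem_smul_set hb)
  have hdvd := hB.ncard_dvd_card ⟨aRefl, haB⟩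
  rw [hBcard, card_ReflSet] at hdvd
  rcases prim_arith I hdvd with rfl | rfl
  · left
    rw [hBeq]
    simp
  · right
    rw [hBeq, Set.eq_univ_iff_forall]
    intro x
    by_cases hx : x = aRefl
    · exact Or.inl hx
    · obtain ⟨i, hi⟩ := Osub_cover x hx
      exact Or.inr (Set.mem_iUnion₂.2 ⟨i, Finset.mem_univ _, hi⟩)

end Cfsg.Agent.Lib.Helper27.J2
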