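import Cfsg.Agent.Lib.Helper27.J2Spectrum

/-!
# The set of element orders of `J₂`
-/

set_option autoImplicit false

namespace Cfsg.Agent.Lib.Helper27.J2
open Quaternion Cfsg.Spor

theorem exists_orderOf_12 : ∃ x : J2, orderOf x = 12 :=
  ⟨_, orderOf_mk_of_check (a := 9) (b := 4) (c := 4) (n := 12) (by norm_num) (by norm_num)
    (by norm_num) (by decide) (by decide +kernel) (by decide +kernel)⟩

theorem exists_orderOf_10 : ∃ x : J2, orderOf x = 10 :=
  ⟨_, orderOf_mk_of_check (a := 9) (b := 4) (c := 247) (n := 10) (by norm_num) (by norm_num)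
    (by norm_num) (by decide) (by decide +kernel) (by decide +kernel)⟩

theorem exists_orderOf_7 : ∃ x : J2, orderOf x = 7 :=
  ⟨_, orderOf_mk_of_check (a := 9) (b := 4) (c := 248) (n := 7) (by norm_num) (by norm_num)
    (by norm_num) (by decide) (by decide +kernel) (by decide +kernel)⟩

theorem exists_orderOf_8 : ∃ x : J2, orderOf x = 8 :=
  ⟨_, orderOf_mk_of_check (a := 9) (b := 4) (c := 252) (n := 8) (by norm_num) (by norm_num)
    (by norm_num) (by decide) (by decide +kernel) (by decide +kernel)⟩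

theorem exists_orderOf_15 : ∃ x : J2, orderOf x = 15 :=
  ⟨_, orderOf_mk_of_check (a := 3) (b := 34) (c := 254) (n := 15) (by norm_num) (by norm_num)
    (by norm_num) (by decide) (by decide +kernel) (by decide +kernel)⟩

/-- the element orders of the Hall–Janko group -/
theorem range_orderOf_J2 :
    Set.range (orderOf : J2 → ℕ) = {1, 2, 3, 4, 5, 6, 7, 8, 10, 12, 15} := by
  ext n
  constructor
  · rintro ⟨x, rfl⟩
    have := orderOf_mem_specList x
    simpa [specList] using this
  · intro hn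
    obtain ⟨x12, h12⟩ := exists_orderOf_12
    obtain ⟨x10, h10⟩ := exists_orderOf_10
    obtain ⟨x7, h7⟩ := exists_orderOf_7
    obtain ⟨x8, h8⟩ := exists_orderOf_8
    obtain ⟨x15, h15⟩ := exists_orderOf_15
    simp only [Set.mem_insert_iff, Set.mem_singleton_iff] at hn
    rcases hn with rfl | rfl | rfl | rfl | rfl | rfl | rfl | rfl | rfl | rfl | rfl
    · exact ⟨1, orderOf_one⟩
    · exact ⟨x12 ^ 6, by rw [orderOf_pow_of_dvd (by norm_num) (by rw [h12]; norm_num), h12]⟩
    · exact ⟨x12 ^ 4, by rw [orderOf_pow_of_dvd (by norm_num) (by rw [h12]; norm_num), h12]⟩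
    · exact ⟨x12 ^ 3, by rw [orderOf_pow_of_dvd (by norm_num) (by rw [h12]; norm_num), h12]⟩
    · exact ⟨x10 ^ 2, by rw [orderOf_pow_of_dvd (by norm_num) (by rw [h10]; norm_num), h10]⟩
    · exact ⟨x12 ^ 2, by rw [orderOf_pow_of_dvd (by norm_num) (by rw [h12]; norm_num), h12]⟩
    · exact ⟨x7, h7⟩
    · exact ⟨x8, h8⟩
    · exact ⟨x10, h10⟩
    · exact ⟨x12, h12⟩
    · exact ⟨x15, h15⟩

end Cfsg.Agent.Lib.Helper27.J2
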