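import Cfsg.Agent.Lib.Helper27.J2StabData

/-!
# The stabiliser of `(2,0,0)` in the icosian reflection group has order 32;
the group is transitive on the minimal vectors
-/

set_option autoImplicit false

namespace Cfsg.Agent.Lib.Helper27.J2
open Quaternion Cfsg.Spor

/-! ### coordinates from inner products -/

theorem star_two_quat : star (2 : ℍ[ℝ]) = 2 := by
  rw [qip_two_cast, Quaternion.star_coe]

theorem qip_E1 (x : Fin 3 → ℍ[ℝ]) : qip x (embV E1) = x 0 * 2 := by
  rw [qip_eq]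
  simp [embV, E1, emb_two, emb_zero, star_two_quat]

theorem qip_E2 (x : Fin 3 → ℍ[ℝ]) : qip x (embV E2) = x 1 * 2 := by
  rw [qip_eq]
  simp [embV, E2, emb_two, emb_zero, star_two_quat]

theorem qip_E3 (x : Fin 3 → ℍ[ℝ]) : qip x (embV E3) = x 2 * 2 := by
  rw [qip_eq]
  simp [embV, E3, emb_two, emb_zero, star_two_quat]

theorem eq_of_qip_basis {x y : Fin 3 → ℍ[ℝ]} (h1 : qip x (embV E1) = qip y (embV E1))
    (h2 : qip x (embV E2) = qip y (embV E2)) (h3 : qip x (embV E3) = qip y (embV E3)) : x = y := by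
  rw [qip_E1, qip_E1] at h1
  rw [qip_E2, qip_E2] at h2
  rw [qip_E3, qip_E3] at h3
  funext t
  fin_cases t
  · exact mul_right_cancel₀ quat_two_ne_zero h1
  · exact mul_right_cancel₀ quat_two_ne_zero h2
  · exact mul_right_cancel₀ quat_two_ne_zero h3

/-! ### lattice elements -/

theorem inLam_E2 : inLam E2 = true := X34_min.2.2.2.2.1
theorem inLam_E3 : inLam E3 = true := X34_min.2.2.2.2.2.2.1
theorem inLam_X3 : inLam X3 = true := X34_min.1
theorem inLam_X4 : inLam X4 = true := X34_min.2.2.1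

theorem W0_mem : W0 ∈ Msig := List.mem_of_getElem? Msig_zero

theorem inLam_W0 : inLam W0 = true := (Msig_min W0 W0_mem).1

noncomputable def e2 : icoLeech := ⟨embV E2, (embV_mem_icoLeech_iff E2).2 inLam_E2⟩
noncomputable def e3 : icoLeech := ⟨embV E3, (embV_mem_icoLeech_iff E3).2 inLam_E3⟩
noncomputable def w0 : icoLeech := ⟨embV W0, (embV_mem_icoLeech_iff W0).2 inLam_W0⟩

theorem qip_of_qipM {V : V3} (h : qipM V V = Ic.four) : qip (embV V) (embV V) = 4 := by
  rw [qip_embV, h, emb_four]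

/-- a minimal vector with first coordinate `a` is `c • R` with `R.x = c̄ a` -/
theorem exists_rep_of_coord0 {v : Fin 3 → ℍ[ℝ]} (hv : v ∈ icoLeech) (h4 : qip v v = 4) (a : Ic)
    (h0 : v 0 = emb a) :
    ∃ R ∈ Rep315, ∃ p ∈ unitTab a, R.x = p.2 ∧ v = embV (smulM p.1 R) := by
  obtain ⟨c, hc, R, hR, rfl⟩ := exists_unit_rep hv h4
  obtain ⟨hc1, hc2⟩ := unit_of_Tq (mem_Units.1 hc)
  refine ⟨R, hR, (c, c.conj.mul a), List.mem_map.2 ⟨c, hc, rfl⟩, ?_, (embV_smulM c R).symm⟩
  apply emb_injective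
  rw [emb_mul, emb_conj, ← h0]
  simp only [smulV_apply, embV_zero]
  rw [← mul_assoc, hc1, one_mul]

theorem mem_Msig_of {v : Fin 3 → ℍ[ℝ]} (hv : v ∈ icoLeech) (h4 : qip v v = 4)
    (h0 : v 0 = emb Ic.sig) : ∃ W ∈ Msig, v = embV W := by
  obtain ⟨R, hR, p, hp, hx, rfl⟩ := exists_rep_of_coord0 hv h4 Ic.sig h0
  rw [sigTab_eq] at hp
  exact ⟨_, Msig_complete R hR p hp hx, rfl⟩

/-! ### the pointwise stabiliser of `e1` and `w0` is trivial -/

theorem coord0_of_fix {g : Equiv.Perm icoLeech} (hg : IsUni g) (h1 : g e1 = e1) (x : icoLeech) :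
    ((g x : icoLeech) : Fin 3 → ℍ[ℝ]) 0 = (x : Fin 3 → ℍ[ℝ]) 0 := by
  have h := hg.qip x e1
  rw [h1] at h
  change qip _ (embV E1) = qip _ (embV E1) at h
  rw [qip_E1, qip_E1] at h
  exact mul_right_cancel₀ quat_two_ne_zero h

theorem fix_of_unique {g : Equiv.Perm icoLeech} (hg : IsUni g) (h1 : g e1 = e1) (h2 : g w0 = w0)
    (X : V3) (hX4 : qipM X X = Ic.four) (tab : List (Ic × Ic)) (htab : unitTab X.x = tab)
    (huniq : ∀ R ∈ Rep315, ∀ p ∈ tab, R.x = p.2 → qipM (smulM p.1 R) W0 = qipM X W0 →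
      smulM p.1 R = X)
    (x : icoLeech) (hx : (x : Fin 3 → ℍ[ℝ]) = embV X) : g x = x := by
  have h0 : ((g x : icoLeech) : Fin 3 → ℍ[ℝ]) 0 = emb X.x := by
    rw [coord0_of_fix hg h1, hx]; rfl
  have h4 : qip ((g x : icoLeech) : Fin 3 → ℍ[ℝ]) (g x : icoLeech) = 4 := by
    rw [hg.qip, hx]; exact qip_of_qipM hX4
  obtain ⟨R, hR, p, hp, hxp, hv⟩ := exists_rep_of_coord0 (g x).2 h4 X.x h0
  rw [htab] at hp
  have hq : qipM (smulM p.1 R) W0 = qipM X W0 := by
    apply emb_injective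
    rw [← qip_embV, ← qip_embV, ← hv, ← hx]
    have h := hg.qip x w0
    rw [h2] at h
    exact h
  apply Subtype.ext
  rw [hv, huniq R hR p hp hxp hq, hx]

theorem IsUni.fix_comb {g : Equiv.Perm icoLeech} (hg : IsUni g) {v1 v2 w : icoLeech} {a b c : ℍ[ℝ]}
    (ha : a ∈ icosians) (hb : b ∈ icosians) (hc : c ∈ icosians) (hc0 : c ≠ 0)
    (h1 : g v1 = v1) (h2 : g v2 = v2)
    (h : smulV c (w : Fin 3 → ℍ[ℝ]) = smulV a v1 + smulV b v2) : g w = w := by
  let z1 : icoLeech := ⟨smulV a v1, icoLeech_smul ha v1.2⟩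
  let z2 : icoLeech := ⟨smulV b v2, icoLeech_smul hb v2.2⟩
  let z : icoLeech := ⟨smulV c w, icoLeech_smul hc w.2⟩
  have e1' : ((g z1 : icoLeech) : Fin 3 → ℍ[ℝ]) = smulV a v1 := by
    rw [hg.smul a ha v1 z1 rfl, h1]
  have e2' : ((g z2 : icoLeech) : Fin 3 → ℍ[ℝ]) = smulV b v2 := by
    rw [hg.smul b hb v2 z2 rfl, h2]
  have e3' : ((g z : icoLeech) : Fin 3 → ℍ[ℝ]) = smulV a v1 + smulV b v2 := by
    rw [hg.add z1 z2 z h, e1', e2']
  have e4 : ((g z : icoLeech) : Fin 3 → ℍ[ℝ]) = smulV c (g w : icoLeech) := hg.smul c hc w z rfl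
  apply Subtype.ext
  funext t
  have h5 : smulV c ((g w : icoLeech) : Fin 3 → ℍ[ℝ]) = smulV c w := by rw [← e4, e3', h]
  have h6 := congrFun h5 t
  simp only [smulV_apply] at h6
  exact mul_left_cancel₀ hc0 h6

theorem emb_Hc_ne_zero : emb Ic.Hc ≠ 0 := by
  intro h
  have h2 := icoH_mul_star
  rw [← emb_Hc, h, zero_mul] at h2
  exact quat_two_ne_zero h2.symm

theorem two_mem_icosians : (2 : ℍ[ℝ]) ∈ icosians := by
  rw [← emb_two]; exact emb_mem_icosians _

/-- `h • e2 = 2 • x3 + h • e1` -/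
theorem comb_e2 : smulV (emb Ic.Hc) (embV E2) = smulV 2 (embV X3) + smulV (emb Ic.Hc) (embV E1) := by
  funext t
  fin_cases t <;>
  simp [embV, E1, E2, X3, emb_two, emb_zero, emb_neg, mul_two_eq]

/-- `h • e3 = (-2) • x4 + h • e1` -/
theorem comb_e3 : smulV (emb Ic.Hc) (embV E3) = smulV (-2) (embV X4) + smulV (emb Ic.Hc) (embV E1) := by
  funext t
  fin_cases t <;>
  simp [embV, E1, E3, X4, emb_two, emb_zero, emb_neg, mul_two_eq]

theorem eq_one_of_fix {g : Equiv.Perm icoLeech} (hg : IsUni g) (h1 : g e1 = e1) (h2 : g w0 = w0) :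
    g = 1 := by
  let x3 : icoLeech := ⟨embV X3, (embV_mem_icoLeech_iff X3).2 inLam_X3⟩
  let x4 : icoLeech := ⟨embV X4, (embV_mem_icoLeech_iff X4).2 inLam_X4⟩
  have h3 : g x3 = x3 :=
    fix_of_unique hg h1 h2 X3 X34_min.2.1 tab3 tab3_eq X3_unique x3 rfl
  have h4 : g x4 = x4 :=
    fix_of_unique hg h1 h2 X4 X34_min.2.2.2.1 tab4 tab4_eq X4_unique x4 rfl
  have he2 : g e2 = e2 :=
    hg.fix_comb two_mem_icosians (emb_mem_icosians Ic.Hc) (emb_mem_icosians Ic.Hc) emb_Hc_ne_zero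
      h3 h1 comb_e2
  have he3 : g e3 = e3 :=
    hg.fix_comb (Subring.neg_mem _ two_mem_icosians) (emb_mem_icosians Ic.Hc)
      (emb_mem_icosians Ic.Hc) emb_Hc_ne_zero h4 h1 comb_e3
  ext x : 1
  apply Subtype.ext
  rw [Equiv.Perm.one_apply]
  apply eq_of_qip_basis
  · have h := hg.qip x e1
    rw [h1] at h; exact h
  · have h := hg.qip x e2
    rw [he2] at h; exact h
  · have h := hg.qip x e3
    rw [he3] at h; exact h

/-! ### the stabiliser of `e1` is transitive on the 32 vectors -/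

/-- `W` is the image of `w0` under an element of the group fixing `e1` -/
def ReachS (W : V3) : Prop :=
  ∃ g ∈ twoJ2, g e1 = e1 ∧ ((g w0 : icoLeech) : Fin 3 → ℍ[ℝ]) = embV W

theorem reachS_W0 : ReachS W0 := ⟨1, Subgroup.one_mem _, rfl, rfl⟩

theorem perp10_RepAll {R : V3} (hR : R ∈ perp10) : R ∈ RepAll :=
  Rep315_sub R (perp10_sub R hR).1

theorem reflOf_mem {R : V3} (hR : R ∈ RepAll) : reflOf R ∈ twoJ2 := by
  rw [reflOf_eq hR]; exact reflPerm_mem _ _

theorem reflOf_fix_e1 {R : V3} (hR : R ∈ RepAll) (hx : R.x = Ic.zero) : reflOf R e1 = e1 := by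
  apply Subtype.ext
  rw [reflOf_apply hR]
  have h : qip (e1 : Fin 3 → ℍ[ℝ]) (embV R) = 2 * 0 := by
    change qip (embV E1) (embV R) = _
    rw [qip_eq]
    simp [embV, E1, hx, emb_zero]
  rw [qrefl_eq _ _ h]
  funext t
  simp

theorem reachS_step {W W' R : V3} (hW : ReachS W) (hWL : inLam W = true) (hR : R ∈ perp10)
    (h : reflM R W = W') : ReachS W' := by
  obtain ⟨g, hg, hg1, hgw⟩ := hW
  have hRA := perp10_RepAll hR
  refine ⟨reflOf R * g, Subgroup.mul_mem _ (reflOf_mem hRA) hg, ?_, ?_⟩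
  · rw [Equiv.Perm.mul_apply, hg1, reflOf_fix_e1 hRA (perp10_sub R hR).2]
  · rw [Equiv.Perm.mul_apply, reflOf_apply hRA, hgw, ← embV_reflM (RepAll_min R hRA).1 hWL, h]

theorem runSigSteps_reach : ∀ (ss : List (ℕ × ℕ × ℕ)) (r r' : List ℕ),
    (∀ i ∈ r, ∀ W, Msig[i]? = some W → ReachS W) →
    runSigSteps r ss = some r' → ∀ i ∈ r', ∀ W, Msig[i]? = some W → ReachS W := by
  intro ss
  induction ss with
  | nil =>
    intro r r' hr h
    simp only [runSigSteps, Option.some.injEq] at h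
    subst h; exact hr
  | cons s ss ih =>
    intro r r' hr h
    simp only [runSigSteps] at h
    split_ifs at h with hs
    apply ih (s.1 :: r) r' ?_ h
    intro i hi W hW
    rcases List.mem_cons.1 hi with rfl | hi
    · simp only [sigStepOK, Bool.and_eq_true, List.contains_iff_mem] at hs
      obtain ⟨h1, h3⟩ := hs
      rw [hW] at h3
      cases hp : Msig[s.2.1]? with
      | none => rw [hp] at h3; simp at h3
      | some Wp =>
        cases ha : perp10[s.2.2]? with
        | none => rw [hp, ha] at h3; simp at h3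
        | some R =>
          rw [hp, ha] at h3
          simp only [beq_iff_eq] at h3
          have hWp : Wp ∈ Msig := List.mem_of_getElem? hp
          have hR : R ∈ perp10 := List.mem_of_getElem? ha
          exact reachS_step (hr _ h1 Wp hp) (Msig_min _ hWp).1 hR h3
    · exact hr i hi W hW

theorem reachS_of_mem {W : V3} (hW : W ∈ Msig) : ReachS W := by
  have h := sigSteps_ok
  cases hr : runSigSteps [0] sigSteps with
  | none => rw [hr] at h; simp at h
  | some r =>
    rw [hr] at h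
    simp only [Option.map_some, Option.some.injEq, List.all_eq_true, List.mem_range,
      List.contains_iff_mem] at h
    obtain ⟨i, hi, hiW⟩ := List.mem_iff_getElem.1 hW
    have h1 : Msig[i]? = some W := by rw [List.getElem?_eq_getElem hi, hiW]
    refine runSigSteps_reach sigSteps [0] r ?_ hr i (h i hi) W h1
    intro j hj W' hW'
    rw [List.mem_singleton] at hj
    subst hj
    rw [Msig_zero] at hW'
    cases hW'
    exact reachS_W0

/-! ### unit multiples of `e1` -/

/-- `c • e1` is in the orbit of `e1` -/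
def InS (c : Ic) : Prop :=
  ∃ g ∈ twoJ2, ((g e1 : icoLeech) : Fin 3 → ℍ[ℝ]) = smulV (emb c) (embV E1)

theorem inS_mul {c c' : Ic} (h : InS c) (h' : InS c') : InS (c'.mul c) := by
  obtain ⟨g, hg, hge⟩ := h
  obtain ⟨g', hg', hge'⟩ := h'
  refine ⟨g * g', Subgroup.mul_mem _ hg hg', ?_⟩
  rw [Equiv.Perm.mul_apply, (isUni_of_mem hg).smul (emb c') (emb_mem_icosians c') e1 (g' e1) hge', hge,
    smulV_smulV, emb_mul]

theorem inS_of_refl {c : Ic} {A B : V3} (hA : A ∈ Rep315) (hB : B ∈ Rep315)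
    (hL : inLam (reflM A E1) = true) (h : reflM B (reflM A E1) = smulM c E1) : InS c := by
  have hA' := Rep315_sub A hA
  have hB' := Rep315_sub B hB
  refine ⟨reflOf B * reflOf A, Subgroup.mul_mem _ (reflOf_mem hB') (reflOf_mem hA'), ?_⟩
  rw [Equiv.Perm.mul_apply, reflOf_apply hB', reflOf_apply hA']
  change qrefl (embV B) (qrefl (embV A) (embV E1)) = _
  rw [← embV_reflM (RepAll_min A hA').1 (RepAll_min E1 E1_mem).1, ← embV_reflM (RepAll_min B hB').1 hL,
    h, embV_smulM]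

theorem closeSteps_inS : ∀ (ss : List (ℕ × ℕ × Ic)) (l l' : List Ic), (∀ c ∈ l, InS c) →
    closeSteps l ss = some l' → ∀ c ∈ l', InS c := by
  intro ss
  induction ss with
  | nil =>
    intro l l' hl h
    simp only [closeSteps, Option.some.injEq] at h
    subst h; exact hl
  | cons s ss ih =>
    intro l l' hl h
    simp only [closeSteps] at h
    cases ha : l[s.1]? with
    | none => rw [ha] at h; simp at h
    | some a =>
      cases hb : l[s.2.1]? with
      | none => rw [ha, hb] at h; simp at h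
      | some b =>
        rw [ha, hb] at h
        simp only at h
        split_ifs at h with hab
        apply ih (l ++ [s.2.2]) l' ?_ h
        intro c hc
        rcases List.mem_append.1 hc with hc | hc
        · exact hl c hc
        · rw [List.mem_singleton] at hc
          subst hc
          rw [← hab]
          exact inS_mul (hl b (List.mem_of_getElem? hb)) (hl a (List.mem_of_getElem? ha))

theorem inS_of_unit {c : Ic} (hc : c ∈ Units) : InS c := by
  have h := unitSteps_ok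
  cases hr : closeSteps [gen1, gen2, gen3] unitSteps with
  | none => rw [hr] at h; simp at h
  | some l =>
    rw [hr] at h
    simp only [Option.map_some, Option.some.injEq, List.all_eq_true, List.contains_iff_mem] at h
    refine closeSteps_inS unitSteps [gen1, gen2, gen3] l ?_ hr c (h c hc)
    intro c' hc'
    obtain ⟨⟨a1, b1, l1, r1⟩, ⟨a2, b2, l2, r2⟩, ⟨a3, b3, l3, r3⟩⟩ := gen_ok
    simp only [List.mem_cons, List.not_mem_nil, or_false] at hc'
    rcases hc' with rfl | rfl | rfl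
    · exact inS_of_refl a1 b1 l1 r1
    · exact inS_of_refl a2 b2 l2 r2
    · exact inS_of_refl a3 b3 l3 r3

/-- a unit icosian is the image of one of the 120 listed units -/
theorem exists_unit_of_icosian {u : ℍ[ℝ]} (hu : u ∈ icosians) (h1 : u * star u = 1) :
    ∃ c ∈ Units, emb c = u := by
  obtain ⟨c, hc⟩ := exists_of_mem_icosians hu
  refine ⟨c, ?_, hc⟩
  rw [mem_Units]
  apply Tq_of_nrm_one
  rw [hc, h1]

/-- **the group is transitive on the minimal vectors** -/
theorem exists_map_e1 (r : icoLeech) (hr : qip (r : Fin 3 → ℍ[ℝ]) r = 4) :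
    ∃ g ∈ twoJ2, g e1 = r := by
  obtain ⟨c, hc, R, hR, hv⟩ := exists_unit_rep r.2 hr
  obtain ⟨hc1, hc2⟩ := unit_of_Tq (mem_Units.1 hc)
  obtain ⟨g, hg, u, hu, hu1, hgu⟩ := reach_of_mem (Rep315_sub R hR)
  have hu2 : star u * u = 1 := by rw [star_mul_self_eq, hu1]
  -- `embV R = ū • g e1`, so `r = (c ū) • g e1`
  have hsu : star u ∈ icosians := star_mem_icosians hu
  obtain ⟨d, hd, hdu⟩ := exists_unit_of_icosian (Subring.mul_mem _ (emb_mem_icosians c) hsu)
    (by rw [star_mul, star_star, mul_assoc, ← mul_assoc (star u), hu2, one_mul, hc2])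
  obtain ⟨k, hk, hke⟩ := inS_of_unit hd
  refine ⟨g * k, Subgroup.mul_mem _ hg hk, ?_⟩
  apply Subtype.ext
  rw [Equiv.Perm.mul_apply, (isUni_of_mem hg).smul (emb d) (emb_mem_icosians d) e1 (k e1) hke, hgu, hv,
    smulV_smulV, hdu, mul_assoc, hu2, mul_one]

end Cfsg.Agent.Lib.Helper27.J2
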