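import Cfsg.Agent.Lib.Helper27.J2Lines

/-!
# Data for the order of the icosian reflection group: the stabiliser of `(2,0,0)`
-/

set_option autoImplicit false

namespace Cfsg.Agent.Lib.Helper27.J2

/-- `σ = (1 - √5)/2` -/
def Ic.sig : Ic := ⟨0, 1, 0, -1, -1, 0, 0, 0⟩

/-- the base vector `(σ, y, z)` -/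
def W0 : V3 := ⟨⟨0, 1, 0, -1, -1, 0, 0, 0⟩, ⟨1, 0, 0, 0, 1, 1, 0, 0⟩, ⟨1, -1, 0, 1, 1, 0, -1, 1⟩⟩

/-- the 32 minimal vectors with first coordinate `σ` -/
def Msig : List V3 := [
  ⟨⟨0, 1, 0, -1, -1, 0, 0, 0⟩, ⟨1, 0, 0, 0, 1, 1, 0, 0⟩, ⟨1, -1, 0, 1, 1, 0, -1, 1⟩⟩,
  ⟨⟨0, 1, 0, -1, -1, 0, 0, 0⟩, ⟨-1, 0, 0, 0, -1, -1, 0, 0⟩, ⟨1, -1, 0, 1, 1, 0, -1, 1⟩⟩,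
  ⟨⟨0, 1, 0, -1, -1, 0, 0, 0⟩, ⟨0, 1, 0, 0, -1, 1, 0, 0⟩, ⟨0, 0, 0, -1, -1, 0, 1, -1⟩⟩,
  ⟨⟨0, 1, 0, -1, -1, 0, 0, 0⟩, ⟨0, -1, 0, 0, 1, -1, 0, 0⟩, ⟨0, 0, 0, -1, -1, 0, 1, -1⟩⟩,
  ⟨⟨0, 1, 0, -1, -1, 0, 0, 0⟩, ⟨0, 1, -1, -1, 0, 0, 0, 0⟩, ⟨0, 0, 1, 0, 0, -1, 1, 1⟩⟩,
  ⟨⟨0, 1, 0, -1, -1, 0, 0, 0⟩, ⟨0, -1, 1, 1, 0, 0, 0, 0⟩, ⟨0, 0, 1, 0, 0, -1, 1, 1⟩⟩,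
  ⟨⟨0, 1, 0, -1, -1, 0, 0, 0⟩, ⟨-1, 0, 1, -1, 0, 0, 0, 0⟩, ⟨1, 1, -1, 0, 0, 1, -1, -1⟩⟩,
  ⟨⟨0, 1, 0, -1, -1, 0, 0, 0⟩, ⟨1, 0, -1, 1, 0, 0, 0, 0⟩, ⟨1, 1, -1, 0, 0, 1, -1, -1⟩⟩,
  ⟨⟨0, 1, 0, -1, -1, 0, 0, 0⟩, ⟨1, 0, -1, 1, 0, 0, 0, 0⟩, ⟨-1, -1, 1, 0, 0, -1, 1, 1⟩⟩,
  ⟨⟨0, 1, 0, -1, -1, 0, 0, 0⟩, ⟨-1, 0, 1, -1, 0, 0, 0, 0⟩, ⟨-1, -1, 1, 0, 0, -1, 1, 1⟩⟩,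
  ⟨⟨0, 1, 0, -1, -1, 0, 0, 0⟩, ⟨0, -1, 1, 1, 0, 0, 0, 0⟩, ⟨0, 0, -1, 0, 0, 1, -1, -1⟩⟩,
  ⟨⟨0, 1, 0, -1, -1, 0, 0, 0⟩, ⟨0, 1, -1, -1, 0, 0, 0, 0⟩, ⟨0, 0, -1, 0, 0, 1, -1, -1⟩⟩,
  ⟨⟨0, 1, 0, -1, -1, 0, 0, 0⟩, ⟨0, -1, 0, 0, 1, -1, 0, 0⟩, ⟨0, 0, 0, 1, 1, 0, -1, 1⟩⟩,
  ⟨⟨0, 1, 0, -1, -1, 0, 0, 0⟩, ⟨0, 1, 0, 0, -1, 1, 0, 0⟩, ⟨0, 0, 0, 1, 1, 0, -1, 1⟩⟩,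
  ⟨⟨0, 1, 0, -1, -1, 0, 0, 0⟩, ⟨-1, 0, 0, 0, -1, -1, 0, 0⟩, ⟨-1, 1, 0, -1, -1, 0, 1, -1⟩⟩,
  ⟨⟨0, 1, 0, -1, -1, 0, 0, 0⟩, ⟨1, 0, 0, 0, 1, 1, 0, 0⟩, ⟨-1, 1, 0, -1, -1, 0, 1, -1⟩⟩,
  ⟨⟨0, 1, 0, -1, -1, 0, 0, 0⟩, ⟨0, 0, 0, -1, -1, 0, 1, -1⟩, ⟨0, 1, 0, 0, -1, 1, 0, 0⟩⟩,
  ⟨⟨0, 1, 0, -1, -1, 0, 0, 0⟩, ⟨0, 0, 0, 1, 1, 0, -1, 1⟩, ⟨0, -1, 0, 0, 1, -1, 0, 0⟩⟩,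
  ⟨⟨0, 1, 0, -1, -1, 0, 0, 0⟩, ⟨1, 1, -1, 0, 0, 1, -1, -1⟩, ⟨-1, 0, 1, -1, 0, 0, 0, 0⟩⟩,
  ⟨⟨0, 1, 0, -1, -1, 0, 0, 0⟩, ⟨-1, -1, 1, 0, 0, -1, 1, 1⟩, ⟨1, 0, -1, 1, 0, 0, 0, 0⟩⟩,
  ⟨⟨0, 1, 0, -1, -1, 0, 0, 0⟩, ⟨0, 0, 1, 0, 0, -1, 1, 1⟩, ⟨0, 1, -1, -1, 0, 0, 0, 0⟩⟩,
  ⟨⟨0, 1, 0, -1, -1, 0, 0, 0⟩, ⟨0, 0, -1, 0, 0, 1, -1, -1⟩, ⟨0, -1, 1, 1, 0, 0, 0, 0⟩⟩,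
  ⟨⟨0, 1, 0, -1, -1, 0, 0, 0⟩, ⟨1, -1, 0, 1, 1, 0, -1, 1⟩, ⟨1, 0, 0, 0, 1, 1, 0, 0⟩⟩,
  ⟨⟨0, 1, 0, -1, -1, 0, 0, 0⟩, ⟨-1, 1, 0, -1, -1, 0, 1, -1⟩, ⟨-1, 0, 0, 0, -1, -1, 0, 0⟩⟩,
  ⟨⟨0, 1, 0, -1, -1, 0, 0, 0⟩, ⟨1, -1, 0, 1, 1, 0, -1, 1⟩, ⟨-1, 0, 0, 0, -1, -1, 0, 0⟩⟩,
  ⟨⟨0, 1, 0, -1, -1, 0, 0, 0⟩, ⟨-1, 1, 0, -1, -1, 0, 1, -1⟩, ⟨1, 0, 0, 0, 1, 1, 0, 0⟩⟩,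
  ⟨⟨0, 1, 0, -1, -1, 0, 0, 0⟩, ⟨0, 0, 1, 0, 0, -1, 1, 1⟩, ⟨0, -1, 1, 1, 0, 0, 0, 0⟩⟩,
  ⟨⟨0, 1, 0, -1, -1, 0, 0, 0⟩, ⟨0, 0, -1, 0, 0, 1, -1, -1⟩, ⟨0, 1, -1, -1, 0, 0, 0, 0⟩⟩,
  ⟨⟨0, 1, 0, -1, -1, 0, 0, 0⟩, ⟨1, 1, -1, 0, 0, 1, -1, -1⟩, ⟨1, 0, -1, 1, 0, 0, 0, 0⟩⟩,
  ⟨⟨0, 1, 0, -1, -1, 0, 0, 0⟩, ⟨-1, -1, 1, 0, 0, -1, 1, 1⟩, ⟨-1, 0, 1, -1, 0, 0, 0, 0⟩⟩,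
  ⟨⟨0, 1, 0, -1, -1, 0, 0, 0⟩, ⟨0, 0, 0, -1, -1, 0, 1, -1⟩, ⟨0, -1, 0, 0, 1, -1, 0, 0⟩⟩,
  ⟨⟨0, 1, 0, -1, -1, 0, 0, 0⟩, ⟨0, 0, 0, 1, 1, 0, -1, 1⟩, ⟨0, 1, 0, 0, -1, 1, 0, 0⟩⟩]

/-- representatives of the 10 lines orthogonal to `(2,0,0)` -/
def perp10 : List V3 := [
  ⟨⟨0, 0, 0, 0, 0, 0, 0, 0⟩, ⟨0, 0, 0, 0, 0, 0, 0, 0⟩, ⟨2, 0, 0, 0, 0, 0, 0, 0⟩⟩,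
  ⟨⟨0, 0, 0, 0, 0, 0, 0, 0⟩, ⟨2, 0, 0, 0, 0, 0, 0, 0⟩, ⟨0, 0, 0, 0, 0, 0, 0, 0⟩⟩,
  ⟨⟨0, 0, 0, 0, 0, 0, 0, 0⟩, ⟨-1, 2, 0, -2, -2, 0, 1, -1⟩, ⟨1, -2, 0, 2, 2, 0, -1, 1⟩⟩,
  ⟨⟨0, 0, 0, 0, 0, 0, 0, 0⟩, ⟨-1, 2, 0, -2, -2, 0, 1, -1⟩, ⟨1, 0, 0, 0, 0, 0, 1, 1⟩⟩,
  ⟨⟨0, 0, 0, 0, 0, 0, 0, 0⟩, ⟨-1, 2, 0, -2, -2, 0, 1, -1⟩, ⟨1, 0, 0, 0, 2, 0, -1, 1⟩⟩,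
  ⟨⟨0, 0, 0, 0, 0, 0, 0, 0⟩, ⟨-1, 2, 0, -2, -2, 0, 1, -1⟩, ⟨1, 0, 0, 0, 0, 2, -1, -1⟩⟩,
  ⟨⟨0, 0, 0, 0, 0, 0, 0, 0⟩, ⟨-1, 2, 0, -2, -2, 0, 1, -1⟩, ⟨-1, 0, 0, 0, 0, -2, 1, 1⟩⟩,
  ⟨⟨0, 0, 0, 0, 0, 0, 0, 0⟩, ⟨-1, 2, 0, -2, -2, 0, 1, -1⟩, ⟨-1, 0, 0, 0, -2, 0, 1, -1⟩⟩,
  ⟨⟨0, 0, 0, 0, 0, 0, 0, 0⟩, ⟨-1, 2, 0, -2, -2, 0, 1, -1⟩, ⟨-1, 0, 0, 0, 0, 0, -1, -1⟩⟩,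
  ⟨⟨0, 0, 0, 0, 0, 0, 0, 0⟩, ⟨-1, 2, 0, -2, -2, 0, 1, -1⟩, ⟨-1, 2, 0, -2, -2, 0, 1, -1⟩⟩]

def X3 : V3 := ⟨Ic.Hc.neg, Ic.Hc, Ic.zero⟩
def X4 : V3 := ⟨Ic.Hc, Ic.zero, Ic.Hc.neg⟩
def E2 : V3 := ⟨Ic.zero, Ic.two, Ic.zero⟩
def E3 : V3 := ⟨Ic.zero, Ic.zero, Ic.two⟩

/-- pairs `(c, c̄ a)` for the units `c` -/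
def unitTab (a : Ic) : List (Ic × Ic) := List.map (fun c : Ic => (c, c.conj.mul a)) Units

def sigTab : List (Ic × Ic) := [
  (⟨-1, 0, 0, 0, 0, 0, 0, 0⟩, ⟨0, -1, 0, 1, 1, 0, 0, 0⟩),
  (⟨0, -1, 0, 1, 1, 0, -1, 1⟩, ⟨-1, 0, 0, 0, -1, -1, 1, -1⟩),
  (⟨-1, -1, 1, 0, 0, -1, 1, 1⟩, ⟨0, 0, 0, 1, 0, 1, -1, -1⟩),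
  (⟨0, 0, -1, 0, 0, 1, -1, -1⟩, ⟨-1, -1, 1, 0, 1, -2, 1, 1⟩),
  (⟨-1, 0, 0, -1, -1, 0, 1, -1⟩, ⟨0, -1, 1, 1, 2, 0, -1, 1⟩),
  (⟨0, 0, 0, 0, 1, 1, -1, 0⟩, ⟨-1, 0, 0, -1, -1, -1, 2, -1⟩),
  (⟨-1, 0, 0, -1, 0, -1, 1, 0⟩, ⟨1, 0, -1, 1, 1, 2, -2, -1⟩),
  (⟨0, 0, 0, 1, 0, 1, -1, 0⟩, ⟨-1, -1, 1, 0, 0, -2, 2, 1⟩),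
  (⟨-1, 0, 0, 0, -1, -1, 1, 0⟩, ⟨1, -1, 0, 2, 2, 1, -2, 1⟩),
  (⟨0, 0, 0, 1, 1, 0, -1, 1⟩, ⟨0, 0, -1, 0, -1, 0, 1, -1⟩),
  (⟨-1, 0, 1, 0, 0, -1, 1, 1⟩, ⟨1, 0, -1, 1, 0, 2, -1, -1⟩),
  (⟨0, 1, -1, 0, 0, 1, -1, -1⟩, ⟨0, -1, 0, 0, 1, -1, 1, 1⟩),
  (⟨-1, 1, 0, -1, -1, 0, 1, -1⟩, ⟨1, -1, 0, 1, 2, 1, -1, 1⟩),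
  (⟨0, 0, 0, 0, 0, 1, 0, 0⟩, ⟨-1, 0, 1, 0, 0, -1, 1, 0⟩),
  (⟨0, 0, -1, 0, 0, 0, 0, 0⟩, ⟨0, 0, 0, 1, 1, 0, -1, 0⟩),
  (⟨0, 0, 0, 0, 1, 0, 0, 1⟩, ⟨0, 1, -1, 0, -1, 1, 0, -2⟩),
  (⟨0, 1, -1, 0, -1, 1, 0, -1⟩, ⟨0, -1, 1, 1, 2, -1, 0, 2⟩),
  (⟨-1, -1, 1, 0, 1, -1, 0, 1⟩, ⟨0, 0, -1, 0, -1, 1, 0, -2⟩),
  (⟨-1, 0, 0, 0, -1, 0, 0, -1⟩, ⟨0, -2, 1, 1, 2, -1, 0, 2⟩),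
  (⟨-1, 0, 1, 0, 0, 0, 0, 0⟩, ⟨0, -1, 0, 0, 0, 0, 1, 0⟩),
  (⟨-1, 0, 0, 0, 0, -1, 0, 0⟩, ⟨1, -1, -1, 1, 1, 1, -1, 0⟩),
  (⟨0, -1, 0, 0, 0, 0, 0, 0⟩, ⟨-1, 0, 1, 0, 0, -1, 0, 0⟩),
  (⟨0, -1, 1, 0, 1, 0, 0, 1⟩, ⟨-1, 1, 0, -1, -2, 0, 1, -2⟩),
  (⟨0, -1, 0, 0, 1, -1, 0, 1⟩, ⟨0, 1, -1, 0, -1, 1, -1, -2⟩),
  (⟨0, 0, 0, 0, -1, 1, 0, -1⟩, ⟨-1, -1, 2, 0, 1, -2, 1, 2⟩),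
  (⟨0, 0, -1, 0, -1, 0, 0, -1⟩, ⟨0, -1, 1, 1, 2, -1, -1, 2⟩),
  (⟨0, -1, 1, 1, 1, -1, 0, 2⟩, ⟨0, 1, -1, 0, -2, 1, 0, -2⟩),
  (⟨1, 0, -1, 1, 1, 1, -2, 0⟩, ⟨-1, 0, 0, -1, -1, -2, 2, 0⟩),
  (⟨-1, 0, 1, -1, -1, -1, 2, 0⟩, ⟨1, 0, 0, 1, 1, 2, -2, 0⟩),
  (⟨0, 1, -1, -1, -1, 1, 0, -2⟩, ⟨0, -1, 1, 0, 2, -1, 0, 2⟩),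
  (⟨0, 0, 1, 0, 1, 0, 0, 1⟩, ⟨0, 1, -1, -1, -2, 1, 1, -2⟩),
  (⟨0, 0, 0, 0, 1, -1, 0, 1⟩, ⟨1, 1, -2, 0, -1, 2, -1, -2⟩),
  (⟨0, 1, 0, 0, -1, 1, 0, -1⟩, ⟨0, -1, 1, 0, 1, -1, 1, 2⟩),
  (⟨0, 1, -1, 0, -1, 0, 0, -1⟩, ⟨1, -1, 0, 1, 2, 0, -1, 2⟩),
  (⟨0, 1, 0, 0, 0, 0, 0, 0⟩, ⟨1, 0, -1, 0, 0, 1, 0, 0⟩),
  (⟨1, 0, -1, 0, 1, 1, -1, 0⟩, ⟨-1, 1, 0, -1, -1, -1, 1, -1⟩),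
  (⟨0, 0, 0, -1, 0, 0, 1, 0⟩, ⟨0, 1, 0, 0, 0, 1, -1, -1⟩),
  (⟨1, 0, -1, 1, 0, 1, -1, 0⟩, ⟨-1, 0, 1, 0, 0, -2, 1, 1⟩),
  (⟨0, 0, 0, 0, -1, 0, 1, 0⟩, ⟨0, 0, 1, 1, 1, 0, -1, 1⟩),
  (⟨1, 0, 0, 1, 1, 1, -1, 1⟩, ⟨-1, 1, 0, -1, -2, -1, 2, -1⟩),
  (⟨0, 0, 0, 0, 0, -1, 1, 1⟩, ⟨1, 1, -1, 1, 0, 2, -2, -1⟩),
  (⟨1, 1, -1, 0, 0, 2, -1, -1⟩, ⟨-1, 0, 1, -1, 0, -2, 2, 1⟩),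
  (⟨0, 1, -1, -1, -1, 0, 1, -1⟩, ⟨1, 0, 0, 1, 2, 1, -2, 1⟩),
  (⟨0, -1, 1, 1, 1, 0, -1, 1⟩, ⟨-1, 0, 0, -1, -2, -1, 2, -1⟩),
  (⟨-1, -1, 1, 0, 0, -2, 1, 1⟩, ⟨1, 0, -1, 1, 0, 2, -2, -1⟩),
  (⟨0, 0, 0, 0, 0, 1, -1, -1⟩, ⟨-1, -1, 1, -1, 0, -2, 2, 1⟩),
  (⟨-1, 0, 0, -1, -1, -1, 1, -1⟩, ⟨1, -1, 0, 1, 2, 1, -2, 1⟩),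
  (⟨0, 0, 0, 0, 1, 0, -1, 0⟩, ⟨0, 0, -1, -1, -1, 0, 1, -1⟩),
  (⟨-1, 0, 1, -1, 0, -1, 1, 0⟩, ⟨1, 0, -1, 0, 0, 2, -1, -1⟩),
  (⟨0, 0, 0, 1, 0, 0, -1, 0⟩, ⟨0, -1, 0, 0, 0, -1, 1, 1⟩),
  (⟨-1, 0, 1, 0, -1, -1, 1, 0⟩, ⟨1, -1, 0, 1, 1, 1, -1, 1⟩),
  (⟨1, -1, 0, 1, 1, 0, -1, 1⟩, ⟨-1, 1, 0, -1, -2, -1, 1, -1⟩),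
  (⟨0, -1, 1, 0, 0, -1, 1, 1⟩, ⟨0, 1, 0, 0, -1, 1, -1, -1⟩),
  (⟨1, 0, -1, 0, 0, 1, -1, -1⟩, ⟨-1, 0, 1, -1, 0, -2, 1, 1⟩),
  (⟨0, 0, 0, -1, -1, 0, 1, -1⟩, ⟨0, 0, 1, 0, 1, 0, -1, 1⟩),
  (⟨1, 0, 0, 0, 1, 1, -1, 0⟩, ⟨-1, 1, 0, -2, -2, -1, 2, -1⟩),
  (⟨0, 0, 0, -1, 0, -1, 1, 0⟩, ⟨1, 1, -1, 0, 0, 2, -2, -1⟩),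
  (⟨1, 0, 0, 1, 0, 1, -1, 0⟩, ⟨-1, 0, 1, -1, -1, -2, 2, 1⟩),
  (⟨0, 0, 0, 0, -1, -1, 1, 0⟩, ⟨1, 0, 0, 1, 1, 1, -2, 1⟩),
  (⟨1, 0, 0, 1, 1, 0, -1, 1⟩, ⟨0, 1, -1, -1, -2, 0, 1, -1⟩),
  (⟨0, 0, 1, 0, 0, -1, 1, 1⟩, ⟨1, 1, -1, 0, -1, 2, -1, -1⟩),
  (⟨1, 1, -1, 0, 0, 1, -1, -1⟩, ⟨0, 0, 0, -1, 0, -1, 1, 1⟩),
  (⟨0, 1, 0, -1, -1, 0, 1, -1⟩, ⟨1, 0, 0, 0, 1, 1, -1, 1⟩),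
  (⟨1, 0, 0, 0, 0, 1, 0, 0⟩, ⟨-1, 1, 1, -1, -1, -1, 1, 0⟩),
  (⟨1, 0, -1, 0, 0, 0, 0, 0⟩, ⟨0, 1, 0, 0, 0, 0, -1, 0⟩),
  (⟨1, 0, 0, 0, 1, 0, 0, 1⟩, ⟨0, 2, -1, -1, -2, 1, 0, -2⟩),
  (⟨1, 1, -1, 0, -1, 1, 0, -1⟩, ⟨0, 0, 1, 0, 1, -1, 0, 2⟩),
  (⟨0, -1, 1, 0, 1, -1, 0, 1⟩, ⟨0, 1, -1, -1, -2, 1, 0, -2⟩),
  (⟨0, 0, 0, 0, -1, 0, 0, -1⟩, ⟨0, -1, 1, 0, 1, -1, 0, 2⟩),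
  (⟨0, 0, 1, 0, 0, 0, 0, 0⟩, ⟨0, 0, 0, -1, -1, 0, 1, 0⟩),
  (⟨0, 0, 0, 0, 0, -1, 0, 0⟩, ⟨1, 0, -1, 0, 0, 1, -1, 0⟩),
  (⟨1, 0, 0, 0, 0, 0, 0, 0⟩, ⟨0, 1, 0, -1, -1, 0, 0, 0⟩),
  (⟨0, -1, 0, 0, 1, 0, 0, 0⟩, ⟨-1, 0, 0, 0, 0, 0, 0, -1⟩),
  (⟨0, -1, 0, 1, 0, 0, 0, 0⟩, ⟨-1, -1, 1, 1, 1, -1, 0, 1⟩),
  (⟨0, -1, 1, 1, 1, 0, 0, 1⟩, ⟨-1, 0, 0, 0, -1, 0, 1, -1⟩),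
  (⟨0, -1, 0, 1, 1, -1, 0, 1⟩, ⟨0, 0, -1, 1, 0, 1, -1, -1⟩),
  (⟨0, 0, 0, 0, 0, 1, 0, -1⟩, ⟨-1, -1, 1, 0, 1, -1, 1, 1⟩),
  (⟨0, 0, -1, 0, 0, 0, 0, -1⟩, ⟨0, -1, 0, 1, 2, 0, -1, 1⟩),
  (⟨0, 0, 0, 0, 1, 0, 0, 0⟩, ⟨0, 0, -1, 0, 0, 1, 0, -1⟩),
  (⟨0, 0, 0, 1, 0, 0, 0, 0⟩, ⟨0, -1, 0, 1, 1, 0, 0, 1⟩),
  (⟨1, 0, -1, 1, 1, 1, -1, 0⟩, ⟨-1, 0, 0, 0, 0, -1, 1, 0⟩),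
  (⟨0, 0, 0, 0, 0, 0, 1, 0⟩, ⟨0, 0, 0, 1, 1, 1, -1, 0⟩),
  (⟨0, -1, 0, 1, 1, 0, -1, 0⟩, ⟨-1, -1, 0, 0, 0, -1, 1, 0⟩),
  (⟨-1, -1, 1, 0, 0, -1, 1, 0⟩, ⟨0, -1, 0, 1, 1, 1, -1, 0⟩),
  (⟨1, -1, 0, 1, 1, 1, -1, 0⟩, ⟨-2, 0, 1, -1, -1, -2, 2, 0⟩),
  (⟨0, -1, 0, 0, 0, -1, 1, 0⟩, ⟨0, 0, 0, 1, 1, 1, -2, 0⟩),
  (⟨1, -1, 0, 1, 2, 0, -1, 1⟩, ⟨-1, 1, -1, -1, -2, 0, 1, -2⟩),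
  (⟨0, -1, 1, 0, 1, -1, 1, 1⟩, ⟨0, 1, -1, 0, -1, 2, -1, -2⟩),
  (⟨1, 0, -1, 1, 0, 1, -1, -1⟩, ⟨-1, -1, 1, 0, 1, -2, 1, 2⟩),
  (⟨0, 0, 0, 0, -1, 0, 1, -1⟩, ⟨0, -1, 1, 1, 2, 0, -1, 2⟩),
  (⟨1, 0, 0, 1, 1, 1, -1, 0⟩, ⟨-1, 0, 0, -1, -1, -1, 2, 0⟩),
  (⟨0, 0, 0, 0, 0, -1, 1, 0⟩, ⟨1, 0, -1, 1, 1, 2, -2, 0⟩),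
  (⟨1, -1, 0, 1, 1, 0, 0, 1⟩, ⟨-1, 1, 0, 0, -1, 0, 0, -1⟩),
  (⟨1, 0, -1, 0, 0, 1, 0, -1⟩, ⟨-1, 0, 1, 0, 1, -1, 0, 1⟩),
  (⟨0, -1, 1, 1, 1, -1, 0, 1⟩, ⟨0, 0, -1, 0, -1, 1, 0, -1⟩),
  (⟨0, 0, 0, 0, 0, 0, 0, -1⟩, ⟨0, -1, 0, 0, 1, 0, 0, 1⟩),
  (⟨0, 0, 0, 0, 0, 1, -1, 0⟩, ⟨-1, 0, 1, -1, -1, -2, 2, 0⟩),
  (⟨-1, 0, 0, -1, -1, -1, 1, 0⟩, ⟨1, 0, 0, 1, 1, 1, -2, 0⟩),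
  (⟨0, 0, 0, 0, 1, 0, -1, 1⟩, ⟨0, 1, -1, -1, -2, 0, 1, -2⟩),
  (⟨-1, 0, 1, -1, 0, -1, 1, 1⟩, ⟨1, 1, -1, 0, -1, 2, -1, -2⟩),
  (⟨0, 1, -1, 0, -1, 1, -1, -1⟩, ⟨0, -1, 1, 0, 1, -2, 1, 2⟩),
  (⟨-1, 1, 0, -1, -2, 0, 1, -1⟩, ⟨1, -1, 1, 1, 2, 0, -1, 2⟩),
  (⟨0, 1, 0, 0, 0, 1, -1, 0⟩, ⟨0, 0, 0, -1, -1, -1, 2, 0⟩),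
  (⟨-1, 1, 0, -1, -1, -1, 1, 0⟩, ⟨2, 0, -1, 1, 1, 2, -2, 0⟩),
  (⟨0, 0, 0, 0, 0, 0, 0, 1⟩, ⟨0, 1, 0, 0, -1, 0, 0, -1⟩),
  (⟨0, 1, -1, -1, -1, 1, 0, -1⟩, ⟨0, 0, 1, 0, 1, -1, 0, 1⟩),
  (⟨-1, 0, 1, 0, 0, -1, 0, 1⟩, ⟨1, 0, -1, 0, -1, 1, 0, -1⟩),
  (⟨-1, 1, 0, -1, -1, 0, 0, -1⟩, ⟨1, -1, 0, 0, 1, 0, 0, 1⟩),
  (⟨0, 0, 0, -1, 0, 0, 0, 0⟩, ⟨0, 1, 0, -1, -1, 0, 0, -1⟩),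
  (⟨0, 0, 0, 0, -1, 0, 0, 0⟩, ⟨0, 0, 1, 0, 0, -1, 0, 1⟩),
  (⟨0, 0, 1, 0, 0, 0, 0, 1⟩, ⟨0, 1, 0, -1, -2, 0, 1, -1⟩),
  (⟨0, 0, 0, 0, 0, -1, 0, 1⟩, ⟨1, 1, -1, 0, -1, 1, -1, -1⟩),
  (⟨0, 1, 0, -1, -1, 1, 0, -1⟩, ⟨0, 0, 1, -1, 0, -1, 1, 1⟩),
  (⟨0, 1, -1, -1, -1, 0, 0, -1⟩, ⟨1, 0, 0, 0, 1, 0, -1, 1⟩),
  (⟨0, 1, 0, -1, 0, 0, 0, 0⟩, ⟨1, 1, -1, -1, -1, 1, 0, -1⟩),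
  (⟨0, 1, 0, 0, -1, 0, 0, 0⟩, ⟨1, 0, 0, 0, 0, 0, 0, 1⟩),
  (⟨1, 1, -1, 0, 0, 1, -1, 0⟩, ⟨0, 1, 0, -1, -1, -1, 1, 0⟩),
  (⟨0, 1, 0, -1, -1, 0, 1, 0⟩, ⟨1, 1, 0, 0, 0, 1, -1, 0⟩),
  (⟨0, 0, 0, 0, 0, 0, -1, 0⟩, ⟨0, 0, 0, -1, -1, -1, 1, 0⟩),
  (⟨-1, 0, 1, -1, -1, -1, 1, 0⟩, ⟨1, 0, 0, 0, 0, 1, -1, 0⟩)]

def tab3 : List (Ic × Ic) := [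
  (⟨-1, 0, 0, 0, 0, 0, 0, 0⟩, ⟨-1, 2, 0, -2, -2, 0, 1, -1⟩),
  (⟨0, -1, 0, 1, 1, 0, -1, 1⟩, ⟨1, 1, 0, -1, 0, 1, 0, 0⟩),
  (⟨-1, -1, 1, 0, 0, -1, 1, 1⟩, ⟨0, 1, -1, -2, -1, 0, 1, -1⟩),
  (⟨0, 0, -1, 0, 0, 1, -1, -1⟩, ⟨1, 2, -1, 0, -1, 2, -1, -1⟩),
  (⟨-1, 0, 0, -1, -1, 0, 1, -1⟩, ⟨0, 2, -2, -1, -2, 1, 0, -2⟩),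
  (⟨0, 0, 0, 0, 1, 1, -1, 0⟩, ⟨0, 1, 0, 0, 0, 0, -1, 1⟩),
  (⟨-1, 0, 0, -1, 0, -1, 1, 0⟩, ⟨-1, 1, 0, -1, -2, -1, 2, 0⟩),
  (⟨0, 0, 0, 1, 0, 1, -1, 0⟩, ⟨0, 1, 0, -1, 0, 1, -1, -1⟩),
  (⟨-1, 0, 0, 0, -1, -1, 1, 0⟩, ⟨-1, 1, 0, -2, -2, 0, 2, -2⟩),
  (⟨0, 0, 0, 1, 1, 0, -1, 1⟩, ⟨-1, 0, 2, -1, 0, -1, 1, 1⟩),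
  (⟨-1, 0, 1, 0, 0, -1, 1, 1⟩, ⟨-2, 0, 1, -2, -1, -2, 2, 0⟩),
  (⟨0, 1, -1, 0, 0, 1, -1, -1⟩, ⟨-1, 1, 1, 0, -1, 0, 0, 0⟩),
  (⟨-1, 1, 0, -1, -1, 0, 1, -1⟩, ⟨-2, 1, 0, -1, -2, -1, 1, -1⟩),
  (⟨0, 0, 0, 0, 0, 1, 0, 0⟩, ⟨0, 1, -1, -1, -1, 1, -1, -1⟩),
  (⟨0, 0, -1, 0, 0, 0, 0, 0⟩, ⟨0, 1, 0, -1, -2, 1, 1, -1⟩),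
  (⟨0, 0, 0, 0, 1, 0, 0, 1⟩, ⟨-1, 0, 1, -1, -1, -1, 1, 1⟩),
  (⟨0, 1, -1, 0, -1, 1, 0, -1⟩, ⟨-1, 1, 0, -1, -2, 1, 0, -2⟩),
  (⟨-1, -1, 1, 0, 1, -1, 0, 1⟩, ⟨0, 1, 0, -1, 0, -1, 1, 1⟩),
  (⟨-1, 0, 0, 0, -1, 0, 0, -1⟩, ⟨0, 2, -1, -1, -1, 1, 0, -2⟩),
  (⟨-1, 0, 1, 0, 0, 0, 0, 0⟩, ⟨-1, 1, 0, -1, 0, -1, 0, 0⟩),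
  (⟨-1, 0, 0, 0, 0, -1, 0, 0⟩, ⟨-1, 1, 1, -1, -1, -1, 2, 0⟩),
  (⟨0, -1, 0, 0, 0, 0, 0, 0⟩, ⟨2, 1, -2, 0, 0, 2, -1, -1⟩),
  (⟨0, -1, 1, 0, 1, 0, 0, 1⟩, ⟨1, 0, -1, 0, 1, 0, -1, 1⟩),
  (⟨0, -1, 0, 0, 1, -1, 0, 1⟩, ⟨1, 0, 0, 0, 0, 0, 1, 1⟩),
  (⟨0, 0, 0, 0, -1, 1, 0, -1⟩, ⟨1, 1, -2, 0, 0, 2, -2, -2⟩),
  (⟨0, 0, -1, 0, -1, 0, 0, -1⟩, ⟨1, 1, -1, 0, -1, 2, 0, -2⟩),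
  (⟨0, -1, 1, 1, 1, -1, 0, 2⟩, ⟨0, -1, 1, -1, 1, -1, 1, 1⟩),
  (⟨1, 0, -1, 1, 1, 1, -2, 0⟩, ⟨1, 0, 1, 1, 1, 1, -1, 1⟩),
  (⟨-1, 0, 1, -1, -1, -1, 2, 0⟩, ⟨-1, 0, -1, -1, -1, -1, 1, -1⟩),
  (⟨0, 1, -1, -1, -1, 1, 0, -2⟩, ⟨0, 1, -1, 1, -1, 1, -1, -1⟩),
  (⟨0, 0, 1, 0, 1, 0, 0, 1⟩, ⟨-1, -1, 1, 0, 1, -2, 0, 2⟩),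
  (⟨0, 0, 0, 0, 1, -1, 0, 1⟩, ⟨-1, -1, 2, 0, 0, -2, 2, 2⟩),
  (⟨0, 1, 0, 0, -1, 1, 0, -1⟩, ⟨-1, 0, 0, 0, 0, 0, -1, -1⟩),
  (⟨0, 1, -1, 0, -1, 0, 0, -1⟩, ⟨-1, 0, 1, 0, -1, 0, 1, -1⟩),
  (⟨0, 1, 0, 0, 0, 0, 0, 0⟩, ⟨-2, -1, 2, 0, 0, -2, 1, 1⟩),
  (⟨1, 0, -1, 0, 1, 1, -1, 0⟩, ⟨1, 0, 0, 1, 0, 1, -1, 1⟩),
  (⟨0, 0, 0, -1, 0, 0, 1, 0⟩, ⟨0, 0, -1, 0, -1, 0, 0, 0⟩),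
  (⟨1, 0, -1, 1, 0, 1, -1, 0⟩, ⟨1, 0, 0, 0, 0, 2, -1, -1⟩),
  (⟨0, 0, 0, 0, -1, 0, 1, 0⟩, ⟨0, 0, -1, -1, -1, 1, 0, -2⟩),
  (⟨1, 0, 0, 1, 1, 1, -1, 1⟩, ⟨0, -1, 1, 0, 1, 0, -1, 1⟩),
  (⟨0, 0, 0, 0, 0, -1, 1, 1⟩, ⟨-1, -1, 1, -1, -1, -1, 2, 0⟩),
  (⟨1, 1, -1, 0, 0, 2, -1, -1⟩, ⟨0, 0, 0, 1, 0, 1, -2, 0⟩),
  (⟨0, 1, -1, -1, -1, 0, 1, -1⟩, ⟨-1, 0, 0, 0, -2, 0, 1, -1⟩),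
  (⟨0, -1, 1, 1, 1, 0, -1, 1⟩, ⟨1, 0, 0, 0, 2, 0, -1, 1⟩),
  (⟨-1, -1, 1, 0, 0, -2, 1, 1⟩, ⟨0, 0, 0, -1, 0, -1, 2, 0⟩),
  (⟨0, 0, 0, 0, 0, 1, -1, -1⟩, ⟨1, 1, -1, 1, 1, 1, -2, 0⟩),
  (⟨-1, 0, 0, -1, -1, -1, 1, -1⟩, ⟨0, 1, -1, 0, -1, 0, 1, -1⟩),
  (⟨0, 0, 0, 0, 1, 0, -1, 0⟩, ⟨0, 0, 1, 1, 1, -1, 0, 2⟩),
  (⟨-1, 0, 1, -1, 0, -1, 1, 0⟩, ⟨-1, 0, 0, 0, 0, -2, 1, 1⟩),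
  (⟨0, 0, 0, 1, 0, 0, -1, 0⟩, ⟨0, 0, 1, 0, 1, 0, 0, 0⟩),
  (⟨-1, 0, 1, 0, -1, -1, 1, 0⟩, ⟨-1, 0, 0, -1, 0, -1, 1, -1⟩),
  (⟨1, -1, 0, 1, 1, 0, -1, 1⟩, ⟨2, -1, 0, 1, 2, 1, -1, 1⟩),
  (⟨0, -1, 1, 0, 0, -1, 1, 1⟩, ⟨1, -1, -1, 0, 1, 0, 0, 0⟩),
  (⟨1, 0, -1, 0, 0, 1, -1, -1⟩, ⟨2, 0, -1, 2, 1, 2, -2, 0⟩),
  (⟨0, 0, 0, -1, -1, 0, 1, -1⟩, ⟨1, 0, -2, 1, 0, 1, -1, -1⟩),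
  (⟨1, 0, 0, 0, 1, 1, -1, 0⟩, ⟨1, -1, 0, 2, 2, 0, -2, 2⟩),
  (⟨0, 0, 0, -1, 0, -1, 1, 0⟩, ⟨0, -1, 0, 1, 0, -1, 1, 1⟩),
  (⟨1, 0, 0, 1, 0, 1, -1, 0⟩, ⟨1, -1, 0, 1, 2, 1, -2, 0⟩),
  (⟨0, 0, 0, 0, -1, -1, 1, 0⟩, ⟨0, -1, 0, 0, 0, 0, 1, -1⟩),
  (⟨1, 0, 0, 1, 1, 0, -1, 1⟩, ⟨0, -2, 2, 1, 2, -1, 0, 2⟩),
  (⟨0, 0, 1, 0, 0, -1, 1, 1⟩, ⟨-1, -2, 1, 0, 1, -2, 1, 1⟩),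
  (⟨1, 1, -1, 0, 0, 1, -1, -1⟩, ⟨0, -1, 1, 2, 1, 0, -1, 1⟩),
  (⟨0, 1, 0, -1, -1, 0, 1, -1⟩, ⟨-1, -1, 0, 1, 0, -1, 0, 0⟩),
  (⟨1, 0, 0, 0, 0, 1, 0, 0⟩, ⟨1, -1, -1, 1, 1, 1, -2, 0⟩),
  (⟨1, 0, -1, 0, 0, 0, 0, 0⟩, ⟨1, -1, 0, 1, 0, 1, 0, 0⟩),
  (⟨1, 0, 0, 0, 1, 0, 0, 1⟩, ⟨0, -2, 1, 1, 1, -1, 0, 2⟩),
  (⟨1, 1, -1, 0, -1, 1, 0, -1⟩, ⟨0, -1, 0, 1, 0, 1, -1, -1⟩),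
  (⟨0, -1, 1, 0, 1, -1, 0, 1⟩, ⟨1, -1, 0, 1, 2, -1, 0, 2⟩),
  (⟨0, 0, 0, 0, -1, 0, 0, -1⟩, ⟨1, 0, -1, 1, 1, 1, -1, -1⟩),
  (⟨0, 0, 1, 0, 0, 0, 0, 0⟩, ⟨0, -1, 0, 1, 2, -1, -1, 1⟩),
  (⟨0, 0, 0, 0, 0, -1, 0, 0⟩, ⟨0, -1, 1, 1, 1, -1, 1, 1⟩),
  (⟨1, 0, 0, 0, 0, 0, 0, 0⟩, ⟨1, -2, 0, 2, 2, 0, -1, 1⟩),
  (⟨0, -1, 0, 0, 1, 0, 0, 0⟩, ⟨1, 1, -1, 0, -1, 0, 0, 0⟩),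
  (⟨0, -1, 0, 1, 0, 0, 0, 0⟩, ⟨1, 1, -1, -1, -1, 1, 0, -2⟩),
  (⟨0, -1, 1, 1, 1, 0, 0, 1⟩, ⟨0, 0, 0, -1, 0, -1, 0, 0⟩),
  (⟨0, -1, 0, 1, 1, -1, 0, 1⟩, ⟨0, 0, 1, -1, -1, -1, 2, 0⟩),
  (⟨0, 0, 0, 0, 0, 1, 0, -1⟩, ⟨0, 1, -1, 0, -1, 0, -1, -1⟩),
  (⟨0, 0, -1, 0, 0, 0, 0, -1⟩, ⟨0, 1, 0, 0, -2, 0, 1, -1⟩),
  (⟨0, 0, 0, 0, 1, 0, 0, 0⟩, ⟨-1, 0, 1, 0, -1, -2, 1, 1⟩),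
  (⟨0, 0, 0, 1, 0, 0, 0, 0⟩, ⟨-1, 0, 1, -1, -1, -1, 1, -1⟩),
  (⟨1, 0, -1, 1, 1, 1, -1, 0⟩, ⟨0, 0, 1, 0, -1, 0, 0, 0⟩),
  (⟨0, 0, 0, 0, 0, 0, 1, 0⟩, ⟨-1, 0, 0, -1, -2, -1, 1, -1⟩),
  (⟨0, -1, 0, 1, 1, 0, -1, 0⟩, ⟨1, 1, 0, 0, 0, 0, 0, 0⟩),
  (⟨-1, -1, 1, 0, 0, -1, 1, 0⟩, ⟨0, 1, -1, -1, -1, -1, 1, -1⟩),
  (⟨1, -1, 0, 1, 1, 1, -1, 0⟩, ⟨2, 0, -1, 1, 1, 1, -2, 0⟩),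
  (⟨0, -1, 0, 0, 0, -1, 1, 0⟩, ⟨1, 0, -1, 0, -1, 0, 1, -1⟩),
  (⟨1, -1, 0, 1, 2, 0, -1, 1⟩, ⟨1, -1, 1, 1, 1, -1, 0, 2⟩),
  (⟨0, -1, 1, 0, 1, -1, 1, 1⟩, ⟨0, -1, 0, 0, 0, -2, 1, 1⟩),
  (⟨1, 0, -1, 1, 0, 1, -1, -1⟩, ⟨1, 0, 0, 1, 0, 1, -1, -1⟩),
  (⟨0, 0, 0, 0, -1, 0, 1, -1⟩, ⟨0, 0, -1, 0, -1, 0, 0, -2⟩),
  (⟨1, 0, 0, 1, 1, 1, -1, 0⟩, ⟨0, -1, 1, 1, 1, -1, -1, 1⟩),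
  (⟨0, 0, 0, 0, 0, -1, 1, 0⟩, ⟨-1, -1, 1, 0, -1, -2, 2, 0⟩),
  (⟨1, -1, 0, 1, 1, 0, 0, 1⟩, ⟨1, -1, 0, 0, 0, 0, 0, 0⟩),
  (⟨1, 0, -1, 0, 0, 1, 0, -1⟩, ⟨1, 0, -1, 1, -1, 1, -1, -1⟩),
  (⟨0, -1, 1, 1, 1, -1, 0, 1⟩, ⟨0, -1, 1, 0, 1, -2, 1, 1⟩),
  (⟨0, 0, 0, 0, 0, 0, 0, -1⟩, ⟨0, 0, 0, 1, 0, -1, 0, 0⟩),
  (⟨0, 0, 0, 0, 0, 1, -1, 0⟩, ⟨1, 1, -1, 0, 1, 2, -2, 0⟩),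
  (⟨-1, 0, 0, -1, -1, -1, 1, 0⟩, ⟨0, 1, -1, -1, -1, 1, 1, -1⟩),
  (⟨0, 0, 0, 0, 1, 0, -1, 1⟩, ⟨0, 0, 1, 0, 1, 0, 0, 2⟩),
  (⟨-1, 0, 1, -1, 0, -1, 1, 1⟩, ⟨-1, 0, 0, -1, 0, -1, 1, 1⟩),
  (⟨0, 1, -1, 0, -1, 1, -1, -1⟩, ⟨0, 1, 0, 0, 0, 2, -1, -1⟩),
  (⟨-1, 1, 0, -1, -2, 0, 1, -1⟩, ⟨-1, 1, -1, -1, -1, 1, 0, -2⟩),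
  (⟨0, 1, 0, 0, 0, 1, -1, 0⟩, ⟨-1, 0, 1, 0, 1, 0, -1, 1⟩),
  (⟨-1, 1, 0, -1, -1, -1, 1, 0⟩, ⟨-2, 0, 1, -1, -1, -1, 2, 0⟩),
  (⟨0, 0, 0, 0, 0, 0, 0, 1⟩, ⟨0, 0, 0, -1, 0, 1, 0, 0⟩),
  (⟨0, 1, -1, -1, -1, 1, 0, -1⟩, ⟨0, 1, -1, 0, -1, 2, -1, -1⟩),
  (⟨-1, 0, 1, 0, 0, -1, 0, 1⟩, ⟨-1, 0, 1, -1, 1, -1, 1, 1⟩),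
  (⟨-1, 1, 0, -1, -1, 0, 0, -1⟩, ⟨-1, 1, 0, 0, 0, 0, 0, 0⟩),
  (⟨0, 0, 0, -1, 0, 0, 0, 0⟩, ⟨1, 0, -1, 1, 1, 1, -1, 1⟩),
  (⟨0, 0, 0, 0, -1, 0, 0, 0⟩, ⟨1, 0, -1, 0, 1, 2, -1, -1⟩),
  (⟨0, 0, 1, 0, 0, 0, 0, 1⟩, ⟨0, -1, 0, 0, 2, 0, -1, 1⟩),
  (⟨0, 0, 0, 0, 0, -1, 0, 1⟩, ⟨0, -1, 1, 0, 1, 0, 1, 1⟩),
  (⟨0, 1, 0, -1, -1, 1, 0, -1⟩, ⟨0, 0, -1, 1, 1, 1, -2, 0⟩),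
  (⟨0, 1, -1, -1, -1, 0, 0, -1⟩, ⟨0, 0, 0, 1, 0, 1, 0, 0⟩),
  (⟨0, 1, 0, -1, 0, 0, 0, 0⟩, ⟨-1, -1, 1, 1, 1, -1, 0, 2⟩),
  (⟨0, 1, 0, 0, -1, 0, 0, 0⟩, ⟨-1, -1, 1, 0, 1, 0, 0, 0⟩),
  (⟨1, 1, -1, 0, 0, 1, -1, 0⟩, ⟨0, -1, 1, 1, 1, 1, -1, 1⟩),
  (⟨0, 1, 0, -1, -1, 0, 1, 0⟩, ⟨-1, -1, 0, 0, 0, 0, 0, 0⟩),
  (⟨0, 0, 0, 0, 0, 0, -1, 0⟩, ⟨1, 0, 0, 1, 2, 1, -1, 1⟩),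
  (⟨-1, 0, 1, -1, -1, -1, 1, 0⟩, ⟨0, 0, -1, 0, 1, 0, 0, 0⟩)]

def tab4 : List (Ic × Ic) := [
  (⟨-1, 0, 0, 0, 0, 0, 0, 0⟩, ⟨1, -2, 0, 2, 2, 0, -1, 1⟩),
  (⟨0, -1, 0, 1, 1, 0, -1, 1⟩, ⟨-1, -1, 0, 1, 0, -1, 0, 0⟩),
  (⟨-1, -1, 1, 0, 0, -1, 1, 1⟩, ⟨0, -1, 1, 2, 1, 0, -1, 1⟩),
  (⟨0, 0, -1, 0, 0, 1, -1, -1⟩, ⟨-1, -2, 1, 0, 1, -2, 1, 1⟩),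
  (⟨-1, 0, 0, -1, -1, 0, 1, -1⟩, ⟨0, -2, 2, 1, 2, -1, 0, 2⟩),
  (⟨0, 0, 0, 0, 1, 1, -1, 0⟩, ⟨0, -1, 0, 0, 0, 0, 1, -1⟩),
  (⟨-1, 0, 0, -1, 0, -1, 1, 0⟩, ⟨1, -1, 0, 1, 2, 1, -2, 0⟩),
  (⟨0, 0, 0, 1, 0, 1, -1, 0⟩, ⟨0, -1, 0, 1, 0, -1, 1, 1⟩),
  (⟨-1, 0, 0, 0, -1, -1, 1, 0⟩, ⟨1, -1, 0, 2, 2, 0, -2, 2⟩),
  (⟨0, 0, 0, 1, 1, 0, -1, 1⟩, ⟨1, 0, -2, 1, 0, 1, -1, -1⟩),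
  (⟨-1, 0, 1, 0, 0, -1, 1, 1⟩, ⟨2, 0, -1, 2, 1, 2, -2, 0⟩),
  (⟨0, 1, -1, 0, 0, 1, -1, -1⟩, ⟨1, -1, -1, 0, 1, 0, 0, 0⟩),
  (⟨-1, 1, 0, -1, -1, 0, 1, -1⟩, ⟨2, -1, 0, 1, 2, 1, -1, 1⟩),
  (⟨0, 0, 0, 0, 0, 1, 0, 0⟩, ⟨0, -1, 1, 1, 1, -1, 1, 1⟩),
  (⟨0, 0, -1, 0, 0, 0, 0, 0⟩, ⟨0, -1, 0, 1, 2, -1, -1, 1⟩),
  (⟨0, 0, 0, 0, 1, 0, 0, 1⟩, ⟨1, 0, -1, 1, 1, 1, -1, -1⟩),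
  (⟨0, 1, -1, 0, -1, 1, 0, -1⟩, ⟨1, -1, 0, 1, 2, -1, 0, 2⟩),
  (⟨-1, -1, 1, 0, 1, -1, 0, 1⟩, ⟨0, -1, 0, 1, 0, 1, -1, -1⟩),
  (⟨-1, 0, 0, 0, -1, 0, 0, -1⟩, ⟨0, -2, 1, 1, 1, -1, 0, 2⟩),
  (⟨-1, 0, 1, 0, 0, 0, 0, 0⟩, ⟨1, -1, 0, 1, 0, 1, 0, 0⟩),
  (⟨-1, 0, 0, 0, 0, -1, 0, 0⟩, ⟨1, -1, -1, 1, 1, 1, -2, 0⟩),
  (⟨0, -1, 0, 0, 0, 0, 0, 0⟩, ⟨-2, -1, 2, 0, 0, -2, 1, 1⟩),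
  (⟨0, -1, 1, 0, 1, 0, 0, 1⟩, ⟨-1, 0, 1, 0, -1, 0, 1, -1⟩),
  (⟨0, -1, 0, 0, 1, -1, 0, 1⟩, ⟨-1, 0, 0, 0, 0, 0, -1, -1⟩),
  (⟨0, 0, 0, 0, -1, 1, 0, -1⟩, ⟨-1, -1, 2, 0, 0, -2, 2, 2⟩),
  (⟨0, 0, -1, 0, -1, 0, 0, -1⟩, ⟨-1, -1, 1, 0, 1, -2, 0, 2⟩),
  (⟨0, -1, 1, 1, 1, -1, 0, 2⟩, ⟨0, 1, -1, 1, -1, 1, -1, -1⟩),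
  (⟨1, 0, -1, 1, 1, 1, -2, 0⟩, ⟨-1, 0, -1, -1, -1, -1, 1, -1⟩),
  (⟨-1, 0, 1, -1, -1, -1, 2, 0⟩, ⟨1, 0, 1, 1, 1, 1, -1, 1⟩),
  (⟨0, 1, -1, -1, -1, 1, 0, -2⟩, ⟨0, -1, 1, -1, 1, -1, 1, 1⟩),
  (⟨0, 0, 1, 0, 1, 0, 0, 1⟩, ⟨1, 1, -1, 0, -1, 2, 0, -2⟩),
  (⟨0, 0, 0, 0, 1, -1, 0, 1⟩, ⟨1, 1, -2, 0, 0, 2, -2, -2⟩),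
  (⟨0, 1, 0, 0, -1, 1, 0, -1⟩, ⟨1, 0, 0, 0, 0, 0, 1, 1⟩),
  (⟨0, 1, -1, 0, -1, 0, 0, -1⟩, ⟨1, 0, -1, 0, 1, 0, -1, 1⟩),
  (⟨0, 1, 0, 0, 0, 0, 0, 0⟩, ⟨2, 1, -2, 0, 0, 2, -1, -1⟩),
  (⟨1, 0, -1, 0, 1, 1, -1, 0⟩, ⟨-1, 0, 0, -1, 0, -1, 1, -1⟩),
  (⟨0, 0, 0, -1, 0, 0, 1, 0⟩, ⟨0, 0, 1, 0, 1, 0, 0, 0⟩),
  (⟨1, 0, -1, 1, 0, 1, -1, 0⟩, ⟨-1, 0, 0, 0, 0, -2, 1, 1⟩),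
  (⟨0, 0, 0, 0, -1, 0, 1, 0⟩, ⟨0, 0, 1, 1, 1, -1, 0, 2⟩),
  (⟨1, 0, 0, 1, 1, 1, -1, 1⟩, ⟨0, 1, -1, 0, -1, 0, 1, -1⟩),
  (⟨0, 0, 0, 0, 0, -1, 1, 1⟩, ⟨1, 1, -1, 1, 1, 1, -2, 0⟩),
  (⟨1, 1, -1, 0, 0, 2, -1, -1⟩, ⟨0, 0, 0, -1, 0, -1, 2, 0⟩),
  (⟨0, 1, -1, -1, -1, 0, 1, -1⟩, ⟨1, 0, 0, 0, 2, 0, -1, 1⟩),
  (⟨0, -1, 1, 1, 1, 0, -1, 1⟩, ⟨-1, 0, 0, 0, -2, 0, 1, -1⟩),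
  (⟨-1, -1, 1, 0, 0, -2, 1, 1⟩, ⟨0, 0, 0, 1, 0, 1, -2, 0⟩),
  (⟨0, 0, 0, 0, 0, 1, -1, -1⟩, ⟨-1, -1, 1, -1, -1, -1, 2, 0⟩),
  (⟨-1, 0, 0, -1, -1, -1, 1, -1⟩, ⟨0, -1, 1, 0, 1, 0, -1, 1⟩),
  (⟨0, 0, 0, 0, 1, 0, -1, 0⟩, ⟨0, 0, -1, -1, -1, 1, 0, -2⟩),
  (⟨-1, 0, 1, -1, 0, -1, 1, 0⟩, ⟨1, 0, 0, 0, 0, 2, -1, -1⟩),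
  (⟨0, 0, 0, 1, 0, 0, -1, 0⟩, ⟨0, 0, -1, 0, -1, 0, 0, 0⟩),
  (⟨-1, 0, 1, 0, -1, -1, 1, 0⟩, ⟨1, 0, 0, 1, 0, 1, -1, 1⟩),
  (⟨1, -1, 0, 1, 1, 0, -1, 1⟩, ⟨-2, 1, 0, -1, -2, -1, 1, -1⟩),
  (⟨0, -1, 1, 0, 0, -1, 1, 1⟩, ⟨-1, 1, 1, 0, -1, 0, 0, 0⟩),
  (⟨1, 0, -1, 0, 0, 1, -1, -1⟩, ⟨-2, 0, 1, -2, -1, -2, 2, 0⟩),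
  (⟨0, 0, 0, -1, -1, 0, 1, -1⟩, ⟨-1, 0, 2, -1, 0, -1, 1, 1⟩),
  (⟨1, 0, 0, 0, 1, 1, -1, 0⟩, ⟨-1, 1, 0, -2, -2, 0, 2, -2⟩),
  (⟨0, 0, 0, -1, 0, -1, 1, 0⟩, ⟨0, 1, 0, -1, 0, 1, -1, -1⟩),
  (⟨1, 0, 0, 1, 0, 1, -1, 0⟩, ⟨-1, 1, 0, -1, -2, -1, 2, 0⟩),
  (⟨0, 0, 0, 0, -1, -1, 1, 0⟩, ⟨0, 1, 0, 0, 0, 0, -1, 1⟩),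
  (⟨1, 0, 0, 1, 1, 0, -1, 1⟩, ⟨0, 2, -2, -1, -2, 1, 0, -2⟩),
  (⟨0, 0, 1, 0, 0, -1, 1, 1⟩, ⟨1, 2, -1, 0, -1, 2, -1, -1⟩),
  (⟨1, 1, -1, 0, 0, 1, -1, -1⟩, ⟨0, 1, -1, -2, -1, 0, 1, -1⟩),
  (⟨0, 1, 0, -1, -1, 0, 1, -1⟩, ⟨1, 1, 0, -1, 0, 1, 0, 0⟩),
  (⟨1, 0, 0, 0, 0, 1, 0, 0⟩, ⟨-1, 1, 1, -1, -1, -1, 2, 0⟩),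
  (⟨1, 0, -1, 0, 0, 0, 0, 0⟩, ⟨-1, 1, 0, -1, 0, -1, 0, 0⟩),
  (⟨1, 0, 0, 0, 1, 0, 0, 1⟩, ⟨0, 2, -1, -1, -1, 1, 0, -2⟩),
  (⟨1, 1, -1, 0, -1, 1, 0, -1⟩, ⟨0, 1, 0, -1, 0, -1, 1, 1⟩),
  (⟨0, -1, 1, 0, 1, -1, 0, 1⟩, ⟨-1, 1, 0, -1, -2, 1, 0, -2⟩),
  (⟨0, 0, 0, 0, -1, 0, 0, -1⟩, ⟨-1, 0, 1, -1, -1, -1, 1, 1⟩),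
  (⟨0, 0, 1, 0, 0, 0, 0, 0⟩, ⟨0, 1, 0, -1, -2, 1, 1, -1⟩),
  (⟨0, 0, 0, 0, 0, -1, 0, 0⟩, ⟨0, 1, -1, -1, -1, 1, -1, -1⟩),
  (⟨1, 0, 0, 0, 0, 0, 0, 0⟩, ⟨-1, 2, 0, -2, -2, 0, 1, -1⟩),
  (⟨0, -1, 0, 0, 1, 0, 0, 0⟩, ⟨-1, -1, 1, 0, 1, 0, 0, 0⟩),
  (⟨0, -1, 0, 1, 0, 0, 0, 0⟩, ⟨-1, -1, 1, 1, 1, -1, 0, 2⟩),
  (⟨0, -1, 1, 1, 1, 0, 0, 1⟩, ⟨0, 0, 0, 1, 0, 1, 0, 0⟩),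
  (⟨0, -1, 0, 1, 1, -1, 0, 1⟩, ⟨0, 0, -1, 1, 1, 1, -2, 0⟩),
  (⟨0, 0, 0, 0, 0, 1, 0, -1⟩, ⟨0, -1, 1, 0, 1, 0, 1, 1⟩),
  (⟨0, 0, -1, 0, 0, 0, 0, -1⟩, ⟨0, -1, 0, 0, 2, 0, -1, 1⟩),
  (⟨0, 0, 0, 0, 1, 0, 0, 0⟩, ⟨1, 0, -1, 0, 1, 2, -1, -1⟩),
  (⟨0, 0, 0, 1, 0, 0, 0, 0⟩, ⟨1, 0, -1, 1, 1, 1, -1, 1⟩),
  (⟨1, 0, -1, 1, 1, 1, -1, 0⟩, ⟨0, 0, -1, 0, 1, 0, 0, 0⟩),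
  (⟨0, 0, 0, 0, 0, 0, 1, 0⟩, ⟨1, 0, 0, 1, 2, 1, -1, 1⟩),
  (⟨0, -1, 0, 1, 1, 0, -1, 0⟩, ⟨-1, -1, 0, 0, 0, 0, 0, 0⟩),
  (⟨-1, -1, 1, 0, 0, -1, 1, 0⟩, ⟨0, -1, 1, 1, 1, 1, -1, 1⟩),
  (⟨1, -1, 0, 1, 1, 1, -1, 0⟩, ⟨-2, 0, 1, -1, -1, -1, 2, 0⟩),
  (⟨0, -1, 0, 0, 0, -1, 1, 0⟩, ⟨-1, 0, 1, 0, 1, 0, -1, 1⟩),
  (⟨1, -1, 0, 1, 2, 0, -1, 1⟩, ⟨-1, 1, -1, -1, -1, 1, 0, -2⟩),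
  (⟨0, -1, 1, 0, 1, -1, 1, 1⟩, ⟨0, 1, 0, 0, 0, 2, -1, -1⟩),
  (⟨1, 0, -1, 1, 0, 1, -1, -1⟩, ⟨-1, 0, 0, -1, 0, -1, 1, 1⟩),
  (⟨0, 0, 0, 0, -1, 0, 1, -1⟩, ⟨0, 0, 1, 0, 1, 0, 0, 2⟩),
  (⟨1, 0, 0, 1, 1, 1, -1, 0⟩, ⟨0, 1, -1, -1, -1, 1, 1, -1⟩),
  (⟨0, 0, 0, 0, 0, -1, 1, 0⟩, ⟨1, 1, -1, 0, 1, 2, -2, 0⟩),
  (⟨1, -1, 0, 1, 1, 0, 0, 1⟩, ⟨-1, 1, 0, 0, 0, 0, 0, 0⟩),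
  (⟨1, 0, -1, 0, 0, 1, 0, -1⟩, ⟨-1, 0, 1, -1, 1, -1, 1, 1⟩),
  (⟨0, -1, 1, 1, 1, -1, 0, 1⟩, ⟨0, 1, -1, 0, -1, 2, -1, -1⟩),
  (⟨0, 0, 0, 0, 0, 0, 0, -1⟩, ⟨0, 0, 0, -1, 0, 1, 0, 0⟩),
  (⟨0, 0, 0, 0, 0, 1, -1, 0⟩, ⟨-1, -1, 1, 0, -1, -2, 2, 0⟩),
  (⟨-1, 0, 0, -1, -1, -1, 1, 0⟩, ⟨0, -1, 1, 1, 1, -1, -1, 1⟩),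
  (⟨0, 0, 0, 0, 1, 0, -1, 1⟩, ⟨0, 0, -1, 0, -1, 0, 0, -2⟩),
  (⟨-1, 0, 1, -1, 0, -1, 1, 1⟩, ⟨1, 0, 0, 1, 0, 1, -1, -1⟩),
  (⟨0, 1, -1, 0, -1, 1, -1, -1⟩, ⟨0, -1, 0, 0, 0, -2, 1, 1⟩),
  (⟨-1, 1, 0, -1, -2, 0, 1, -1⟩, ⟨1, -1, 1, 1, 1, -1, 0, 2⟩),
  (⟨0, 1, 0, 0, 0, 1, -1, 0⟩, ⟨1, 0, -1, 0, -1, 0, 1, -1⟩),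
  (⟨-1, 1, 0, -1, -1, -1, 1, 0⟩, ⟨2, 0, -1, 1, 1, 1, -2, 0⟩),
  (⟨0, 0, 0, 0, 0, 0, 0, 1⟩, ⟨0, 0, 0, 1, 0, -1, 0, 0⟩),
  (⟨0, 1, -1, -1, -1, 1, 0, -1⟩, ⟨0, -1, 1, 0, 1, -2, 1, 1⟩),
  (⟨-1, 0, 1, 0, 0, -1, 0, 1⟩, ⟨1, 0, -1, 1, -1, 1, -1, -1⟩),
  (⟨-1, 1, 0, -1, -1, 0, 0, -1⟩, ⟨1, -1, 0, 0, 0, 0, 0, 0⟩),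
  (⟨0, 0, 0, -1, 0, 0, 0, 0⟩, ⟨-1, 0, 1, -1, -1, -1, 1, -1⟩),
  (⟨0, 0, 0, 0, -1, 0, 0, 0⟩, ⟨-1, 0, 1, 0, -1, -2, 1, 1⟩),
  (⟨0, 0, 1, 0, 0, 0, 0, 1⟩, ⟨0, 1, 0, 0, -2, 0, 1, -1⟩),
  (⟨0, 0, 0, 0, 0, -1, 0, 1⟩, ⟨0, 1, -1, 0, -1, 0, -1, -1⟩),
  (⟨0, 1, 0, -1, -1, 1, 0, -1⟩, ⟨0, 0, 1, -1, -1, -1, 2, 0⟩),
  (⟨0, 1, -1, -1, -1, 0, 0, -1⟩, ⟨0, 0, 0, -1, 0, -1, 0, 0⟩),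
  (⟨0, 1, 0, -1, 0, 0, 0, 0⟩, ⟨1, 1, -1, -1, -1, 1, 0, -2⟩),
  (⟨0, 1, 0, 0, -1, 0, 0, 0⟩, ⟨1, 1, -1, 0, -1, 0, 0, 0⟩),
  (⟨1, 1, -1, 0, 0, 1, -1, 0⟩, ⟨0, 1, -1, -1, -1, -1, 1, -1⟩),
  (⟨0, 1, 0, -1, -1, 0, 1, 0⟩, ⟨1, 1, 0, 0, 0, 0, 0, 0⟩),
  (⟨0, 0, 0, 0, 0, 0, -1, 0⟩, ⟨-1, 0, 0, -1, -2, -1, 1, -1⟩),
  (⟨-1, 0, 1, -1, -1, -1, 1, 0⟩, ⟨0, 0, 1, 0, -1, 0, 0, 0⟩)]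

theorem sigTab_eq : unitTab Ic.sig = sigTab := by decide +kernel
theorem tab3_eq : unitTab Ic.Hc.neg = tab3 := by decide +kernel
theorem tab4_eq : unitTab Ic.Hc = tab4 := by decide +kernel

theorem Msig_complete : ∀ R ∈ Rep315, ∀ p ∈ sigTab, R.x = p.2 → smulM p.1 R ∈ Msig := by
  decide +kernel

theorem X3_unique : ∀ R ∈ Rep315, ∀ p ∈ tab3, R.x = p.2 →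
    qipM (smulM p.1 R) W0 = qipM X3 W0 → smulM p.1 R = X3 := by
  decide +kernel

theorem X4_unique : ∀ R ∈ Rep315, ∀ p ∈ tab4, R.x = p.2 →
    qipM (smulM p.1 R) W0 = qipM X4 W0 → smulM p.1 R = X4 := by
  decide +kernel

theorem perp10_sub : ∀ R ∈ perp10, R ∈ Rep315 ∧ R.x = Ic.zero := by decide +kernel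

theorem Msig_min : ∀ W ∈ Msig, inLam W = true ∧ qipM W W = Ic.four ∧ W.x = Ic.sig := by
  decide +kernel

theorem X34_min : inLam X3 = true ∧ qipM X3 X3 = Ic.four ∧ inLam X4 = true ∧ qipM X4 X4 = Ic.four ∧
    inLam E2 = true ∧ qipM E2 E2 = Ic.four ∧ inLam E3 = true ∧ qipM E3 E3 = Ic.four := by
  decide +kernel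

/-- steps `(j, p, a)`: `Msig[j] = refl perp10[a] Msig[p]` -/
def sigSteps : List (ℕ × ℕ × ℕ) := [
(15, 0, 0), (1, 0, 1), (22, 0, 2), (27, 0, 3), (29, 0, 4), (31, 0, 5), (30, 0, 6), (28, 0, 7), (26, 0, 8), (23, 0, 9), (14, 15, 1), (25, 15, 2), (20, 15, 3), (18, 15, 4), (16, 15, 5), (17, 15, 6), (19, 15, 7), (21, 15, 8), (24, 15, 9), (5, 22, 3), (7, 22, 4), (3, 22, 5), (13, 22, 6), (9, 22, 7), (11, 22, 8), (12, 27, 4), (6, 27, 5), (8, 27, 6), (2, 27, 7), (10, 29, 5), (4, 29, 6)]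

def sigStepOK (reached : List ℕ) (s : ℕ × ℕ × ℕ) : Bool :=
  reached.contains s.2.1 &&
    match Msig[s.1]?, Msig[s.2.1]?, perp10[s.2.2]? with
    | some W', some W, some R => reflM R W == W'
    | _, _, _ => false

def runSigSteps : List ℕ → List (ℕ × ℕ × ℕ) → Option (List ℕ)
  | r, [] => some r
  | r, s :: ss => if sigStepOK r s then runSigSteps (s.1 :: r) ss else none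

theorem sigSteps_ok : (runSigSteps [0] sigSteps).map
    (fun r => (List.range Msig.length).all fun i => r.contains i) = some true := by
  decide +kernel

theorem Msig_length : Msig.length = 32 := by decide +kernel
theorem Msig_nodup : Msig.Nodup := by decide +kernel
theorem Msig_zero : Msig[0]? = some W0 := by decide +kernel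

/-- three units generating the binary icosahedral group, with reflections realising them on `(2,0,0)` -/
def gen1 : Ic := ⟨0, -1, 0, 0, 0, 0, 0, 0⟩
def gen2 : Ic := ⟨0, -1, 1, 1, 1, -1, 0, 2⟩
def gen1A : V3 := ⟨⟨-1, 2, 0, -2, -2, 0, 1, -1⟩, ⟨1, -2, 0, 2, 2, 0, -1, 1⟩, ⟨0, 0, 0, 0, 0, 0, 0, 0⟩⟩
def gen1B : V3 := ⟨⟨-1, 2, 0, -2, -2, 0, 1, -1⟩, ⟨1, 0, 0, 0, 0, 0, 1, 1⟩, ⟨0, 0, 0, 0, 0, 0, 0, 0⟩⟩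
def gen2A : V3 := ⟨⟨-1, 2, 0, -2, -2, 0, 1, -1⟩, ⟨1, -2, 0, 2, 2, 0, -1, 1⟩, ⟨0, 0, 0, 0, 0, 0, 0, 0⟩⟩
def gen2B : V3 := ⟨⟨-1, 2, 0, -2, -2, 0, 1, -1⟩, ⟨1, 0, 0, 0, 2, 0, -1, 1⟩, ⟨0, 0, 0, 0, 0, 0, 0, 0⟩⟩
def gen3 : Ic := ⟨1, 0, -1, 1, 0, 1, -1, 0⟩
def gen3A : V3 := ⟨⟨0, 0, 0, 0, 0, 0, -1, 1⟩, ⟨-1, 0, 0, 0, 0, 0, 0, 0⟩, ⟨1, 0, 0, 0, 0, 0, 0, 0⟩⟩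
def gen3B : V3 := ⟨⟨0, 0, 0, 0, 0, 2, -1, -1⟩, ⟨-1, 0, 0, 0, 0, 0, 0, 0⟩, ⟨1, 0, 0, 0, 0, 0, 0, 0⟩⟩

theorem gen_ok : (gen1A ∈ Rep315 ∧ gen1B ∈ Rep315 ∧ inLam (reflM gen1A E1) = true ∧
      reflM gen1B (reflM gen1A E1) = smulM gen1 E1) ∧
    (gen2A ∈ Rep315 ∧ gen2B ∈ Rep315 ∧ inLam (reflM gen2A E1) = true ∧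
      reflM gen2B (reflM gen2A E1) = smulM gen2 E1) ∧
    (gen3A ∈ Rep315 ∧ gen3B ∈ Rep315 ∧ inLam (reflM gen3A E1) = true ∧
      reflM gen3B (reflM gen3A E1) = smulM gen3 E1) := by
  decide +kernel

/-- closure steps `(i, j, l[i] * l[j])` -/
def unitSteps : List (ℕ × ℕ × Ic) := [
  (0, 0, ⟨-1, 0, 0, 0, 0, 0, 0, 0⟩),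
  (0, 1, ⟨-1, 0, 1, -1, -1, -1, 2, 0⟩),
  (0, 2, ⟨0, -1, 1, 1, 1, 0, 0, 1⟩),
  (1, 0, ⟨1, 0, -1, 1, 1, 1, -2, 0⟩),
  (1, 2, ⟨0, 1, 0, 0, 0, 1, -1, 0⟩),
  (2, 0, ⟨0, 0, -1, 0, 0, 0, 0, -1⟩),
  (2, 1, ⟨-1, 0, 0, -1, -1, -1, 1, 0⟩),
  (3, 0, ⟨0, 1, 0, 0, 0, 0, 0, 0⟩),
  (3, 1, ⟨0, 1, -1, -1, -1, 1, 0, -2⟩),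
  (3, 2, ⟨-1, 0, 1, -1, 0, -1, 1, 0⟩),
  (4, 2, ⟨1, 0, 0, 0, 1, 0, 0, 1⟩),
  (5, 0, ⟨0, 0, 0, 1, 0, 0, -1, 0⟩),
  (5, 1, ⟨0, 1, -1, 0, -1, 1, 0, -1⟩),
  (6, 2, ⟨-1, 0, 0, 0, -1, 0, 0, -1⟩),
  (7, 0, ⟨1, 1, -1, 0, -1, 1, 0, -1⟩),
  (7, 1, ⟨1, 0, -1, 0, 1, 1, -1, 0⟩),
  (8, 1, ⟨0, 0, 0, 0, -1, 0, 0, -1⟩),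
  (8, 2, ⟨-1, -1, 1, 0, 0, -2, 1, 1⟩),
  (9, 0, ⟨0, 0, 0, 0, 1, 0, 0, 1⟩),
  (9, 2, ⟨0, -1, 1, 0, 1, 0, 0, 1⟩),
  (10, 0, ⟨1, 0, 0, 0, 0, 0, 0, 0⟩),
  (10, 2, ⟨0, 1, -1, -1, -1, 0, 0, -1⟩),
  (11, 2, ⟨0, -1, 0, 0, 0, -1, 1, 0⟩),
  (12, 0, ⟨0, 0, 1, 0, 0, 0, 0, 1⟩),
  (12, 1, ⟨1, 0, 0, 1, 1, 1, -1, 0⟩),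
  (13, 0, ⟨1, -1, 0, 1, 1, 1, -1, 0⟩),
  (13, 1, ⟨0, -1, 0, 1, 1, -1, 0, 1⟩),
  (14, 1, ⟨0, 0, 0, 0, 0, 1, -1, 0⟩),
  (14, 2, ⟨-1, 1, 0, -1, -2, 0, 1, -1⟩),
  (15, 0, ⟨0, 0, 0, 0, 0, -1, 1, 0⟩),
  (15, 2, ⟨-1, 0, 0, -1, 0, -1, 1, 0⟩),
  (16, 0, ⟨-1, 1, 0, -1, -1, -1, 1, 0⟩),
  (16, 1, ⟨0, 1, 0, -1, -1, 1, 0, -1⟩),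
  (17, 1, ⟨0, 0, 0, 0, 0, -1, 0, 1⟩),
  (17, 2, ⟨0, 0, -1, 0, 0, 0, 0, 0⟩),
  (18, 0, ⟨0, 0, 0, 0, 0, 1, 0, -1⟩),
  (18, 2, ⟨0, -1, 0, 1, 1, 0, -1, 0⟩),
  (19, 2, ⟨0, 0, 0, 0, -1, 0, 1, 0⟩),
  (20, 0, ⟨0, 0, 0, 0, 1, 0, -1, 1⟩),
  (20, 1, ⟨-1, 0, 1, 0, 0, 0, 0, 0⟩),
  (21, 2, ⟨0, 0, 0, 0, 1, 0, -1, 0⟩),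
  (22, 0, ⟨0, 0, 0, 1, 0, 1, -1, 0⟩),
  (22, 1, ⟨0, 0, 0, 0, 0, 0, 1, 0⟩),
  (24, 0, ⟨0, 0, 0, -1, 0, 0, 1, 0⟩),
  (24, 1, ⟨0, -1, 1, 0, 1, -1, 0, 1⟩),
  (25, 0, ⟨-1, -1, 1, 0, 1, -1, 0, 1⟩),
  (25, 1, ⟨-1, 0, 1, 0, -1, -1, 1, 0⟩),
  (26, 2, ⟨1, 1, -1, 0, 0, 2, -1, -1⟩),
  (27, 2, ⟨0, 1, -1, 0, -1, 0, 0, -1⟩),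
  (28, 2, ⟨0, 0, 0, 1, 0, 0, 0, 0⟩),
  (29, 2, ⟨-1, 0, 1, 0, 0, -1, 0, 1⟩),
  (31, 0, ⟨0, 0, 0, 0, 0, -1, 1, 1⟩),
  (31, 1, ⟨0, 1, 0, -1, 0, 0, 0, 0⟩),
  (33, 0, ⟨0, 0, 1, 0, 1, 0, 0, 1⟩),
  (33, 1, ⟨0, 0, 0, 0, 0, 0, 0, -1⟩),
  (34, 2, ⟨0, 0, 0, -1, 0, 0, 0, 0⟩),
  (35, 2, ⟨1, 0, -1, 0, 0, 1, 0, -1⟩),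
  (37, 0, ⟨0, 0, 0, 0, 1, 0, 0, 0⟩),
  (37, 1, ⟨-1, 0, 0, -1, -1, -1, 1, -1⟩),
  (39, 0, ⟨-1, 1, 0, -1, -1, 0, 0, -1⟩),
  (39, 1, ⟨0, 0, 0, 0, -1, 1, 0, -1⟩),
  (41, 1, ⟨0, -1, 0, 0, 1, 0, 0, 0⟩),
  (41, 2, ⟨0, 0, 0, 0, 0, 1, -1, -1⟩),
  (42, 0, ⟨0, 1, 0, 0, -1, 0, 0, 0⟩),
  (42, 2, ⟨0, 1, 0, -1, -1, 0, 1, -1⟩),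
  (44, 1, ⟨0, 1, -1, -1, -1, 1, 0, -1⟩),
  (44, 2, ⟨-1, 1, 0, -1, -1, 0, 1, -1⟩),
  (45, 0, ⟨0, -1, 1, 1, 1, -1, 0, 1⟩),
  (45, 2, ⟨0, 0, 0, 0, 1, -1, 0, 1⟩),
  (46, 2, ⟨1, -1, 0, 1, 2, 0, -1, 1⟩),
  (47, 2, ⟨1, 0, 0, 1, 0, 1, -1, 0⟩),
  (48, 2, ⟨0, 0, 1, 0, 0, 0, 0, 0⟩),
  (49, 2, ⟨0, 1, 0, -1, -1, 0, 1, 0⟩),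
  (50, 0, ⟨0, 0, 0, 0, -1, 0, 1, -1⟩),
  (50, 1, ⟨1, 0, -1, 0, 0, 0, 0, 0⟩),
  (51, 0, ⟨0, 0, 0, -1, 0, -1, 1, 0⟩),
  (51, 1, ⟨0, 0, 0, 0, 0, 0, -1, 0⟩),
  (52, 0, ⟨0, 0, 0, 0, 0, -1, 0, 0⟩),
  (52, 1, ⟨0, 1, -1, 0, -1, 1, -1, -1⟩),
  (53, 0, ⟨1, 1, -1, 0, 0, 1, -1, 0⟩),
  (53, 1, ⟨0, 0, 0, 0, 1, 1, -1, 0⟩),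
  (54, 1, ⟨-1, 0, 0, 0, 0, -1, 0, 0⟩),
  (55, 0, ⟨1, 0, 0, 0, 0, 1, 0, 0⟩),
  (55, 2, ⟨1, 0, -1, 0, 0, 1, -1, -1⟩),
  (56, 1, ⟨1, 0, -1, 1, 1, 1, -1, 0⟩),
  (56, 2, ⟨1, 1, -1, 0, 0, 1, -1, -1⟩),
  (57, 0, ⟨-1, 0, 1, -1, -1, -1, 1, 0⟩),
  (57, 2, ⟨0, 0, 0, 0, -1, -1, 1, 0⟩),
  (58, 0, ⟨0, 0, 0, 0, 0, 1, 0, 0⟩),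
  (58, 1, ⟨0, -1, 1, 0, 1, -1, 1, 1⟩),
  (59, 0, ⟨-1, -1, 1, 0, 0, -1, 1, 0⟩),
  (60, 1, ⟨1, 0, -1, 1, 0, 1, -1, -1⟩),
  (61, 0, ⟨-1, 0, 1, -1, 0, -1, 1, 1⟩),
  (61, 2, ⟨0, -1, 1, 0, 0, -1, 1, 1⟩),
  (62, 1, ⟨1, 0, 0, 0, 1, 1, -1, 0⟩),
  (62, 2, ⟨0, 0, 0, -1, -1, 0, 1, -1⟩),
  (63, 0, ⟨-1, 0, 0, 0, -1, -1, 1, 0⟩),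
  (67, 1, ⟨1, 0, 0, 1, 1, 0, -1, 1⟩),
  (69, 0, ⟨0, 0, 1, 0, 0, -1, 1, 1⟩),
  (72, 1, ⟨0, -1, 0, 1, 0, 0, 0, 0⟩),
  (73, 0, ⟨0, 0, -1, 0, -1, 0, 0, -1⟩),
  (73, 1, ⟨0, 0, 0, 0, 0, 0, 0, 1⟩),
  (74, 0, ⟨0, 0, 0, 0, -1, 0, 0, 0⟩),
  (74, 1, ⟨1, 0, 0, 1, 1, 1, -1, 1⟩),
  (75, 0, ⟨1, -1, 0, 1, 1, 0, 0, 1⟩),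
  (77, 2, ⟨0, -1, 0, 1, 1, 0, -1, 1⟩),
  (78, 2, ⟨1, -1, 0, 1, 1, 0, -1, 1⟩),
  (80, 1, ⟨0, -1, 1, 1, 1, 0, -1, 1⟩),
  (81, 0, ⟨0, 1, -1, -1, -1, 0, 1, -1⟩),
  (81, 2, ⟨-1, 0, 0, -1, -1, 0, 1, -1⟩),
  (82, 1, ⟨0, -1, 0, 0, 1, -1, 0, 1⟩),
  (82, 2, ⟨0, 0, -1, 0, 0, 1, -1, -1⟩),
  (83, 0, ⟨0, 1, 0, 0, -1, 1, 0, -1⟩),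
  (96, 1, ⟨-1, 0, 1, 0, 0, -1, 1, 1⟩),
  (98, 0, ⟨-1, -1, 1, 0, 0, -1, 1, 1⟩),
  (101, 1, ⟨0, 0, 0, 1, 1, 0, -1, 1⟩),
  (106, 2, ⟨0, 1, -1, 0, 0, 1, -1, -1⟩)]

def closeSteps : List Ic → List (ℕ × ℕ × Ic) → Option (List Ic)
  | l, [] => some l
  | l, s :: ss =>
    match l[s.1]?, l[s.2.1]? with
    | some a, some b => if a.mul b = s.2.2 then closeSteps (l ++ [s.2.2]) ss else none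
    | _, _ => none

theorem unitSteps_ok : (closeSteps [gen1, gen2, gen3] unitSteps).map
    (fun l => Units.all fun c => l.contains c) = some true := by
  decide +kernel

theorem unit_central : ∀ c ∈ Units, c.mul Ic.bI = Ic.bI.mul c → c.mul Ic.bG = Ic.bG.mul c →
    c = Ic.one ∨ c = Ic.one.neg := by
  decide +kernel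

end Cfsg.Agent.Lib.Helper27.J2
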