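import Cfsg.Agent.Lib.Helper27.J2Model

/-!
# Certificate: every representative is reached from `(2,0,0)` by reflections
-/

set_option autoImplicit false

namespace Cfsg.Agent.Lib.Helper27.J2

/-- the steps: `refl R_a W_p = c • W_j` -/
def transSteps : List Step := [
  ⟨63, 160, 0, ⟨1, 0, 0, 0, 0, 0, 0, 0⟩⟩,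
  ⟨497, 160, 0, ⟨1, 0, 0, 0, 0, 0, 0, 0⟩⟩,
  ⟨62, 160, 1, ⟨1, 0, 0, 0, 0, 0, 0, 0⟩⟩,
  ⟨481, 160, 1, ⟨1, 0, 0, 0, 0, 0, 0, 0⟩⟩,
  ⟨61, 160, 2, ⟨1, 0, 0, 0, 0, 0, 0, 0⟩⟩,
  ⟨471, 160, 2, ⟨1, 0, 0, 0, 0, 0, 0, 0⟩⟩,
  ⟨60, 160, 3, ⟨1, 0, 0, 0, 0, 0, 0, 0⟩⟩,
  ⟨469, 160, 3, ⟨1, 0, 0, 0, 0, 0, 0, 0⟩⟩,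
  ⟨59, 160, 4, ⟨1, 0, 0, 0, 0, 0, 0, 0⟩⟩,
  ⟨463, 160, 4, ⟨1, 0, 0, 0, 0, 0, 0, 0⟩⟩,
  ⟨58, 160, 5, ⟨1, 0, 0, 0, 0, 0, 0, 0⟩⟩,
  ⟨461, 160, 5, ⟨1, 0, 0, 0, 0, 0, 0, 0⟩⟩,
  ⟨57, 160, 6, ⟨1, 0, 0, 0, 0, 0, 0, 0⟩⟩,
  ⟨451, 160, 6, ⟨1, 0, 0, 0, 0, 0, 0, 0⟩⟩,
  ⟨56, 160, 7, ⟨1, 0, 0, 0, 0, 0, 0, 0⟩⟩,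
  ⟨435, 160, 7, ⟨1, 0, 0, 0, 0, 0, 0, 0⟩⟩,
  ⟨55, 160, 8, ⟨1, 0, 0, 0, 0, 0, 0, 0⟩⟩,
  ⟨466, 160, 8, ⟨0, 1, 0, 0, 0, 0, 0, 0⟩⟩,
  ⟨54, 160, 9, ⟨1, 0, 0, 0, 0, 0, 0, 0⟩⟩,
  ⟨476, 160, 9, ⟨0, 1, 0, 0, 0, 0, 0, 0⟩⟩,
  ⟨53, 160, 10, ⟨1, 0, 0, 0, 0, 0, 0, 0⟩⟩,
  ⟨448, 160, 10, ⟨0, 1, 0, 0, 0, 0, 0, 0⟩⟩,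
  ⟨52, 160, 11, ⟨1, 0, 0, 0, 0, 0, 0, 0⟩⟩,
  ⟨436, 160, 11, ⟨0, 1, 0, 0, 0, 0, 0, 0⟩⟩,
  ⟨51, 160, 12, ⟨1, 0, 0, 0, 0, 0, 0, 0⟩⟩,
  ⟨494, 160, 12, ⟨0, 1, 0, 0, 0, 0, 0, 0⟩⟩,
  ⟨50, 160, 13, ⟨1, 0, 0, 0, 0, 0, 0, 0⟩⟩,
  ⟨482, 160, 13, ⟨0, 1, 0, 0, 0, 0, 0, 0⟩⟩,
  ⟨49, 160, 14, ⟨1, 0, 0, 0, 0, 0, 0, 0⟩⟩,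
  ⟨454, 160, 14, ⟨0, 1, 0, 0, 0, 0, 0, 0⟩⟩,
  ⟨48, 160, 15, ⟨1, 0, 0, 0, 0, 0, 0, 0⟩⟩,
  ⟨464, 160, 15, ⟨0, 1, 0, 0, 0, 0, 0, 0⟩⟩,
  ⟨47, 160, 16, ⟨1, 0, 0, 0, 0, 0, 0, 0⟩⟩,
  ⟨478, 160, 16, ⟨0, 1, -1, -1, -1, 1, 0, -2⟩⟩,
  ⟨46, 160, 17, ⟨1, 0, 0, 0, 0, 0, 0, 0⟩⟩,
  ⟨472, 160, 17, ⟨0, 1, -1, -1, -1, 1, 0, -2⟩⟩,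
  ⟨45, 160, 18, ⟨1, 0, 0, 0, 0, 0, 0, 0⟩⟩,
  ⟨438, 160, 18, ⟨0, 1, -1, -1, -1, 1, 0, -2⟩⟩,
  ⟨44, 160, 19, ⟨1, 0, 0, 0, 0, 0, 0, 0⟩⟩,
  ⟨442, 160, 19, ⟨0, 1, -1, -1, -1, 1, 0, -2⟩⟩,
  ⟨43, 160, 20, ⟨1, 0, 0, 0, 0, 0, 0, 0⟩⟩,
  ⟨488, 160, 20, ⟨0, 1, -1, -1, -1, 1, 0, -2⟩⟩,
  ⟨42, 160, 21, ⟨1, 0, 0, 0, 0, 0, 0, 0⟩⟩,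
  ⟨492, 160, 21, ⟨0, 1, -1, -1, -1, 1, 0, -2⟩⟩,
  ⟨41, 160, 22, ⟨1, 0, 0, 0, 0, 0, 0, 0⟩⟩,
  ⟨458, 160, 22, ⟨0, 1, -1, -1, -1, 1, 0, -2⟩⟩,
  ⟨40, 160, 23, ⟨1, 0, 0, 0, 0, 0, 0, 0⟩⟩,
  ⟨452, 160, 23, ⟨0, 1, -1, -1, -1, 1, 0, -2⟩⟩,
  ⟨39, 160, 24, ⟨1, 0, 0, 0, 0, 0, 0, 0⟩⟩,
  ⟨474, 160, 24, ⟨-1, 0, 1, -1, -1, -1, 2, 0⟩⟩,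
  ⟨38, 160, 25, ⟨1, 0, 0, 0, 0, 0, 0, 0⟩⟩,
  ⟨446, 160, 25, ⟨-1, 0, 1, -1, -1, -1, 2, 0⟩⟩,
  ⟨37, 160, 26, ⟨1, 0, 0, 0, 0, 0, 0, 0⟩⟩,
  ⟨486, 160, 26, ⟨-1, 0, 1, -1, -1, -1, 2, 0⟩⟩,
  ⟨36, 160, 27, ⟨1, 0, 0, 0, 0, 0, 0, 0⟩⟩,
  ⟨440, 160, 27, ⟨-1, 0, 1, -1, -1, -1, 2, 0⟩⟩,
  ⟨35, 160, 28, ⟨1, 0, 0, 0, 0, 0, 0, 0⟩⟩,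
  ⟨490, 160, 28, ⟨-1, 0, 1, -1, -1, -1, 2, 0⟩⟩,
  ⟨34, 160, 29, ⟨1, 0, 0, 0, 0, 0, 0, 0⟩⟩,
  ⟨444, 160, 29, ⟨-1, 0, 1, -1, -1, -1, 2, 0⟩⟩,
  ⟨33, 160, 30, ⟨1, 0, 0, 0, 0, 0, 0, 0⟩⟩,
  ⟨484, 160, 30, ⟨-1, 0, 1, -1, -1, -1, 2, 0⟩⟩,
  ⟨32, 160, 31, ⟨1, 0, 0, 0, 0, 0, 0, 0⟩⟩,
  ⟨456, 160, 31, ⟨-1, 0, 1, -1, -1, -1, 2, 0⟩⟩,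
  ⟨31, 160, 32, ⟨1, 0, 0, 0, 0, 0, 0, 0⟩⟩,
  ⟨457, 160, 32, ⟨1, 0, -1, 1, 1, 1, -2, 0⟩⟩,
  ⟨30, 160, 33, ⟨1, 0, 0, 0, 0, 0, 0, 0⟩⟩,
  ⟨485, 160, 33, ⟨1, 0, -1, 1, 1, 1, -2, 0⟩⟩,
  ⟨29, 160, 34, ⟨1, 0, 0, 0, 0, 0, 0, 0⟩⟩,
  ⟨445, 160, 34, ⟨1, 0, -1, 1, 1, 1, -2, 0⟩⟩,
  ⟨28, 160, 35, ⟨1, 0, 0, 0, 0, 0, 0, 0⟩⟩,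
  ⟨491, 160, 35, ⟨1, 0, -1, 1, 1, 1, -2, 0⟩⟩,
  ⟨27, 160, 36, ⟨1, 0, 0, 0, 0, 0, 0, 0⟩⟩,
  ⟨441, 160, 36, ⟨1, 0, -1, 1, 1, 1, -2, 0⟩⟩,
  ⟨26, 160, 37, ⟨1, 0, 0, 0, 0, 0, 0, 0⟩⟩,
  ⟨487, 160, 37, ⟨1, 0, -1, 1, 1, 1, -2, 0⟩⟩,
  ⟨25, 160, 38, ⟨1, 0, 0, 0, 0, 0, 0, 0⟩⟩,
  ⟨447, 160, 38, ⟨1, 0, -1, 1, 1, 1, -2, 0⟩⟩,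
  ⟨24, 160, 39, ⟨1, 0, 0, 0, 0, 0, 0, 0⟩⟩,
  ⟨475, 160, 39, ⟨1, 0, -1, 1, 1, 1, -2, 0⟩⟩,
  ⟨23, 160, 40, ⟨1, 0, 0, 0, 0, 0, 0, 0⟩⟩,
  ⟨453, 160, 40, ⟨0, -1, 1, 1, 1, -1, 0, 2⟩⟩,
  ⟨22, 160, 41, ⟨1, 0, 0, 0, 0, 0, 0, 0⟩⟩,
  ⟨459, 160, 41, ⟨0, -1, 1, 1, 1, -1, 0, 2⟩⟩,
  ⟨21, 160, 42, ⟨1, 0, 0, 0, 0, 0, 0, 0⟩⟩,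
  ⟨493, 160, 42, ⟨0, -1, 1, 1, 1, -1, 0, 2⟩⟩,
  ⟨20, 160, 43, ⟨1, 0, 0, 0, 0, 0, 0, 0⟩⟩,
  ⟨489, 160, 43, ⟨0, -1, 1, 1, 1, -1, 0, 2⟩⟩,
  ⟨19, 160, 44, ⟨1, 0, 0, 0, 0, 0, 0, 0⟩⟩,
  ⟨443, 160, 44, ⟨0, -1, 1, 1, 1, -1, 0, 2⟩⟩,
  ⟨18, 160, 45, ⟨1, 0, 0, 0, 0, 0, 0, 0⟩⟩,
  ⟨439, 160, 45, ⟨0, -1, 1, 1, 1, -1, 0, 2⟩⟩,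
  ⟨17, 160, 46, ⟨1, 0, 0, 0, 0, 0, 0, 0⟩⟩,
  ⟨473, 160, 46, ⟨0, -1, 1, 1, 1, -1, 0, 2⟩⟩,
  ⟨16, 160, 47, ⟨1, 0, 0, 0, 0, 0, 0, 0⟩⟩,
  ⟨479, 160, 47, ⟨0, -1, 1, 1, 1, -1, 0, 2⟩⟩,
  ⟨15, 160, 48, ⟨1, 0, 0, 0, 0, 0, 0, 0⟩⟩,
  ⟨465, 160, 48, ⟨0, -1, 0, 0, 0, 0, 0, 0⟩⟩,
  ⟨14, 160, 49, ⟨1, 0, 0, 0, 0, 0, 0, 0⟩⟩,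
  ⟨455, 160, 49, ⟨0, -1, 0, 0, 0, 0, 0, 0⟩⟩,
  ⟨13, 160, 50, ⟨1, 0, 0, 0, 0, 0, 0, 0⟩⟩,
  ⟨483, 160, 50, ⟨0, -1, 0, 0, 0, 0, 0, 0⟩⟩,
  ⟨12, 160, 51, ⟨1, 0, 0, 0, 0, 0, 0, 0⟩⟩,
  ⟨495, 160, 51, ⟨0, -1, 0, 0, 0, 0, 0, 0⟩⟩,
  ⟨11, 160, 52, ⟨1, 0, 0, 0, 0, 0, 0, 0⟩⟩,
  ⟨437, 160, 52, ⟨0, -1, 0, 0, 0, 0, 0, 0⟩⟩,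
  ⟨10, 160, 53, ⟨1, 0, 0, 0, 0, 0, 0, 0⟩⟩,
  ⟨449, 160, 53, ⟨0, -1, 0, 0, 0, 0, 0, 0⟩⟩,
  ⟨9, 160, 54, ⟨1, 0, 0, 0, 0, 0, 0, 0⟩⟩,
  ⟨477, 160, 54, ⟨0, -1, 0, 0, 0, 0, 0, 0⟩⟩,
  ⟨8, 160, 55, ⟨1, 0, 0, 0, 0, 0, 0, 0⟩⟩,
  ⟨467, 160, 55, ⟨0, -1, 0, 0, 0, 0, 0, 0⟩⟩,
  ⟨7, 160, 56, ⟨1, 0, 0, 0, 0, 0, 0, 0⟩⟩,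
  ⟨434, 160, 56, ⟨-1, 0, 0, 0, 0, 0, 0, 0⟩⟩,
  ⟨6, 160, 57, ⟨1, 0, 0, 0, 0, 0, 0, 0⟩⟩,
  ⟨450, 160, 57, ⟨-1, 0, 0, 0, 0, 0, 0, 0⟩⟩,
  ⟨5, 160, 58, ⟨1, 0, 0, 0, 0, 0, 0, 0⟩⟩,
  ⟨460, 160, 58, ⟨-1, 0, 0, 0, 0, 0, 0, 0⟩⟩,
  ⟨4, 160, 59, ⟨1, 0, 0, 0, 0, 0, 0, 0⟩⟩,
  ⟨462, 160, 59, ⟨-1, 0, 0, 0, 0, 0, 0, 0⟩⟩,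
  ⟨3, 160, 60, ⟨1, 0, 0, 0, 0, 0, 0, 0⟩⟩,
  ⟨468, 160, 60, ⟨-1, 0, 0, 0, 0, 0, 0, 0⟩⟩,
  ⟨2, 160, 61, ⟨1, 0, 0, 0, 0, 0, 0, 0⟩⟩,
  ⟨470, 160, 61, ⟨-1, 0, 0, 0, 0, 0, 0, 0⟩⟩,
  ⟨1, 160, 62, ⟨1, 0, 0, 0, 0, 0, 0, 0⟩⟩,
  ⟨480, 160, 62, ⟨-1, 0, 0, 0, 0, 0, 0, 0⟩⟩,
  ⟨0, 160, 63, ⟨1, 0, 0, 0, 0, 0, 0, 0⟩⟩,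
  ⟨496, 160, 63, ⟨-1, 0, 0, 0, 0, 0, 0, 0⟩⟩,
  ⟨95, 160, 64, ⟨1, 0, 0, 0, 0, 0, 0, 0⟩⟩,
  ⟨94, 160, 65, ⟨1, 0, 0, 0, 0, 0, 0, 0⟩⟩,
  ⟨93, 160, 66, ⟨1, 0, 0, 0, 0, 0, 0, 0⟩⟩,
  ⟨92, 160, 67, ⟨1, 0, 0, 0, 0, 0, 0, 0⟩⟩,
  ⟨91, 160, 68, ⟨1, 0, 0, 0, 0, 0, 0, 0⟩⟩,
  ⟨90, 160, 69, ⟨1, 0, 0, 0, 0, 0, 0, 0⟩⟩,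
  ⟨89, 160, 70, ⟨1, 0, 0, 0, 0, 0, 0, 0⟩⟩,
  ⟨88, 160, 71, ⟨1, 0, 0, 0, 0, 0, 0, 0⟩⟩,
  ⟨87, 160, 72, ⟨1, 0, 0, 0, 0, 0, 0, 0⟩⟩,
  ⟨86, 160, 73, ⟨1, 0, 0, 0, 0, 0, 0, 0⟩⟩,
  ⟨85, 160, 74, ⟨1, 0, 0, 0, 0, 0, 0, 0⟩⟩,
  ⟨84, 160, 75, ⟨1, 0, 0, 0, 0, 0, 0, 0⟩⟩,
  ⟨83, 160, 76, ⟨1, 0, 0, 0, 0, 0, 0, 0⟩⟩,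
  ⟨82, 160, 77, ⟨1, 0, 0, 0, 0, 0, 0, 0⟩⟩,
  ⟨81, 160, 78, ⟨1, 0, 0, 0, 0, 0, 0, 0⟩⟩,
  ⟨80, 160, 79, ⟨1, 0, 0, 0, 0, 0, 0, 0⟩⟩,
  ⟨79, 160, 80, ⟨1, 0, 0, 0, 0, 0, 0, 0⟩⟩,
  ⟨78, 160, 81, ⟨1, 0, 0, 0, 0, 0, 0, 0⟩⟩,
  ⟨77, 160, 82, ⟨1, 0, 0, 0, 0, 0, 0, 0⟩⟩,
  ⟨76, 160, 83, ⟨1, 0, 0, 0, 0, 0, 0, 0⟩⟩,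
  ⟨75, 160, 84, ⟨1, 0, 0, 0, 0, 0, 0, 0⟩⟩,
  ⟨74, 160, 85, ⟨1, 0, 0, 0, 0, 0, 0, 0⟩⟩,
  ⟨73, 160, 86, ⟨1, 0, 0, 0, 0, 0, 0, 0⟩⟩,
  ⟨72, 160, 87, ⟨1, 0, 0, 0, 0, 0, 0, 0⟩⟩,
  ⟨71, 160, 88, ⟨1, 0, 0, 0, 0, 0, 0, 0⟩⟩,
  ⟨70, 160, 89, ⟨1, 0, 0, 0, 0, 0, 0, 0⟩⟩,
  ⟨69, 160, 90, ⟨1, 0, 0, 0, 0, 0, 0, 0⟩⟩,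
  ⟨68, 160, 91, ⟨1, 0, 0, 0, 0, 0, 0, 0⟩⟩,
  ⟨67, 160, 92, ⟨1, 0, 0, 0, 0, 0, 0, 0⟩⟩,
  ⟨66, 160, 93, ⟨1, 0, 0, 0, 0, 0, 0, 0⟩⟩,
  ⟨65, 160, 94, ⟨1, 0, 0, 0, 0, 0, 0, 0⟩⟩,
  ⟨64, 160, 95, ⟨1, 0, 0, 0, 0, 0, 0, 0⟩⟩,
  ⟨159, 160, 96, ⟨1, 0, 0, 0, 0, 0, 0, 0⟩⟩,
  ⟨232, 160, 96, ⟨1, 0, 0, 0, 0, 0, 0, 0⟩⟩,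
  ⟨158, 160, 97, ⟨1, 0, 0, 0, 0, 0, 0, 0⟩⟩,
  ⟨169, 160, 97, ⟨-1, 0, 0, 0, 0, 0, 0, 0⟩⟩,
  ⟨157, 160, 98, ⟨1, 0, 0, 0, 0, 0, 0, 0⟩⟩,
  ⟨181, 160, 98, ⟨0, 1, 0, 0, 0, 0, 0, 0⟩⟩,
  ⟨156, 160, 99, ⟨1, 0, 0, 0, 0, 0, 0, 0⟩⟩,
  ⟨220, 160, 99, ⟨0, -1, 0, 0, 0, 0, 0, 0⟩⟩,
  ⟨155, 160, 100, ⟨1, 0, 0, 0, 0, 0, 0, 0⟩⟩,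
  ⟨190, 160, 100, ⟨0, 1, -1, -1, -1, 1, 0, -2⟩⟩,
  ⟨154, 160, 101, ⟨1, 0, 0, 0, 0, 0, 0, 0⟩⟩,
  ⟨211, 160, 101, ⟨0, -1, 1, 1, 1, -1, 0, 2⟩⟩,
  ⟨153, 160, 102, ⟨1, 0, 0, 0, 0, 0, 0, 0⟩⟩,
  ⟨197, 160, 102, ⟨-1, 0, 1, -1, -1, -1, 2, 0⟩⟩,
  ⟨152, 160, 103, ⟨1, 0, 0, 0, 0, 0, 0, 0⟩⟩,
  ⟨204, 160, 103, ⟨1, 0, -1, 1, 1, 1, -2, 0⟩⟩,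
  ⟨151, 160, 104, ⟨1, 0, 0, 0, 0, 0, 0, 0⟩⟩,
  ⟨189, 160, 104, ⟨0, 1, -1, -1, -1, 1, 0, -2⟩⟩,
  ⟨150, 160, 105, ⟨1, 0, 0, 0, 0, 0, 0, 0⟩⟩,
  ⟨212, 160, 105, ⟨0, -1, 1, 1, 1, -1, 0, 2⟩⟩,
  ⟨149, 160, 106, ⟨1, 0, 0, 0, 0, 0, 0, 0⟩⟩,
  ⟨195, 160, 106, ⟨-1, 0, 1, -1, -1, -1, 2, 0⟩⟩,
  ⟨148, 160, 107, ⟨1, 0, 0, 0, 0, 0, 0, 0⟩⟩,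
  ⟨206, 160, 107, ⟨1, 0, -1, 1, 1, 1, -2, 0⟩⟩,
  ⟨147, 160, 108, ⟨1, 0, 0, 0, 0, 0, 0, 0⟩⟩,
  ⟨199, 160, 108, ⟨-1, 0, 1, -1, -1, -1, 2, 0⟩⟩,
  ⟨146, 160, 109, ⟨1, 0, 0, 0, 0, 0, 0, 0⟩⟩,
  ⟨202, 160, 109, ⟨1, 0, -1, 1, 1, 1, -2, 0⟩⟩,
  ⟨145, 160, 110, ⟨1, 0, 0, 0, 0, 0, 0, 0⟩⟩,
  ⟨182, 160, 110, ⟨0, 1, 0, 0, 0, 0, 0, 0⟩⟩,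
  ⟨144, 160, 111, ⟨1, 0, 0, 0, 0, 0, 0, 0⟩⟩,
  ⟨219, 160, 111, ⟨0, -1, 0, 0, 0, 0, 0, 0⟩⟩,
  ⟨143, 160, 112, ⟨1, 0, 0, 0, 0, 0, 0, 0⟩⟩,
  ⟨231, 160, 112, ⟨1, 0, 0, 0, 0, 0, 0, 0⟩⟩,
  ⟨142, 160, 113, ⟨1, 0, 0, 0, 0, 0, 0, 0⟩⟩,
  ⟨170, 160, 113, ⟨-1, 0, 0, 0, 0, 0, 0, 0⟩⟩,
  ⟨141, 160, 114, ⟨1, 0, 0, 0, 0, 0, 0, 0⟩⟩,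
  ⟨185, 160, 114, ⟨0, 1, -1, -1, -1, 1, 0, -2⟩⟩,
  ⟨140, 160, 115, ⟨1, 0, 0, 0, 0, 0, 0, 0⟩⟩,
  ⟨216, 160, 115, ⟨0, -1, 1, 1, 1, -1, 0, 2⟩⟩,
  ⟨139, 160, 116, ⟨1, 0, 0, 0, 0, 0, 0, 0⟩⟩,
  ⟨178, 160, 116, ⟨0, 1, 0, 0, 0, 0, 0, 0⟩⟩,
  ⟨138, 160, 117, ⟨1, 0, 0, 0, 0, 0, 0, 0⟩⟩,
  ⟨223, 160, 117, ⟨0, -1, 0, 0, 0, 0, 0, 0⟩⟩,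
  ⟨137, 160, 118, ⟨1, 0, 0, 0, 0, 0, 0, 0⟩⟩,
  ⟨193, 160, 118, ⟨-1, 0, 1, -1, -1, -1, 2, 0⟩⟩,
  ⟨136, 160, 119, ⟨1, 0, 0, 0, 0, 0, 0, 0⟩⟩,
  ⟨208, 160, 119, ⟨1, 0, -1, 1, 1, 1, -2, 0⟩⟩,
  ⟨135, 160, 120, ⟨1, 0, 0, 0, 0, 0, 0, 0⟩⟩,
  ⟨186, 160, 120, ⟨0, 1, -1, -1, -1, 1, 0, -2⟩⟩,
  ⟨134, 160, 121, ⟨1, 0, 0, 0, 0, 0, 0, 0⟩⟩,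
  ⟨215, 160, 121, ⟨0, -1, 1, 1, 1, -1, 0, 2⟩⟩,
  ⟨133, 160, 122, ⟨1, 0, 0, 0, 0, 0, 0, 0⟩⟩,
  ⟨230, 160, 122, ⟨1, 0, 0, 0, 0, 0, 0, 0⟩⟩,
  ⟨132, 160, 123, ⟨1, 0, 0, 0, 0, 0, 0, 0⟩⟩,
  ⟨171, 160, 123, ⟨-1, 0, 0, 0, 0, 0, 0, 0⟩⟩,
  ⟨131, 160, 124, ⟨1, 0, 0, 0, 0, 0, 0, 0⟩⟩,
  ⟨229, 160, 124, ⟨1, 0, 0, 0, 0, 0, 0, 0⟩⟩,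
  ⟨130, 160, 125, ⟨1, 0, 0, 0, 0, 0, 0, 0⟩⟩,
  ⟨172, 160, 125, ⟨-1, 0, 0, 0, 0, 0, 0, 0⟩⟩,
  ⟨129, 160, 126, ⟨1, 0, 0, 0, 0, 0, 0, 0⟩⟩,
  ⟨177, 160, 126, ⟨0, 1, 0, 0, 0, 0, 0, 0⟩⟩,
  ⟨128, 160, 127, ⟨1, 0, 0, 0, 0, 0, 0, 0⟩⟩,
  ⟨224, 160, 127, ⟨0, -1, 0, 0, 0, 0, 0, 0⟩⟩,
  ⟨127, 160, 128, ⟨1, 0, 0, 0, 0, 0, 0, 0⟩⟩,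
  ⟨184, 160, 128, ⟨0, 1, 0, 0, 0, 0, 0, 0⟩⟩,
  ⟨126, 160, 129, ⟨1, 0, 0, 0, 0, 0, 0, 0⟩⟩,
  ⟨217, 160, 129, ⟨0, -1, 0, 0, 0, 0, 0, 0⟩⟩,
  ⟨125, 160, 130, ⟨1, 0, 0, 0, 0, 0, 0, 0⟩⟩,
  ⟨228, 160, 130, ⟨1, 0, 0, 0, 0, 0, 0, 0⟩⟩,
  ⟨124, 160, 131, ⟨1, 0, 0, 0, 0, 0, 0, 0⟩⟩,
  ⟨173, 160, 131, ⟨-1, 0, 0, 0, 0, 0, 0, 0⟩⟩,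
  ⟨123, 160, 132, ⟨1, 0, 0, 0, 0, 0, 0, 0⟩⟩,
  ⟨227, 160, 132, ⟨1, 0, 0, 0, 0, 0, 0, 0⟩⟩,
  ⟨122, 160, 133, ⟨1, 0, 0, 0, 0, 0, 0, 0⟩⟩,
  ⟨174, 160, 133, ⟨-1, 0, 0, 0, 0, 0, 0, 0⟩⟩,
  ⟨121, 160, 134, ⟨1, 0, 0, 0, 0, 0, 0, 0⟩⟩,
  ⟨191, 160, 134, ⟨0, 1, -1, -1, -1, 1, 0, -2⟩⟩,
  ⟨120, 160, 135, ⟨1, 0, 0, 0, 0, 0, 0, 0⟩⟩,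
  ⟨210, 160, 135, ⟨0, -1, 1, 1, 1, -1, 0, 2⟩⟩,
  ⟨119, 160, 136, ⟨1, 0, 0, 0, 0, 0, 0, 0⟩⟩,
  ⟨200, 160, 136, ⟨-1, 0, 1, -1, -1, -1, 2, 0⟩⟩,
  ⟨118, 160, 137, ⟨1, 0, 0, 0, 0, 0, 0, 0⟩⟩,
  ⟨201, 160, 137, ⟨1, 0, -1, 1, 1, 1, -2, 0⟩⟩,
  ⟨117, 160, 138, ⟨1, 0, 0, 0, 0, 0, 0, 0⟩⟩,
  ⟨183, 160, 138, ⟨0, 1, 0, 0, 0, 0, 0, 0⟩⟩,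
  ⟨116, 160, 139, ⟨1, 0, 0, 0, 0, 0, 0, 0⟩⟩,
  ⟨218, 160, 139, ⟨0, -1, 0, 0, 0, 0, 0, 0⟩⟩,
  ⟨115, 160, 140, ⟨1, 0, 0, 0, 0, 0, 0, 0⟩⟩,
  ⟨192, 160, 140, ⟨0, 1, -1, -1, -1, 1, 0, -2⟩⟩,
  ⟨114, 160, 141, ⟨1, 0, 0, 0, 0, 0, 0, 0⟩⟩,
  ⟨209, 160, 141, ⟨0, -1, 1, 1, 1, -1, 0, 2⟩⟩,
  ⟨113, 160, 142, ⟨1, 0, 0, 0, 0, 0, 0, 0⟩⟩,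
  ⟨226, 160, 142, ⟨1, 0, 0, 0, 0, 0, 0, 0⟩⟩,
  ⟨112, 160, 143, ⟨1, 0, 0, 0, 0, 0, 0, 0⟩⟩,
  ⟨175, 160, 143, ⟨-1, 0, 0, 0, 0, 0, 0, 0⟩⟩,
  ⟨111, 160, 144, ⟨1, 0, 0, 0, 0, 0, 0, 0⟩⟩,
  ⟨179, 160, 144, ⟨0, 1, 0, 0, 0, 0, 0, 0⟩⟩,
  ⟨110, 160, 145, ⟨1, 0, 0, 0, 0, 0, 0, 0⟩⟩,
  ⟨222, 160, 145, ⟨0, -1, 0, 0, 0, 0, 0, 0⟩⟩,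
  ⟨109, 160, 146, ⟨1, 0, 0, 0, 0, 0, 0, 0⟩⟩,
  ⟨194, 160, 146, ⟨-1, 0, 1, -1, -1, -1, 2, 0⟩⟩,
  ⟨108, 160, 147, ⟨1, 0, 0, 0, 0, 0, 0, 0⟩⟩,
  ⟨207, 160, 147, ⟨1, 0, -1, 1, 1, 1, -2, 0⟩⟩,
  ⟨107, 160, 148, ⟨1, 0, 0, 0, 0, 0, 0, 0⟩⟩,
  ⟨198, 160, 148, ⟨-1, 0, 1, -1, -1, -1, 2, 0⟩⟩,
  ⟨106, 160, 149, ⟨1, 0, 0, 0, 0, 0, 0, 0⟩⟩,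
  ⟨203, 160, 149, ⟨1, 0, -1, 1, 1, 1, -2, 0⟩⟩,
  ⟨105, 160, 150, ⟨1, 0, 0, 0, 0, 0, 0, 0⟩⟩,
  ⟨188, 160, 150, ⟨0, 1, -1, -1, -1, 1, 0, -2⟩⟩,
  ⟨104, 160, 151, ⟨1, 0, 0, 0, 0, 0, 0, 0⟩⟩,
  ⟨213, 160, 151, ⟨0, -1, 1, 1, 1, -1, 0, 2⟩⟩,
  ⟨103, 160, 152, ⟨1, 0, 0, 0, 0, 0, 0, 0⟩⟩,
  ⟨196, 160, 152, ⟨-1, 0, 1, -1, -1, -1, 2, 0⟩⟩,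
  ⟨102, 160, 153, ⟨1, 0, 0, 0, 0, 0, 0, 0⟩⟩,
  ⟨205, 160, 153, ⟨1, 0, -1, 1, 1, 1, -2, 0⟩⟩,
  ⟨101, 160, 154, ⟨1, 0, 0, 0, 0, 0, 0, 0⟩⟩,
  ⟨187, 160, 154, ⟨0, 1, -1, -1, -1, 1, 0, -2⟩⟩,
  ⟨100, 160, 155, ⟨1, 0, 0, 0, 0, 0, 0, 0⟩⟩,
  ⟨214, 160, 155, ⟨0, -1, 1, 1, 1, -1, 0, 2⟩⟩,
  ⟨99, 160, 156, ⟨1, 0, 0, 0, 0, 0, 0, 0⟩⟩,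
  ⟨180, 160, 156, ⟨0, 1, 0, 0, 0, 0, 0, 0⟩⟩,
  ⟨98, 160, 157, ⟨1, 0, 0, 0, 0, 0, 0, 0⟩⟩,
  ⟨221, 160, 157, ⟨0, -1, 0, 0, 0, 0, 0, 0⟩⟩,
  ⟨97, 160, 158, ⟨1, 0, 0, 0, 0, 0, 0, 0⟩⟩,
  ⟨225, 160, 158, ⟨1, 0, 0, 0, 0, 0, 0, 0⟩⟩,
  ⟨96, 160, 159, ⟨1, 0, 0, 0, 0, 0, 0, 0⟩⟩,
  ⟨176, 160, 159, ⟨-1, 0, 0, 0, 0, 0, 0, 0⟩⟩,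
  ⟨498, 160, 161, ⟨1, 0, 0, 0, 0, 0, 0, 0⟩⟩,
  ⟨407, 160, 233, ⟨0, 0, -1, 0, 0, 1, -1, -1⟩⟩,
  ⟨428, 160, 234, ⟨0, 0, 1, 0, 0, -1, 1, 1⟩⟩,
  ⟨403, 160, 235, ⟨0, 0, 0, 1, 1, 0, -1, 1⟩⟩,
  ⟨432, 160, 236, ⟨0, 0, 0, -1, -1, 0, 1, -1⟩⟩,
  ⟨405, 160, 237, ⟨-1, -1, 1, 0, 0, -1, 1, 1⟩⟩,
  ⟨430, 160, 238, ⟨1, 1, -1, 0, 0, 1, -1, -1⟩⟩,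
  ⟨408, 160, 239, ⟨1, -1, 0, 1, 1, 0, -1, 1⟩⟩,
  ⟨427, 160, 240, ⟨-1, 1, 0, -1, -1, 0, 1, -1⟩⟩,
  ⟨411, 160, 241, ⟨0, 1, 0, -1, -1, 0, 1, -1⟩⟩,
  ⟨424, 160, 242, ⟨0, -1, 0, 1, 1, 0, -1, 1⟩⟩,
  ⟨416, 160, 243, ⟨-1, 0, 1, 0, 0, -1, 1, 1⟩⟩,
  ⟨419, 160, 244, ⟨1, 0, -1, 0, 0, 1, -1, -1⟩⟩,
  ⟨412, 160, 245, ⟨0, 1, -1, 0, 0, 1, -1, -1⟩⟩,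
  ⟨423, 160, 246, ⟨0, -1, 1, 0, 0, -1, 1, 1⟩⟩,
  ⟨414, 160, 247, ⟨-1, 0, 0, -1, -1, 0, 1, -1⟩⟩,
  ⟨421, 160, 248, ⟨1, 0, 0, 1, 1, 0, -1, 1⟩⟩,
  ⟨415, 160, 249, ⟨1, 0, 0, 1, 1, 0, -1, 1⟩⟩,
  ⟨420, 160, 250, ⟨-1, 0, 0, -1, -1, 0, 1, -1⟩⟩,
  ⟨413, 160, 251, ⟨0, -1, 1, 0, 0, -1, 1, 1⟩⟩,
  ⟨422, 160, 252, ⟨0, 1, -1, 0, 0, 1, -1, -1⟩⟩,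
  ⟨417, 160, 253, ⟨1, 0, -1, 0, 0, 1, -1, -1⟩⟩,
  ⟨418, 160, 254, ⟨-1, 0, 1, 0, 0, -1, 1, 1⟩⟩,
  ⟨410, 160, 255, ⟨0, -1, 0, 1, 1, 0, -1, 1⟩⟩,
  ⟨425, 160, 256, ⟨0, 1, 0, -1, -1, 0, 1, -1⟩⟩,
  ⟨409, 160, 257, ⟨-1, 1, 0, -1, -1, 0, 1, -1⟩⟩,
  ⟨426, 160, 258, ⟨1, -1, 0, 1, 1, 0, -1, 1⟩⟩,
  ⟨404, 160, 259, ⟨1, 1, -1, 0, 0, 1, -1, -1⟩⟩,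
  ⟨431, 160, 260, ⟨-1, -1, 1, 0, 0, -1, 1, 1⟩⟩,
  ⟨402, 160, 261, ⟨0, 0, 0, -1, -1, 0, 1, -1⟩⟩,
  ⟨433, 160, 262, ⟨0, 0, 0, 1, 1, 0, -1, 1⟩⟩,
  ⟨406, 160, 263, ⟨0, 0, 1, 0, 0, -1, 1, 1⟩⟩,
  ⟨429, 160, 264, ⟨0, 0, -1, 0, 0, 1, -1, -1⟩⟩,
  ⟨499, 160, 265, ⟨1, 0, 0, 0, 0, 0, 0, 0⟩⟩,
  ⟨506, 160, 266, ⟨-1, 0, 0, 0, 0, 0, 0, 0⟩⟩,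
  ⟨505, 160, 267, ⟨0, 1, 0, 0, 0, 0, 0, 0⟩⟩,
  ⟨500, 160, 268, ⟨0, -1, 0, 0, 0, 0, 0, 0⟩⟩,
  ⟨504, 160, 269, ⟨0, 1, -1, -1, -1, 1, 0, -2⟩⟩,
  ⟨501, 160, 270, ⟨0, -1, 1, 1, 1, -1, 0, 2⟩⟩,
  ⟨503, 160, 271, ⟨-1, 0, 1, -1, -1, -1, 2, 0⟩⟩,
  ⟨502, 160, 272, ⟨1, 0, -1, 1, 1, 1, -2, 0⟩⟩,
  ⟨329, 160, 330, ⟨1, 0, 0, 0, 0, 0, 0, 0⟩⟩,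
  ⟨235, 160, 402, ⟨-1, 0, 1, 0, 0, -1, 1, 1⟩⟩,
  ⟨261, 160, 403, ⟨1, 0, -1, 0, 0, 1, -1, -1⟩⟩,
  ⟨237, 160, 404, ⟨-1, 0, 0, -1, -1, 0, 1, -1⟩⟩,
  ⟨259, 160, 405, ⟨1, 0, 0, 1, 1, 0, -1, 1⟩⟩,
  ⟨233, 160, 406, ⟨0, 1, -1, 0, 0, 1, -1, -1⟩⟩,
  ⟨263, 160, 407, ⟨0, -1, 1, 0, 0, -1, 1, 1⟩⟩,
  ⟨257, 160, 408, ⟨0, 1, 0, -1, -1, 0, 1, -1⟩⟩,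
  ⟨239, 160, 409, ⟨0, -1, 0, 1, 1, 0, -1, 1⟩⟩,
  ⟨241, 160, 410, ⟨1, -1, 0, 1, 1, 0, -1, 1⟩⟩,
  ⟨255, 160, 411, ⟨-1, 1, 0, -1, -1, 0, 1, -1⟩⟩,
  ⟨251, 160, 412, ⟨0, 0, -1, 0, 0, 1, -1, -1⟩⟩,
  ⟨245, 160, 413, ⟨0, 0, 1, 0, 0, -1, 1, 1⟩⟩,
  ⟨249, 160, 414, ⟨-1, -1, 1, 0, 0, -1, 1, 1⟩⟩,
  ⟨247, 160, 415, ⟨1, 1, -1, 0, 0, 1, -1, -1⟩⟩,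
  ⟨253, 160, 416, ⟨0, 0, 0, 1, 1, 0, -1, 1⟩⟩,
  ⟨243, 160, 417, ⟨0, 0, 0, -1, -1, 0, 1, -1⟩⟩,
  ⟨244, 160, 418, ⟨0, 0, 0, -1, -1, 0, 1, -1⟩⟩,
  ⟨254, 160, 419, ⟨0, 0, 0, 1, 1, 0, -1, 1⟩⟩,
  ⟨248, 160, 420, ⟨1, 1, -1, 0, 0, 1, -1, -1⟩⟩,
  ⟨250, 160, 421, ⟨-1, -1, 1, 0, 0, -1, 1, 1⟩⟩,
  ⟨246, 160, 422, ⟨0, 0, 1, 0, 0, -1, 1, 1⟩⟩,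
  ⟨252, 160, 423, ⟨0, 0, -1, 0, 0, 1, -1, -1⟩⟩,
  ⟨256, 160, 424, ⟨-1, 1, 0, -1, -1, 0, 1, -1⟩⟩,
  ⟨242, 160, 425, ⟨1, -1, 0, 1, 1, 0, -1, 1⟩⟩,
  ⟨240, 160, 426, ⟨0, -1, 0, 1, 1, 0, -1, 1⟩⟩,
  ⟨258, 160, 427, ⟨0, 1, 0, -1, -1, 0, 1, -1⟩⟩,
  ⟨264, 160, 428, ⟨0, -1, 1, 0, 0, -1, 1, 1⟩⟩,
  ⟨234, 160, 429, ⟨0, 1, -1, 0, 0, 1, -1, -1⟩⟩,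
  ⟨260, 160, 430, ⟨1, 0, 0, 1, 1, 0, -1, 1⟩⟩,
  ⟨238, 160, 431, ⟨-1, 0, 0, -1, -1, 0, 1, -1⟩⟩,
  ⟨262, 160, 432, ⟨1, 0, -1, 0, 0, 1, -1, -1⟩⟩,
  ⟨236, 160, 433, ⟨-1, 0, 1, 0, 0, -1, 1, 1⟩⟩,
  ⟨164, 63, 1, ⟨0, 0, 0, 0, 0, -1, 0, 1⟩⟩,
  ⟨163, 63, 2, ⟨0, 0, 0, 0, -1, 0, 0, 0⟩⟩,
  ⟨162, 63, 3, ⟨0, 0, 0, 0, 0, 0, -1, 0⟩⟩,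
  ⟨167, 63, 4, ⟨0, 0, 0, 0, 0, 0, 0, 1⟩⟩,
  ⟨166, 63, 5, ⟨0, 0, 0, 0, 1, 0, -1, 1⟩⟩,
  ⟨165, 63, 6, ⟨0, 0, 0, 0, 0, 1, -1, 0⟩⟩,
  ⟨276, 63, 8, ⟨1, 0, -1, 1, 1, 1, -1, 0⟩⟩,
  ⟨367, 63, 8, ⟨1, 0, 0, 1, 0, 1, -1, 0⟩⟩,
  ⟨272, 63, 12, ⟨0, 1, -1, -1, -1, 1, 0, -1⟩⟩,
  ⟨365, 63, 12, ⟨0, 1, -1, 0, -1, 0, 0, -1⟩⟩,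
  ⟨287, 63, 13, ⟨-1, 0, 0, 0, -1, -1, 1, 0⟩⟩,
  ⟨370, 63, 13, ⟨0, 1, 0, -1, -1, 0, 1, 0⟩⟩,
  ⟨286, 63, 16, ⟨0, -1, 0, 0, 1, 0, 0, 0⟩⟩,
  ⟨352, 63, 16, ⟨1, 0, -1, 0, 0, 0, 0, 0⟩⟩,
  ⟨295, 63, 20, ⟨-1, 0, 0, 0, 0, -1, 0, 0⟩⟩,
  ⟨386, 63, 20, ⟨0, 1, 0, -1, 0, 0, 0, 0⟩⟩,
  ⟨268, 63, 21, ⟨-1, 0, 1, -1, 0, -1, 1, 1⟩⟩,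
  ⟨349, 63, 21, ⟨-1, 0, 0, -1, -1, -1, 1, -1⟩⟩,
  ⟨290, 63, 24, ⟨0, -1, 1, 1, 1, 0, 0, 1⟩⟩,
  ⟨360, 63, 24, ⟨0, -1, 1, 0, 1, -1, 0, 1⟩⟩,
  ⟨270, 63, 28, ⟨0, 1, 0, 0, 0, 1, -1, 0⟩⟩,
  ⟨356, 63, 28, ⟨-1, 0, 1, 0, -1, -1, 1, 0⟩⟩,
  ⟨283, 63, 30, ⟨-1, 0, 0, 0, -1, 0, 0, -1⟩⟩,
  ⟨378, 63, 30, ⟨0, 1, 0, -1, -1, 1, 0, -1⟩⟩,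
  ⟨314, 63, 32, ⟨0, -1, 0, 0, 0, -1, 1, 0⟩⟩,
  ⟨351, 63, 32, ⟨1, 1, -1, 0, -1, 1, 0, -1⟩⟩,
  ⟨297, 63, 34, ⟨1, 0, 0, 0, 1, 0, 0, 1⟩⟩,
  ⟨393, 63, 34, ⟨1, -1, 0, 1, 1, 1, -1, 0⟩⟩,
  ⟨316, 63, 40, ⟨1, 0, -1, 1, 0, 1, -1, -1⟩⟩,
  ⟨368, 63, 40, ⟨0, 0, 1, 0, 0, 0, 0, 0⟩⟩,
  ⟨305, 63, 41, ⟨1, 0, 0, 0, 0, 1, 0, 0⟩⟩,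
  ⟨377, 63, 41, ⟨1, -1, 0, 1, 2, 0, -1, 1⟩⟩,
  ⟨320, 63, 48, ⟨0, -1, 1, 1, 1, -1, 0, 1⟩⟩,
  ⟨358, 63, 48, ⟨0, 0, 0, -1, 0, -1, 1, 0⟩⟩,
  ⟨309, 63, 49, ⟨1, 0, 0, 0, 1, 1, -1, 0⟩⟩,
  ⟨385, 63, 49, ⟨1, -1, 0, 1, 1, 0, 0, 1⟩⟩,
  ⟨298, 63, 64, ⟨1, 0, -1, 0, 0, 1, 0, -1⟩⟩,
  ⟨346, 63, 64, ⟨1, 1, -1, 0, 0, 1, -1, 0⟩⟩,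
  ⟨306, 63, 66, ⟨1, 0, 0, 1, 1, 1, -1, 0⟩⟩,
  ⟨362, 63, 66, ⟨0, 0, 1, 0, 0, 0, 0, 1⟩⟩,
  ⟨310, 63, 68, ⟨0, -1, 1, 0, 1, -1, 1, 1⟩⟩,
  ⟨354, 63, 68, ⟨0, 0, 0, -1, 0, 0, 0, 0⟩⟩,
  ⟨337, 63, 70, ⟨0, -1, 0, 1, 1, 0, -1, 1⟩⟩,
  ⟨284, 63, 80, ⟨0, 0, 0, 1, 0, 0, 0, 0⟩⟩,
  ⟨361, 63, 80, ⟨0, -1, 1, 0, 1, -1, 1, 1⟩⟩,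
  ⟨296, 63, 82, ⟨-1, -1, 1, 0, 0, -1, 1, 0⟩⟩,
  ⟨353, 63, 82, ⟨1, 0, -1, 0, 0, 1, 0, -1⟩⟩,
  ⟨288, 63, 84, ⟨0, 0, -1, 0, 0, 0, 0, -1⟩⟩,
  ⟨369, 63, 84, ⟨1, 0, 0, 1, 1, 1, -1, 0⟩⟩,
  ⟨330, 63, 86, ⟨-1, 1, 0, -1, -1, 0, 1, -1⟩⟩,
  ⟨280, 63, 104, ⟨0, 0, 0, 0, 0, 1, 0, -1⟩⟩,
  ⟨348, 63, 104, ⟨1, 0, -1, 0, 1, 1, -1, 0⟩⟩,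
  ⟨308, 63, 106, ⟨0, 0, 0, 0, -1, 0, 1, -1⟩⟩,
  ⟨347, 63, 106, ⟨1, 1, -1, 0, 0, 2, -1, -1⟩⟩,
  ⟨274, 63, 108, ⟨0, 0, 0, 0, 0, 0, 1, 0⟩⟩,
  ⟨357, 63, 108, ⟨0, -1, 1, 0, 1, 0, 0, 1⟩⟩,
  ⟨278, 63, 110, ⟨0, 0, 0, 0, 1, 0, 0, 0⟩⟩,
  ⟨363, 63, 110, ⟨1, 0, 0, 1, 1, 1, -1, 1⟩⟩,
  ⟨161, 63, 115, ⟨0, -1, 1, 1, 1, -1, 0, 2⟩⟩,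
  ⟨304, 63, 116, ⟨0, 0, 0, 0, 0, -1, 1, 0⟩⟩,
  ⟨355, 63, 116, ⟨0, 0, 0, -1, 0, 0, 1, 0⟩⟩,
  ⟨318, 63, 120, ⟨0, 0, 0, 0, 0, 0, 0, -1⟩⟩,
  ⟨364, 63, 120, ⟨0, 0, 1, 0, 1, 0, 0, 1⟩⟩,
  ⟨292, 63, 234, ⟨0, 0, 0, 0, -1, 0, 1, -1⟩⟩,
  ⟨396, 63, 234, ⟨0, 0, 0, 0, -1, 0, 1, -1⟩⟩,
  ⟨294, 63, 236, ⟨0, 0, 0, 0, 0, 0, 0, -1⟩⟩,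
  ⟨397, 63, 236, ⟨0, 0, 0, 0, 0, 0, 0, -1⟩⟩,
  ⟨282, 63, 238, ⟨0, 0, 0, 0, 0, -1, 1, 0⟩⟩,
  ⟨395, 63, 238, ⟨0, 0, 0, 0, 0, -1, 1, 0⟩⟩,
  ⟨301, 63, 244, ⟨0, 0, 0, 0, 1, 0, 0, 0⟩⟩,
  ⟨340, 63, 244, ⟨0, 0, 0, 0, -1, 0, 0, 0⟩⟩,
  ⟨311, 63, 246, ⟨0, 0, 0, 0, 0, 1, 0, -1⟩⟩,
  ⟨339, 63, 246, ⟨0, 0, 0, 0, 0, -1, 0, 1⟩⟩,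
  ⟨299, 63, 248, ⟨0, 0, 0, 0, 0, 0, 1, 0⟩⟩,
  ⟨341, 63, 248, ⟨0, 0, 0, 0, 0, 0, -1, 0⟩⟩,
  ⟨336, 63, 267, ⟨-1, 0, 0, 0, -1, -1, 1, 0⟩⟩,
  ⟨335, 63, 269, ⟨-1, 0, 0, 0, 0, -1, 0, 0⟩⟩,
  ⟨334, 63, 271, ⟨-1, 0, 0, 0, -1, 0, 0, -1⟩⟩,
  ⟨319, 63, 275, ⟨0, 0, 0, 0, 0, 0, 0, -1⟩⟩,
  ⟨381, 63, 275, ⟨1, 0, 0, 1, 0, 1, -1, 0⟩⟩,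
  ⟨312, 63, 283, ⟨0, -1, 1, 0, 1, -1, 1, 1⟩⟩,
  ⟨400, 63, 283, ⟨0, -1, 1, 0, 1, -1, 1, 1⟩⟩,
  ⟨315, 63, 285, ⟨0, 0, 0, 0, -1, 0, 1, -1⟩⟩,
  ⟨371, 63, 285, ⟨1, 0, -1, 0, 0, 0, 0, 0⟩⟩,
  ⟨300, 63, 287, ⟨1, 0, 0, 1, 1, 1, -1, 0⟩⟩,
  ⟨398, 63, 287, ⟨1, 0, 0, 1, 1, 1, -1, 0⟩⟩,
  ⟨313, 63, 289, ⟨0, 0, 0, 0, 0, -1, 1, 0⟩⟩,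
  ⟨388, 63, 289, ⟨0, -1, 1, 0, 1, -1, 0, 1⟩⟩,
  ⟨302, 63, 295, ⟨1, 0, -1, 0, 0, 1, 0, -1⟩⟩,
  ⟨399, 63, 295, ⟨1, 0, -1, 0, 0, 1, 0, -1⟩⟩,
  ⟨281, 63, 297, ⟨-1, -1, 1, 0, 0, -1, 1, 0⟩⟩,
  ⟨344, 63, 297, ⟨1, 1, -1, 0, 0, 1, -1, 0⟩⟩,
  ⟨291, 63, 305, ⟨0, 0, -1, 0, 0, 0, 0, -1⟩⟩,
  ⟨343, 63, 305, ⟨0, 0, 1, 0, 0, 0, 0, 1⟩⟩,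
  ⟨293, 63, 309, ⟨0, 0, 0, 1, 0, 0, 0, 0⟩⟩,
  ⟨342, 63, 309, ⟨0, 0, 0, -1, 0, 0, 0, 0⟩⟩,
  ⟨289, 63, 313, ⟨0, 0, 0, 0, 0, 1, 0, -1⟩⟩,
  ⟨379, 63, 313, ⟨1, 1, -1, 0, -1, 1, 0, -1⟩⟩,
  ⟨285, 63, 315, ⟨0, 0, 0, 0, 1, 0, 0, 0⟩⟩,
  ⟨387, 63, 315, ⟨0, 0, 1, 0, 0, 0, 0, 0⟩⟩,
  ⟨275, 63, 319, ⟨0, 0, 0, 0, 0, 0, 1, 0⟩⟩,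
  ⟨372, 63, 319, ⟨0, 0, 0, -1, 0, -1, 1, 0⟩⟩,
  ⟨328, 63, 330, ⟨1, 0, 0, 0, 0, 0, 0, 0⟩⟩,
  ⟨401, 63, 330, ⟨1, 0, 0, 0, 0, 0, 0, 0⟩⟩,
  ⟨271, 63, 334, ⟨-1, 0, 1, -1, -1, -1, 2, 0⟩⟩,
  ⟨374, 63, 334, ⟨1, 0, 0, 0, 0, 0, 0, 0⟩⟩,
  ⟨269, 63, 335, ⟨0, 1, -1, -1, -1, 1, 0, -2⟩⟩,
  ⟨383, 63, 335, ⟨1, 0, 0, 0, 0, 0, 0, 0⟩⟩,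
  ⟨267, 63, 336, ⟨0, 1, 0, 0, 0, 0, 0, 0⟩⟩,
  ⟨390, 63, 336, ⟨1, 0, 0, 0, 0, 0, 0, 0⟩⟩,
  ⟨327, 63, 337, ⟨-1, 0, 0, 0, 0, 0, 0, 0⟩⟩,
  ⟨338, 63, 337, ⟨1, 0, 0, 0, 0, 0, 0, 0⟩⟩,
  ⟨266, 63, 424, ⟨0, 1, 0, -1, -1, 0, 1, -1⟩⟩,
  ⟨394, 63, 424, ⟨0, 1, 0, -1, -1, 0, 1, -1⟩⟩,
  ⟨265, 63, 427, ⟨-1, 1, 0, -1, -1, 0, 1, -1⟩⟩,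
  ⟨345, 63, 427, ⟨1, -1, 0, 1, 1, 0, -1, 1⟩⟩,
  ⟨326, 62, 27, ⟨0, -1, 0, 0, 0, -1, 1, 0⟩⟩,
  ⟨350, 62, 27, ⟨1, 1, -1, 0, -1, 1, 0, -1⟩⟩,
  ⟨273, 62, 44, ⟨0, 1, -1, -1, -1, 0, 1, -1⟩⟩,
  ⟨382, 62, 44, ⟨0, 0, 0, 0, 0, -1, 0, 0⟩⟩,
  ⟨333, 62, 81, ⟨0, 0, 1, 0, 0, -1, 1, 1⟩⟩,
  ⟨323, 62, 126, ⟨0, 0, 0, 0, 0, -1, 1, 0⟩⟩,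
  ⟨380, 62, 126, ⟨0, 0, 0, 1, 0, 0, -1, 0⟩⟩,
  ⟨321, 62, 241, ⟨0, 0, 0, 0, 0, -1, 1, 0⟩⟩,
  ⟨373, 62, 241, ⟨0, 1, -1, -1, -1, 0, 0, -1⟩⟩,
  ⟨325, 62, 270, ⟨0, 0, 0, 0, 0, -1, 1, 0⟩⟩,
  ⟨389, 62, 270, ⟨0, -1, 1, 0, 1, -1, 0, 1⟩⟩,
  ⟨332, 62, 290, ⟨-1, 0, 1, -1, -1, -1, 1, 0⟩⟩,
  ⟨322, 62, 295, ⟨1, 0, -1, 0, 0, 0, 0, 0⟩⟩,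
  ⟨366, 62, 295, ⟨0, 0, 0, 0, -1, 0, 1, -1⟩⟩,
  ⟨277, 62, 297, ⟨-1, -1, 1, 0, 0, -2, 1, 1⟩⟩,
  ⟨376, 62, 297, ⟨0, 1, 0, 0, -1, 0, 0, 0⟩⟩,
  ⟨317, 62, 328, ⟨-1, 1, 0, -1, -1, -1, 1, 0⟩⟩,
  ⟨375, 62, 328, ⟨0, 1, 0, -1, -1, 1, 0, -1⟩⟩,
  ⟨279, 62, 336, ⟨0, 1, 0, 0, 0, 0, 0, 0⟩⟩,
  ⟨391, 62, 336, ⟨1, 0, 0, 0, 0, 0, 0, 0⟩⟩,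
  ⟨331, 61, 286, ⟨0, 1, -1, -1, -1, 0, 0, -1⟩⟩,
  ⟨324, 61, 287, ⟨1, 0, 0, 1, 0, 1, -1, 0⟩⟩,
  ⟨359, 61, 287, ⟨0, 0, 0, 0, 0, 0, 0, -1⟩⟩,
  ⟨303, 61, 328, ⟨-1, 1, 0, -1, -2, 0, 1, -1⟩⟩,
  ⟨384, 61, 328, ⟨0, 1, 0, -1, 0, 0, 0, 0⟩⟩,
  ⟨307, 60, 328, ⟨-1, 1, 0, -1, -1, 0, 0, -1⟩⟩,
  ⟨392, 60, 328, ⟨0, 1, 0, -1, -1, 0, 1, 0⟩⟩,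
  ⟨168, 55, 11, ⟨0, 0, 0, 0, 0, 0, -1, 0⟩⟩]

theorem transSteps_ok : (runSteps [160] transSteps).map
    (fun r => (List.range RepAll.length).all fun i => r.contains i) = some true := by
  decide +kernel

end Cfsg.Agent.Lib.Helper27.J2
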