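import Cfsg.Agent.Lib.Helper27.J2U3Data

/-!
# The action of `J₂` on sets of lines, and a subgroup of index `100`

The permutation representation of `J₂` on `Fin 315`, sets of lines given by bit masks, the orbit of length `100`
of a set of 63 lines, and its stabiliser `HU` of index `100` and order `6048`.
-/

set_option autoImplicit false

namespace Cfsg.Agent.Lib.Helper27.J2
open Quaternion Cfsg.Spor
open scoped Pointwise

/-! ### the permutation representation on `Fin 315` -/

/-- the numbering of the 315 lines -/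
noncomputable def lineEquiv : ReflSet ≃ Fin 315 where
  toFun x := ⟨idxOf x, idxOf_lt x⟩
  invFun i := idxRefl i.val
  left_inv x := idxRefl_idxOf x
  right_inv i := Fin.ext (idxOf_idxRefl i.isLt)

/-- the permutation representation of `J₂` on `Fin 315` -/
noncomputable def rhoF : J2 →* Equiv.Perm (Fin 315) :=
  (lineEquiv.permCongrHom.toMonoidHom).comp rhoJ

theorem lineEquiv_symm_apply (i : Fin 315) : lineEquiv.symm i = idxRefl i.val := by
  simp only [lineEquiv, Equiv.coe_fn_symm_mk]

theorem lineEquiv_apply_val (x : ReflSet) : (lineEquiv x).val = idxOf x := by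
  simp only [lineEquiv, Equiv.coe_fn_mk]

theorem rhoF_eq (u : J2) : rhoF u = lineEquiv.permCongr (rhoJ u) := rfl

theorem rhoF_apply (u : J2) (i : Fin 315) : rhoF u i = lineEquiv (rhoJ u (idxRefl i.val)) := by
  rw [rhoF_eq, Equiv.permCongr_apply, lineEquiv_symm_apply]

theorem rhoF_injective : Function.Injective rhoF := by
  intro u v h
  apply rhoJ_injective
  exact lineEquiv.permCongrHom.injective h

/-- `u` acts on the indices of the lines as `f` -/
def ActsJ (u : J2) (f : ℕ → ℕ) : Prop := ∀ i : Fin 315, (rhoF u i).val = f i.val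

theorem ActsJ.one : ActsJ 1 id := fun i => by rw [map_one]; rfl

theorem ActsJ.mul {u v : J2} {f g : ℕ → ℕ} (hu : ActsJ u f) (hv : ActsJ v g) :
    ActsJ (u * v) (f ∘ g) := fun i => by
  rw [map_mul, Equiv.Perm.mul_apply, hu, hv]; rfl

theorem actsJ_tauJ {j : ℕ} (hj : j < 315) : ActsJ (tauJ j) (pget (rP j)) := fun i => by
  rw [rhoF_apply, rhoJ_tauJ hj i.isLt, lineEquiv_apply_val]
  exact idxOf_idxRefl ((actsF_refl hj) i.val i.isLt).1

/-! ### sets of lines as bit masks -/

/-- the set of lines with a given bit mask -/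
def toFSm (m : ℕ) : Finset (Fin 315) := Finset.univ.filter fun i => m.testBit i.val = true

theorem mem_toFSm {m : ℕ} {i : Fin 315} : i ∈ toFSm m ↔ m.testBit i.val = true := by
  simp [toFSm]

/-- the bit mask of a list of numbers -/
def maskOf (L : List ℕ) : ℕ := L.foldr (fun j acc => 2 ^ j ||| acc) 0

theorem testBit_maskOf (L : List ℕ) (i : ℕ) : (maskOf L).testBit i = true ↔ i ∈ L := by
  induction L with
  | nil => simp [maskOf]
  | cons a L ih =>
    have : maskOf (a :: L) = 2 ^ a ||| maskOf L := rfl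
    rw [this, Nat.testBit_or, Bool.or_eq_true, ih, Nat.testBit_two_pow, List.mem_cons, decide_eq_true_eq]
    constructor
    · rintro (h | h)
      · exact Or.inl h.symm
      · exact Or.inr h
    · rintro (h | h)
      · exact Or.inl h.symm
      · exact Or.inr h

/-- the numbers below `315` in a bit mask -/
def bitsOf (m : ℕ) : List ℕ := (List.range 315).filter fun i => m.testBit i

theorem mem_bitsOf {m i : ℕ} : i ∈ bitsOf m ↔ i < 315 ∧ m.testBit i = true := by
  simp [bitsOf]

/-- the image of a bit mask under a map of the indices -/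
def imgMask (f : ℕ → ℕ) (m : ℕ) : ℕ := maskOf ((bitsOf m).map f)

/-- the action of `J₂` on sets of lines -/
noncomputable instance actFS : MulAction J2 (Finset (Fin 315)) := MulAction.compHom _ rhoF

theorem smul_fs_def (u : J2) (S : Finset (Fin 315)) : u • S = S.image (rhoF u) := rfl

theorem smul_toFSm {u : J2} {f : ℕ → ℕ} (hf : ActsJ u f) (m : ℕ) :
    u • toFSm m = toFSm (imgMask f m) := by
  ext x
  rw [smul_fs_def, Finset.mem_image, mem_toFSm, imgMask, testBit_maskOf, List.mem_map]
  constructor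
  · rintro ⟨y, hy, rfl⟩
    exact ⟨y.val, mem_bitsOf.2 ⟨y.isLt, mem_toFSm.1 hy⟩, (hf y).symm⟩
  · rintro ⟨j, hj, hjx⟩
    obtain ⟨h1, h2⟩ := mem_bitsOf.1 hj
    refine ⟨⟨j, h1⟩, mem_toFSm.2 h2, Fin.ext ?_⟩
    rw [hf ⟨j, h1⟩]
    exact hjx

theorem toFSm_injOn {m m' : ℕ} (hm : m < 2 ^ 315) (hm' : m' < 2 ^ 315) (h : toFSm m = toFSm m') :
    m = m' := by
  apply Nat.eq_of_testBit_eq
  intro i
  by_cases hi : i < 315
  · have h1 : (⟨i, hi⟩ : Fin 315) ∈ toFSm m ↔ (⟨i, hi⟩ : Fin 315) ∈ toFSm m' := by rw [h]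
    rw [mem_toFSm, mem_toFSm] at h1
    exact Bool.eq_iff_iff.2 h1
  · have h2 : (2 : ℕ) ^ 315 ≤ 2 ^ i := Nat.pow_le_pow_right (by norm_num) (by omega)
    rw [Nat.testBit_eq_false_of_lt (lt_of_lt_of_le hm h2),
      Nat.testBit_eq_false_of_lt (lt_of_lt_of_le hm' h2)]

theorem toFSm_inter (a b : ℕ) : toFSm a ∩ toFSm b = toFSm (a &&& b) := by
  ext x
  rw [Finset.mem_inter, mem_toFSm, mem_toFSm, mem_toFSm, Nat.testBit_and, Bool.and_eq_true]

theorem card_toFSm (m : ℕ) : (toFSm m).card = (bitsOf m).length := by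
  have h1 : (toFSm m).map Fin.valEmbedding = (bitsOf m).toFinset := by
    ext j
    rw [Finset.mem_map, List.mem_toFinset, mem_bitsOf]
    constructor
    · rintro ⟨i, hi, rfl⟩
      exact ⟨i.isLt, mem_toFSm.1 hi⟩
    · rintro ⟨h1, h2⟩
      exact ⟨⟨j, h1⟩, mem_toFSm.2 h2, rfl⟩
  rw [← Finset.card_map Fin.valEmbedding, h1, List.toFinset_card_of_nodup]
  exact List.Nodup.filter _ List.nodup_range

/-! ### the set of 63 lines and its orbit -/

/-- the set of 63 lines -/
def omF : Finset (Fin 315) := toFSm omMask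

/-- the bit masks of the 100 images -/
def orbMasks : List ℕ := orbTree.map fun t => t.1

theorem orbMasks_ok : orbMasks.length = 100 ∧ orbMasks.Nodup ∧ (orbMasks.all fun m => decide (m < 2 ^ 315)) = true ∧
    orbMasks.getD 0 0 = omMask := by
  decide +kernel

theorem orbTree_ok : (List.range 100).all (fun i => i == 0 ||
    (decide ((orbTree.getD i (0, 0, 0)).2.1 < i) &&
      [160, 121, 303, 278].contains (orbTree.getD i (0, 0, 0)).2.2 &&
      ((orbTree.getD i (0, 0, 0)).1 ==
        imgMask (pget (rP (orbTree.getD i (0, 0, 0)).2.2)) (orbMasks.getD (orbTree.getD i (0, 0, 0)).2.1 0)))) = true := by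
  decide +kernel

theorem orbClosed_ok : (orbMasks.all fun m => [160, 121, 303, 278].all fun g =>
    orbMasks.contains (imgMask (pget (rP g)) m)) = true := by
  decide +kernel

theorem gen4_lt {g : ℕ} (hg : g ∈ [160, 121, 303, 278]) : g < 315 := by
  simp only [List.mem_cons, List.not_mem_nil, or_false] at hg
  omega

theorem orbMasks_getD_mem {i : ℕ} (hi : i < 100) : orbMasks.getD i 0 ∈ orbMasks := by
  rw [List.getD_eq_getElem _ _ (by rw [orbMasks_ok.1]; exact hi)]
  exact List.getElem_mem _

/-- every listed set is in the orbit -/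
theorem orb_mem_orbit : ∀ i < 100, toFSm (orbMasks.getD i 0) ∈ MulAction.orbit J2 omF := by
  intro i
  induction i using Nat.strong_induction_on with
  | _ i ih =>
    intro hi
    have h := List.all_eq_true.1 orbTree_ok i (List.mem_range.2 hi)
    rw [Bool.or_eq_true] at h
    rcases h with h | h
    · rw [beq_iff_eq] at h
      subst h
      rw [orbMasks_ok.2.2.2]
      exact MulAction.mem_orbit_self _
    · simp only [Bool.and_eq_true, decide_eq_true_eq, beq_iff_eq, List.contains_iff_mem] at h
      obtain ⟨⟨h1, h2⟩, h3⟩ := h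
      have hm : orbMasks.getD i 0 = (orbTree.getD i (0, 0, 0)).1 := by
        exact List.getD_map (f := fun t : ℕ × ℕ × ℕ => t.1) (l := orbTree) (d := (0, 0, 0)) (n := i)
      rw [hm, h3, ← smul_toFSm (actsJ_tauJ (gen4_lt h2))]
      obtain ⟨v, hv⟩ := ih _ h1 (by omega)
      rw [← hv]
      exact ⟨tauJ _ * v, mul_smul _ _ _⟩

/-- the listed sets are permuted by `J₂` -/
theorem orb_closed (u : J2) : ∀ m ∈ orbMasks, ∃ m' ∈ orbMasks, u • toFSm m = toFSm m' := by
  have hu : u ∈ Submonoid.closure ({tauJ 160, tauJ 121, tauJ 303, tauJ 278} : Set J2) := by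
    rw [← Subgroup.closure_toSubmonoid_of_finite, closure_tauJ]
    exact Submonoid.mem_top u
  induction hu using Submonoid.closure_induction with
  | mem x hx =>
    intro m hm
    have hg : ∃ g ∈ [160, 121, 303, 278], x = tauJ g := by
      rcases hx with rfl | rfl | rfl | rfl
      · exact ⟨160, by simp, rfl⟩
      · exact ⟨121, by simp, rfl⟩
      · exact ⟨303, by simp, rfl⟩
      · exact ⟨278, by simp, rfl⟩
    obtain ⟨g, hg, rfl⟩ := hg
    have h := List.all_eq_true.1 (List.all_eq_true.1 orbClosed_ok m hm) g hg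
    rw [List.contains_iff_mem] at h
    exact ⟨_, h, smul_toFSm (actsJ_tauJ (gen4_lt hg)) m⟩
  | one =>
    intro m hm
    exact ⟨m, hm, one_smul _ _⟩
  | mul x y _ _ hx hy =>
    intro m hm
    obtain ⟨m1, hm1, h1⟩ := hy m hm
    obtain ⟨m2, hm2, h2⟩ := hx m1 hm1
    exact ⟨m2, hm2, by rw [mul_smul, h1, h2]⟩

/-- the orbit of the set of 63 lines -/
theorem orbit_omF : MulAction.orbit J2 omF = ((orbMasks.map toFSm).toFinset : Set (Finset (Fin 315))) := by
  ext S
  rw [Finset.mem_coe, List.mem_toFinset, List.mem_map]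
  constructor
  · rintro ⟨u, rfl⟩
    obtain ⟨m', hm', h⟩ := orb_closed u omMask (by
      rw [← orbMasks_ok.2.2.2]; exact orbMasks_getD_mem (by norm_num))
    exact ⟨m', hm', h.symm⟩
  · rintro ⟨m, hm, rfl⟩
    obtain ⟨i, hi, rfl⟩ := List.getElem_of_mem hm
    rw [orbMasks_ok.1] at hi
    have := orb_mem_orbit i hi
    rwa [List.getD_eq_getElem _ _ (by rw [orbMasks_ok.1]; exact hi)] at this

theorem toFSm_injOn_list {L : List ℕ} (hL : (L.all fun m => decide (m < 2 ^ 315)) = true) :
    ∀ a ∈ L, ∀ b ∈ L, toFSm a = toFSm b → a = b := by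
  intro a ha b hb h
  have h1 := List.all_eq_true.1 hL a ha
  have h2 := List.all_eq_true.1 hL b hb
  rw [decide_eq_true_eq] at h1 h2
  exact toFSm_injOn h1 h2 h

theorem card_map_toFSm {L : List ℕ} (hL : (L.all fun m => decide (m < 2 ^ 315)) = true) (hn : L.Nodup) :
    (L.map toFSm).toFinset.card = L.length := by
  rw [List.toFinset_card_of_nodup, List.length_map]
  exact (List.nodup_map_iff_inj_on hn).2 (toFSm_injOn_list hL)

/-- the stabiliser of the set of 63 lines -/
noncomputable def HU : Subgroup J2 := MulAction.stabilizer J2 omF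

theorem mem_HU {u : J2} : u ∈ HU ↔ u • omF = omF := MulAction.mem_stabilizer_iff

theorem index_HU : HU.index = 100 := by
  rw [HU, MulAction.index_stabilizer, orbit_omF, Set.ncard_coe_finset,
    card_map_toFSm orbMasks_ok.2.2.1 orbMasks_ok.2.1, orbMasks_ok.1]

theorem card_HU : Nat.card HU = 6048 := by
  have h := HU.card_mul_index
  rw [index_HU, card_J2] at h
  omega

end Cfsg.Agent.Lib.Helper27.J2
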