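import Cfsg.Agent.Lib.Helper27.J2U3SubChk
import Cfsg.Agent.S0148
import Cfsg.Agent.Lib.Helper25.Norm3

/-!
# The subgroup `HU ≅ U₃(3)` of `J₂`: irreducible characters of degrees `6`, `14` and `21`

Each is an integral combination of characters induced from linear characters of subgroups; its values at the
class representatives are rational integers, and its norm is one.
-/

set_option autoImplicit false
set_option maxHeartbeats 4000000
set_option maxRecDepth 100000

namespace Cfsg.Agent.Lib.Helper27.J2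
open Cfsg.Agent.Lib.Helper57 Cfsg Cfsg.Agent.Lib.Helper26 Cfsg.Agent.Lib.Helper25
open scoped ComplexConjugate

/-- the induced character -/
noncomputable def SubChar.ind (D : SubChar) (h : D.chk = true) : HU → ℂ := indFun (D.sub h) (D.chi h)

theorem SubChar.ind_isCharacter {D : SubChar} (h : D.chk = true) : IsCharacter HU (D.ind h) :=
  Cfsg.Agent.S0148.result _ _ (SubChar.isCharacter_chi h)

theorem SubChar.ind_classFun {D : SubChar} (h : D.chk = true) : IsClassFunction HU (D.ind h) :=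
  Cfsg.Agent.Lib.Helper75.isClassFunction_indFun _ _

/-- an integral combination of four induced characters -/
noncomputable def comb4 {D1 D2 D3 D4 : SubChar} (h1 : D1.chk = true) (h2 : D2.chk = true) (h3 : D3.chk = true)
    (h4 : D4.chk = true) (a1 a2 a3 a4 : ℤ) : HU → ℂ :=
  a1 • D1.ind h1 + a2 • D2.ind h2 + a3 • D3.ind h3 + a4 • D4.ind h4

section comb

variable {D1 D2 D3 D4 : SubChar} (h1 : D1.chk = true) (h2 : D2.chk = true) (h3 : D3.chk = true)
  (h4 : D4.chk = true) (a1 a2 a3 a4 : ℤ)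

theorem comb4_apply (g : HU) : comb4 h1 h2 h3 h4 a1 a2 a3 a4 g =
    (a1 : ℂ) * D1.ind h1 g + (a2 : ℂ) * D2.ind h2 g + (a3 : ℂ) * D3.ind h3 g + (a4 : ℂ) * D4.ind h4 g := by
  simp only [comb4, Pi.add_apply, Pi.smul_apply]
  simp only [zsmul_eq_mul]

theorem comb4_gen : IsGeneralizedCharacter HU (comb4 h1 h2 h3 h4 a1 a2 a3 a4) := by
  have F := irrFacts HU
  have g1 := F.gen_zsmul a1 (isGeneralizedCharacter_of_isCharacter (SubChar.ind_isCharacter h1))
  have g2 := F.gen_zsmul a2 (isGeneralizedCharacter_of_isCharacter (SubChar.ind_isCharacter h2))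
  have g3 := F.gen_zsmul a3 (isGeneralizedCharacter_of_isCharacter (SubChar.ind_isCharacter h3))
  have g4 := F.gen_zsmul a4 (isGeneralizedCharacter_of_isCharacter (SubChar.ind_isCharacter h4))
  exact F.gen_add (F.gen_add (F.gen_add g1 g2) g3) g4

theorem comb4_classFun : IsClassFunction HU (comb4 h1 h2 h3 h4 a1 a2 a3 a4) := by
  intro g h
  rw [comb4_apply, comb4_apply, SubChar.ind_classFun h1 g h, SubChar.ind_classFun h2 g h,
    SubChar.ind_classFun h3 g h, SubChar.ind_classFun h4 g h]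

/-- the check of the values of a combination at the class representatives -/
def comb4Chk (D1 D2 D3 D4 : SubChar) (a1 a2 a3 a4 : ℤ) (q1 q2 q3 q4 : ℕ) (v : ℕ → ℤ) : Bool :=
  (D1.L.length * q1 == 6048) && (D2.L.length * q2 == 6048) && (D3.L.length * q3 == 6048) &&
    (D4.L.length * q4 == 6048) &&
    (List.range 14).all fun c =>
      (a1 * q1 * ((6048 / u3csz c : ℕ) : ℤ) * D1.valA c + a2 * q2 * ((6048 / u3csz c : ℕ) : ℤ) * D2.valA c +
        a3 * q3 * ((6048 / u3csz c : ℕ) : ℤ) * D3.valA c + a4 * q4 * ((6048 / u3csz c : ℕ) : ℤ) * D4.valA c ==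
          6048 * v c) &&
      (a1 * q1 * ((6048 / u3csz c : ℕ) : ℤ) * D1.valB c + a2 * q2 * ((6048 / u3csz c : ℕ) : ℤ) * D2.valB c +
        a3 * q3 * ((6048 / u3csz c : ℕ) : ℤ) * D3.valB c + a4 * q4 * ((6048 / u3csz c : ℕ) : ℤ) * D4.valB c == 0)

theorem inv_of_mul_eq {l q : ℕ} (h : l * q = 6048) : ((l : ℕ) : ℂ)⁻¹ = (q : ℂ) / 6048 := by
  have h1 : ((l : ℕ) : ℂ) * (q : ℂ) = 6048 := by exact_mod_cast h
  have hq : ((q : ℕ) : ℂ) ≠ 0 := by
    intro h0
    rw [h0, mul_zero] at h1
    norm_num at h1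
  apply inv_eq_of_mul_eq_one_right
  rw [← mul_div_assoc, h1]
  norm_num

theorem comb4_value {q1 q2 q3 q4 : ℕ} {v : ℕ → ℤ}
    (hchk : comb4Chk D1 D2 D3 D4 a1 a2 a3 a4 q1 q2 q3 q4 v = true) {c : ℕ} (hc : c < 14) :
    comb4 h1 h2 h3 h4 a1 a2 a3 a4 (elemN (u3rep c)) = ((v c : ℤ) : ℂ) := by
  rw [comb4Chk, Bool.and_eq_true, Bool.and_eq_true, Bool.and_eq_true, Bool.and_eq_true, beq_iff_eq, beq_iff_eq,
    beq_iff_eq, beq_iff_eq] at hchk
  obtain ⟨⟨⟨⟨e1, e2⟩, e3⟩, e4⟩, hall⟩ := hchk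
  have hcc := List.all_eq_true.1 hall c (List.mem_range.2 hc)
  rw [Bool.and_eq_true, beq_iff_eq, beq_iff_eq] at hcc
  obtain ⟨hA, hB⟩ := hcc
  have hA' := congrArg (fun z : ℤ => (z : ℂ)) hA
  have hB' := congrArg (fun z : ℤ => (z : ℂ)) hB
  simp only [Int.cast_add, Int.cast_mul, Int.cast_natCast, Int.cast_ofNat, Int.cast_zero] at hA' hB'
  rw [comb4_apply, SubChar.ind, SubChar.ind, SubChar.ind, SubChar.ind, SubChar.indFun_rep h1 hc,
    SubChar.indFun_rep h2 hc, SubChar.indFun_rep h3 hc, SubChar.indFun_rep h4 hc, inv_of_mul_eq e1,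
    inv_of_mul_eq e2, inv_of_mul_eq e3, inv_of_mul_eq e4]
  linear_combination (1 / 6048 : ℂ) * hA' + (zeta6 / 6048) * hB'

end comb

theorem sum_range_eq_list_sum {M : Type*} [AddCommMonoid M] (f : ℕ → M) (n : ℕ) :
    ∑ i ∈ Finset.range n, f i = ((List.range n).map f).sum := by
  induction n with
  | zero => simp
  | succ n ih => rw [Finset.sum_range_succ, ih, List.range_succ, List.map_append, List.sum_append]; simp

/-- **a generalized character which is a class function, has given integral values at the class representatives,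
norm one and positive degree is an irreducible character** -/
theorem irr_of_cert {θ : HU → ℂ} (hgen : IsGeneralizedCharacter HU θ) (hcf : IsClassFunction HU θ) (v : ℕ → ℤ)
    (hv : ∀ c < 14, θ (elemN (u3rep c)) = ((v c : ℤ) : ℂ))
    (hnorm : ((List.range 6048).map (fun i => v (u3cls i) ^ 2)).sum = 6048) (hpos : 0 < v 0) :
    IsIrrCharacter HU θ ∧ θ 1 = ((v 0 : ℤ) : ℂ) := by
  have hval : ∀ i < 6048, θ (elemN i) = ((v (u3cls i) : ℤ) : ℂ) := by
    intro i hi
    obtain ⟨h1, _, h3⟩ := u3cls_spec hi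
    rw [← h3, ← hv _ h1]
    have h4 := hcf (elemN (u3rep (u3cls i))) (elemN (u3wit i))⁻¹
    rw [inv_inv] at h4
    exact h4
  have hone : θ 1 = ((v 0 : ℤ) : ℂ) := by
    rw [← hv 0 (by norm_num), u3rep_zero, elemN_one]
  have hinner : classInner θ θ = 1 := by
    unfold classInner
    rw [card_HU, sum_HU_eq]
    have h1 : ∀ i ∈ Finset.range 6048, θ (elemN i) * conj (θ (elemN i)) = (((v (u3cls i) ^ 2 : ℤ)) : ℂ) := by
      intro i hi
      rw [hval i (Finset.mem_range.1 hi), map_intCast]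
      push_cast
      ring
    rw [Finset.sum_congr rfl h1, ← Int.cast_sum, sum_range_eq_list_sum, hnorm]
    norm_num
  refine ⟨?_, hone⟩
  rcases sirr_of_norm_one hgen hinner with h | h
  · exact h
  · exfalso
    have h1 := Cfsg.Agent.Lib.Helper78.IsCharacter.apply_one_eq_charDegree
      (Cfsg.Agent.Lib.Helper78.IsIrrCharacter.isCharacter h)
    rw [Pi.neg_apply, hone] at h1
    have h2 : (-(v 0 : ℤ) : ℂ) = ((-(v 0) : ℤ) : ℂ) := by push_cast; ring
    rw [h2] at h1
    have h3 : (-(v 0) : ℤ) = (charDegree (-θ) : ℤ) := by exact_mod_cast h1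
    omega

end Cfsg.Agent.Lib.Helper27.J2
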