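import Cfsg.Agent.Lib.Helper27.J2U3Data

/-!
# The subgroup `U₃(3)` of `J₂`: the Cayley graph tables and their checks
-/

set_option autoImplicit false
set_option maxHeartbeats 4000000

namespace Cfsg.Agent.Lib.Helper27.J2

open Cfsg.Agent.Lib.Helper57

/-- right multiplication by the generator `k` on indices -/
def u3nxt (i k : ℕ) : ℕ :=
  natForce i fun i => natForce k fun k =>
    Nat.mod (Nat.shiftRight u3NXT (Nat.add (Nat.mul 26 i) (Nat.mul 13 k))) 8192

/-- the parent of an index -/
def u3par (i : ℕ) : ℕ := natForce i fun i => Nat.mod (Nat.shiftRight u3PAR (Nat.mul 19 i)) 8192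

/-- the generator leading to an index -/
def u3pg (i : ℕ) : ℕ := natForce i fun i => Nat.mod (Nat.shiftRight u3PAR (Nat.add (Nat.mul 19 i) 13)) 2

/-- the depth of an index -/
def u3dep (i : ℕ) : ℕ := natForce i fun i => Nat.mod (Nat.shiftRight u3PAR (Nat.add (Nat.mul 19 i) 14)) 32

/-- the code of the image of the element with index `i` -/
def u3U (i : ℕ) : ℕ := natForce i fun i => Nat.mod (Nat.shiftRight u3UT (Nat.mul 32 i)) 4294967296

/-- the action of the inverse of the generator `k` on the indices of the lines -/
def gF (k x : ℕ) : ℕ :=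
  if k = 0 then pget (rP 144) x else pget (rP 261) (pget (rP 244) (pget (rP 107) x))

/-- the action of the inverse of the generator `k` on the codes of the elements -/
def mulT (c k : ℕ) : ℕ :=
  natForce c fun c => natForce k fun k =>
    Nat.add (gF k (Nat.mod c 512)) (Nat.add (Nat.mul 512 (gF k (Nat.mod (Nat.shiftRight c 9) 512)))
      (Nat.mul 262144 (gF k (Nat.shiftRight c 18))))

/-- the Cayley graph data, for a given table of codes -/
def u3mkD (big : ℕ) : CayleyData :=
  ⟨6048, 96, fun i => natForce i fun i => Nat.mod (Nat.shiftRight big (Nat.mul 27 i)) 134217728, 2,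
    fun k => k, u3nxt, u3par, u3pg, u3dep⟩

/-- the Cayley graph data -/
def u3D : CayleyData := u3mkD u3BIG

theorem u3D_sorted : u3D.chkSorted = true := by
  have h : natForce u3BIG (fun b => (u3mkD b).chkSorted) = true := by decide +kernel
  rwa [natForce_eq] at h

theorem u3D_one : u3D.chkOne 524448 = true := by
  have h : natForce u3BIG (fun b => (u3mkD b).chkOne 524448) = true := by decide +kernel
  rwa [natForce_eq] at h

theorem u3D_par : u3D.chkPar = true := by
  have h : natForce u3BIG (fun b => (u3mkD b).chkPar) = true := by decide +kernel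
  rwa [natForce_eq] at h

theorem u3D_next : u3D.chkNext mulT = true := by
  have h : natForce u3BIG (fun b => (u3mkD b).chkNext mulT) = true := by decide +kernel
  rwa [natForce_eq] at h

/-- the matrix over the field with nine elements with a given code -/
def u3f9 (c : ℕ) : Matrix (Fin 3) (Fin 3) K9 := fR 9 3 dig9 c

/-- right multiplication by the image of the first generator on row codes -/
def u3vA (v : ℕ) : ℕ := lutGet u3LA 10 v

/-- right multiplication by the image of the second generator on row codes -/
def u3vB (v : ℕ) : ℕ := lutGet u3LB 10 v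

theorem u3U_one : u3U 96 = 43053283 := by decide +kernel

theorem u3U_gen : u3U (u3nxt 96 0) = u3cA ∧ u3U (u3nxt 96 1) = u3cB := by decide +kernel

theorem u3vA_spec : ∀ v < 9 ^ 3, u3vA v < 9 ^ 3 ∧
    rowVec 9 3 dig9 (u3vA v) = Matrix.vecMul (rowVec 9 3 dig9 v) (u3f9 u3cA) := by
  decide +kernel

theorem u3vB_spec : ∀ v < 9 ^ 3, u3vB v < 9 ^ 3 ∧
    rowVec 9 3 dig9 (u3vB v) = Matrix.vecMul (rowVec 9 3 dig9 v) (u3f9 u3cB) := by
  decide +kernel

theorem u3f9_one : u3f9 43053283 = 1 := by decide +kernel

theorem u3det_A : (u3f9 u3cA).det = 1 := by rw [Matrix.det_fin_three]; decide +kernel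

theorem u3det_B : (u3f9 u3cB).det = 1 := by rw [Matrix.det_fin_three]; decide +kernel

theorem u3unitary_A : (u3f9 u3cA).transpose * (u3f9 u3cA).map (· ^ 3) = 1 := by decide +kernel

theorem u3unitary_B : (u3f9 u3cB).transpose * (u3f9 u3cB).map (· ^ 3) = 1 := by decide +kernel

theorem u3chk_hom : (List.range 6048).all (fun i =>
    u3U (u3nxt i 0) == mapRows 9 3 u3vA (u3U i) && u3U (u3nxt i 1) == mapRows 9 3 u3vB (u3U i)) = true := by
  decide +kernel

theorem u3chk_ker : (List.range 6048).all (fun i => i == 96 || u3U i != 43053283) = true := by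
  decide +kernel

theorem u3chk_U_lt : (List.range 6048).all (fun i => decide (u3U i < (9 ^ 3) ^ 3)) = true := by
  decide +kernel

end Cfsg.Agent.Lib.Helper27.J2
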