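import Cfsg.Agent.Lib.Helper27.J2U3ClsData
import Cfsg.Agent.Lib.Helper27.ClassSum

/-!
# The subgroup `HU ≅ U₃(3)` of `J₂`: the conjugacy classes

The fourteen classes, with sums over the conjugates of the representatives.
-/

set_option autoImplicit false
set_option maxHeartbeats 4000000
set_option maxRecDepth 100000

namespace Cfsg.Agent.Lib.Helper27.J2
open Cfsg.Agent.Lib.Helper57

/-- the class of an index -/
def u3cls (i : ℕ) : ℕ := natForce i fun i => Nat.mod (Nat.shiftRight u3CLS (Nat.mul 4 i)) 16

/-- an index conjugating the representative of the class to the given index -/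
def u3wit (i : ℕ) : ℕ := natForce i fun i => Nat.mod (Nat.shiftRight u3WIT (Nat.mul 13 i)) 8192

/-- the representative of a class -/
def u3rep (c : ℕ) : ℕ := u3repL.getD c 0

/-- the size of a class -/
def u3csz (c : ℕ) : ℕ := u3cszL.getD c 0

/-- a list of numbers is strictly increasing -/
def isIncr : List ℕ → Bool
  | [] => true
  | [_] => true
  | a :: b :: t => decide (a < b) && isIncr (b :: t)

theorem isIncr_spec : ∀ l : List ℕ, isIncr l = true → l.Pairwise (· < ·)
  | [], _ => List.Pairwise.nil
  | [_], _ => List.pairwise_singleton _ _
  | a :: b :: t, h => by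
    rw [isIncr, Bool.and_eq_true, decide_eq_true_eq] at h
    have ih := isIncr_spec (b :: t) h.2
    refine List.Pairwise.cons ?_ ih
    intro x hx
    rcases List.mem_cons.1 hx with rfl | hx
    · exact h.1
    · exact lt_trans h.1 (List.rel_of_pairwise_cons ih hx)

/-- the check of the classes and of the conjugating elements -/
def u3clsChk : Bool :=
  (List.range 6048).all fun i => natForce (u3cls i) fun c => natForce (u3wit i) fun w =>
    decide (c < 14) && decide (w < 6048) && (mulIdx w i == mulIdx (u3rep c) w)

/-- the check of the lists of commuting elements -/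
def u3cenChk : Bool :=
  (List.range 14).all fun c => c == 0 || (natForce (u3rep c) fun r =>
    (u3cen c).all (fun z => decide (z < 6048) && (mulIdx z r == mulIdx r z)) && isIncr (u3cen c) &&
      ((u3cen c).length * u3csz c == 6048))

/-- the check of the sizes of the classes -/
def u3cntChk : Bool :=
  (List.range 14).all fun c => (List.range 6048).countP (fun i => u3cls i == c) == u3csz c

theorem u3clsChk_eq : u3clsChk = true := by decide +kernel

theorem u3cenChk_eq : u3cenChk = true := by decide +kernel

theorem u3cntChk_eq : u3cntChk = true := by decide +kernel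

theorem u3rep_lt : ∀ c < 14, u3rep c < 6048 := by decide +kernel

theorem u3rep_zero : u3rep 0 = 96 := by decide +kernel

theorem u3csz_zero : u3csz 0 = 1 := by decide +kernel

end Cfsg.Agent.Lib.Helper27.J2
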