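import Cfsg.Agent.Lib.Helper27.J2U3Cls

/-!
# The subgroup `HU ≅ U₃(3)` of `J₂`: sums over the conjugates of the class representatives
-/

set_option autoImplicit false
set_option maxRecDepth 100000

namespace Cfsg.Agent.Lib.Helper27.J2
open Cfsg.Agent.Lib.Helper57

instance instFiniteHU : Finite HU := Nat.finite_of_card_ne_zero (by rw [card_HU]; norm_num)

noncomputable instance instFintypeHU : Fintype HU :=
  Fintype.ofEquiv (Fin 6048) (Equiv.ofBijective elemOf elemOf_bijective)

theorem fintype_card_HU : Fintype.card HU = 6048 := by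
  rw [← Nat.card_eq_fintype_card, card_HU]

/-- the element with a given index, for all natural numbers -/
noncomputable def elemN (n : ℕ) : HU := if h : n < 6048 then elemOf ⟨n, h⟩ else 1

theorem elemN_of_lt {n : ℕ} (h : n < 6048) : elemN n = elemOf ⟨n, h⟩ := dif_pos h

theorem idxH_elemN {n : ℕ} (h : n < 6048) : (idxH (elemN n)).val = n := by
  rw [elemN_of_lt h, idxH_elemOf]

theorem elemN_idxH (v : HU) : elemN (idxH v).val = v := by
  rw [elemN_of_lt (idxH v).isLt]
  exact elemOf_idxH v

theorem elemN_inj {a b : ℕ} (ha : a < 6048) (hb : b < 6048) (h : elemN a = elemN b) : a = b := by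
  have h1 := congrArg (fun v => (idxH v).val) h
  simp only [idxH_elemN ha, idxH_elemN hb] at h1
  exact h1

theorem mulIdx_lt' {a b : ℕ} (ha : a < 6048) (hb : b < 6048) : mulIdx a b < 6048 :=
  mulIdx_lt ⟨a, ha⟩ ⟨b, hb⟩

theorem elemN_mul {a b : ℕ} (ha : a < 6048) (hb : b < 6048) :
    elemN a * elemN b = elemN (mulIdx a b) := by
  rw [elemN_of_lt ha, elemN_of_lt hb, elemN_of_lt (mulIdx_lt' ha hb)]
  exact elemOf_mul ⟨a, ha⟩ ⟨b, hb⟩

theorem elemN_one : elemN 96 = 1 := by
  apply eq_of_idxH
  rw [idxH_elemN (by norm_num), idxH_one]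

theorem sum_HU_eq (F : HU → ℂ) : ∑ x : HU, F x = ∑ i ∈ Finset.range 6048, F (elemN i) := by
  rw [← (Equiv.ofBijective elemOf elemOf_bijective).sum_comp, ← Fin.sum_univ_eq_sum_range]
  apply Finset.sum_congr rfl
  intro i _
  rw [elemN_of_lt i.isLt]
  rfl

theorem u3cls_spec {i : ℕ} (hi : i < 6048) : u3cls i < 14 ∧ u3wit i < 6048 ∧
    (elemN (u3wit i))⁻¹ * elemN (u3rep (u3cls i)) * elemN (u3wit i) = elemN i := by
  have h := List.all_eq_true.1 u3clsChk_eq i (List.mem_range.2 hi)
  rw [natForce_eq, natForce_eq, Bool.and_eq_true, Bool.and_eq_true, decide_eq_true_eq,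
    decide_eq_true_eq, beq_iff_eq] at h
  obtain ⟨⟨h1, h2⟩, h3⟩ := h
  refine ⟨h1, h2, ?_⟩
  have h4 : elemN (u3wit i) * elemN i = elemN (u3rep (u3cls i)) * elemN (u3wit i) := by
    rw [elemN_mul h2 hi, elemN_mul (u3rep_lt _ h1) h2, h3]
  rw [mul_assoc, ← h4, inv_mul_cancel_left]

theorem u3cen_spec {c : ℕ} (hc : c < 14) (hc0 : c ≠ 0) :
    (∀ z ∈ u3cen c, z < 6048 ∧ elemN z * elemN (u3rep c) = elemN (u3rep c) * elemN z) ∧
      (u3cen c).Nodup ∧ (u3cen c).length * u3csz c = 6048 := by
  have h := List.all_eq_true.1 u3cenChk_eq c (List.mem_range.2 hc)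
  rw [Bool.or_eq_true, beq_iff_eq] at h
  rcases h with h | h
  · exact absurd h hc0
  · rw [natForce_eq, Bool.and_eq_true, Bool.and_eq_true, beq_iff_eq] at h
    obtain ⟨⟨h1, h2⟩, h3⟩ := h
    refine ⟨?_, ?_, h3⟩
    · intro z hz
      have h4 := List.all_eq_true.1 h1 z hz
      rw [Bool.and_eq_true, decide_eq_true_eq, beq_iff_eq] at h4
      refine ⟨h4.1, ?_⟩
      rw [elemN_mul h4.1 (u3rep_lt c hc), elemN_mul (u3rep_lt c hc) h4.1, h4.2]
    · exact (isIncr_spec _ h2).imp (fun h => ne_of_lt h)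

theorem u3cnt_spec {c : ℕ} (hc : c < 14) :
    (List.range 6048).countP (fun i => u3cls i == c) = u3csz c := by
  have h := List.all_eq_true.1 u3cntChk_eq c (List.mem_range.2 hc)
  rwa [beq_iff_eq] at h

/-- the indices of a class -/
def u3clsList (c : ℕ) : List ℕ := (List.range 6048).filter (fun i => u3cls i == c)

theorem u3clsList_nodup (c : ℕ) : (u3clsList c).Nodup := List.Nodup.filter _ List.nodup_range

theorem mem_u3clsList {c i : ℕ} : i ∈ u3clsList c ↔ i < 6048 ∧ u3cls i = c := by
  rw [u3clsList, List.mem_filter, List.mem_range, beq_iff_eq]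

theorem elemN_map_nodup {l : List ℕ} (hl : l.Nodup) (hlt : ∀ i ∈ l, i < 6048) :
    (l.map elemN).Nodup := by
  rw [List.nodup_map_iff_inj_on hl]
  intro a ha b hb h
  exact elemN_inj (hlt a ha) (hlt b hb) h

open Classical in
/-- **sums over the conjugates of the representative of a class** -/
theorem sum_conj_rep {c : ℕ} (hc : c < 14) (f : HU → ℂ) :
    ∑ x : HU, f (x⁻¹ * elemN (u3rep c) * x) =
      ((6048 / u3csz c : ℕ) : ℂ) * ((u3clsList c).map (fun i => f (elemN i))).sum := by
  have hSlt : ∀ i ∈ u3clsList c, i < 6048 := fun i hi => (mem_u3clsList.1 hi).1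
  have hSnd : ((u3clsList c).map elemN).Nodup := elemN_map_nodup (u3clsList_nodup c) hSlt
  have hScard : ((u3clsList c).map elemN).toFinset.card = u3csz c := by
    rw [List.toFinset_card_of_nodup hSnd, List.length_map, u3clsList, ← List.countP_eq_length_filter,
      u3cnt_spec hc]
  have hS : ∀ y ∈ ((u3clsList c).map elemN).toFinset,
      ∃ x : HU, x⁻¹ * elemN (u3rep c) * x = y := by
    intro y hy
    rw [List.mem_toFinset, List.mem_map] at hy
    obtain ⟨i, hi, rfl⟩ := hy
    obtain ⟨hi1, hi2⟩ := mem_u3clsList.1 hi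
    obtain ⟨_, _, h3⟩ := u3cls_spec hi1
    rw [hi2] at h3
    exact ⟨_, h3⟩
  have hsum : ∑ y ∈ ((u3clsList c).map elemN).toFinset, f y =
      ((u3clsList c).map (fun i => f (elemN i))).sum := by
    rw [List.sum_toFinset _ hSnd, List.map_map]
    rfl
  by_cases hc0 : c = 0
  · subst hc0
    have h := ClassSum.sum_conj_eq (elemN (u3rep 0)) ((u3clsList 0).map elemN).toFinset Finset.univ hS
      (by
        intro z _
        rw [u3rep_zero, elemN_one, mul_one, one_mul])
      (by rw [hScard, u3csz_zero, Finset.card_univ, one_mul]) f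
    rw [h, hsum, Finset.card_univ, fintype_card_HU, u3csz_zero]
  · obtain ⟨h1, h2, h3⟩ := u3cen_spec hc hc0
    have hZnd : ((u3cen c).map elemN).Nodup := elemN_map_nodup h2 (fun z hz => (h1 z hz).1)
    have hZcard : ((u3cen c).map elemN).toFinset.card = (u3cen c).length := by
      rw [List.toFinset_card_of_nodup hZnd, List.length_map]
    have h := ClassSum.sum_conj_eq (elemN (u3rep c)) ((u3clsList c).map elemN).toFinset
      ((u3cen c).map elemN).toFinset hS
      (by
        intro z hz
        rw [List.mem_toFinset, List.mem_map] at hz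
        obtain ⟨i, hi, rfl⟩ := hz
        exact (h1 i hi).2)
      (by rw [hScard, hZcard, fintype_card_HU, mul_comm, h3]) f
    rw [h, hsum, hZcard]
    have h4 : (u3cen c).length = 6048 / u3csz c := by
      have hpos : 0 < u3csz c := by
        rcases Nat.eq_zero_or_pos (u3csz c) with h0 | h0
        · rw [h0, mul_zero] at h3
          omega
        · exact h0
      rw [← h3, Nat.mul_div_cancel _ hpos]
    rw [h4]

end Cfsg.Agent.Lib.Helper27.J2
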