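import Cfsg.Agent.Lib.Helper27.J2U3Chars

/-!
# The subgroup `HU ≅ U₃(3)` of `J₂` has irreducible characters of degrees `6`, `14` and `21`
-/

set_option autoImplicit false
set_option maxHeartbeats 4000000
set_option maxRecDepth 100000

namespace Cfsg.Agent.Lib.Helper27.J2
open Cfsg.Agent.Lib.Helper57 Cfsg

/-- the values of the character of degree `6` -/
def u3v6 (c : ℕ) : ℤ := [6, 0, 0, -2, 2, -2, 1, -1, 0, -1, 1, 1, -3, -2].getD c 0

/-- the values of the character of degree `14` -/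
def u3v14 (c : ℕ) : ℤ := [14, 0, 0, 2, 2, 2, 1, 0, -1, 0, -1, -1, 5, -2].getD c 0

/-- the values of the character of degree `21` -/
def u3v21 (c : ℕ) : ℤ := [21, -1, -1, 1, 1, 1, -1, 0, 0, 0, 1, 1, 3, 5].getD c 0

theorem u3chk6 : comb4Chk u3P1 u3P5 u3P6 u3P7 1 (-1) (-1) 1 126 288 336 504 u3v6 = true := by decide +kernel

theorem u3chk14 : comb4Chk u3P2 u3P4 u3P6 u3P7 1 1 (-1) 0 126 224 336 504 u3v14 = true := by decide +kernel

theorem u3chk21 : comb4Chk u3P6 u3P2 u3P3 u3P7 1 (-1) (-1) 0 336 126 189 504 u3v21 = true := by decide +kernel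

theorem u3norm6 : ((List.range 6048).map (fun i => u3v6 (u3cls i) ^ 2)).sum = 6048 := by decide +kernel

theorem u3norm14 : ((List.range 6048).map (fun i => u3v14 (u3cls i) ^ 2)).sum = 6048 := by decide +kernel

theorem u3norm21 : ((List.range 6048).map (fun i => u3v21 (u3cls i) ^ 2)).sum = 6048 := by decide +kernel

/-- the irreducible character of degree `6` -/
noncomputable def theta6 : HU → ℂ := comb4 u3P1_chk u3P5_chk u3P6_chk u3P7_chk 1 (-1) (-1) 1

/-- the irreducible character of degree `14` -/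
noncomputable def theta14 : HU → ℂ := comb4 u3P2_chk u3P4_chk u3P6_chk u3P7_chk 1 1 (-1) 0

/-- the irreducible character of degree `21` -/
noncomputable def theta21 : HU → ℂ := comb4 u3P6_chk u3P2_chk u3P3_chk u3P7_chk 1 (-1) (-1) 0

theorem charDegree_of_apply_one {G : Type*} [Group G] (χ : G → ℂ) (k : ℕ) (h : χ 1 = (k : ℂ)) :
    charDegree χ = k := by
  unfold charDegree
  rw [h]
  simp

theorem theta6_irr : IsIrrCharacter HU theta6 ∧ charDegree theta6 = 6 := by
  obtain ⟨h1, h2⟩ := irr_of_cert (comb4_gen _ _ _ _ _ _ _ _) (comb4_classFun u3P1_chk u3P5_chk u3P6_chk u3P7_chk 1 (-1) (-1) 1)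
    u3v6 (fun c hc => comb4_value _ _ _ _ _ _ _ _ u3chk6 hc) u3norm6 (by decide)
  refine ⟨h1, charDegree_of_apply_one _ 6 ?_⟩
  rw [show theta6 1 = _ from h2]
  norm_num [u3v6]

theorem theta14_irr : IsIrrCharacter HU theta14 ∧ charDegree theta14 = 14 := by
  obtain ⟨h1, h2⟩ := irr_of_cert (comb4_gen _ _ _ _ _ _ _ _) (comb4_classFun u3P2_chk u3P4_chk u3P6_chk u3P7_chk 1 1 (-1) 0)
    u3v14 (fun c hc => comb4_value _ _ _ _ _ _ _ _ u3chk14 hc) u3norm14 (by decide)
  refine ⟨h1, charDegree_of_apply_one _ 14 ?_⟩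
  rw [show theta14 1 = _ from h2]
  norm_num [u3v14]

theorem theta21_irr : IsIrrCharacter HU theta21 ∧ charDegree theta21 = 21 := by
  obtain ⟨h1, h2⟩ := irr_of_cert (comb4_gen _ _ _ _ _ _ _ _) (comb4_classFun u3P6_chk u3P2_chk u3P3_chk u3P7_chk 1 (-1) (-1) 0)
    u3v21 (fun c hc => comb4_value _ _ _ _ _ _ _ _ u3chk21 hc) u3norm21 (by decide)
  refine ⟨h1, charDegree_of_apply_one _ 21 ?_⟩
  rw [show theta21 1 = _ from h2]
  norm_num [u3v21]

end Cfsg.Agent.Lib.Helper27.J2
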