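import Cfsg.Agent.Lib.Helper27.J2U3Orb
import Cfsg.Agent.Lib.Helper27.J2U3Check
import Cfsg.Agent.S0278

/-!
# The subgroup `HU` of index `100` in `J₂` is isomorphic to `PSU₃(3)`

An element of `HU` is coded by the preimages of the lines `160, 0, 2`; the checked tables list 6048 codes of
elements of `HU`, which has order `6048`, so that they are all the elements; the tabulated map to `3 × 3`
matrices over the field with nine elements is an injective homomorphism with unitary values of determinant one.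
-/

set_option autoImplicit false
set_option maxRecDepth 4000

namespace Cfsg.Agent.Lib.Helper27.J2
open Quaternion Cfsg.Spor Cfsg.Agent.Lib.Helper57
open scoped Pointwise

theorem u3D_valid : u3D.Valid mulT 524448 := ⟨u3D_sorted, u3D_one, u3D_next, u3D_par⟩

attribute [local irreducible] u3nxt u3U u3par u3pg u3dep u3vA u3vB u3BIG u3NXT u3PAR u3UT u3LA u3LB

theorem u3D_n : u3D.n = 6048 := rfl

/-! ### the generators and the codes of the elements -/

/-- the two generators -/
noncomputable def sgen (k : ℕ) : J2 := if k = 0 then tauJ 144 else tauJ 107 * tauJ 244 * tauJ 261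

theorem actsJ_sgen_inv (k : ℕ) : ActsJ (sgen k)⁻¹ (gF k) := by
  by_cases hk : k = 0
  · intro i
    rw [sgen, if_pos hk, tauJ_inv, actsJ_tauJ (by norm_num) i, gF, if_pos hk]
  · intro i
    rw [sgen, if_neg hk, mul_inv_rev, mul_inv_rev, tauJ_inv, tauJ_inv, tauJ_inv,
      ((actsJ_tauJ (j := 261) (by norm_num)).mul
        ((actsJ_tauJ (j := 244) (by norm_num)).mul (actsJ_tauJ (j := 107) (by norm_num)))) i,
      gF, if_neg hk]
    rfl

theorem sgen_mem_HU (k : ℕ) : sgen k ∈ HU := by
  by_cases hk : k = 0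
  · rw [sgen, if_pos hk]
    exact tauJ_mem_HU (by decide)
  · rw [sgen, if_neg hk]
    exact mul_mem (mul_mem (tauJ_mem_HU (by decide)) (tauJ_mem_HU (by decide))) (tauJ_mem_HU (by decide))

/-- the code of an element: the preimages of the lines `160, 0, 2` -/
noncomputable def codeJ (u : J2) : ℕ :=
  (rhoF u⁻¹ ⟨160, by norm_num⟩).val + 512 * (rhoF u⁻¹ ⟨0, by norm_num⟩).val +
    262144 * (rhoF u⁻¹ ⟨2, by norm_num⟩).val

theorem codeJ_one : codeJ 1 = 524448 := by
  rw [codeJ, inv_one, map_one]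
  rfl

theorem mulT_pack {x y z : ℕ} (hx : x < 512) (hy : y < 512) (hz : z < 512) (k : ℕ) :
    mulT (x + 512 * y + 262144 * z) k = gF k x + 512 * gF k y + 262144 * gF k z := by
  have h1 : (x + 512 * y + 262144 * z) % 512 = x := by omega
  have h2 : ((x + 512 * y + 262144 * z) >>> 9) % 512 = y := by
    rw [Nat.shiftRight_eq_div_pow]; omega
  have h3 : (x + 512 * y + 262144 * z) >>> 18 = z := by
    rw [Nat.shiftRight_eq_div_pow]; omega
  rw [mulT, natForce_eq, natForce_eq]
  show gF k ((x + 512 * y + 262144 * z) % 512) +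
    (512 * gF k (((x + 512 * y + 262144 * z) >>> 9) % 512) +
      262144 * gF k ((x + 512 * y + 262144 * z) >>> 18)) = _
  rw [h1, h2, h3, Nat.add_assoc]

theorem codeJ_mul_sgen (u : J2) (k : ℕ) : codeJ (u * sgen k) = mulT (codeJ u) k := by
  have key : ∀ i : Fin 315, (rhoF (u * sgen k)⁻¹ i).val = gF k (rhoF u⁻¹ i).val := by
    intro i
    rw [mul_inv_rev, map_mul, Equiv.Perm.mul_apply, actsJ_sgen_inv k]
  rw [codeJ, key, key, key, codeJ,
    mulT_pack (lt_trans (Fin.isLt _) (by norm_num)) (lt_trans (Fin.isLt _) (by norm_num))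
      (lt_trans (Fin.isLt _) (by norm_num))]

/-- every code of the table is the code of an element of the subgroup -/
theorem exists_code : ∀ i < 6048, ∃ u ∈ HU, codeJ u = u3D.T i := by
  have key : ∀ d : ℕ, ∀ i < 6048, u3D.dep i = d → ∃ u ∈ HU, codeJ u = u3D.T i := by
    intro d
    induction d using Nat.strong_induction_on with
    | _ d ih =>
      intro i hi hd
      rcases u3D_valid.par_spec i hi with h1 | ⟨h1, h2, h3, h4⟩
      · exact ⟨1, one_mem _, by rw [h1, u3D_valid.T_i0, codeJ_one]⟩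
      · obtain ⟨u, hu, hc⟩ := ih _ (hd ▸ h4) (u3D.par i) h1 rfl
        obtain ⟨_, h6⟩ := u3D_valid.nxt_spec (u3D.par i) (u3D.pg i) h1 h2
        refine ⟨u * sgen (u3D.pg i), mul_mem hu (sgen_mem_HU _), ?_⟩
        have h7 : u3D.T i = u3D.T (u3D.nxt (u3D.par i) (u3D.pg i)) := by rw [h3]
        rw [codeJ_mul_sgen, hc, h7]
        exact h6
  intro i hi
  exact key _ i hi rfl

/-- the element with a given index -/
noncomputable def elemOf (i : Fin 6048) : HU :=
  ⟨Classical.choose (exists_code i i.isLt), (Classical.choose_spec (exists_code i i.isLt)).1⟩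

theorem codeJ_elemOf (i : Fin 6048) : codeJ (elemOf i : J2) = u3D.T i :=
  (Classical.choose_spec (exists_code i i.isLt)).2

theorem elemOf_bijective : Function.Bijective elemOf := by
  have hinj : Function.Injective elemOf := by
    intro i j h
    have h1 : codeJ (elemOf i : J2) = codeJ (elemOf j : J2) := by rw [h]
    rw [codeJ_elemOf, codeJ_elemOf] at h1
    exact Fin.ext (u3D_valid.T_inj i j i.isLt j.isLt h1)
  have hfin : Finite HU := Nat.finite_of_card_ne_zero (by rw [card_HU]; norm_num)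
  exact hinj.bijective_of_nat_card_le (by rw [card_HU, Nat.card_eq_fintype_card, Fintype.card_fin])

/-- the index of an element -/
noncomputable def idxH (v : HU) : Fin 6048 := (Equiv.ofBijective elemOf elemOf_bijective).symm v

theorem elemOf_idxH (v : HU) : elemOf (idxH v) = v :=
  (Equiv.ofBijective elemOf elemOf_bijective).apply_symm_apply v

theorem idxH_elemOf (i : Fin 6048) : idxH (elemOf i) = i :=
  (Equiv.ofBijective elemOf elemOf_bijective).symm_apply_apply i

theorem codeJ_eq (v : HU) : codeJ (v : J2) = u3D.T (idxH v) := by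
  rw [← codeJ_elemOf, elemOf_idxH]

theorem idxH_eq {v : HU} {i : ℕ} (hi : i < 6048) (h : codeJ (v : J2) = u3D.T i) : (idxH v).val = i :=
  u3D_valid.T_inj _ _ (idxH v).isLt hi ((codeJ_eq v).symm.trans h)

theorem eq_of_idxH {v w : HU} (h : (idxH v).val = (idxH w).val) : v = w := by
  rw [← elemOf_idxH v, ← elemOf_idxH w, Fin.ext h]

/-- the generators, in the subgroup -/
noncomputable def sgenH (k : ℕ) : HU := ⟨sgen k, sgen_mem_HU k⟩

theorem idxH_one : (idxH 1).val = 96 :=
  idxH_eq (by norm_num) (by rw [Subgroup.coe_one, codeJ_one]; exact u3D_valid.T_i0.symm)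

theorem idxH_mul_sgenH (v : HU) {k : ℕ} (hk : k < 2) :
    (idxH (v * sgenH k)).val = u3nxt (idxH v).val k := by
  obtain ⟨h1, h2⟩ := u3D_valid.nxt_spec (idxH v).val k (idxH v).isLt hk
  apply idxH_eq h1
  rw [Subgroup.coe_mul]
  show codeJ ((v : J2) * sgen k) = _
  rw [codeJ_mul_sgen, codeJ_eq]
  exact h2

/-! ### the homomorphism to matrices -/

/-- the generating set -/
def gensH : Set HU := {s | s = sgenH 0 ∨ s = sgenH 1}

theorem closure_gensH : Submonoid.closure gensH = ⊤ := by
  apply submonoid_closure_eq_top_of_dep gensH (fun v => u3D.dep (idxH v).val)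
  intro v
  rcases u3D_valid.par_spec (idxH v).val (idxH v).isLt with h1 | ⟨h1, h2, h3, h4⟩
  · left
    apply eq_of_idxH
    rw [h1, idxH_one]
    rfl
  · right
    have hk : u3D.pg (idxH v).val = 0 ∨ u3D.pg (idxH v).val = 1 := by
      have : u3D.pg (idxH v).val < 2 := h2
      omega
    refine ⟨sgenH (u3D.pg (idxH v).val), ?_, ?_⟩
    · rcases hk with hk | hk
      · left; rw [hk]
      · right; rw [hk]
    · have hw : elemOf ⟨u3D.par (idxH v).val, h1⟩ * sgenH (u3D.pg (idxH v).val) = v := by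
        apply eq_of_idxH
        rw [idxH_mul_sgenH _ h2, idxH_elemOf]
        exact h3
      have hw' : v * (sgenH (u3D.pg (idxH v).val))⁻¹ = elemOf ⟨u3D.par (idxH v).val, h1⟩ :=
        mul_inv_eq_of_eq_mul hw.symm
      show u3D.dep (idxH (v * (sgenH (u3D.pg (idxH v).val))⁻¹)).val < u3D.dep (idxH v).val
      rw [hw', idxH_elemOf]
      exact h4

/-- the map to matrices over the field with nine elements -/
noncomputable def phiH0 (v : HU) : Matrix (Fin 3) (Fin 3) K9 := u3f9 (u3U (idxH v).val)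

theorem phiH0_one : phiH0 1 = 1 := by
  rw [phiH0, idxH_one, u3U_one, u3f9_one]

theorem u3f9_mapRows_vA (c : ℕ) : u3f9 (mapRows 9 3 u3vA c) = u3f9 c * u3f9 u3cA :=
  fR_mapRows 9 3 dig9 (by norm_num) (u3f9 u3cA) u3vA u3vA_spec c

theorem u3f9_mapRows_vB (c : ℕ) : u3f9 (mapRows 9 3 u3vB c) = u3f9 c * u3f9 u3cB :=
  fR_mapRows 9 3 dig9 (by norm_num) (u3f9 u3cB) u3vB u3vB_spec c

theorem u3chk_hom_spec (i : ℕ) (hi : i < 6048) :
    u3U (u3nxt i 0) = mapRows 9 3 u3vA (u3U i) ∧ u3U (u3nxt i 1) = mapRows 9 3 u3vB (u3U i) := by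
  have h := List.all_eq_true.1 u3chk_hom i (List.mem_range.2 hi)
  rw [Bool.and_eq_true, beq_iff_eq, beq_iff_eq] at h
  exact h

theorem phiH0_mul_sgenH (v : HU) :
    phiH0 (v * sgenH 0) = phiH0 v * u3f9 u3cA ∧ phiH0 (v * sgenH 1) = phiH0 v * u3f9 u3cB := by
  obtain ⟨h0, h1⟩ := u3chk_hom_spec (idxH v).val (idxH v).isLt
  constructor
  · rw [phiH0, idxH_mul_sgenH v (by norm_num), h0, u3f9_mapRows_vA]
    rfl
  · rw [phiH0, idxH_mul_sgenH v (by norm_num), h1, u3f9_mapRows_vB]
    rfl

theorem phiH0_sgenH : phiH0 (sgenH 0) = u3f9 u3cA ∧ phiH0 (sgenH 1) = u3f9 u3cB := by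
  have h := phiH0_mul_sgenH 1
  rw [one_mul, one_mul, phiH0_one, one_mul, one_mul] at h
  exact h

theorem phiH0_mul_gen (g s : HU) (hs : s ∈ gensH) : phiH0 (g * s) = phiH0 g * phiH0 s := by
  rcases hs with rfl | rfl
  · rw [(phiH0_mul_sgenH g).1, phiH0_sgenH.1]
  · rw [(phiH0_mul_sgenH g).2, phiH0_sgenH.2]

/-- the homomorphism to matrices over the field with nine elements -/
noncomputable def phiH : HU →* Matrix (Fin 3) (Fin 3) K9 :=
  homOfClosure phiH0 gensH closure_gensH phiH0_one phiH0_mul_gen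

theorem phiH_apply (v : HU) : phiH v = phiH0 v := rfl

theorem phiH_eq_one (v : HU) (hv : phiH v = 1) : v = 1 := by
  rw [phiH_apply, phiH0, ← u3f9_one] at hv
  have hlt := List.all_eq_true.1 u3chk_U_lt (idxH v).val (List.mem_range.2 (idxH v).isLt)
  rw [decide_eq_true_eq] at hlt
  have hU : u3U (idxH v).val = 43053283 :=
    fR_injOn 9 3 dig9 (by norm_num) dig9_injOn _ _ hlt (by norm_num) hv
  have hk := List.all_eq_true.1 u3chk_ker (idxH v).val (List.mem_range.2 (idxH v).isLt)
  rw [Bool.or_eq_true, beq_iff_eq, bne_iff_ne] at hk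
  rcases hk with hk | hk
  · apply eq_of_idxH
    rw [hk, idxH_one]
  · exact absurd hU hk

/-- **the subgroup of index `100` of `J₂` is isomorphic to `PSU₃(3)`** -/
theorem HU_equiv_PSU : Nonempty (HU ≃* Cfsg.PSU 3 K9 3) := by
  obtain ⟨Φ, hΦ⟩ := exists_hom_SU33 (F := K9) gensH closure_gensH phiH
    (by
      intro s hs
      rcases hs with rfl | rfl
      · rw [phiH_apply, phiH0_sgenH.1]; exact u3det_A
      · rw [phiH_apply, phiH0_sgenH.2]; exact u3det_B)
    (by
      intro s hs
      rcases hs with rfl | rfl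
      · rw [phiH_apply, phiH0_sgenH.1]; exact u3unitary_A
      · rw [phiH_apply, phiH0_sgenH.2]; exact u3unitary_B)
    card_K9
  have hinj : Function.Injective Φ := by
    rw [injective_iff_map_eq_one]
    intro u hu
    exact phiH_eq_one u ((hΦ u).1 hu)
  have hcard : Nat.card (Cfsg.SU 3 K9 3) = 6048 := by
    have h := Cfsg.Agent.S0278.result (F := K9) (q := 3) (by rw [card_K9]; norm_num) 3 (by norm_num)
    have h3 : (3 : ℕ) ^ (3 * (3 - 1) / 2) * ∏ i ∈ Finset.range 3,
        (if Even i then 3 ^ (i + 1) + 1 else 3 ^ (i + 1) - 1) = 24192 := by decide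
    rw [h3] at h
    omega
  have : Finite (Cfsg.SU 3 K9 3) := inferInstance
  have hbij : Function.Bijective Φ :=
    hinj.bijective_of_nat_card_le (by rw [hcard, card_HU])
  have := charP_three_of_card_nine card_K9
  exact ⟨(MulEquiv.ofBijective Φ hbij).trans (quotientCenterEquivOfEqBot center_SU33_eq_bot).symm⟩

end Cfsg.Agent.Lib.Helper27.J2
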