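import Cfsg.Agent.Lib.Helper27.J2U3Iso

/-!
# The subgroup `HU` of index `100` in `J₂` is isomorphic to `PSU₃(3)` over any field with nine elements
-/

set_option autoImplicit false

namespace Cfsg.Agent.Lib.Helper27.J2
open Cfsg.Agent.Lib.Helper57

/-- **the subgroup of index `100` of `J₂` is isomorphic to `PSU₃(3)`, over any field with nine elements** -/
theorem HU_equiv_PSU_of_card {F : Type*} [Field F] [Fintype F] (hF : Fintype.card F = 9) :
    Nonempty (HU ≃* Cfsg.PSU 3 F 3) := by
  obtain ⟨Φ, hΦ⟩ := exists_hom_SU33 (F := F) gensH closure_gensH phiH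
    (by
      intro s hs
      rcases hs with rfl | rfl
      · rw [phiH_apply, phiH0_sgenH.1]; exact u3det_A
      · rw [phiH_apply, phiH0_sgenH.2]; exact u3det_B)
    (by
      intro s hs
      rcases hs with rfl | rfl
      · rw [phiH_apply, phiH0_sgenH.1]; exact u3unitary_A
      · rw [phiH_apply, phiH0_sgenH.2]; exact u3unitary_B)
    hF
  have hinj : Function.Injective Φ := by
    rw [injective_iff_map_eq_one]
    intro u hu
    exact phiH_eq_one u ((hΦ u).1 hu)
  have hcard : Nat.card (Cfsg.SU 3 F 3) = 6048 := by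
    have h := Cfsg.Agent.S0278.result (F := F) (q := 3) (by rw [hF]; norm_num) 3 (by norm_num)
    have h3 : (3 : ℕ) ^ (3 * (3 - 1) / 2) * ∏ i ∈ Finset.range 3,
        (if Even i then 3 ^ (i + 1) + 1 else 3 ^ (i + 1) - 1) = 24192 := by decide
    rw [h3] at h
    omega
  have : Finite (Cfsg.SU 3 F 3) := inferInstance
  have hbij : Function.Bijective Φ :=
    hinj.bijective_of_nat_card_le (by rw [hcard, card_HU])
  have := charP_three_of_card_nine hF
  exact ⟨(MulEquiv.ofBijective Φ hbij).trans (quotientCenterEquivOfEqBot center_SU33_eq_bot).symm⟩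

end Cfsg.Agent.Lib.Helper27.J2
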