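import Cfsg.Agent.Lib.Helper27.J2U3Iso

/-!
# The subgroup `HU ≅ U₃(3)` of `J₂`: products on indices

The product of two elements with given indices is found by walking from the first along the word of the second
in the spanning tree of the Cayley graph.
-/

set_option autoImplicit false
set_option maxRecDepth 4000

namespace Cfsg.Agent.Lib.Helper27.J2
open Cfsg.Agent.Lib.Helper57

/-- the product on indices, with fuel -/
def mulF : ℕ → ℕ → ℕ → ℕ
  | 0, a, _ => a
  | f + 1, a, b => natForce b fun b =>
      if b = 96 then a else natForce (mulF f a (u3par b)) fun c => u3nxt c (u3pg b)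

/-- the product on indices -/
def mulIdx (a b : ℕ) : ℕ := mulF 32 a b

theorem mulF_succ (f a b : ℕ) :
    mulF (f + 1) a b = if b = 96 then a else u3nxt (mulF f a (u3par b)) (u3pg b) := by
  rw [mulF, natForce_eq]
  split_ifs
  · rfl
  · rw [natForce_eq]

theorem u3dep_lt (i : ℕ) : u3dep i < 32 := by
  rw [u3dep, natForce_eq]
  exact Nat.mod_lt _ (by norm_num)

theorem idxH_mul_of_dep (v : HU) : ∀ f : ℕ, ∀ w : HU, u3dep (idxH w).val < f →
    (idxH (v * w)).val = mulF f (idxH v).val (idxH w).val := by
  intro f
  induction f with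
  | zero => intro w hw; omega
  | succ f ih =>
    intro w hw
    rw [mulF_succ]
    rcases u3D_valid.par_spec (idxH w).val (idxH w).isLt with h1 | ⟨h1, h2, h3, h4⟩
    · have h96 : (idxH w).val = 96 := h1
      rw [if_pos h96]
      have hw1 : w = 1 := by
        apply eq_of_idxH
        rw [h96, idxH_one]
      rw [hw1, mul_one]
    · have hne : (idxH w).val ≠ 96 := by
        intro h96
        have hpar : u3D.par (idxH w).val < 6048 := h1
        have hw1 : w = 1 := by
          apply eq_of_idxH
          rw [h96, idxH_one]
        -- the identity has depth zero below its parent: impossible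
        have h5 : u3D.dep (u3D.par (idxH w).val) < u3D.dep (idxH w).val := h4
        have h6 : u3D.dep (idxH w).val = 0 := by
          rw [h96]
          decide +kernel
        omega
      rw [if_neg hne]
      have hk : u3D.pg (idxH w).val < 2 := h2
      have hw' : elemOf ⟨u3D.par (idxH w).val, h1⟩ * sgenH (u3D.pg (idxH w).val) = w := by
        apply eq_of_idxH
        rw [idxH_mul_sgenH _ hk, idxH_elemOf]
        exact h3
      have hdep : u3dep (idxH (elemOf ⟨u3D.par (idxH w).val, h1⟩)).val < f := by
        rw [idxH_elemOf]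
        have h5 : u3D.dep (u3D.par (idxH w).val) < u3D.dep (idxH w).val := h4
        have h7 : u3D.dep (idxH w).val < f + 1 := hw
        exact lt_of_lt_of_le h5 (Nat.lt_succ_iff.1 h7)
      have h8 := ih (elemOf ⟨u3D.par (idxH w).val, h1⟩) hdep
      rw [idxH_elemOf] at h8
      have h9 : v * w = (v * elemOf ⟨u3D.par (idxH w).val, h1⟩) * sgenH (u3D.pg (idxH w).val) := by
        rw [mul_assoc, hw']
      rw [h9, idxH_mul_sgenH _ hk, h8]
      rfl

/-- the index of a product -/
theorem idxH_mul (v w : HU) : (idxH (v * w)).val = mulIdx (idxH v).val (idxH w).val :=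
  idxH_mul_of_dep v 32 w (u3dep_lt _)

theorem mulIdx_lt (a b : Fin 6048) : mulIdx a.val b.val < 6048 := by
  have h := idxH_mul (elemOf a) (elemOf b)
  rw [idxH_elemOf, idxH_elemOf] at h
  rw [← h]
  exact (idxH _).isLt

/-- the product of the elements with given indices -/
theorem elemOf_mul (a b : Fin 6048) :
    elemOf a * elemOf b = elemOf ⟨mulIdx a.val b.val, mulIdx_lt a b⟩ := by
  apply eq_of_idxH
  rw [idxH_mul, idxH_elemOf, idxH_elemOf, idxH_elemOf]

end Cfsg.Agent.Lib.Helper27.J2
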