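import Cfsg.Agent.Lib.Helper27.J2U3Act

/-!
# The orbits of lengths `36` and `63` of the subgroup `HU` on its cosets in `J₂`
-/

set_option autoImplicit false
set_option maxRecDepth 4000

namespace Cfsg.Agent.Lib.Helper27.J2
open Quaternion Cfsg.Spor
open scoped Pointwise

/-! ### the reflections of the subgroup -/

theorem omL_ok : (omL.all fun j => decide (j < 315) && (imgMask (pget (rP j)) omMask == omMask)) = true := by
  decide +kernel

theorem omL_lt {j : ℕ} (hj : j ∈ omL) : j < 315 := by
  have h := List.all_eq_true.1 omL_ok j hj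
  rw [Bool.and_eq_true, decide_eq_true_eq] at h
  exact h.1

theorem tauJ_mem_HU {j : ℕ} (hj : j ∈ omL) : tauJ j ∈ HU := by
  have h := List.all_eq_true.1 omL_ok j hj
  rw [Bool.and_eq_true, decide_eq_true_eq, beq_iff_eq] at h
  rw [mem_HU, omF, smul_toFSm (actsJ_tauJ h.1), h.2]

/-! ### orbits of the subgroup on the images of the set of 63 lines -/

/-- the check of a spanning tree over the reflections of the subgroup -/
def subTreeOK (tree : List (ℕ × ℕ × ℕ)) : Bool :=
  (List.range tree.length).all fun i => i == 0 ||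
    (decide ((tree.getD i (0, 0, 0)).2.1 < i) && omL.contains (tree.getD i (0, 0, 0)).2.2 &&
      ((tree.getD i (0, 0, 0)).1 ==
        imgMask (pget (rP (tree.getD i (0, 0, 0)).2.2)) (tree.getD (tree.getD i (0, 0, 0)).2.1 (0, 0, 0)).1))

theorem subTree_reach {tree : List (ℕ × ℕ × ℕ)} (h : subTreeOK tree = true) :
    ∀ i < tree.length, ∃ v ∈ HU, toFSm (tree.getD i (0, 0, 0)).1 = v • toFSm (tree.getD 0 (0, 0, 0)).1 := by
  intro i
  induction i using Nat.strong_induction_on with
  | _ i ih =>
    intro hi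
    have h' := List.all_eq_true.1 h i (List.mem_range.2 hi)
    rw [Bool.or_eq_true] at h'
    rcases h' with h' | h'
    · rw [beq_iff_eq] at h'
      subst h'
      exact ⟨1, one_mem _, (one_smul _ _).symm⟩
    · simp only [Bool.and_eq_true, decide_eq_true_eq, beq_iff_eq, List.contains_iff_mem] at h'
      obtain ⟨⟨h1, h2⟩, h3⟩ := h'
      obtain ⟨v, hv, hv'⟩ := ih _ h1 (by omega)
      refine ⟨tauJ _ * v, mul_mem (tauJ_mem_HU h2) hv, ?_⟩
      rw [h3, ← smul_toFSm (actsJ_tauJ (omL_lt h2)), hv', mul_smul]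

/-- the number of lines common to the set of 63 lines and a set given by a bit mask -/
def interNum (m : ℕ) : ℕ := (bitsOf (omMask &&& m)).length

theorem card_inter_omF (m : ℕ) : (omF ∩ toFSm m).card = interNum m := by
  rw [omF, toFSm_inter, card_toFSm, interNum]

theorem card_inter_smul {v : J2} (hv : v ∈ HU) (S : Finset (Fin 315)) :
    (omF ∩ v • S).card = (omF ∩ S).card := by
  have h := mem_HU.1 hv
  rw [smul_fs_def] at h ⊢
  have h1 : omF ∩ S.image (rhoF v) = (omF ∩ S).image (rhoF v) := by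
    rw [Finset.image_inter _ _ (rhoF v).injective, h]
  rw [h1, Finset.card_image_of_injective _ (rhoF v).injective]

theorem smul_subgroup_coset (v : HU) (u : J2) :
    v • (QuotientGroup.mk u : J2 ⧸ HU) = QuotientGroup.mk ((v : J2) * u) := rfl

/-- the length of the orbit of the subgroup on a coset -/
theorem ncard_orbit_HU (u₁ : J2) (tree : List (ℕ × ℕ × ℕ)) (k : ℕ)
    (hroot : u₁ • omF = toFSm (tree.getD 0 (0, 0, 0)).1) (hpos : 0 < tree.length)
    (htree : subTreeOK tree = true)
    (hlt : ((tree.map fun t => t.1).all fun m => decide (m < 2 ^ 315)) = true)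
    (hnd : (tree.map fun t => t.1).Nodup)
    (hk : interNum (tree.getD 0 (0, 0, 0)).1 = k)
    (hfilter : (orbMasks.all fun m => interNum m != k || (tree.map fun t => t.1).contains m) = true) :
    (MulAction.orbit ↥HU (QuotientGroup.mk u₁ : J2 ⧸ HU)).ncard = tree.length := by
  have hψ : Function.Injective (MulAction.ofQuotientStabilizer J2 omF) :=
    MulAction.injective_ofQuotientStabilizer J2 omF
  have himg : (MulAction.ofQuotientStabilizer J2 omF) '' MulAction.orbit ↥HU (QuotientGroup.mk u₁ : J2 ⧸ HU) =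
      (((tree.map fun t => t.1).map toFSm).toFinset : Set (Finset (Fin 315))) := by
    ext S
    rw [Finset.mem_coe, List.mem_toFinset, List.mem_map]
    constructor
    · rintro ⟨c, ⟨v, rfl⟩, rfl⟩
      have h1 : MulAction.ofQuotientStabilizer J2 omF (v • (QuotientGroup.mk u₁ : J2 ⧸ HU)) =
          (v : J2) • toFSm (tree.getD 0 (0, 0, 0)).1 := by
        rw [smul_subgroup_coset]
        change ((v : J2) * u₁) • omF = _
        rw [mul_smul, hroot]
      show ∃ a, a ∈ List.map (fun t => t.1) tree ∧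
        toFSm a = MulAction.ofQuotientStabilizer J2 omF (v • (QuotientGroup.mk u₁ : J2 ⧸ HU))
      rw [h1]
      obtain ⟨m', hm', h2⟩ := orb_closed ((v : J2) * u₁) omMask (by
        rw [← orbMasks_ok.2.2.2]; exact orbMasks_getD_mem (by norm_num))
      have h3 : (v : J2) • toFSm (tree.getD 0 (0, 0, 0)).1 = toFSm m' := by
        rw [← h2, mul_smul, ← hroot]; rfl
      refine ⟨m', ?_, h3.symm⟩
      have h4 : interNum m' = k := by
        rw [← card_inter_omF, ← h3, card_inter_smul v.2, card_inter_omF, hk]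
      have h5 := List.all_eq_true.1 hfilter m' hm'
      rw [Bool.or_eq_true, bne_iff_ne, List.contains_iff_mem] at h5
      rcases h5 with h5 | h5
      · exact absurd h4 h5
      · exact h5
    · rintro ⟨m, hm, rfl⟩
      obtain ⟨i, hi, rfl⟩ := List.getElem_of_mem hm
      rw [List.length_map] at hi
      obtain ⟨v, hv, hv'⟩ := subTree_reach htree i hi
      refine ⟨(⟨v, hv⟩ : HU) • (QuotientGroup.mk u₁ : J2 ⧸ HU), ⟨⟨v, hv⟩, rfl⟩, ?_⟩
      rw [smul_subgroup_coset]
      change (v * u₁) • omF = _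
      rw [mul_smul, hroot, ← hv', List.getElem_map, List.getD_eq_getElem _ _ hi]
  have h6 := Set.ncard_image_of_injective (MulAction.orbit ↥HU (QuotientGroup.mk u₁ : J2 ⧸ HU)) hψ
  change ((MulAction.ofQuotientStabilizer J2 omF) ''
    MulAction.orbit ↥HU (QuotientGroup.mk u₁ : J2 ⧸ HU)).ncard = _ at h6
  rw [← h6, himg, Set.ncard_coe_finset, card_map_toFSm hlt hnd, List.length_map]

theorem subTreeA_ok : subTreeOK subTreeA = true := by decide +kernel

theorem subTreeB_ok : subTreeOK subTreeB = true := by decide +kernel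

theorem subTreeA_data : subTreeA.length = 36 ∧
    ((subTreeA.map fun t => t.1).all fun m => decide (m < 2 ^ 315)) = true ∧
    (subTreeA.map fun t => t.1).Nodup ∧ interNum (subTreeA.getD 0 (0, 0, 0)).1 = 21 ∧
    (orbMasks.all fun m => interNum m != 21 || (subTreeA.map fun t => t.1).contains m) = true ∧
    imgMask (pget (rP 8)) (imgMask (pget (rP 1)) omMask) = (subTreeA.getD 0 (0, 0, 0)).1 := by
  decide +kernel

theorem subTreeB_data : subTreeB.length = 63 ∧
    ((subTreeB.map fun t => t.1).all fun m => decide (m < 2 ^ 315)) = true ∧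
    (subTreeB.map fun t => t.1).Nodup ∧ interNum (subTreeB.getD 0 (0, 0, 0)).1 = 7 ∧
    (orbMasks.all fun m => interNum m != 7 || (subTreeB.map fun t => t.1).contains m) = true ∧
    imgMask (pget (rP 1)) omMask = (subTreeB.getD 0 (0, 0, 0)).1 := by
  decide +kernel

/-- the orbit of length `36` -/
theorem ncard_orbit_A :
    (MulAction.orbit ↥HU (QuotientGroup.mk (tauJ 8 * tauJ 1) : J2 ⧸ HU)).ncard = 36 := by
  have h := subTreeA_data
  rw [← h.1]
  refine ncard_orbit_HU _ subTreeA 21 ?_ (by rw [h.1]; norm_num) subTreeA_ok h.2.1 h.2.2.1 h.2.2.2.1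
    h.2.2.2.2.1
  rw [mul_smul, omF, smul_toFSm (actsJ_tauJ (by norm_num)), smul_toFSm (actsJ_tauJ (by norm_num)),
    h.2.2.2.2.2]

/-- the orbit of length `63` -/
theorem ncard_orbit_B :
    (MulAction.orbit ↥HU (QuotientGroup.mk (tauJ 1) : J2 ⧸ HU)).ncard = 63 := by
  have h := subTreeB_data
  rw [← h.1]
  refine ncard_orbit_HU _ subTreeB 7 ?_ (by rw [h.1]; norm_num) subTreeB_ok h.2.1 h.2.2.1 h.2.2.2.1
    h.2.2.2.2.1
  rw [omF, smul_toFSm (actsJ_tauJ (by norm_num)), h.2.2.2.2.2]

end Cfsg.Agent.Lib.Helper27.J2
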