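import Cfsg.Agent.Lib.Helper27.J2U3ClsThm
import Cfsg.Agent.Lib.Helper77.Linear
import Cfsg.Agent.Lib.Helper75.Clifford

/-!
# The subgroup `HU ≅ U₃(3)` of `J₂`: subgroups with a linear character, and the induced characters

A subgroup is given by the sorted list of the indices of its elements, a linear character by a table of
exponents of the sixth root of unity.  The values of the induced character at the class representatives are
Eisenstein integers found from the table.
-/

set_option autoImplicit false
set_option maxRecDepth 100000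

namespace Cfsg.Agent.Lib.Helper27.J2
open Cfsg.Agent.Lib.Helper57 Cfsg

/-! ### the sixth root of unity -/

/-- the sixth root of unity -/
noncomputable def zeta6 : ℂ := ⟨1 / 2, Real.sqrt 3 / 2⟩

theorem zeta6_sq : zeta6 ^ 2 = zeta6 - 1 := by
  have h3 : Real.sqrt 3 * Real.sqrt 3 = 3 := Real.mul_self_sqrt (by norm_num)
  apply Complex.ext
  · simp only [zeta6, pow_two, Complex.mul_re, Complex.sub_re, Complex.one_re]
    nlinarith
  · simp only [zeta6, pow_two, Complex.mul_im, Complex.sub_im, Complex.one_im]
    ring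

theorem zeta6_pow_three : zeta6 ^ 3 = -1 := by
  have h : zeta6 ^ 3 = zeta6 ^ 2 * zeta6 := by ring
  rw [h, zeta6_sq]
  have h2 : (zeta6 - 1) * zeta6 = zeta6 ^ 2 - zeta6 := by ring
  rw [h2, zeta6_sq]
  ring

theorem zeta6_pow_six : zeta6 ^ 6 = 1 := by
  have h : zeta6 ^ 6 = (zeta6 ^ 3) ^ 2 := by ring
  rw [h, zeta6_pow_three]
  norm_num

/-- the sixth root of unity, as a unit -/
noncomputable def zeta6U : ℂˣ := Units.ofPowEqOne zeta6 6 zeta6_pow_six (by norm_num)

theorem zeta6U_val : (zeta6U : ℂ) = zeta6 := rfl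

theorem zeta6U_pow_six : zeta6U ^ 6 = 1 := by
  apply Units.ext
  rw [Units.val_pow_eq_pow_val, zeta6U_val, zeta6_pow_six]
  rfl

theorem zeta6U_pow_mod (n : ℕ) : zeta6U ^ (n % 6) = zeta6U ^ n := by
  conv_rhs => rw [← Nat.div_add_mod n 6, pow_add, pow_mul, zeta6U_pow_six, one_pow, one_mul]

/-- the coordinates of the powers of the sixth root of unity -/
def eisA (r : ℕ) : ℤ := [1, 0, -1, -1, 0, 1].getD r 0

/-- the coordinates of the powers of the sixth root of unity -/
def eisB (r : ℕ) : ℤ := [0, 1, 1, 0, -1, -1].getD r 0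

theorem zeta6_pow_eis {r : ℕ} (hr : r < 6) :
    zeta6 ^ r = ((eisA r : ℤ) : ℂ) + ((eisB r : ℤ) : ℂ) * zeta6 := by
  have h2 := zeta6_sq
  have h3 := zeta6_pow_three
  have h4 : zeta6 ^ 4 = -zeta6 := by
    have : zeta6 ^ 4 = zeta6 ^ 3 * zeta6 := by ring
    rw [this, h3]; ring
  have h5 : zeta6 ^ 5 = 1 - zeta6 := by
    have : zeta6 ^ 5 = zeta6 ^ 3 * zeta6 ^ 2 := by ring
    rw [this, h3, h2]; ring
  interval_cases r
  · simp [eisA, eisB]
  · simp [eisA, eisB]
  · rw [h2]; simp [eisA, eisB]; ring
  · rw [h3]; simp [eisA, eisB]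
  · rw [h4]; simp [eisA, eisB]
  · rw [h5]; simp [eisA, eisB]; ring

/-! ### subgroups with a linear character -/

/-- the list of the indices of the elements of a subgroup and the table of the exponents of a linear character -/
structure SubChar where
  /-- the indices of the elements -/
  L : List ℕ
  /-- the exponents, three bits for each index, `7` outside the subgroup -/
  T : ℕ

namespace SubChar

variable (D : SubChar)

/-- the exponent at an index -/
def E (i : ℕ) : ℕ := natForce i fun i => Nat.mod (Nat.shiftRight D.T (Nat.mul 3 i)) 8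

/-- the check: the list is the list of the indices with exponent other than `7`, and the exponents are additive -/
def chk : Bool :=
  (D.L == (List.range 6048).filter (fun i => D.E i != 7)) && (D.E 96 == 0) &&
    D.L.all fun a => natForce (D.E a) fun ea => D.L.all fun b => natForce (D.E b) fun eb =>
      natForce (mulIdx a b) fun p => D.E p == (ea + eb) % 6

variable {D}

theorem mem_L (h : D.chk = true) {i : ℕ} : i ∈ D.L ↔ i < 6048 ∧ D.E i ≠ 7 := by
  rw [chk, Bool.and_eq_true, Bool.and_eq_true, beq_iff_eq] at h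
  rw [h.1.1, List.mem_filter, List.mem_range, bne_iff_ne]

theorem E_one (h : D.chk = true) : D.E 96 = 0 := by
  rw [chk, Bool.and_eq_true, Bool.and_eq_true, beq_iff_eq, beq_iff_eq] at h
  exact h.1.2

theorem E_mul (h : D.chk = true) {a b : ℕ} (ha : a ∈ D.L) (hb : b ∈ D.L) :
    D.E (mulIdx a b) = (D.E a + D.E b) % 6 := by
  rw [chk, Bool.and_eq_true, Bool.and_eq_true] at h
  have h1 := List.all_eq_true.1 h.2 a ha
  rw [natForce_eq] at h1
  have h2 := List.all_eq_true.1 h1 b hb
  rw [natForce_eq, natForce_eq, beq_iff_eq] at h2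
  exact h2

theorem L_nodup (h : D.chk = true) : D.L.Nodup := by
  rw [chk, Bool.and_eq_true, Bool.and_eq_true, beq_iff_eq] at h
  rw [h.1.1]
  exact List.Nodup.filter _ List.nodup_range

theorem mulIdx_one_right (a : ℕ) : mulIdx a 96 = a := by
  rw [mulIdx, mulF_succ, if_pos rfl]

theorem E_lt (h : D.chk = true) {a : ℕ} (ha : a ∈ D.L) : D.E a < 6 := by
  have h96 : 96 ∈ D.L := (mem_L h).2 ⟨by norm_num, by rw [E_one h]; norm_num⟩
  have h1 := E_mul h ha h96
  rw [mulIdx_one_right, E_one h, add_zero] at h1
  rw [h1]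
  exact Nat.mod_lt _ (by norm_num)

variable (D)

/-- the submonoid -/
noncomputable def subM (h : D.chk = true) : Submonoid HU where
  carrier := {x | D.E (idxH x).val ≠ 7}
  one_mem' := by
    show D.E (idxH 1).val ≠ 7
    rw [idxH_one, E_one h]
    norm_num
  mul_mem' := by
    intro x y hx hy
    have hx' : (idxH x).val ∈ D.L := (mem_L h).2 ⟨(idxH x).isLt, hx⟩
    have hy' : (idxH y).val ∈ D.L := (mem_L h).2 ⟨(idxH y).isLt, hy⟩
    show D.E (idxH (x * y)).val ≠ 7
    rw [idxH_mul, E_mul h hx' hy']
    have := Nat.mod_lt (D.E (idxH x).val + D.E (idxH y).val) (show 0 < 6 by norm_num)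
    omega

/-- the subgroup -/
noncomputable def sub (h : D.chk = true) : Subgroup HU where
  toSubmonoid := D.subM h
  inv_mem' := by
    intro x hx
    have hpos : 0 < orderOf x := orderOf_pos x
    have h1 : x⁻¹ = x ^ (orderOf x - 1) := by
      apply inv_eq_of_mul_eq_one_right
      rw [← pow_succ', Nat.sub_add_cancel hpos, pow_orderOf_eq_one]
    rw [h1]
    exact (D.subM h).pow_mem hx _

variable {D}

theorem mem_sub (h : D.chk = true) {x : HU} : x ∈ D.sub h ↔ D.E (idxH x).val ≠ 7 := Iff.rfl

theorem mem_sub_iff_mem_L (h : D.chk = true) {x : HU} : x ∈ D.sub h ↔ (idxH x).val ∈ D.L := by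
  rw [mem_sub, mem_L h]
  exact ⟨fun hx => ⟨(idxH x).isLt, hx⟩, fun hx => hx.2⟩

theorem elemN_mem_sub (h : D.chk = true) {i : ℕ} (hi : i < 6048) : elemN i ∈ D.sub h ↔ D.E i ≠ 7 := by
  rw [mem_sub, idxH_elemN hi]

variable (D)

/-- the linear character, as a homomorphism to the units -/
noncomputable def hom (h : D.chk = true) : D.sub h →* ℂˣ where
  toFun x := zeta6U ^ D.E (idxH x.1).val
  map_one' := by
    show zeta6U ^ D.E (idxH 1).val = 1
    rw [idxH_one, E_one h, pow_zero]
  map_mul' := by
    intro x y
    show zeta6U ^ D.E (idxH (x.1 * y.1)).val = _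
    rw [idxH_mul, E_mul h ((mem_sub_iff_mem_L h).1 x.2) ((mem_sub_iff_mem_L h).1 y.2),
      zeta6U_pow_mod, pow_add]

/-- the linear character -/
noncomputable def chi (h : D.chk = true) : D.sub h → ℂ := fun x => ((D.hom h x : ℂˣ) : ℂ)

variable {D}

theorem chi_apply (h : D.chk = true) (x : D.sub h) : D.chi h x = zeta6 ^ D.E (idxH x.1).val := by
  rw [chi, hom]
  show ((zeta6U ^ D.E (idxH x.1).val : ℂˣ) : ℂ) = _
  rw [Units.val_pow_eq_pow_val, zeta6U_val]

theorem isCharacter_chi (h : D.chk = true) : IsCharacter (D.sub h) (D.chi h) :=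
  Cfsg.Agent.Lib.Helper78.IsIrrCharacter.isCharacter
    (Cfsg.Agent.Lib.Helper77.isIrrCharacter_of_monoidHom (D.hom h))

theorem card_sub (h : D.chk = true) : Nat.card (D.sub h) = D.L.length := by
  classical
  have hlt : ∀ i ∈ D.L, i < 6048 := fun i hi => ((mem_L h).1 hi).1
  have hnd : (D.L.map elemN).Nodup := elemN_map_nodup (L_nodup h) hlt
  rw [Nat.card_eq_fintype_card, Fintype.card_of_subtype (D.L.map elemN).toFinset,
    List.toFinset_card_of_nodup hnd, List.length_map]
  intro x
  rw [List.mem_toFinset, List.mem_map, mem_sub_iff_mem_L h]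
  constructor
  · rintro ⟨i, hi, rfl⟩
    rwa [idxH_elemN (hlt i hi)]
  · intro hx
    exact ⟨_, hx, elemN_idxH x⟩

theorem extendByZero_elemN (h : D.chk = true) {i : ℕ} (hi : i < 6048) :
    extendByZero (D.sub h) (D.chi h) (elemN i) = if D.E i ≠ 7 then zeta6 ^ D.E i else 0 := by
  unfold extendByZero
  split_ifs with hE
  · have hm : elemN i ∈ D.sub h := (elemN_mem_sub h hi).2 hE
    rw [show elemN i = ((⟨elemN i, hm⟩ : D.sub h) : HU) from rfl,
      Subtype.val_injective.extend_apply, chi_apply, idxH_elemN hi]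
  · rw [Function.extend_apply']
    · rfl
    · rintro ⟨x, hx⟩
      apply hE
      rw [← elemN_mem_sub h hi, ← hx]
      exact x.2

end SubChar

/-! ### sums over lists -/

theorem list_sum_filter_of_zero {l : List ℕ} (q : ℕ → Bool) (w : ℕ → ℂ) (hw : ∀ i ∈ l, q i = false → w i = 0) :
    (l.map w).sum = ((l.filter q).map w).sum := by
  induction l with
  | nil => rfl
  | cons a t ih =>
    have ih' := ih (fun i hi => hw i (List.mem_cons_of_mem a hi))
    rw [List.map_cons, List.sum_cons, List.filter_cons]
    by_cases hq : q a = true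
    · rw [if_pos hq, List.map_cons, List.sum_cons, ih']
    · rw [if_neg hq, ih', hw a List.mem_cons_self (by simpa using hq), zero_add]

namespace SubChar

variable {D : SubChar}

/-- the first coordinate of the value of the induced character at a class representative, not normalised -/
def valA (D : SubChar) (c : ℕ) : ℤ := ((D.L.filter (fun i => u3cls i == c)).map (fun i => eisA (D.E i))).sum

/-- the second coordinate of the value of the induced character at a class representative, not normalised -/
def valB (D : SubChar) (c : ℕ) : ℤ := ((D.L.filter (fun i => u3cls i == c)).map (fun i => eisB (D.E i))).sum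

theorem sum_pow_eq (h : D.chk = true) (l : List ℕ) (hl : ∀ i ∈ l, i ∈ D.L) :
    (l.map (fun i => zeta6 ^ D.E i)).sum =
      (((l.map (fun i => eisA (D.E i))).sum : ℤ) : ℂ) + (((l.map (fun i => eisB (D.E i))).sum : ℤ) : ℂ) * zeta6 := by
  induction l with
  | nil => simp
  | cons a t ih =>
    have ih' := ih (fun i hi => hl i (List.mem_cons_of_mem a hi))
    rw [List.map_cons, List.sum_cons, List.map_cons, List.sum_cons, List.map_cons, List.sum_cons, ih',
      zeta6_pow_eis (E_lt h (hl a List.mem_cons_self))]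
    push_cast
    ring

/-- **the value of the induced character at a class representative** -/
theorem indFun_rep (h : D.chk = true) {c : ℕ} (hc : c < 14) :
    indFun (D.sub h) (D.chi h) (elemN (u3rep c)) =
      ((D.L.length : ℕ) : ℂ)⁻¹ * (((6048 / u3csz c : ℕ) : ℂ) *
        (((D.valA c : ℤ) : ℂ) + ((D.valB c : ℤ) : ℂ) * zeta6)) := by
  unfold indFun
  rw [card_sub h, sum_conj_rep hc (extendByZero (D.sub h) (D.chi h))]
  congr 2
  -- the sum over the class
  have h1 : ((u3clsList c).map (fun i => extendByZero (D.sub h) (D.chi h) (elemN i))) =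
      (u3clsList c).map (fun i => if D.E i ≠ 7 then zeta6 ^ D.E i else 0) := by
    apply List.map_congr_left
    intro i hi
    exact extendByZero_elemN h (mem_u3clsList.1 hi).1
  rw [h1, list_sum_filter_of_zero (fun i => D.E i != 7) _
    (fun i _ hq => by
      have : D.E i = 7 := by simpa using hq
      rw [if_neg (by rw [this]; simp)])]
  have h2 : (u3clsList c).filter (fun i => D.E i != 7) = D.L.filter (fun i => u3cls i == c) := by
    have hL : D.L = (List.range 6048).filter (fun i => D.E i != 7) := by
      have h' := h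
      rw [chk, Bool.and_eq_true, Bool.and_eq_true, beq_iff_eq] at h'
      exact h'.1.1
    rw [u3clsList, hL, List.filter_filter, List.filter_filter]
    apply List.filter_congr
    intro i _
    rw [Bool.and_comm]
  rw [h2]
  have h3 : ((D.L.filter (fun i => u3cls i == c)).map (fun i => if D.E i ≠ 7 then zeta6 ^ D.E i else 0)) =
      (D.L.filter (fun i => u3cls i == c)).map (fun i => zeta6 ^ D.E i) := by
    apply List.map_congr_left
    intro i hi
    rw [if_pos ((mem_L h).1 (List.mem_filter.1 hi).1).2]
  rw [h3, sum_pow_eq h _ (fun i hi => (List.mem_filter.1 hi).1)]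
  rfl

end SubChar

end Cfsg.Agent.Lib.Helper27.J2
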