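import Cfsg.Agent.Lib.Helper27.J2U3SubData

/-!
# The subgroup `HU ≅ U₃(3)` of `J₂`: the checks of the seven subgroups with linear characters
-/

set_option autoImplicit false
set_option maxHeartbeats 4000000
set_option maxRecDepth 100000

namespace Cfsg.Agent.Lib.Helper27.J2

theorem u3P1_chk : u3P1.chk = true := by decide +kernel
theorem u3P2_chk : u3P2.chk = true := by decide +kernel
theorem u3P3_chk : u3P3.chk = true := by decide +kernel
theorem u3P4_chk : u3P4.chk = true := by decide +kernel
theorem u3P5_chk : u3P5.chk = true := by decide +kernel
theorem u3P6_chk : u3P6.chk = true := by decide +kernel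
theorem u3P7_chk : u3P7.chk = true := by decide +kernel

theorem u3P1_len : u3P1.L.length = 48 := by decide +kernel
theorem u3P2_len : u3P2.L.length = 48 := by decide +kernel
theorem u3P3_len : u3P3.L.length = 32 := by decide +kernel
theorem u3P4_len : u3P4.L.length = 27 := by decide +kernel
theorem u3P5_len : u3P5.L.length = 21 := by decide +kernel
theorem u3P6_len : u3P6.L.length = 18 := by decide +kernel
theorem u3P7_len : u3P7.L.length = 12 := by decide +kernel

end Cfsg.Agent.Lib.Helper27.J2
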