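import Mathlib
import Cfsg.Agent.Lib.Helper8.Shift23
import Cfsg.Agent.S0372

/-!
# The affine group `23:11` and `PSL(2,23)` inside `M24`: basic permutations

`addP c : x ↦ x + c`, `mulP u : x ↦ u x`, `projInv : x ↦ -1/x` on the projective line over `ZMod 23`;
the subgroup `AFF` of the maps `x ↦ u x + c` with `u` a square, of order 253.
-/

set_option autoImplicit false

namespace Cfsg.Agent.Lib.Helper27

open Cfsg Cfsg.Agent.Lib.Helper7 Cfsg.Agent.Lib.Helper8

/-- `x ↦ x + c` -/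
def addP (c : ZMod 23) : Equiv.Perm GolayPt := Equiv.optionCongr (Equiv.addRight c)

/-- `x ↦ u x` -/
def mulP (u : (ZMod 23)ˣ) : Equiv.Perm GolayPt := Equiv.optionCongr (Units.mulLeft u)

@[simp] theorem addP_none (c : ZMod 23) : addP c none = none := rfl

@[simp] theorem addP_some (c x : ZMod 23) : addP c (some x) = some (x + c) := rfl

@[simp] theorem mulP_none (u : (ZMod 23)ˣ) : mulP u none = none := rfl

@[simp] theorem mulP_some (u : (ZMod 23)ˣ) (x : ZMod 23) :
    mulP u (some x) = some ((u : ZMod 23) * x) := rfl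

theorem addP_one : addP 1 = shiftPerm := rfl

theorem addP_zero : addP 0 = 1 := by
  apply Equiv.ext
  rintro (_ | x)
  · rfl
  · simp

theorem mulP_one : mulP 1 = 1 := by
  apply Equiv.ext
  rintro (_ | x)
  · rfl
  · simp

theorem addP_mul (c d : ZMod 23) : addP c * addP d = addP (c + d) := by
  apply Equiv.ext
  rintro (_ | x)
  · rfl
  · simp only [Equiv.Perm.mul_apply, addP_some]
    congr 1; ring

theorem mulP_mul (u v : (ZMod 23)ˣ) : mulP u * mulP v = mulP (u * v) := by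
  apply Equiv.ext
  rintro (_ | x)
  · rfl
  · simp only [Equiv.Perm.mul_apply, mulP_some, Units.val_mul]
    congr 1; ring

theorem mulP_addP (u : (ZMod 23)ˣ) (c : ZMod 23) :
    mulP u * addP c = addP ((u : ZMod 23) * c) * mulP u := by
  apply Equiv.ext
  rintro (_ | x)
  · rfl
  · simp only [Equiv.Perm.mul_apply, mulP_some, addP_some]
    congr 1; ring

theorem addP_inv (c : ZMod 23) : (addP c)⁻¹ = addP (-c) := by
  rw [inv_eq_iff_mul_eq_one, addP_mul, add_neg_cancel, addP_zero]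

theorem mulP_inv (u : (ZMod 23)ˣ) : (mulP u)⁻¹ = mulP u⁻¹ := by
  rw [inv_eq_iff_mul_eq_one, mulP_mul, mul_inv_cancel, mulP_one]

theorem addP_eq_pow (c : ZMod 23) : addP c = shiftPerm ^ c.val := by
  apply Equiv.ext
  rintro (_ | x)
  · rw [shiftPerm_pow_none]; rfl
  · rw [shiftPerm_pow_some, ZMod.natCast_zmod_val]; rfl

theorem addP_mem_M24 (c : ZMod 23) : addP c ∈ M24 := by
  rw [addP_eq_pow]
  exact Subgroup.pow_mem _ shiftPerm_mem_M24 _

/-- multiplication by a square preserves the code -/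
theorem mulP_mem_M24 (u : (ZMod 23)ˣ) (hu : IsSquare u) : mulP u ∈ M24 := by
  obtain ⟨s, rfl⟩ := hu
  apply mem_M24_of_forall_qrWord
  intro t
  have : (fun i => qrWord t (mulP (s * s) i)) = qrWord (((s * s)⁻¹ : (ZMod 23)ˣ) * t) := by
    funext i
    rcases i with _ | x
    · rfl
    · show (if ∃ r : ZMod 23, ((s * s : (ZMod 23)ˣ) : ZMod 23) * x = r ^ 2 + t then (1 : ZMod 2) else 0)
        = if ∃ r : ZMod 23, x = r ^ 2 + (((s * s)⁻¹ : (ZMod 23)ˣ) : ZMod 23) * t then 1 else 0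
      have hs : ((s⁻¹ : (ZMod 23)ˣ) : ZMod 23) * (s : ZMod 23) = 1 := by
        rw [← Units.val_mul, inv_mul_cancel, Units.val_one]
      have hiff : (∃ r : ZMod 23, ((s * s : (ZMod 23)ˣ) : ZMod 23) * x = r ^ 2 + t) ↔
          ∃ r : ZMod 23, x = r ^ 2 + (((s * s)⁻¹ : (ZMod 23)ˣ) : ZMod 23) * t := by
        constructor
        · rintro ⟨r, hr⟩
          refine ⟨(s⁻¹ : (ZMod 23)ˣ) * r, ?_⟩
          have h1 : x = ((s⁻¹ : (ZMod 23)ˣ) : ZMod 23) * ((s⁻¹ : (ZMod 23)ˣ) : ZMod 23) *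
              (((s * s : (ZMod 23)ˣ) : ZMod 23) * x) := by
            rw [Units.val_mul]
            calc x = (((s⁻¹ : (ZMod 23)ˣ) : ZMod 23) * (s : ZMod 23)) *
                (((s⁻¹ : (ZMod 23)ˣ) : ZMod 23) * (s : ZMod 23)) * x := by rw [hs]; ring
              _ = _ := by ring
          rw [h1, hr, mul_inv_rev, Units.val_mul]
          ring
        · rintro ⟨r, hr⟩
          refine ⟨(s : ZMod 23) * r, ?_⟩
          rw [hr, mul_inv_rev, Units.val_mul, Units.val_mul]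
          calc (s : ZMod 23) * s * (r ^ 2 + ((s⁻¹ : (ZMod 23)ˣ) : ZMod 23) *
                ((s⁻¹ : (ZMod 23)ˣ) : ZMod 23) * t)
              = (s * r) ^ 2 + ((((s⁻¹ : (ZMod 23)ˣ) : ZMod 23) * (s : ZMod 23)) *
                (((s⁻¹ : (ZMod 23)ˣ) : ZMod 23) * (s : ZMod 23))) * t := by ring
            _ = _ := by rw [hs]; ring
      by_cases h : ∃ r : ZMod 23, ((s * s : (ZMod 23)ˣ) : ZMod 23) * x = r ^ 2 + t
      · rw [if_pos h, if_pos (hiff.1 h)]
      · rw [if_neg h, if_neg (fun h' => h (hiff.2 h'))]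
  rw [this]
  exact Submodule.subset_span (Or.inl ⟨_, rfl⟩)

/-! ### the affine group -/

/-- the maps `x ↦ u x + c` with `u` a square -/
def AFF : Subgroup (Equiv.Perm GolayPt) where
  carrier := {g | ∃ (u : (ZMod 23)ˣ) (c : ZMod 23), IsSquare u ∧ g = addP c * mulP u}
  mul_mem' := by
    rintro _ _ ⟨u, c, hu, rfl⟩ ⟨v, d, hv, rfl⟩
    refine ⟨u * v, c + (u : ZMod 23) * d, hu.mul hv, ?_⟩
    calc addP c * mulP u * (addP d * mulP v) = addP c * (mulP u * addP d) * mulP v := by group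
      _ = addP c * (addP ((u : ZMod 23) * d) * mulP u) * mulP v := by rw [mulP_addP]
      _ = (addP c * addP ((u : ZMod 23) * d)) * (mulP u * mulP v) := by group
      _ = _ := by rw [addP_mul, mulP_mul]
  one_mem' := ⟨1, 0, IsSquare.one, by rw [addP_zero, mulP_one, one_mul]⟩
  inv_mem' := by
    rintro _ ⟨u, c, hu, rfl⟩
    refine ⟨u⁻¹, -(((u⁻¹ : (ZMod 23)ˣ) : ZMod 23) * c), hu.inv, ?_⟩
    rw [mul_inv_rev, addP_inv, mulP_inv, mulP_addP, mul_neg]

theorem mem_AFF {g : Equiv.Perm GolayPt} :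
    g ∈ AFF ↔ ∃ (u : (ZMod 23)ˣ) (c : ZMod 23), IsSquare u ∧ g = addP c * mulP u := Iff.rfl

theorem addP_mem_AFF (c : ZMod 23) : addP c ∈ AFF :=
  ⟨1, c, IsSquare.one, by rw [mulP_one, mul_one]⟩

theorem mulP_mem_AFF (u : (ZMod 23)ˣ) (hu : IsSquare u) : mulP u ∈ AFF :=
  ⟨u, 0, hu, by rw [addP_zero, one_mul]⟩

theorem AFF_le_M24 : AFF ≤ M24 := by
  rintro _ ⟨u, c, hu, rfl⟩
  exact M24.mul_mem (addP_mem_M24 c) (mulP_mem_M24 u hu)

theorem AFF_fix_none {g : Equiv.Perm GolayPt} (hg : g ∈ AFF) : g none = none := by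
  obtain ⟨u, c, _, rfl⟩ := hg
  rfl

theorem AFF_some {g : Equiv.Perm GolayPt} (hg : g ∈ AFF) (x : ZMod 23) : ∃ y, g (some x) = some y := by
  obtain ⟨u, c, _, rfl⟩ := hg
  exact ⟨_, rfl⟩

/-- the squares among the units -/
def SQ : Set (Equiv.Perm GolayPt) :=
  {g | ∃ u : (ZMod 23)ˣ, IsSquare u ∧ g = Equiv.optionCongr (Units.mulLeft u)}

/-- the group `23:11` as given by generators -/
def BB : Subgroup (Equiv.Perm GolayPt) :=
  Subgroup.closure ({Equiv.optionCongr (Equiv.addRight (1 : ZMod 23))} ∪ SQ)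

/-- the group `PSL(2,23)` as given by generators -/
def LL : Subgroup (Equiv.Perm GolayPt) :=
  Subgroup.closure ({Equiv.optionCongr (Equiv.addRight (1 : ZMod 23)), projInv} ∪ SQ)

theorem BB_eq_AFF : BB = AFF := by
  apply le_antisymm
  · apply (Subgroup.closure_le _).2
    rintro g (hg | ⟨u, hu, rfl⟩)
    · rw [Set.mem_singleton_iff] at hg
      rw [hg]
      exact addP_mem_AFF 1
    · exact mulP_mem_AFF u hu
  · rintro _ ⟨u, c, hu, rfl⟩
    show addP c * mulP u ∈ Subgroup.closure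
      ({Equiv.optionCongr (Equiv.addRight (1 : ZMod 23))} ∪ SQ)
    apply Subgroup.mul_mem
    · rw [addP_eq_pow]
      have h1 : shiftPerm ∈ Subgroup.closure
          ({Equiv.optionCongr (Equiv.addRight (1 : ZMod 23))} ∪ SQ) :=
        Subgroup.subset_closure (Or.inl rfl)
      exact Subgroup.pow_mem _ h1 _
    · exact Subgroup.subset_closure (Or.inr ⟨u, hu, rfl⟩)

theorem BB_le_LL : BB ≤ LL := by
  apply Subgroup.closure_mono
  rintro g (hg | hg)
  · left; left; exact hg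
  · right; exact hg

theorem projInv_mem_LL : projInv ∈ LL :=
  Subgroup.subset_closure (Or.inl (Or.inr rfl))

theorem LL_le_M24 : LL ≤ M24 := by
  apply (Subgroup.closure_le _).2
  rintro g ((hg | hg) | ⟨u, hu, rfl⟩)
  · rw [hg]; exact shiftPerm_mem_M24
  · rw [Set.mem_singleton_iff] at hg
    rw [hg]; exact Cfsg.Agent.S0372.result
  · exact mulP_mem_M24 u hu

/-! ### the order of the affine group -/

/-- the unit `2` -/
def u2 : (ZMod 23)ˣ := ⟨2, 12, by decide, by decide⟩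

/-- the unit `5` -/
def u5 : (ZMod 23)ˣ := ⟨5, 14, by decide, by decide⟩

theorem u2_eq : u2 = u5 * u5 := by
  apply Units.ext
  show (2 : ZMod 23) = 5 * 5
  decide

theorem isSquare_u2_pow (k : ℕ) : IsSquare (u2 ^ k) :=
  (show IsSquare u2 from ⟨u5, u2_eq⟩).pow k

theorem val_u2_pow (k : ℕ) : ((u2 ^ k : (ZMod 23)ˣ) : ZMod 23) = 2 ^ k := by
  rw [Units.val_pow_eq_pow_val]; rfl

theorem sq_eq_two_pow : ∀ x : ZMod 23, x ≠ 0 → (∃ r : ZMod 23, x = r * r) →
    ∃ k : Fin 11, x = 2 ^ k.val := by decide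

theorem two_pow_inj : ∀ k l : Fin 11, (2 : ZMod 23) ^ k.val = 2 ^ l.val → k = l := by decide

theorem exists_pow_of_isSquare (u : (ZMod 23)ˣ) (hu : IsSquare u) : ∃ k : Fin 11, u = u2 ^ k.val := by
  obtain ⟨s, rfl⟩ := hu
  haveI : Fact (1 < 23) := ⟨by norm_num⟩
  obtain ⟨k, hk⟩ := sq_eq_two_pow ((s * s : (ZMod 23)ˣ) : ZMod 23) (Units.ne_zero _)
    ⟨(s : ZMod 23), Units.val_mul s s⟩
  exact ⟨k, Units.ext (by rw [hk, val_u2_pow])⟩

theorem card_AFF : Nat.card AFF = 253 := by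
  have hbij : Function.Bijective (fun q : ZMod 23 × Fin 11 =>
      (⟨addP q.1 * mulP (u2 ^ q.2.val), ⟨_, _, isSquare_u2_pow _, rfl⟩⟩ : AFF)) := by
    constructor
    · rintro ⟨c, k⟩ ⟨d, l⟩ h
      have h' : addP c * mulP (u2 ^ k.val) = addP d * mulP (u2 ^ l.val) := congrArg Subtype.val h
      have h0 := congrArg (fun f : Equiv.Perm GolayPt => f (some 0)) h'
      simp only [Equiv.Perm.mul_apply, mulP_some, addP_some, mul_zero, zero_add,
        Option.some.injEq] at h0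
      have h1 := congrArg (fun f : Equiv.Perm GolayPt => f (some 1)) h'
      simp only [Equiv.Perm.mul_apply, mulP_some, addP_some, mul_one, Option.some.injEq,
        val_u2_pow] at h1
      subst h0
      have h2 : (2 : ZMod 23) ^ k.val = 2 ^ l.val := add_right_cancel h1
      rw [two_pow_inj k l h2]
    · rintro ⟨g, u, c, hu, rfl⟩
      obtain ⟨k, rfl⟩ := exists_pow_of_isSquare u hu
      exact ⟨(c, k), rfl⟩
  rw [← Nat.card_congr (Equiv.ofBijective _ hbij), Nat.card_prod, Nat.card_eq_fintype_card,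
    Nat.card_eq_fintype_card, ZMod.card, Fintype.card_fin]

theorem card_BB : Nat.card BB = 253 := by rw [BB_eq_AFF]; exact card_AFF

end Cfsg.Agent.Lib.Helper27
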