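import Mathlib
import Cfsg.Agent.Lib.Helper27.L223Base
import Cfsg.Agent.Lib.Helper7.M24Trans

/-!
# `PSL(2,23)` inside `M24`: Bruhat decomposition and order

Every element of `LL = ⟨x ↦ x+1, x ↦ -1/x, x ↦ u x (u square)⟩` is affine or of the form
`b * projInv * addP c` with `b` affine; `LL` is transitive on the 24 points with point stabiliser
`AFF`, so it has order `24 * 253 = 6072`.
-/

set_option autoImplicit false

namespace Cfsg.Agent.Lib.Helper27

open Cfsg Cfsg.Agent.Lib.Helper7 Cfsg.Agent.Lib.Helper8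

theorem inv_val : ∀ a : ZMod 23, a ≠ 0 → a ^ 21 * a = 1 := by decide

theorem val_inv_eq (v : (ZMod 23)ˣ) : ((v⁻¹ : (ZMod 23)ˣ) : ZMod 23) = (v : ZMod 23) ^ 21 := by
  haveI : Fact (1 < 23) := ⟨by norm_num⟩
  exact Units.inv_eq_of_mul_eq_one_left (inv_val _ (Units.ne_zero v))

theorem mulP_apply (w : (ZMod 23)ˣ) (q : GolayPt) :
    mulP w q = Option.map (fun y => (w : ZMod 23) * y) q := by
  cases q <;> rfl

theorem projInv_smul_val : ∀ a x : ZMod 23, a ≠ 0 →
    projInv (some (a * x)) = Option.map (fun y => a ^ 21 * y) (projInv (some x)) := by decide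

theorem projInv_none : projInv none = some 0 := rfl

theorem projInv_zero : projInv (some 0) = none := rfl

theorem projInv_mul_self : projInv * projInv = 1 := by
  apply Equiv.ext
  intro p
  exact projInv.left_inv p

theorem projInv_inv : projInv⁻¹ = projInv := inv_eq_of_mul_eq_one_left projInv_mul_self

/-- `w h(v) = h(v⁻¹) w` -/
theorem projInv_mulP (v : (ZMod 23)ˣ) : projInv * mulP v = mulP v⁻¹ * projInv := by
  haveI : Fact (1 < 23) := ⟨by norm_num⟩
  apply Equiv.ext
  rintro (_ | x)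
  · show projInv none = mulP v⁻¹ (projInv none)
    rw [projInv_none, mulP_some, mul_zero]
  · show projInv (some ((v : ZMod 23) * x)) = mulP v⁻¹ (projInv (some x))
    rw [projInv_smul_val _ _ (Units.ne_zero v), mulP_apply, val_inv_eq]

/-- the unit `c⁻¹` for `c ≠ 0` -/
def uinv (c : ZMod 23) (hc : c ≠ 0) : (ZMod 23)ˣ :=
  ⟨c ^ 21, c, inv_val c hc, by rw [mul_comm]; exact inv_val c hc⟩

theorem bruhat_val : ∀ c : ZMod 23, c ≠ 0 → ∀ p : GolayPt,
    projInv (addP c (projInv p)) = addP (-(c ^ 21))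
      (Option.map (fun y => (c ^ 21 * c ^ 21) * y) (projInv (addP (-(c ^ 21)) p))) := by
  decide

/-- `w u(c) w = u(-1/c) h(1/c²) w u(-1/c)` -/
theorem projInv_addP_projInv (c : ZMod 23) (hc : c ≠ 0) :
    projInv * addP c * projInv
      = addP (-(c ^ 21)) * mulP (uinv c hc * uinv c hc) * projInv * addP (-(c ^ 21)) := by
  apply Equiv.ext
  intro p
  simp only [Equiv.Perm.mul_apply]
  rw [bruhat_val c hc p, mulP_apply]
  rfl

/-! ### the Bruhat description -/

/-- affine maps together with the big cell -/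
def XS : Set (Equiv.Perm GolayPt) :=
  {g | g ∈ AFF ∨ ∃ b ∈ AFF, ∃ c : ZMod 23, g = b * projInv * addP c}

theorem XS_mul_addP {g : Equiv.Perm GolayPt} (hg : g ∈ XS) (d : ZMod 23) : g * addP d ∈ XS := by
  rcases hg with hg | ⟨b, hb, c, rfl⟩
  · exact Or.inl (AFF.mul_mem hg (addP_mem_AFF d))
  · refine Or.inr ⟨b, hb, c + d, ?_⟩
    rw [mul_assoc, addP_mul]

theorem XS_mul_mulP {g : Equiv.Perm GolayPt} (hg : g ∈ XS) (v : (ZMod 23)ˣ) (hv : IsSquare v) :
    g * mulP v ∈ XS := by
  rcases hg with hg | ⟨b, hb, c, rfl⟩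
  · exact Or.inl (AFF.mul_mem hg (mulP_mem_AFF v hv))
  · refine Or.inr ⟨b * mulP v⁻¹, AFF.mul_mem hb (mulP_mem_AFF _ hv.inv),
      ((v⁻¹ : (ZMod 23)ˣ) : ZMod 23) * c, ?_⟩
    have h1 : addP c * mulP v = mulP v * addP (((v⁻¹ : (ZMod 23)ˣ) : ZMod 23) * c) := by
      rw [mulP_addP, ← mul_assoc, ← Units.val_mul, mul_inv_cancel, Units.val_one, one_mul]
    calc b * projInv * addP c * mulP v = b * projInv * (addP c * mulP v) := by group
      _ = b * projInv * (mulP v * addP (((v⁻¹ : (ZMod 23)ˣ) : ZMod 23) * c)) := by rw [h1]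
      _ = b * (projInv * mulP v) * addP (((v⁻¹ : (ZMod 23)ˣ) : ZMod 23) * c) := by group
      _ = b * (mulP v⁻¹ * projInv) * addP (((v⁻¹ : (ZMod 23)ˣ) : ZMod 23) * c) := by
        rw [projInv_mulP]
      _ = _ := by group

theorem XS_mul_projInv {g : Equiv.Perm GolayPt} (hg : g ∈ XS) : g * projInv ∈ XS := by
  rcases hg with hg | ⟨b, hb, c, rfl⟩
  · exact Or.inr ⟨g, hg, 0, by rw [addP_zero, mul_one]⟩
  · by_cases hc : c = 0
    · left
      rw [hc, addP_zero, mul_one, mul_assoc, projInv_mul_self, mul_one]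
      exact hb
    · right
      refine ⟨b * (addP (-(c ^ 21)) * mulP (uinv c hc * uinv c hc)),
        AFF.mul_mem hb ⟨_, _, ⟨uinv c hc, rfl⟩, rfl⟩, -(c ^ 21), ?_⟩
      calc b * projInv * addP c * projInv = b * (projInv * addP c * projInv) := by group
        _ = b * (addP (-(c ^ 21)) * mulP (uinv c hc * uinv c hc) * projInv * addP (-(c ^ 21))) := by
          rw [projInv_addP_projInv c hc]
        _ = _ := by group

theorem LL_subset_XS {g : Equiv.Perm GolayPt} (hg : g ∈ LL) : g ∈ XS := by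
  unfold LL at hg
  induction hg using Subgroup.closure_induction_right with
  | one => exact Or.inl AFF.one_mem
  | mul_right x hx y hy ih =>
    rcases hy with (hy | hy) | ⟨u, hu, rfl⟩
    · rw [hy]; exact XS_mul_addP ih 1
    · rw [Set.mem_singleton_iff] at hy
      rw [hy]; exact XS_mul_projInv ih
    · exact XS_mul_mulP ih u hu
  | mul_inv_cancel x hx y hy ih =>
    rcases hy with (hy | hy) | ⟨u, hu, rfl⟩
    · rw [hy]
      have : (Equiv.optionCongr (Equiv.addRight (1 : ZMod 23)) : Equiv.Perm GolayPt)⁻¹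
          = addP (-1) := addP_inv 1
      rw [this]; exact XS_mul_addP ih (-1)
    · rw [Set.mem_singleton_iff] at hy
      rw [hy, projInv_inv]; exact XS_mul_projInv ih
    · have : (Equiv.optionCongr (Units.mulLeft u) : Equiv.Perm GolayPt)⁻¹ = mulP u⁻¹ := mulP_inv u
      rw [this]; exact XS_mul_mulP ih u⁻¹ hu.inv

/-- an element of `LL` fixing the point at infinity is affine -/
theorem mem_AFF_of_mem_LL {g : Equiv.Perm GolayPt} (hg : g ∈ LL) (h : g none = none) : g ∈ AFF := by
  rcases LL_subset_XS hg with hg | ⟨b, hb, c, rfl⟩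
  · exact hg
  · exfalso
    simp only [Equiv.Perm.mul_apply, addP_none, projInv_none] at h
    obtain ⟨y, hy⟩ := AFF_some hb 0
    rw [hy] at h
    exact Option.some_ne_none _ h

theorem AFF_le_LL : AFF ≤ LL := by rw [← BB_eq_AFF]; exact BB_le_LL

/-! ### the order -/

theorem stabilizer_LL : MulAction.stabilizer LL (none : GolayPt) = AFF.subgroupOf LL := by
  ext g
  rw [MulAction.mem_stabilizer_iff, Subgroup.mem_subgroupOf]
  constructor
  · intro h
    exact mem_AFF_of_mem_LL g.2 h
  · intro h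
    exact AFF_fix_none h

theorem orbit_LL : MulAction.orbit LL (none : GolayPt) = Set.univ := by
  apply Set.eq_univ_of_forall
  rintro (_ | x)
  · exact MulAction.mem_orbit_self _
  · refine ⟨⟨addP x * projInv, LL.mul_mem (AFF_le_LL (addP_mem_AFF x)) projInv_mem_LL⟩, ?_⟩
    show (addP x * projInv) none = some x
    rw [Equiv.Perm.mul_apply, projInv_none, addP_some, zero_add]

theorem card_LL : Nat.card LL = 6072 := by
  have h1 := Subgroup.card_mul_index (MulAction.stabilizer LL (none : GolayPt))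
  rw [MulAction.index_stabilizer, orbit_LL, Set.ncard_univ, card_GolayPt, stabilizer_LL] at h1
  have h2 : Nat.card (AFF.subgroupOf LL) = 253 := by
    rw [← card_AFF]
    exact Nat.card_congr (Subgroup.subgroupOfEquivOfLe AFF_le_LL).toEquiv
  rw [h2] at h1
  omega

end Cfsg.Agent.Lib.Helper27
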