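import Mathlib
import Cfsg.Agent.Lib.Helper27.L223Struct
import Cfsg.Agent.Lib.Helper26.GolayBitsCode

/-!
# Candidate permutations intertwining `x ↦ 2 x` with `x ↦ 2^{±1} x`, refuted by one code word
-/

set_option autoImplicit false

namespace Cfsg.Agent.Lib.Helper27

open Cfsg Cfsg.Agent.Lib.Helper7 Cfsg.Agent.Lib.Helper8

/-- support of the translate by 5 of the squares -/
def S5 : Finset GolayPt :=
  {some 0, some 5, some 6, some 7, some 8, some 9, some 11, some 13, some 14, some 17, some 18,
    some 21}

theorem support_qr5 : support₂ (qrWord 5) = S5 := by decide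

/-- candidate normalising permutations -/
def candF (inv aInf : Bool) (y0 z0 : ZMod 23) : GolayPt → GolayPt
  | none => if aInf then none else some 0
  | some x =>
    if x = 0 then (if aInf then some 0 else none)
    else if ∃ r : ZMod 23, x = r * r then some ((if inv then x ^ 21 else x) * y0)
    else some ((if inv then (x * 14) ^ 21 else x * 14) * z0)

set_option maxRecDepth 100000 in
theorem cand_refute : ∀ (inv aInf : Bool) (y0 z0 : ZMod 23), y0 ≠ 0 → z0 ≠ 0 →
    (inv = true → aInf = true) →
    (inv = false ∧ aInf = true ∧ ∃ k : Fin 11, y0 = 2 ^ k.val ∧ z0 = 5 * 2 ^ k.val) ∨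
    Helper26.isCode (Helper26.maskOfSet (S5.image (candF inv aInf y0 z0))) = false := by
  decide +kernel

end Cfsg.Agent.Lib.Helper27
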