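import Mathlib
import Cfsg.Agent.Lib.Helper27.L223Struct
import Cfsg.Agent.Lib.Helper26.GolayBitsCode
import Cfsg.Agent.Lib.Helper27.L223Cand

/-!
# Normalisers of the elements of order 23 and 11 in `M24`

* `mem_AFF_of_normalizes_shift`: an element of `M24` normalising `⟨x ↦ x + 1⟩` is affine
  with square multiplier;
* `mem_zpowers_of_commute_mulP`: the centraliser in `M24` of `μ : x ↦ 2 x` is `⟨μ⟩`;
* `not_invert_mulP`: no element of `M24` fixing the point at infinity inverts `μ`.
-/

set_option autoImplicit false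

namespace Cfsg.Agent.Lib.Helper27

open Cfsg Cfsg.Agent.Lib.Helper7 Cfsg.Agent.Lib.Helper8
open scoped Pointwise

/-! ### the element of order 23 -/

/-- the unit with a given nonzero value -/
def unitOf (a : ZMod 23) (ha : a ≠ 0) : (ZMod 23)ˣ :=
  ⟨a, a ^ 21, by rw [mul_comm]; exact inv_val a ha, inv_val a ha⟩

@[simp] theorem val_unitOf (a : ZMod 23) (ha : a ≠ 0) : ((unitOf a ha : (ZMod 23)ˣ) : ZMod 23) = a :=
  rfl

theorem isSquare_unitOf (a : ZMod 23) (ha : a ≠ 0) (h : ∃ r : ZMod 23, a = r * r) :
    IsSquare (unitOf a ha) := by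
  obtain ⟨r, hr⟩ := h
  have hr0 : r ≠ 0 := by
    intro h0
    rw [h0, mul_zero] at hr
    exact ha hr
  exact ⟨unitOf r hr0, Units.ext hr⟩

theorem sq_or_neg_sq : ∀ a : ZMod 23, a ≠ 0 →
    (∃ r : ZMod 23, a = r * r) ∨ (∃ r : ZMod 23, -a = r * r) := by decide

theorem shiftPerm_pow_eq (k : ℕ) : shiftPerm ^ k = addP (k : ZMod 23) := by
  apply Equiv.ext
  rintro (_ | x)
  · rw [shiftPerm_pow_none]; rfl
  · rw [shiftPerm_pow_some]; rfl

theorem addP_injective : Function.Injective addP := by
  intro c d h
  have := congrArg (fun f : Equiv.Perm GolayPt => f (some 0)) h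
  simpa using this

theorem conj_addP (v : (ZMod 23)ˣ) (a : ZMod 23) :
    (mulP v)⁻¹ * addP a * mulP v = addP (((v⁻¹ : (ZMod 23)ˣ) : ZMod 23) * a) := by
  rw [mulP_inv, mulP_addP, mul_assoc, mulP_mul, inv_mul_cancel, mulP_one, mul_one]

/-- an element of `M24` normalising the shift is affine with square multiplier -/
theorem mem_AFF_of_normalizes_shift (t : Equiv.Perm GolayPt) (ht : t ∈ M24)
    (h : t * shiftPerm * t⁻¹ ∈ Subgroup.zpowers shiftPerm) : t ∈ AFF := by
  haveI : Fact (1 < 23) := ⟨by norm_num⟩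
  rw [← mem_powers_iff_mem_zpowers] at h
  obtain ⟨k, hk⟩ := h
  have hk' : t * shiftPerm * t⁻¹ = addP (k : ZMod 23) := by
    rw [← shiftPerm_pow_eq]; exact hk.symm
  have ha : (k : ZMod 23) ≠ 0 := by
    intro h0
    rw [h0, addP_zero] at hk'
    have h1 : shiftPerm = 1 := by
      have := congrArg (fun f => t⁻¹ * f * t) hk'
      simpa [mul_assoc] using this
    have h2 := orderOf_shiftPerm
    rw [h1, orderOf_one] at h2
    exact absurd h2 (by norm_num)
  set a : ZMod 23 := (k : ZMod 23) with hadef
  rcases sq_or_neg_sq a ha with hsq | hsq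
  · -- the multiplier is a square
    set v := unitOf a ha with hv
    have hvsq : IsSquare v := isSquare_unitOf a ha hsq
    have hc : ((mulP v)⁻¹ * t) * shiftPerm = shiftPerm * ((mulP v)⁻¹ * t) := by
      have h1 : ((mulP v)⁻¹ * t) * shiftPerm * ((mulP v)⁻¹ * t)⁻¹ = shiftPerm := by
        calc ((mulP v)⁻¹ * t) * shiftPerm * ((mulP v)⁻¹ * t)⁻¹
            = (mulP v)⁻¹ * (t * shiftPerm * t⁻¹) * mulP v := by group
          _ = addP (((v⁻¹ : (ZMod 23)ˣ) : ZMod 23) * a) := by rw [hk', conj_addP]
          _ = addP 1 := by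
            congr 1
            have : a = ((v : (ZMod 23)ˣ) : ZMod 23) := rfl
            rw [this, ← Units.val_mul, inv_mul_cancel, Units.val_one]
          _ = shiftPerm := addP_one
      calc ((mulP v)⁻¹ * t) * shiftPerm
          = (((mulP v)⁻¹ * t) * shiftPerm * ((mulP v)⁻¹ * t)⁻¹) * ((mulP v)⁻¹ * t) := by group
        _ = shiftPerm * ((mulP v)⁻¹ * t) := by rw [h1]
    have hz := mem_zpowers_shift_of_commute _ hc
    rw [← mem_powers_iff_mem_zpowers] at hz
    obtain ⟨j, hj⟩ := hz
    have hj' : shiftPerm ^ j = (mulP v)⁻¹ * t := hj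
    have ht' : t = mulP v * addP (j : ZMod 23) := by
      rw [← shiftPerm_pow_eq, hj']; group
    rw [ht']
    exact AFF.mul_mem (mulP_mem_AFF v hvsq) (addP_mem_AFF _)
  · -- the multiplier is a non-square: some element of `M24` would invert the shift
    exfalso
    have hna : -a ≠ 0 := neg_ne_zero.2 ha
    set v := unitOf (-a) hna with hv
    have hvsq : IsSquare v := isSquare_unitOf (-a) hna hsq
    have hmem : (mulP v)⁻¹ * t ∈ M24 :=
      M24.mul_mem (M24.inv_mem (mulP_mem_M24 v hvsq)) ht
    apply not_invert_shift _ hmem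
    calc ((mulP v)⁻¹ * t) * shiftPerm * ((mulP v)⁻¹ * t)⁻¹
        = (mulP v)⁻¹ * (t * shiftPerm * t⁻¹) * mulP v := by group
      _ = addP (((v⁻¹ : (ZMod 23)ˣ) : ZMod 23) * a) := by rw [hk', conj_addP]
      _ = addP (-1) := by
        congr 1
        have : a = -((v : (ZMod 23)ˣ) : ZMod 23) := by
          show a = - -a
          rw [neg_neg]
        rw [this, mul_neg, ← Units.val_mul, inv_mul_cancel, Units.val_one]
      _ = shiftPerm⁻¹ := by rw [← addP_one, addP_inv]

/-! ### the element of order 11 -/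

/-- the multiplier `2` or `1/2` -/
def wOf (inv : Bool) : (ZMod 23)ˣ := if inv then u2⁻¹ else u2

theorem wOf_fix : ∀ (inv : Bool) (x : ZMod 23), ((wOf inv : (ZMod 23)ˣ) : ZMod 23) * x = x → x = 0 := by
  intro inv x
  cases inv
  · show (2 : ZMod 23) * x = x → x = 0
    revert x; decide
  · show (12 : ZMod 23) * x = x → x = 0
    revert x; decide

theorem fixed_of_mulP (inv : Bool) (q : GolayPt) (h : mulP (wOf inv) q = q) :
    q = none ∨ q = some 0 := by
  rcases q with _ | x
  · exact Or.inl rfl
  · right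
    rw [mulP_some] at h
    rw [wOf_fix inv x (Option.some.inj h)]

theorem nonsq_eq : ∀ x : ZMod 23, x ≠ 0 → ¬ (∃ r : ZMod 23, x = r * r) →
    ∃ k : Fin 11, x = 2 ^ k.val * 5 := by decide

theorem sq_eq : ∀ x : ZMod 23, x ≠ 0 → (∃ r : ZMod 23, x = r * r) →
    ∃ k : Fin 11, x = 2 ^ k.val * 1 := by decide

/-- the map `g` with `g (2 ^ k) = v ^ k` -/
def gOf (inv : Bool) (x : ZMod 23) : ZMod 23 := if inv then x ^ 21 else x

theorem gOf_two_pow (inv : Bool) (k : ℕ) :
    gOf inv (2 ^ k) = ((wOf inv : (ZMod 23)ˣ) : ZMod 23) ^ k := by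
  cases inv
  · rfl
  · show ((2 : ZMod 23) ^ k) ^ 21 = (12 : ZMod 23) ^ k
    rw [← pow_mul, mul_comm, pow_mul]
    congr 1

theorem candF_zero (inv aInf : Bool) (y0 z0 : ZMod 23) :
    candF inv aInf y0 z0 (some 0) = if aInf then some 0 else none := rfl

/-- a permutation intertwining `μ` with `μ^{±1}` is one of the candidates -/
theorem eq_candF (t : Equiv.Perm GolayPt) (inv : Bool)
    (h : ∀ p, t (mulP u2 p) = mulP (wOf inv) (t p)) :
    ∃ (aInf : Bool) (y0 z0 : ZMod 23), y0 ≠ 0 ∧ z0 ≠ 0 ∧ (aInf = true ↔ t none = none) ∧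
      ∀ p, t p = candF inv aInf y0 z0 p := by
  -- the two fixed points
  have hfixN : t none = none ∨ t none = some 0 := by
    apply fixed_of_mulP inv
    have := h none
    rw [mulP_none] at this
    exact this.symm
  have hfix0 : t (some 0) = none ∨ t (some 0) = some 0 := by
    apply fixed_of_mulP inv
    have := h (some 0)
    rw [mulP_some, mul_zero] at this
    exact this.symm
  -- the other points are moved
  have hmoved : ∀ x : ZMod 23, x ≠ 0 → ∃ y : ZMod 23, y ≠ 0 ∧ t (some x) = some y := by
    intro x hx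
    have hnf : ¬ (mulP (wOf inv) (t (some x)) = t (some x)) := by
      intro hf
      rw [← h (some x)] at hf
      have h2 := t.injective hf
      rw [mulP_some] at h2
      have h3 : (2 : ZMod 23) * x = x := Option.some.inj h2
      exact hx (wOf_fix false x h3)
    rcases hq : t (some x) with _ | y
    · rw [hq] at hnf; exact absurd rfl hnf
    · refine ⟨y, ?_, rfl⟩
      rintro rfl
      rw [hq, mulP_some, mul_zero] at hnf
      exact hnf rfl
  -- the chain
  have hchain : ∀ (k : ℕ) (x y : ZMod 23), t (some x) = some y →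
      t (some (2 ^ k * x)) = some (((wOf inv : (ZMod 23)ˣ) : ZMod 23) ^ k * y) := by
    intro k
    induction k with
    | zero => intro x y hxy; simpa using hxy
    | succ k ih =>
      intro x y hxy
      have h1 := h (some (2 ^ k * x))
      rw [ih x y hxy, mulP_some, mulP_some] at h1
      have h2 : (2 : ZMod 23) ^ (k + 1) * x = ((u2 : (ZMod 23)ˣ) : ZMod 23) * (2 ^ k * x) := by
        show (2 : ZMod 23) ^ (k + 1) * x = 2 * (2 ^ k * x)
        ring
      rw [h2, h1]
      congr 1
      ring
  obtain ⟨y0, hy0, hty0⟩ := hmoved 1 (by decide)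
  obtain ⟨z0, hz0, htz0⟩ := hmoved 5 (by decide)
  have hsome : ∀ x : ZMod 23, x ≠ 0 → t (some x) = candF inv (decide (t none = none)) y0 z0 (some x) := by
    intro x hx
    by_cases hsq : ∃ r : ZMod 23, x = r * r
    · obtain ⟨k, hk⟩ := sq_eq x hx hsq
      have h1 := hchain k.val 1 y0 hty0
      rw [← hk] at h1
      rw [h1]
      show _ = (if x = 0 then _ else if ∃ r : ZMod 23, x = r * r then
        some ((if inv then x ^ 21 else x) * y0) else _)
      rw [if_neg hx, if_pos hsq]
      have h2 : (if inv then x ^ 21 else x) = gOf inv x := rfl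
      rw [h2, hk, mul_one, gOf_two_pow]
    · obtain ⟨k, hk⟩ := nonsq_eq x hx hsq
      have h1 := hchain k.val 5 z0 htz0
      rw [← hk] at h1
      rw [h1]
      show _ = (if x = 0 then _ else if ∃ r : ZMod 23, x = r * r then _ else
        some ((if inv then (x * 14) ^ 21 else x * 14) * z0))
      rw [if_neg hx, if_neg hsq]
      have h2 : (if inv then (x * 14) ^ 21 else x * 14) = gOf inv (x * 14) := rfl
      have h3 : x * 14 = 2 ^ k.val := by
        rw [hk, mul_assoc]
        have : (5 : ZMod 23) * 14 = 1 := by decide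
        rw [this, mul_one]
      rw [h2, h3, gOf_two_pow]
  refine ⟨decide (t none = none), y0, z0, hy0, hz0, by simp, ?_⟩
  rintro (_ | x)
  · show t none = if decide (t none = none) then none else some 0
    rcases hfixN with h1 | h1
    · rw [h1]; simp
    · rw [h1]; simp
  · by_cases hx : x = 0
    · subst hx
      rw [candF_zero]
      rcases hfixN with h1 | h1
      · rcases hfix0 with h2 | h2
        · exact absurd (t.injective (h2.trans h1.symm))
            (by decide : (some (0 : ZMod 23) : GolayPt) ≠ none)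
        · rw [h2, h1]; simp
      · rcases hfix0 with h2 | h2
        · rw [h2, h1]; simp
        · exact absurd (t.injective (h2.trans h1.symm))
            (by decide : (some (0 : ZMod 23) : GolayPt) ≠ none)
    · exact hsome x hx

theorem qr5_mem_supports :
    support₂ (qrWord 5) ∈ supports (golayCode : Set (GolayPt → ZMod 2)) :=
  ⟨qrWord 5, Submodule.subset_span (Or.inl ⟨5, rfl⟩), rfl⟩

theorem isCode_of_mem_M24 (t : Equiv.Perm GolayPt) (ht : t ∈ M24) (f : GolayPt → GolayPt)
    (hf : ∀ p, t p = f p) : Helper26.isCode (Helper26.maskOfSet (S5.image f)) = true := by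
  have h1 := smul_mem_supports_of_mem_M24 ht qr5_mem_supports
  have h2 : t • support₂ (qrWord 5) = S5.image f := by
    rw [support_qr5, Finset.smul_finset_def]
    apply Finset.image_congr
    intro p _
    exact hf p
  rw [h2, Helper26.mem_supports_golayCode_iff] at h1
  exact h1

theorem mulP_pow (u : (ZMod 23)ˣ) (k : ℕ) : mulP (u ^ k) = mulP u ^ k := by
  induction k with
  | zero => rw [pow_zero, pow_zero, mulP_one]
  | succ k ih => rw [pow_succ, pow_succ, ← mulP_mul, ih]

/-- the centraliser of `μ : x ↦ 2 x` in `M24` is generated by `μ` -/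
theorem mem_zpowers_of_commute_mulP (t : Equiv.Perm GolayPt) (ht : t ∈ M24)
    (h : t * mulP u2 = mulP u2 * t) : t ∈ Subgroup.zpowers (mulP u2) := by
  have happ : ∀ p, t (mulP u2 p) = mulP (wOf false) (t p) := fun p => by
    have := congrArg (fun f : Equiv.Perm GolayPt => f p) h
    show t (mulP u2 p) = mulP u2 (t p)
    simpa [Equiv.Perm.mul_apply] using this
  obtain ⟨aInf, y0, z0, hy0, hz0, _, hfun⟩ := eq_candF t false happ
  rcases cand_refute false aInf y0 z0 hy0 hz0 (by simp) with ⟨_, ha, k, hy, hz⟩ | hbad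
  · have : t = mulP u2 ^ k.val := by
      rw [← mulP_pow]
      apply Equiv.ext
      intro p
      rw [hfun p, ha, hy, hz]
      rcases p with _ | x
      · rfl
      · rw [mulP_some, val_u2_pow]
        show (if x = 0 then some 0 else if ∃ r : ZMod 23, x = r * r then
          some (x * 2 ^ k.val) else some (x * 14 * (5 * 2 ^ k.val))) = some (2 ^ k.val * x)
        by_cases hx : x = 0
        · rw [if_pos hx, hx, mul_zero]
        · rw [if_neg hx]
          by_cases hsq : ∃ r : ZMod 23, x = r * r
          · rw [if_pos hsq, mul_comm]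
          · rw [if_neg hsq]
            congr 1
            have : (14 : ZMod 23) * 5 = 1 := by decide
            calc x * 14 * (5 * 2 ^ k.val) = (14 * 5) * (2 ^ k.val * x) := by ring
              _ = 2 ^ k.val * x := by rw [this, one_mul]
    rw [this]
    exact Subgroup.pow_mem _ (Subgroup.mem_zpowers _) _
  · exfalso
    have := isCode_of_mem_M24 t ht _ hfun
    rw [hbad] at this
    exact absurd this (by decide)

/-- no element of `M24` fixing the point at infinity inverts `μ` -/
theorem not_invert_mulP (t : Equiv.Perm GolayPt) (ht : t ∈ M24) (hfix : t none = none)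
    (h : t * mulP u2 * t⁻¹ = (mulP u2)⁻¹) : False := by
  have h' : t * mulP u2 = mulP u2⁻¹ * t := by
    rw [← mulP_inv, ← h]; group
  have happ : ∀ p, t (mulP u2 p) = mulP (wOf true) (t p) := fun p => by
    have := congrArg (fun f : Equiv.Perm GolayPt => f p) h'
    show t (mulP u2 p) = mulP u2⁻¹ (t p)
    simpa [Equiv.Perm.mul_apply] using this
  obtain ⟨aInf, y0, z0, hy0, hz0, ha, hfun⟩ := eq_candF t true happ
  have haT : aInf = true := ha.2 hfix
  rcases cand_refute true aInf y0 z0 hy0 hz0 (fun _ => haT) with ⟨h1, _⟩ | hbad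
  · exact absurd h1 (by decide)
  · have := isCode_of_mem_M24 t ht _ hfun
    rw [hbad] at this
    exact absurd this (by decide)

end Cfsg.Agent.Lib.Helper27
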