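import Mathlib

/-!
# Counting with a Sylow subgroup of prime order

For an element `x` of prime order `p` in a finite group whose order is not divisible by `p ^ 2`:
the order of the group is the order of the normaliser of `⟨x⟩` times a number congruent to `1`
modulo `p`.  If `⟨x⟩` is self-centralising the normaliser has order `p * e` with `e ∣ p - 1`, and
it has odd order when no element inverts `x`.
-/

set_option autoImplicit false

namespace Cfsg.Agent.Lib.Helper27

open Subgroup

variable {G : Type*} [Group G] [Finite G]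

/-- Sylow's count for a Sylow subgroup of prime order -/
theorem card_eq_card_normalizer_mul {p : ℕ} [hp : Fact p.Prime] (x : G)
    (hx : orderOf x = p) (hp2 : ¬ p ^ 2 ∣ Nat.card G) :
    ∃ n, n % p = 1 ∧
      Nat.card G = Nat.card (normalizer ((zpowers x : Subgroup G) : Set G)) * n := by
  have hcard : Nat.card (zpowers x) = p := by rw [Nat.card_zpowers, hx]
  have hdvd : p ∣ Nat.card G := hx ▸ orderOf_dvd_natCard x
  have hpos : Nat.card G ≠ 0 := Nat.card_pos.ne'
  have hfac : (Nat.card G).factorization p = 1 := by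
    have h1 : 0 < (Nat.card G).factorization p := hp.out.factorization_pos_of_dvd hpos hdvd
    have h2 : ¬ 2 ≤ (Nat.card G).factorization p := fun h =>
      hp2 ((hp.out.pow_dvd_iff_le_factorization hpos).2 h)
    omega
  let P : Sylow p G := Sylow.ofCard (zpowers x) (by rw [hcard, hfac, pow_one])
  have h1 := card_sylow_modEq_one p G
  have h2 := Sylow.card_eq_index_normalizer P
  refine ⟨Nat.card (Sylow p G), ?_, ?_⟩
  · have h3 : Nat.card (Sylow p G) % p = 1 % p := h1
    rw [h3, Nat.one_mod_eq_one.mpr hp.out.one_lt.ne']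
  · rw [h2]
    exact (Subgroup.card_mul_index _).symm

theorem centralizer_zpowers_eq (x : G) (hC : ∀ g : G, g * x = x * g → g ∈ zpowers x) :
    centralizer ((zpowers x : Subgroup G) : Set G) = zpowers x := by
  apply le_antisymm
  · intro g hg
    apply hC
    exact (hg x (mem_zpowers x)).symm
  · intro g hg
    rw [mem_centralizer_iff]
    intro h hh
    obtain ⟨k, rfl⟩ := mem_zpowers_iff.1 hg
    obtain ⟨l, rfl⟩ := mem_zpowers_iff.1 hh
    exact ((Commute.refl x).zpow_zpow l k).eq

/-- the normaliser of a self-centralising subgroup of prime order `p` has order `p * e`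
with `e ∣ p - 1` -/
theorem card_normalizer_of_self_centralizing {p : ℕ} [hp : Fact p.Prime] (x : G)
    (hx : orderOf x = p) (hC : ∀ g : G, g * x = x * g → g ∈ zpowers x) :
    ∃ e, e ∣ p - 1 ∧ Nat.card (normalizer ((zpowers x : Subgroup G) : Set G)) = p * e := by
  have hcard : Nat.card (zpowers x) = p := by rw [Nat.card_zpowers, hx]
  have key := Subgroup.card_dvd_of_injective _
    (QuotientGroup.kerLift_injective (zpowers x).normalizerMonoidHom)
  rw [normalizerMonoidHom_ker, IsCyclic.card_mulAut, hcard, Nat.totient_prime hp.out,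
    centralizer_zpowers_eq x hC] at key
  refine ⟨((zpowers x).subgroupOf (normalizer ((zpowers x : Subgroup G) : Set G))).index, key, ?_⟩
  rw [← Subgroup.card_mul_index ((zpowers x).subgroupOf
    (normalizer ((zpowers x : Subgroup G) : Set G)))]
  congr 1
  rw [← hcard]
  exact Nat.card_congr (Subgroup.subgroupOfEquivOfLe le_normalizer).toEquiv

/-- if no element inverts `x`, the normaliser of the self-centralising `⟨x⟩` has odd order -/
theorem odd_card_normalizer_of_no_inverting {p : ℕ} [hp : Fact p.Prime] (hp2 : p ≠ 2) (x : G)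
    (hx : orderOf x = p) (hC : ∀ g : G, g * x = x * g → g ∈ zpowers x)
    (hinv : ∀ g : G, g * x * g⁻¹ ≠ x⁻¹) :
    Odd (Nat.card (normalizer ((zpowers x : Subgroup G) : Set G))) := by
  rw [← Nat.not_even_iff_odd]
  intro heven
  have : Fact (Nat.Prime 2) := ⟨Nat.prime_two⟩
  obtain ⟨τ, hτ⟩ := exists_prime_orderOf_dvd_card'
    (G := normalizer ((zpowers x : Subgroup G) : Set G)) 2 heven.two_dvd
  have hτ2 : (τ : G) * τ = 1 := by
    have h := pow_orderOf_eq_one τ
    rw [hτ, pow_two] at h
    exact congrArg Subtype.val h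
  have hτinv : (τ : G)⁻¹ = τ := inv_eq_of_mul_eq_one_left hτ2
  have hτne : (τ : G) ≠ 1 := by
    intro h
    have : τ = 1 := Subtype.ext h
    rw [this, orderOf_one] at hτ
    exact absurd hτ (by norm_num)
  -- `y = τ x τ⁻¹ ∈ ⟨x⟩`
  have hy : (τ : G) * x * (τ : G)⁻¹ ∈ zpowers x :=
    (mem_normalizer_iff.1 τ.2 x).1 (mem_zpowers x)
  set y := (τ : G) * x * (τ : G)⁻¹ with hydef
  have hxy : x * y = y * x := by
    obtain ⟨k, hk⟩ := mem_zpowers_iff.1 hy
    rw [← hk]
    exact ((Commute.refl x).zpow_right k).eq
  have hτy : (τ : G) * y * (τ : G)⁻¹ = x := by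
    rw [hydef, hτinv]
    calc (τ : G) * (τ * x * τ) * τ = (τ * τ) * x * (τ * τ) := by group
      _ = x := by rw [hτ2, one_mul, mul_one]
  -- `τ` commutes with `z = x y`
  have hz : (τ : G) * (x * y) * (τ : G)⁻¹ = x * y := by
    calc (τ : G) * (x * y) * (τ : G)⁻¹
        = ((τ : G) * x * (τ : G)⁻¹) * ((τ : G) * y * (τ : G)⁻¹) := by group
      _ = y * x := by rw [hτy]
      _ = x * y := hxy.symm
  by_cases hz1 : x * y = 1
  · -- `y = x⁻¹`
    apply hinv τ
    exact eq_inv_of_mul_eq_one_right hz1
  · -- `z` generates `⟨x⟩`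
    have hzmem : x * y ∈ zpowers x := mul_mem (mem_zpowers x) hy
    have hcard : Nat.card (zpowers x) = p := by rw [Nat.card_zpowers, hx]
    have hgen : zpowers (⟨x * y, hzmem⟩ : zpowers x) = ⊤ := by
      apply zpowers_eq_top_of_prime_card hcard
      intro h
      exact hz1 (congrArg Subtype.val h)
    have hxmem : (⟨x, mem_zpowers x⟩ : zpowers x) ∈ zpowers (⟨x * y, hzmem⟩ : zpowers x) := by
      rw [hgen]; exact mem_top _
    obtain ⟨k, hk⟩ := mem_zpowers_iff.1 hxmem
    have hk' : (x * y) ^ k = x := by
      have := congrArg Subtype.val hk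
      simpa using this
    have hτz : (τ : G) * (x * y) = (x * y) * τ := by
      calc (τ : G) * (x * y) = ((τ : G) * (x * y) * (τ : G)⁻¹) * τ := by group
        _ = (x * y) * τ := by rw [hz]
    have hτx : (τ : G) * x = x * τ := by
      have h3 := ((show Commute (τ : G) (x * y) from hτz).zpow_right k).eq
      rw [hk'] at h3
      exact h3
    have hτmem : (τ : G) ∈ zpowers x := hC τ hτx
    have hord : orderOf (τ : G) ∣ p := by
      have := orderOf_dvd_natCard (⟨(τ : G), hτmem⟩ : zpowers x)
      rw [hcard] at this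
      have h2 : orderOf (⟨(τ : G), hτmem⟩ : zpowers x) = orderOf (τ : G) :=
        Subgroup.orderOf_mk _ _
      rwa [h2] at this
    have hoτ : orderOf (τ : G) = 2 := by
      rw [← hτ]; exact (Subgroup.orderOf_coe τ)
    rw [hoτ] at hord
    exact hp2 ((Nat.prime_dvd_prime_iff_eq Nat.prime_two hp.out).1 hord).symm

end Cfsg.Agent.Lib.Helper27
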