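import Mathlib
import Cfsg.Agent.Lib.Helper27.L223Norm
import Cfsg.Agent.Lib.Helper27.SylowCount
import Cfsg.Agent.Lib.Helper7.M24Chain

/-!
# Overgroups of `PSL(2,23)` in `M24` and of `23:11` in `M23`

For a finite group `K` embedded in `M24` whose image contains the affine group `AFF`:
Sylow counting for the primes 23 and 11 determines the order of `K`.
-/

set_option autoImplicit false

namespace Cfsg.Agent.Lib.Helper27

open Cfsg Cfsg.Agent.Lib.Helper7 Cfsg.Agent.Lib.Helper8 Subgroup

/-- criterion for normalising a cyclic subgroup -/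
theorem mem_normalizer_zpowers {G : Type*} [Group G] (g x : G)
    (h1 : g * x * g⁻¹ ∈ zpowers x) (h2 : g⁻¹ * x * g ∈ zpowers x) :
    g ∈ normalizer ((zpowers x : Subgroup G) : Set G) := by
  rw [mem_normalizer_iff]
  intro h
  constructor
  · intro hh
    obtain ⟨k, rfl⟩ := mem_zpowers_iff.1 hh
    rw [← conj_zpow]
    exact zpow_mem h1 k
  · intro hh
    obtain ⟨k, hk⟩ := mem_zpowers_iff.1 hh
    have : h = (g⁻¹ * x * g) ^ k := by
      have h3 : (g⁻¹ * x * g) ^ k = g⁻¹ * x ^ k * g := by
        have := conj_zpow (i := k) (a := g⁻¹) (b := x)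
        rwa [inv_inv] at this
      rw [h3, hk]; group
    rw [this]
    exact zpow_mem h2 k

theorem isSquare_u2 : IsSquare u2 := ⟨u5, u2_eq⟩

theorem orderOf_mulP_u2 : orderOf (mulP u2) = 11 := by
  haveI : Fact (Nat.Prime 11) := ⟨by norm_num⟩
  apply orderOf_eq_prime
  · rw [← mulP_pow]
    have : u2 ^ 11 = 1 := by
      apply Units.ext
      rw [val_u2_pow]
      decide
    rw [this, mulP_one]
  · intro h
    have := congrArg (fun f : Equiv.Perm GolayPt => f (some 1)) h
    simp only [mulP_some, Equiv.Perm.one_apply, mul_one, Option.some.injEq] at this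
    exact absurd this (by decide)

/-- affine maps normalise the shift -/
theorem AFF_conj_shift {b : Equiv.Perm GolayPt} (hb : b ∈ AFF) :
    b * shiftPerm * b⁻¹ ∈ zpowers shiftPerm := by
  obtain ⟨u, c, _, rfl⟩ := hb
  have : addP c * mulP u * shiftPerm * (addP c * mulP u)⁻¹ = addP (u : ZMod 23) := by
    rw [← addP_one]
    calc addP c * mulP u * addP 1 * (addP c * mulP u)⁻¹
        = addP c * (mulP u * addP 1) * (mulP u)⁻¹ * (addP c)⁻¹ := by group
      _ = addP c * (addP ((u : ZMod 23) * 1) * mulP u) * (mulP u)⁻¹ * (addP c)⁻¹ := by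
        rw [mulP_addP]
      _ = addP c * addP ((u : ZMod 23) * 1) * (addP c)⁻¹ := by group
      _ = addP (u : ZMod 23) := by
        rw [addP_inv, addP_mul, addP_mul, mul_one]
        congr 1; ring
  rw [this, addP_eq_pow]
  exact pow_mem (mem_zpowers _) _

/-- `projInv` inverts the multiplications -/
theorem projInv_conj_mulP (v : (ZMod 23)ˣ) : projInv * mulP v * projInv⁻¹ = (mulP v)⁻¹ := by
  rw [projInv_mulP, mul_assoc, mul_inv_cancel, mul_one, mulP_inv]

section main

variable {K : Type*} [Group K] [Finite K] (φ : K →* Equiv.Perm GolayPt)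

theorem map_mem_zpowers {x g : K} (h : g ∈ zpowers x) : φ g ∈ zpowers (φ x) := by
  obtain ⟨k, rfl⟩ := mem_zpowers_iff.1 h
  rw [map_zpow]
  exact zpow_mem (mem_zpowers _) k

theorem mem_zpowers_of_map (hφ : Function.Injective φ) {x g : K} (h : φ g ∈ zpowers (φ x)) :
    g ∈ zpowers x := by
  obtain ⟨k, hk⟩ := mem_zpowers_iff.1 h
  rw [← map_zpow] at hk
  rw [← hφ hk]
  exact zpow_mem (mem_zpowers _) k

/-- the normaliser of the element of order 23 has order 253 -/
theorem card_normalizer_23 (hφ : Function.Injective φ) (hM : ∀ g, φ g ∈ M24)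
    (hA : ∀ b ∈ AFF, ∃ g : K, φ g = b) (x : K) (hx : φ x = shiftPerm) :
    Nat.card (normalizer ((zpowers x : Subgroup K) : Set K)) = 253 := by
  have hmem : ∀ g : normalizer ((zpowers x : Subgroup K) : Set K), φ g ∈ AFF := by
    intro g
    apply mem_AFF_of_normalizes_shift _ (hM g)
    have h1 : (g : K) * x * (g : K)⁻¹ ∈ zpowers x :=
      (mem_normalizer_iff.1 g.2 x).1 (mem_zpowers x)
    have h2 := map_mem_zpowers φ h1
    rwa [map_mul, map_mul, map_inv, hx] at h2
  have hbij : Function.Bijective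
      (fun g : normalizer ((zpowers x : Subgroup K) : Set K) => (⟨φ g, hmem g⟩ : AFF)) := by
    constructor
    · intro g g' h
      exact Subtype.ext (hφ (congrArg Subtype.val h))
    · rintro ⟨b, hb⟩
      obtain ⟨g, hg⟩ := hA b hb
      have hg1 : g * x * g⁻¹ ∈ zpowers x := by
        apply mem_zpowers_of_map φ hφ
        rw [map_mul, map_mul, map_inv, hx, hg]
        exact AFF_conj_shift hb
      have hg2 : g⁻¹ * x * g ∈ zpowers x := by
        apply mem_zpowers_of_map φ hφ
        rw [map_mul, map_mul, map_inv, hx, hg]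
        have := AFF_conj_shift (AFF.inv_mem hb)
        rwa [inv_inv] at this
      exact ⟨⟨g, mem_normalizer_zpowers g x hg1 hg2⟩, Subtype.ext hg⟩
  rw [Nat.card_congr (Equiv.ofBijective _ hbij), card_AFF]

theorem orderOf_of_map (hφ : Function.Injective φ) (x : K) : orderOf x = orderOf (φ x) :=
  (orderOf_injective φ hφ x).symm

theorem self_centralizing_11 (hφ : Function.Injective φ) (hM : ∀ g, φ g ∈ M24)
    (y : K) (hy : φ y = mulP u2) : ∀ g : K, g * y = y * g → g ∈ zpowers y := by
  intro g hg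
  apply mem_zpowers_of_map φ hφ
  rw [hy]
  apply mem_zpowers_of_commute_mulP _ (hM g)
  rw [← hy, ← map_mul, ← map_mul, hg]

theorem arith_23 : ∀ j < 1754, (23 * j + 1) ∣ 40320 →
    ((276 * (23 * j + 1)) % 11 = 1 ∨
      ((6072 * (23 * j + 1)) % 110 = 0 ∧ (6072 * (23 * j + 1) / 110) % 11 = 1)) →
    j = 0 ∨ j = 1753 := by
  decide +kernel

theorem arith_23b : ∀ j < 1754, (23 * j + 1) ∣ 40320 →
    ((23 * (23 * j + 1)) % 11 = 1 ∨
      ((253 * (23 * j + 1)) % 55 = 0 ∧ (253 * (23 * j + 1) / 55) % 11 = 1)) →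
    j = 0 ∨ j = 1753 := by
  decide +kernel

/-- overgroups of `PSL(2,23)`: the order is `6072` or that of `M24` -/
theorem card_of_overgroup_LL (hφ : Function.Injective φ) (hM : ∀ g, φ g ∈ M24)
    (hA : ∀ b ∈ AFF, ∃ g : K, φ g = b) (w : K) (hw : φ w = projInv)
    (hdvd : 6072 ∣ Nat.card K) (hdvd' : Nat.card K ∣ 244823040) :
    Nat.card K = 6072 ∨ Nat.card K = 244823040 := by
  haveI : Fact (Nat.Prime 23) := ⟨by norm_num⟩
  haveI : Fact (Nat.Prime 11) := ⟨by norm_num⟩
  obtain ⟨x, hx⟩ := hA shiftPerm (by rw [← addP_one]; exact addP_mem_AFF 1)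
  obtain ⟨y, hy⟩ := hA (mulP u2) (mulP_mem_AFF u2 isSquare_u2)
  have hox : orderOf x = 23 := by rw [orderOf_of_map φ hφ, hx, orderOf_shiftPerm]
  have hoy : orderOf y = 11 := by rw [orderOf_of_map φ hφ, hy, orderOf_mulP_u2]
  obtain ⟨m, hm⟩ := hdvd
  have hm' : m ∣ 40320 := by
    rw [hm, show 244823040 = 6072 * 40320 by norm_num] at hdvd'
    exact (Nat.mul_dvd_mul_iff_left (by norm_num)).1 hdvd'
  have hmpos : 0 < m := Nat.pos_of_dvd_of_pos hm' (by norm_num)
  have hmle : m ≤ 40320 := Nat.le_of_dvd (by norm_num) hm'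
  -- the prime 23
  have h23 : ¬ 23 ^ 2 ∣ Nat.card K := fun h =>
    absurd (h.trans hdvd') (by norm_num)
  obtain ⟨n23, hn23, hc23⟩ := card_eq_card_normalizer_mul x hox h23
  rw [card_normalizer_23 φ hφ hM hA x hx] at hc23
  -- the prime 11
  have h11 : ¬ 11 ^ 2 ∣ Nat.card K := fun h =>
    absurd (h.trans hdvd') (by norm_num)
  obtain ⟨n11, hn11, hc11⟩ := card_eq_card_normalizer_mul y hoy h11
  obtain ⟨e, he, hce⟩ := card_normalizer_of_self_centralizing y hoy
    (self_centralizing_11 φ hφ hM y hy)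
  -- the involution `w` normalises `⟨y⟩`
  have hwn : w ∈ normalizer ((zpowers y : Subgroup K) : Set K) := by
    have hw1 : w * y * w⁻¹ = y⁻¹ := by
      apply hφ
      rw [map_mul, map_mul, map_inv, map_inv, hw, hy, projInv_conj_mulP]
    have hw2 : w⁻¹ * y * w = y⁻¹ := by
      apply hφ
      rw [map_mul, map_mul, map_inv, map_inv, hw, hy, projInv_inv]
      have := projInv_conj_mulP u2
      rwa [projInv_inv] at this
    apply mem_normalizer_zpowers
    · rw [hw1]; exact inv_mem (mem_zpowers y)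
    · rw [hw2]; exact inv_mem (mem_zpowers y)
  have hwo : orderOf w = 2 := by
    rw [orderOf_of_map φ hφ, hw]
    haveI : Fact (Nat.Prime 2) := ⟨Nat.prime_two⟩
    apply orderOf_eq_prime
    · rw [pow_two]; exact projInv_mul_self
    · intro h
      have := congrArg (fun f : Equiv.Perm GolayPt => f none) h
      exact absurd this (by decide)
  have heven : 2 ∣ Nat.card (normalizer ((zpowers y : Subgroup K) : Set K)) := by
    have h1 := orderOf_dvd_natCard (⟨w, hwn⟩ : normalizer ((zpowers y : Subgroup K) : Set K))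
    rwa [Subgroup.orderOf_mk, hwo] at h1
  rw [hce] at hc11 heven
  -- arithmetic
  have he' : e = 2 ∨ e = 10 := by
    have hle : e ≤ 10 := Nat.le_of_dvd (by norm_num) he
    have h2 : 2 ∣ e := by
      have : Nat.Coprime 2 11 := by norm_num
      exact (Nat.Coprime.dvd_mul_left this).1 heven
    interval_cases e <;> simp_all
  have hmod : m % 23 = 1 := by omega
  have hj : m = 23 * (m / 23) + 1 := by omega
  have hjlt : m / 23 < 1754 := by omega
  have key := arith_23 (m / 23) hjlt (by rw [← hj]; exact hm')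
  rw [← hj] at key
  have hcases : m / 23 = 0 ∨ m / 23 = 1753 := by
    apply key
    rcases he' with rfl | rfl
    · left; omega
    · right; omega
  rcases hcases with h | h
  · left; omega
  · right; omega

/-- overgroups of `23:11` fixing the point at infinity: the order is `253` or that of `M23` -/
theorem card_of_overgroup_AFF (hφ : Function.Injective φ) (hM : ∀ g, φ g ∈ M24)
    (hfix : ∀ g, φ g none = none)
    (hA : ∀ b ∈ AFF, ∃ g : K, φ g = b)
    (hdvd : 253 ∣ Nat.card K) (hdvd' : Nat.card K ∣ 10200960) :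
    Nat.card K = 253 ∨ Nat.card K = 10200960 := by
  haveI : Fact (Nat.Prime 23) := ⟨by norm_num⟩
  haveI : Fact (Nat.Prime 11) := ⟨by norm_num⟩
  obtain ⟨x, hx⟩ := hA shiftPerm (by rw [← addP_one]; exact addP_mem_AFF 1)
  obtain ⟨y, hy⟩ := hA (mulP u2) (mulP_mem_AFF u2 isSquare_u2)
  have hox : orderOf x = 23 := by rw [orderOf_of_map φ hφ, hx, orderOf_shiftPerm]
  have hoy : orderOf y = 11 := by rw [orderOf_of_map φ hφ, hy, orderOf_mulP_u2]
  obtain ⟨m, hm⟩ := hdvd
  have hm' : m ∣ 40320 := by
    rw [hm, show 10200960 = 253 * 40320 by norm_num] at hdvd'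
    exact (Nat.mul_dvd_mul_iff_left (by norm_num)).1 hdvd'
  have hmpos : 0 < m := Nat.pos_of_dvd_of_pos hm' (by norm_num)
  have hmle : m ≤ 40320 := Nat.le_of_dvd (by norm_num) hm'
  have h23 : ¬ 23 ^ 2 ∣ Nat.card K := fun h =>
    absurd (h.trans hdvd') (by norm_num)
  obtain ⟨n23, hn23, hc23⟩ := card_eq_card_normalizer_mul x hox h23
  rw [card_normalizer_23 φ hφ hM hA x hx] at hc23
  have h11 : ¬ 11 ^ 2 ∣ Nat.card K := fun h =>
    absurd (h.trans hdvd') (by norm_num)
  obtain ⟨n11, hn11, hc11⟩ := card_eq_card_normalizer_mul y hoy h11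
  have hC := self_centralizing_11 φ hφ hM y hy
  obtain ⟨e, he, hce⟩ := card_normalizer_of_self_centralizing y hoy hC
  have hodd : Odd (Nat.card (normalizer ((zpowers y : Subgroup K) : Set K))) := by
    apply odd_card_normalizer_of_no_inverting (by norm_num) y hoy hC
    intro g hg
    apply not_invert_mulP (φ g) (hM g) (hfix g)
    rw [← hy, ← map_inv, ← map_mul, ← map_mul, hg, map_inv]
  rw [hce] at hc11 hodd
  have he' : e = 1 ∨ e = 5 := by
    have hle : e ≤ 10 := Nat.le_of_dvd (by norm_num) he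
    have h2 : ¬ 2 ∣ e := by
      intro h
      have : Even (11 * e) := (even_iff_two_dvd.2 h).mul_left 11
      exact (Nat.not_even_iff_odd.2 hodd) this
    interval_cases e <;> simp_all
  have hmod : m % 23 = 1 := by omega
  have hj : m = 23 * (m / 23) + 1 := by omega
  have hjlt : m / 23 < 1754 := by omega
  have key := arith_23b (m / 23) hjlt (by rw [← hj]; exact hm')
  rw [← hj] at key
  have hcases : m / 23 = 0 ∨ m / 23 = 1753 := by
    apply key
    rcases he' with rfl | rfl
    · left; omega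
    · right; omega
  rcases hcases with h | h
  · left; omega
  · right; omega

end main

end Cfsg.Agent.Lib.Helper27
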