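import Mathlib
import Cfsg.Agent.Lib.Helper27.L223Max
import Cfsg.Agent.Lib.Helper7.M24Trans

/-!
# `PSL(2,23)` is maximal in `M24` and `23:11` is maximal in `M23`
-/

set_option autoImplicit false

namespace Cfsg.Agent.Lib.Helper27

open Cfsg Cfsg.Agent.Lib.Helper7 Cfsg.Agent.Lib.Helper8 Subgroup

theorem BB_le_M24 : BB ≤ M24 := by rw [BB_eq_AFF]; exact AFF_le_M24

theorem BB_le_inf :
    BB ≤ M24 ⊓ MulAction.stabilizer (Equiv.Perm GolayPt) (none : GolayPt) := by
  apply le_inf BB_le_M24
  intro g hg
  rw [BB_eq_AFF] at hg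
  exact MulAction.mem_stabilizer_iff.2 (AFF_fix_none hg)

theorem card_LL_subgroupOf : Nat.card (LL.subgroupOf M24) = 6072 := by
  rw [← card_LL]
  exact Nat.card_congr (Subgroup.subgroupOfEquivOfLe LL_le_M24).toEquiv

theorem coatom_LL : IsCoatom (LL.subgroupOf M24) := by
  constructor
  · intro h
    have h1 := card_LL_subgroupOf
    rw [h, Subgroup.card_top, card_M24] at h1
    exact absurd h1 (by norm_num)
  · intro K hK
    let φ : K →* Equiv.Perm GolayPt := M24.subtype.comp K.subtype
    have hφ : Function.Injective φ :=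
      (Subgroup.subtype_injective M24).comp (Subgroup.subtype_injective K)
    have hM : ∀ g, φ g ∈ M24 := fun g => g.1.2
    have hA : ∀ b ∈ AFF, ∃ g : K, φ g = b := fun b hb =>
      ⟨⟨⟨b, AFF_le_M24 hb⟩, hK.le (mem_subgroupOf.2 (AFF_le_LL hb))⟩, rfl⟩
    have hdvd : 6072 ∣ Nat.card K := by
      rw [← card_LL_subgroupOf]; exact Subgroup.card_dvd_of_le hK.le
    have hdvd' : Nat.card K ∣ 244823040 := by
      rw [← card_M24]; exact Subgroup.card_subgroup_dvd_card K
    rcases card_of_overgroup_LL φ hφ hM hA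
      ⟨⟨projInv, LL_le_M24 projInv_mem_LL⟩, hK.le (mem_subgroupOf.2 projInv_mem_LL)⟩ rfl
      hdvd hdvd' with h | h
    · exfalso
      have : LL.subgroupOf M24 = K :=
        Subgroup.eq_of_le_of_card_ge hK.le (by rw [h, card_LL_subgroupOf])
      exact hK.ne this
    · exact Subgroup.eq_top_of_card_eq K (by rw [h, card_M24])

theorem BB_subgroupOf_le :
    BB.subgroupOf M24 ≤ MulAction.stabilizer M24 (none : GolayPt) := by
  intro g hg
  rw [mem_subgroupOf, BB_eq_AFF] at hg
  rw [MulAction.mem_stabilizer_iff, M24_smul_def]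
  exact AFF_fix_none hg

theorem card_BB_subgroupOf :
    Nat.card ((BB.subgroupOf M24).subgroupOf (MulAction.stabilizer M24 (none : GolayPt))) = 253 := by
  rw [← card_BB]
  exact Nat.card_congr ((Subgroup.subgroupOfEquivOfLe BB_subgroupOf_le).toEquiv.trans
    (Subgroup.subgroupOfEquivOfLe BB_le_M24).toEquiv)

theorem coatom_BB :
    IsCoatom ((BB.subgroupOf M24).subgroupOf (MulAction.stabilizer M24 (none : GolayPt))) := by
  constructor
  · intro h
    have h1 := card_BB_subgroupOf
    rw [h, Subgroup.card_top, card_stabilizer_M24] at h1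
    exact absurd h1 (by norm_num)
  · intro K hK
    let φ : K →* Equiv.Perm GolayPt :=
      M24.subtype.comp ((MulAction.stabilizer M24 (none : GolayPt)).subtype.comp K.subtype)
    have hφ : Function.Injective φ :=
      (Subgroup.subtype_injective M24).comp
        ((Subgroup.subtype_injective _).comp (Subgroup.subtype_injective K))
    have hM : ∀ g, φ g ∈ M24 := fun g => g.1.1.2
    have hfix : ∀ g, φ g none = none := fun g => by
      have h1 := MulAction.mem_stabilizer_iff.1 g.1.2
      rwa [M24_smul_def] at h1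
    have hA : ∀ b ∈ AFF, ∃ g : K, φ g = b := fun b hb =>
      ⟨⟨⟨⟨b, AFF_le_M24 hb⟩, by
          rw [MulAction.mem_stabilizer_iff, M24_smul_def]; exact AFF_fix_none hb⟩,
        hK.le (mem_subgroupOf.2 (mem_subgroupOf.2 (by rw [BB_eq_AFF]; exact hb)))⟩, rfl⟩
    have hdvd : 253 ∣ Nat.card K := by
      rw [← card_BB_subgroupOf]; exact Subgroup.card_dvd_of_le hK.le
    have hdvd' : Nat.card K ∣ 10200960 := by
      rw [← card_stabilizer_M24 none]; exact Subgroup.card_subgroup_dvd_card K
    rcases card_of_overgroup_AFF φ hφ hM hfix hA hdvd hdvd' with h | h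
    · exfalso
      have : (BB.subgroupOf M24).subgroupOf (MulAction.stabilizer M24 (none : GolayPt)) = K :=
        Subgroup.eq_of_le_of_card_ge hK.le (by rw [h, card_BB_subgroupOf])
      exact hK.ne this
    · exact Subgroup.eq_top_of_card_eq K (by rw [h, card_stabilizer_M24])

end Cfsg.Agent.Lib.Helper27
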