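import Mathlib
import Cfsg.Prelude.Def_SporadicCombinatorics
import Cfsg.Agent.Lib.Helper27.M24Cfg

/-!
# Tree-shaped orbit certificates (linear-time check) and tree sort (for the cover check)

For larger orbits (the 1584 dodecads meeting a dodecad in six points, ...) the list certificates of
`M24Orbit` are checked in quadratic time.  Here the certificate is a tree in left-child /
right-sibling form: `node m k child sib` says that the mask `m` is the image of the parent mask under
the `k`-th table; `child` are the masks obtained from `m`, `sib` the further masks obtained from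
the parent.  The cover check compares the sorted list of reached masks with the filtered list of
all masks.
-/

set_option autoImplicit false

namespace Cfsg.Agent.Lib.Helper27

open Cfsg Cfsg.Agent.Lib.Helper7
open scoped Pointwise

/-- orbit tree, left-child right-sibling form -/
inductive OT where
  | leaf : OT
  | node (m : ℕ) (k : ℕ) (child : OT) (sib : OT) : OT

/-- short name for `OT.node` (used by the generated data files) -/
abbrev otN : ℕ → ℕ → OT → OT → OT := OT.node

/-- short name for `OT.leaf` -/
abbrev otE : OT := OT.leaf

/-- the checker: `p` is the parent mask -/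
def otCheck (ts : List (List ℕ)) : ℕ → OT → Bool
  | _, .leaf => true
  | p, .node m k c s =>
    mapsInto (ts.getD k idT) p m && decide (pc m ≤ pc p) && otCheck ts m c && otCheck ts p s

/-- all masks in the tree (prepended to `acc`) -/
def otList : OT → List ℕ → List ℕ
  | .leaf, acc => acc
  | .node m _ c s, acc => m :: otList c (otList s acc)

theorem otCheck_sound (H : Subgroup (Equiv.Perm GolayPt)) (gs : List (Equiv.Perm GolayPt))
    (ts : List (List ℕ)) (hM : List.Forall₂ Matches gs ts) (hH : ∀ g ∈ gs, g ∈ H) (b : ℕ) :
    ∀ (t : OT) (p : ℕ) (acc : List ℕ), (∃ g ∈ H, g • setOf b = setOf p) →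
      otCheck ts p t = true → ∀ x ∈ otList t acc, x ∈ acc ∨ ∃ g ∈ H, g • setOf b = setOf x := by
  intro t
  induction t with
  | leaf => intro p acc _ _ x hx; exact Or.inl hx
  | node m k c s ihc ihs =>
    intro p acc hp hc x hx
    simp only [otCheck, Bool.and_eq_true, decide_eq_true_eq] at hc
    obtain ⟨⟨⟨hmap, hpc⟩, hcc⟩, hcs⟩ := hc
    obtain ⟨g, hg, hgp⟩ := hp
    have hk : gs.getD k 1 ∈ H := getD_mem_of_forall hH k
    have hmk : Matches (gs.getD k 1) (ts.getD k idT) := forall₂_getD hM matches_one k
    have hm : ∃ g' ∈ H, g' • setOf b = setOf m := by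
      refine ⟨gs.getD k 1 * g, H.mul_mem hk hg, ?_⟩
      rw [mul_smul, hgp]
      exact smul_setOf_eq_of_mapsInto hmk hmap hpc
    simp only [otList, List.mem_cons] at hx
    rcases hx with rfl | hx
    · exact Or.inr hm
    · rcases ihc m (otList s acc) hm hcc x hx with h | h
      · exact ihs p acc ⟨g, hg, hgp⟩ hcs x h
      · exact Or.inr h

/-- all masks reached by a tree certificate starting from `b` -/
def reachedOT (b : ℕ) (t : OT) : List ℕ := b :: otList t []

theorem orbit_of_tree (H : Subgroup (Equiv.Perm GolayPt)) (gs : List (Equiv.Perm GolayPt))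
    (ts : List (List ℕ)) (hM : List.Forall₂ Matches gs ts) (hH : ∀ g ∈ gs, g ∈ H) (b : ℕ)
    (t : OT) (hc : otCheck ts b t = true) :
    ∀ m ∈ reachedOT b t, ∃ g ∈ H, g • setOf b = setOf m := by
  intro m hm
  unfold reachedOT at hm
  have hb : ∃ g ∈ H, g • setOf b = setOf b := ⟨1, H.one_mem, one_smul _ _⟩
  rcases List.mem_cons.mp hm with rfl | hm'
  · exact hb
  · rcases otCheck_sound H gs ts hM hH b t b [] hb hc m hm' with h | h
    · exact absurd h List.not_mem_nil
    · exact h

/-! ### tree sort -/

/-- binary search tree of naturals -/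
inductive BT where
  | leaf : BT
  | node (l : BT) (k : ℕ) (r : BT) : BT

/-- insertion (no balancing) -/
def BT.insert : BT → ℕ → BT
  | .leaf, x => .node .leaf x .leaf
  | .node l k r, x =>
    if x < k then .node (l.insert x) k r else if k < x then .node l k (r.insert x) else .node l k r

/-- in-order traversal, prepended to `acc` -/
def BT.toList : BT → List ℕ → List ℕ
  | .leaf, acc => acc
  | .node l k r, acc => l.toList (k :: r.toList acc)

/-- membership in the tree as a set of keys (no search-tree invariant used) -/
def BT.Mem (x : ℕ) : BT → Prop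
  | .leaf => False
  | .node l k r => BT.Mem x l ∨ x = k ∨ BT.Mem x r

theorem BT.mem_insert {x y : ℕ} : ∀ {t : BT}, BT.Mem x (t.insert y) → BT.Mem x t ∨ x = y := by
  intro t
  induction t with
  | leaf =>
    intro h
    simp only [BT.insert, BT.Mem] at h
    rcases h with h | h | h
    · exact absurd h id
    · exact Or.inr h
    · exact absurd h id
  | node l k r ihl ihr =>
    intro h
    simp only [BT.insert] at h
    split_ifs at h with h1 h2
    · simp only [BT.Mem] at h ⊢
      rcases h with h | h | h
      · rcases ihl h with h' | h'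
        · exact Or.inl (Or.inl h')
        · exact Or.inr h'
      · exact Or.inl (Or.inr (Or.inl h))
      · exact Or.inl (Or.inr (Or.inr h))
    · simp only [BT.Mem] at h ⊢
      rcases h with h | h | h
      · exact Or.inl (Or.inl h)
      · exact Or.inl (Or.inr (Or.inl h))
      · rcases ihr h with h' | h'
        · exact Or.inl (Or.inr (Or.inr h'))
        · exact Or.inr h'
    · exact Or.inl h

theorem BT.mem_toList {x : ℕ} : ∀ {t : BT} {acc : List ℕ}, x ∈ t.toList acc → BT.Mem x t ∨ x ∈ acc := by
  intro t
  induction t with
  | leaf => intro acc h; exact Or.inr h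
  | node l k r ihl ihr =>
    intro acc h
    simp only [BT.toList] at h
    rcases ihl h with h' | h'
    · exact Or.inl (Or.inl h')
    · rcases List.mem_cons.1 h' with rfl | h''
      · exact Or.inl (Or.inr (Or.inl rfl))
      · rcases ihr h'' with h3 | h3
        · exact Or.inl (Or.inr (Or.inr h3))
        · exact Or.inr h3

theorem BT.mem_foldl_insert {x : ℕ} : ∀ {l : List ℕ} {t : BT},
    BT.Mem x (l.foldl BT.insert t) → BT.Mem x t ∨ x ∈ l := by
  intro l
  induction l with
  | nil => intro t h; exact Or.inl h
  | cons a l ih =>
    intro t h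
    rw [List.foldl_cons] at h
    rcases ih h with h' | h'
    · rcases BT.mem_insert h' with h'' | h''
      · exact Or.inl h''
      · exact Or.inr (by rw [h'']; exact List.mem_cons_self)
    · exact Or.inr (List.mem_cons_of_mem _ h')

/-- sort (and deduplicate) a list of naturals -/
def treeSort (l : List ℕ) : List ℕ := (l.foldl BT.insert BT.leaf).toList []

theorem mem_of_mem_treeSort {x : ℕ} {l : List ℕ} (h : x ∈ treeSort l) : x ∈ l := by
  unfold treeSort at h
  rcases BT.mem_toList h with h' | h'
  · rcases BT.mem_foldl_insert h' with h'' | h''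
    · exact absurd h'' id
    · exact h''
  · exact absurd h' List.not_mem_nil

/-! ### classes with tree certificates -/

/-- invariant, base mask, tree certificate -/
abbrev OrbClassT := ℕ × ℕ × OT

/-- all tree certificates are accepted -/
def classesOKT (ts : List (List ℕ)) (classes : List OrbClassT) : Bool :=
  classes.all fun c => otCheck ts c.2.1 c.2.2

/-- every selected mask of `L` has the invariant of some class, and the selected masks with the
invariant of a class are exactly (as a sorted list) the masks reached by its certificate -/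
def coverOKT (L : List ℕ) (sel : ℕ → Bool) (inv : ℕ → ℕ) (classes : List OrbClassT) : Bool :=
  (L.all fun m => !sel m || (classes.map fun c => c.1).contains (inv m)) &&
    classes.all fun c =>
      (L.filter fun m => sel m && inv m == c.1) == treeSort (reachedOT c.2.1 c.2.2)

theorem orbits_of_classesT (L : List ℕ) (H : Subgroup (Equiv.Perm GolayPt))
    (gs : List (Equiv.Perm GolayPt))
    (ts : List (List ℕ)) (hM : List.Forall₂ Matches gs ts) (hH : ∀ g ∈ gs, g ∈ H)
    (sel : ℕ → Bool) (inv : ℕ → ℕ) (classes : List OrbClassT)
    (hc : classesOKT ts classes = true) (hall : coverOKT L sel inv classes = true) :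
    ∀ m ∈ L, ∀ m' ∈ L, sel m = true → sel m' = true → inv m = inv m' →
      ∃ g ∈ H, g • setOf m = setOf m' := by
  intro m hm m' hm' hs hs' hinv
  unfold coverOKT at hall
  rw [Bool.and_eq_true, List.all_eq_true, List.all_eq_true] at hall
  obtain ⟨hall1, hall2⟩ := hall
  have h1 := hall1 m hm
  rw [hs] at h1
  simp only [Bool.not_true, Bool.false_or, List.contains_iff_mem, List.mem_map] at h1
  obtain ⟨c, hcm, hic⟩ := h1
  have h2 := hall2 c hcm
  rw [beq_iff_eq] at h2
  have key : ∀ n ∈ L, sel n = true → inv n = c.1 → ∃ g ∈ H, g • setOf c.2.1 = setOf n := by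
    intro n hn hsn hin
    have hmem : n ∈ L.filter fun m => sel m && inv m == c.1 := by
      rw [List.mem_filter]
      exact ⟨hn, by simp [hsn, hin]⟩
    rw [h2] at hmem
    have h3 := List.all_eq_true.1 hc c hcm
    exact orbit_of_tree H gs ts hM hH c.2.1 c.2.2 h3 n (mem_of_mem_treeSort hmem)
  exact orbit_pair H (key m hm hs hic.symm) (key m' hm' hs' (by rw [← hinv, hic]))

/-- conjugacy of selected masks of `L` with equal invariant under a configuration stabilizer,
tree-certificate version -/
theorem cfg_orbitsT (L : List ℕ) (prog : List (ℕ × ℕ)) (idxs : List ℕ) (T : List (List ℕ))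
    (hT : slpT prog idxs = T) (pis ms : List ℕ) (hpis : ∀ i ∈ pis, i < 24)
    (hfix : T.all (fixesOK pis ms) = true)
    (sel : ℕ → Bool) (inv : ℕ → ℕ) (classes : List OrbClassT)
    (hc : classesOKT T classes = true) (hall : coverOKT L sel inv classes = true) :
    ∀ m ∈ L, ∀ m' ∈ L, sel m = true → sel m' = true → inv m = inv m' →
      ∃ g ∈ cfgStab (pis.map pt) (ms.map setOf), g • setOf m = setOf m' := by
  have hM := slp_match prog idxs
  rw [hT] at hM
  exact orbits_of_classesT L _ (slpP prog idxs) T hM
    (slpP_mem_cfgStab prog idxs T hT pis ms hpis hfix) sel inv classes hc hall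

end Cfsg.Agent.Lib.Helper27
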