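import Mathlib
import Cfsg.Agent.Lib.Helper27.M24Tree

/-!
# Generators of the stabilizer in `M24` of the base dodecad, with orbit trees on all dodecads
AUTO-GENERATED data (Python search); everything is re-checked by the kernel.
-/

set_option autoImplicit false

namespace Cfsg.Agent.Lib.Helper27

open Cfsg Cfsg.Agent.Lib.Helper7

/-- straight-line program in the three generators of `M24` -/
def dodProg : List (ℕ × ℕ) :=
  [
   (0, 0), (3, 3), (3, 4), (4, 4), (6, 6), (5, 7), (2, 2), (9, 9), (1, 2), (11, 8), (12, 10), (13, 1),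
   (14, 2), (15, 1), (16, 10), (17, 10), (18, 0), (19, 2), (1, 10), (21, 8), (22, 10), (23, 8), (24, 2), (25, 2),
   (26, 8), (27, 1), (28, 10), (29, 1), (30, 0)]

/-- stack positions of the chosen stabilizer elements -/
def dodIdx : List ℕ := [20, 31]

/-- their tables -/
def dodT : List (List ℕ) :=
  [[14, 7, 1, 23, 19, 13, 2, 15, 8, 9, 10, 11, 3, 16, 12, 6, 17, 20, 21, 18, 5, 22, 4, 0],
   [8, 15, 6, 23, 10, 17, 7, 14, 1, 3, 4, 21, 9, 5, 2, 12, 20, 22, 18, 19, 11, 13, 16, 0]]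

set_option maxRecDepth 1000000 in
/-- orbit tree for the class with invariant 12 (1 elements) -/
def dodTree12 : OT :=
    otE

set_option maxRecDepth 1000000 in
/-- orbit tree for the class with invariant 8 (495 elements) -/
def dodTree8 : OT :=
    (otN 9035526 0 (otN 401355 0 (otN 11587468 0 (otN 12623715 0 (otN 2331547 1 (otN 14336968 0 otE (otN
    13694730 1 (otN 8460281 0 (otN 9586587 1 (otN 10016673 0 otE (otN 12635423 1 (otN 8936915 0 otE otE)
    otE)) otE) (otN 8493631 1 (otN 9071307 0 (otN 9820805 0 (otN 2284139 0 (otN 13662924 0 otE otE) (otN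
    3431245 1 (otN 14703406 0 otE otE) otE)) otE) otE) otE)) otE)) otE) (otN 10516575 1 (otN 13195407 0 (otN
    8837275 0 (otN 12114121 0 (otN 12900461 0 (otN 10949573 1 (otN 7521039 0 (otN 12695886 1 otE otE) otE)
    otE) (otN 11041669 1 (otN 4578059 0 (otN 10640344 0 (otN 14195469 0 otE otE) otE) otE) otE)) (otN
    14997253 1 (otN 6313819 0 (otN 8497054 1 otE otE) (otN 340831 1 (otN 11223950 0 (otN 14213199 1 otE otE)
    otE) otE)) otE)) (otN 12174149 1 (otN 4608871 0 (otN 3175326 0 (otN 13210538 0 (otN 10211851 1 otE otE)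
    (otN 8449646 1 (otN 8470215 0 otE (otN 10653949 1 otE otE)) otE)) (otN 4686798 1 (otN 14012618 1 otE otE)
    otE)) (otN 1587663 1 (otN 8767918 0 (otN 10664387 0 (otN 5360077 0 (otN 8575350 0 otE otE) otE) otE) (otN
    11062242 1 otE otE)) otE)) otE)) (otN 10528741 1 (otN 4319047 0 (otN 1151486 1 (otN 9625282 1 (otN
    1089261 0 otE (otN 6347421 1 otE otE)) otE) otE) (otN 160251 1 (otN 12765094 1 (otN 1095635 0 otE (otN
    4444255 1 (otN 13735876 1 (otN 165759 0 otE otE) otE) otE)) otE) otE)) otE)) otE)) (otN 14992282 1 (otN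
    15242193 0 (otN 5030749 0 (otN 11293526 0 (otN 7082895 0 (otN 9298762 1 otE otE) otE) otE) (otN 620427 1
    (otN 8902536 0 (otN 11704137 0 (otN 13649773 0 (otN 8419127 0 otE (otN 8587743 1 (otN 10144135 0 otE otE)
    otE)) (otN 12598171 1 (otN 9030553 0 (otN 12080399 1 otE otE) otE) otE)) (otN 13914655 1 otE otE)) (otN
    10011454 1 (otN 9188323 0 (otN 2483085 0 (otN 14930754 0 (otN 5354127 1 (otN 8635130 0 otE (otN 9558888 1
    otE otE)) otE) (otN 9728366 1 (otN 8817383 1 (otN 3205831 0 otE otE) otE) otE)) (otN 967595 1 (otN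
    11858880 0 otE (otN 13553934 1 otE otE)) otE)) (otN 9083983 1 (otN 9718991 0 (otN 10542247 0 otE (otN
    10799573 1 (otN 6871367 0 otE otE) otE)) otE) otE)) otE)) otE)) (otN 8778767 1 (otN 10704075 0 (otN
    13816973 0 (otN 9491579 0 (otN 8560533 1 (otN 1625931 0 (otN 11049374 1 otE otE) otE) otE) (otN 12671829
    1 (otN 678687 0 otE (otN 3213263 1 (otN 9497050 1 (otN 9017829 0 otE otE) otE) otE)) otE)) (otN 13689749
    1 (otN 89455 1 (otN 8551822 0 (otN 9543051 0 (otN 11590419 1 (otN 4742121 0 otE otE) otE) otE) (otN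
    11699158 1 (otN 4259019 1 (otN 10605492 1 otE otE) otE) otE)) otE) otE)) (otN 9737077 1 (otN 2646895 0
    (otN 12940166 0 (otN 1426031 1 (otN 10646246 0 (otN 4383469 1 otE otE) (otN 9869772 1 (otN 11569519 0 otE
    otE) otE)) otE) (otN 9085422 1 (otN 9806279 0 (otN 2343399 0 (otN 5435846 0 (otN 4315878 1 otE otE) otE)
    (otN 1366499 1 (otN 2161132 0 otE otE) otE)) (otN 13291747 1 (otN 4969349 1 (otN 5854030 1 (otN 10062542
    1 otE otE) otE) otE) otE)) otE)) otE) otE)) otE)) otE)) (otN 3707487 1 (otN 13386478 0 (otN 10793623 0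
    (otN 6931147 0 (otN 10088844 1 (otN 8884587 0 (otN 11690445 0 (otN 12610023 1 otE otE) (otN 14062467 1
    (otN 3195897 0 otE otE) otE)) (otN 9984615 1 (otN 293551 0 (otN 10615434 0 (otN 12819145 0 (otN 9620061 0
    otE otE) (otN 11596333 1 (otN 8534893 1 otE otE) otE)) otE) otE) otE)) otE) (otN 325481 1 (otN 10581836 0
    (otN 12785423 0 (otN 13730651 1 otE otE) (otN 9446143 1 (otN 9036455 0 (otN 520899 0 (otN 3396300 0 (otN
    13800046 0 otE otE) (otN 5559212 1 (otN 10531706 0 otE otE) otE)) otE) (otN 8572393 1 (otN 9502021 0 otE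
    (otN 14832023 1 otE otE)) otE)) otE)) (otN 8786878 1 (otN 12100491 0 (otN 12960737 0 (otN 2290517 0 (otN
    4208622 1 otE otE) otE) (otN 8976683 1 otE otE)) (otN 13026891 1 (otN 12947869 1 (otN 11190619 0 otE otE)
    otE) otE)) otE)) otE)) (otN 9421005 1 (otN 11980871 0 (otN 7360751 0 (otN 12644542 0 (otN 9023707 0 otE
    (otN 8640101 1 (otN 1209935 0 (otN 9524910 0 (otN 8566443 0 otE otE) otE) (otN 5379037 1 (otN 12668874 1
    otE otE) otE)) otE)) (otN 8645572 1 (otN 1284935 0 (otN 1199086 0 (otN 14862542 1 otE otE) otE) otE)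
    otE)) (otN 4504517 1 (otN 2214750 0 (otN 13245382 0 otE otE) (otN 2446314 1 (otN 14857100 0 (otN 12677739
    1 (otN 9667501 1 otE otE) otE) (otN 9888398 1 (otN 11637475 0 (otN 1244041 1 otE otE) otE) otE)) otE))
    otE)) (otN 14438853 1 (otN 2412863 0 (otN 15233482 0 otE (otN 8828742 1 (otN 4494075 1 otE otE) otE))
    (otN 871367 1 (otN 2546566 0 (otN 7379914 0 (otN 12618748 0 (otN 8956759 0 otE otE) otE) (otN 6615630 1
    (otN 14750430 0 (otN 13271711 0 otE (otN 9561801 1 (otN 9460157 1 otE otE) otE)) (otN 8762092 1 (otN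
    10723919 0 otE (otN 9851625 1 otE otE)) otE)) otE)) (otN 3981774 1 (otN 14979558 0 otE (otN 9238726 1
    (otN 2463951 0 otE otE) otE)) otE)) otE)) otE)) otE)) (otN 8961992 1 (otN 8752973 0 (otN 10637127 0 (otN
    5267335 0 (otN 57274 0 otE otE) (otN 6332895 1 (otN 13222358 0 (otN 954839 0 (otN 5035970 1 otE otE) otE)
    (otN 8517090 1 (otN 243149 0 (otN 9684302 0 (otN 9573863 0 otE (otN 13670615 1 otE otE)) (otN 13652978 1
    (otN 570301 0 (otN 9066346 1 otE otE) (otN 249487 1 otE otE)) otE)) (otN 1233591 1 (otN 1635050 0 (otN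
    9099948 1 otE otE) otE) otE)) otE)) otE)) (otN 11801051 1 (otN 15253933 0 (otN 12906835 0 (otN 2707933 0
    (otN 9988038 1 (otN 575743 1 otE otE) otE) (otN 366503 1 (otN 2287562 0 otE (otN 1495898 1 otE otE))
    otE)) (otN 9138503 1 (otN 1528207 0 (otN 11719082 0 (otN 13677033 0 otE otE) otE) (otN 5800935 1 (otN
    320502 0 (otN 2732998 0 otE otE) (otN 776650 1 otE otE)) otE)) otE)) (otN 8712067 1 (otN 2219969 0 (otN
    4382540 0 (otN 9445214 0 otE otE) otE) otE) otE)) otE)) (otN 11031227 1 (otN 13431433 0 (otN 10867289 0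
    (otN 15356493 0 (otN 13181901 1 (otN 8897303 0 (otN 3822531 0 otE otE) (otN 10043883 1 otE otE)) otE)
    (otN 9713549 1 (otN 10602283 0 (otN 12744641 0 (otN 1169181 0 otE (otN 4277183 1 otE otE)) (otN 9613599 1
    otE otE)) (otN 8670075 1 otE otE)) otE)) (otN 9261869 1 (otN 10908427 0 (otN 15815561 0 (otN 12768057 0
    otE (otN 9530127 1 (otN 8608675 0 otE otE) otE)) (otN 12886831 1 (otN 10576851 0 (otN 1107375 1 otE otE)
    otE) otE)) (otN 10355535 1 (otN 11813799 0 (otN 6353827 0 (otN 258862 1 otE otE) (otN 452943 1 (otN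
    11622854 0 (otN 4364719 0 otE otE) otE) otE)) (otN 13404619 1 otE otE)) otE)) otE)) (otN 9103117 1 (otN
    9787203 0 (otN 2250669 0 (otN 12739422 1 (otN 10032023 0 otE otE) otE) (otN 1346463 1 (otN 10804554 1
    (otN 14687693 0 otE otE) otE) otE)) (otN 13111679 1 (otN 9200031 0 (otN 11391363 0 (otN 6738377 0 (otN
    15782236 0 otE otE) (otN 1897223 1 otE otE)) (otN 9225575 1 (otN 2389447 0 otE otE) otE)) (otN 9144259 1
    (otN 1492933 0 (otN 3200870 0 (otN 178910 1 otE otE) (otN 4479454 1 otE otE)) (otN 5820827 1 otE otE))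
    otE)) otE)) otE)) otE)) otE)) otE)) (otN 10503678 1 (otN 13153671 0 (otN 378331 0 (otN 11195844 0 (otN
    5543247 0 (otN 8756178 1 (otN 2788301 0 (otN 13945670 0 (otN 2104311 0 (otN 4778894 0 otE otE) otE) otE)
    (otN 3462795 1 (otN 14735080 0 (otN 8614557 1 otE otE) (otN 8715036 1 (otN 11082571 0 (otN 12995469 0 otE
    otE) otE) otE)) otE)) otE) (otN 4747991 1 (otN 905886 0 (otN 10278476 1 (otN 10753647 0 (otN 14706319 0
    (otN 12703379 0 otE (otN 8511869 1 otE otE)) (otN 8823769 1 (otN 12866987 1 otE otE) otE)) otE) otE) (otN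
    641004 1 (otN 10113246 1 (otN 10260655 0 (otN 9362241 1 otE otE) (otN 13160133 1 otE otE)) otE) otE))
    otE)) (otN 9754006 1 (otN 2659819 0 (otN 12903884 0 (otN 10589527 0 (otN 4867535 0 otE otE) (otN 8737015
    1 (otN 2814095 0 (otN 13169508 1 (otN 725743 1 otE otE) otE) otE) otE)) (otN 9106322 1 (otN 1938377 0
    (otN 10929004 0 (otN 15741767 0 (otN 109547 1 otE otE) (otN 12988623 1 (otN 11649183 0 otE otE) otE))
    (otN 10247050 1 otE otE)) (otN 4773423 1 (otN 9147228 1 otE otE) otE)) otE)) (otN 319063 1 (otN 2398172 1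
    (otN 15238990 0 (otN 12847063 0 (otN 2672535 0 otE otE) otE) (otN 8681178 1 (otN 8701629 1 (otN 11073091
    0 otE (otN 8803677 1 otE otE)) otE) otE)) otE) otE)) otE)) (otN 643955 1 (otN 947148 0 (otN 11899662 0
    (otN 14812139 0 (otN 12837259 1 (otN 13750567 1 otE otE) otE) (otN 9747019 1 (otN 10570477 0 (otN
    12777991 0 (otN 1137371 0 otE (otN 6394733 1 (otN 9647050 1 otE otE) otE)) otE) (otN 10787753 1 (otN
    14740297 0 (otN 10564015 1 (otN 9626467 1 otE otE) otE) otE) otE)) otE)) otE) (otN 1742734 1 (otN 9734122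
    0 otE (otN 13163098 1 (otN 9181917 0 (otN 11323919 0 (otN 14965443 0 otE (otN 11317581 1 (otN 15024463 0
    otE otE) otE)) (otN 11290569 1 otE otE)) (otN 11114125 1 (otN 9991001 1 (otN 8916911 1 otE otE) otE)
    otE)) otE)) otE)) otE)) (otN 8578263 1 (otN 1692871 0 (otN 447726 0 (otN 11580622 0 (otN 12682479 0 (otN
    9687505 1 (otN 1757549 0 otE otE) otE) (otN 8452849 1 (otN 653901 0 (otN 8870478 0 (otN 11672207 0 (otN
    13683371 0 otE otE) otE) (otN 12063724 1 otE otE)) otE) otE)) (otN 13030100 1 (otN 4544205 1 (otN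
    10671646 0 (otN 14161611 0 otE (otN 12629597 1 otE otE)) (otN 9782236 1 (otN 11178791 0 (otN 5530571 0
    otE (otN 4895563 1 otE otE)) otE) otE)) otE) otE)) (otN 1629140 1 (otN 826222 0 (otN 10759118 0 (otN
    14781319 0 (otN 4377555 0 (otN 6411662 1 (otN 12752346 0 otE (otN 9564758 1 otE otE)) otE) (otN 3273035 1
    (otN 12800492 0 (otN 13845191 1 otE otE) (otN 9485222 1 otE otE)) otE)) (otN 10805483 1 (otN 14807237 0
    (otN 1143781 1 otE otE) (otN 8843685 1 otE otE)) otE)) (otN 11440842 1 (otN 16024269 0 (otN 14729847 0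
    otE (otN 8747465 1 (otN 10737933 0 (otN 13785419 0 otE otE) otE) otE)) otE) otE)) (otN 2645710 1 (otN
    12885646 0 (otN 10522331 0 (otN 10548633 1 (otN 13227337 0 otE otE) otE) otE) (otN 11068124 1 (otN
    13472327 0 (otN 2507487 0 (otN 16306822 0 otE otE) otE) (otN 8942829 1 (otN 9061365 1 otE otE) otE))
    otE)) otE)) otE)) (otN 4249077 1 (otN 587102 0 (otN 9246158 0 (otN 10913167 0 (otN 15779267 0 (otN 129431
    1 otE otE) otE) (otN 10273491 1 (otN 2937573 0 otE (otN 843149 1 otE otE)) otE)) (otN 8951542 1 (otN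
    829135 0 (otN 10864326 0 (otN 6461127 0 (otN 4322264 1 otE otE) (otN 1372381 1 (otN 11128942 0 (otN
    10138309 1 otE otE) (otN 8675300 1 (otN 2146063 0 otE otE) otE)) otE)) (otN 9228792 1 (otN 9328263 1 otE
    otE) otE)) (otN 710361 1 (otN 13129628 1 (otN 9213723 0 otE (otN 8996447 1 (otN 9995741 1 otE otE) otE))
    otE) otE)) otE)) (otN 219094 1 (otN 5293790 1 (otN 8510684 1 (otN 11556565 1 otE otE) otE) otE) otE))
    otE)) otE)) otE))

set_option maxRecDepth 1000000 in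
/-- orbit tree for the class with invariant 6 (1584 elements) -/
def dodTree6 : OT :=
    (otN 733006 0 (otN 9899910 0 (otN 3313571 0 (otN 5304288 0 (otN 2316478 1 (otN 14334090 0 (otN 9799929 0
    (otN 11200613 0 (otN 6959589 1 (otN 5628190 0 (otN 11211250 0 (otN 6201741 0 otE otE) (otN 9804902 1 otE
    otE)) (otN 4940770 1 (otN 6013102 1 (otN 14407748 1 otE otE) otE) otE)) otE) (otN 11951489 1 otE otE))
    (otN 15325729 1 (otN 4618841 0 (otN 12147228 0 (otN 13507115 0 otE (otN 12070477 1 (otN 11020793 1 (otN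
    11167139 1 otE otE) otE) otE)) (otN 15009708 1 (otN 14853907 0 (otN 4306235 1 (otN 9672498 1 otE otE)
    otE) (otN 9920603 1 otE otE)) otE)) (otN 3879693 1 (otN 14107434 0 (otN 11678641 0 (otN 5890857 0 otE
    otE) (otN 14125071 1 otE otE)) (otN 14166890 1 (otN 11241643 1 (otN 14084289 0 otE otE) otE) otE)) otE))
    otE)) (otN 15918660 1 (otN 5314167 0 (otN 1282008 1 (otN 10129252 0 (otN 1322855 0 (otN 2191270 0 otE
    (otN 2525690 1 (otN 16296388 0 otE otE) otE)) (otN 6953179 1 (otN 14469276 0 (otN 11361349 1 otE otE)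
    otE) otE)) (otN 15752346 1 (otN 13147321 0 (otN 9235545 0 (otN 11277749 1 otE otE) (otN 11228945 1 otE
    otE)) (otN 10612245 1 (otN 4939331 0 (otN 1466012 0 otE (otN 7963548 1 (otN 10058826 1 otE otE) otE))
    (otN 3159421 1 (otN 13198638 0 otE otE) otE)) otE)) otE)) otE) (otN 4274429 1 (otN 9168926 0 (otN
    10426563 0 (otN 3590317 0 otE (otN 8178561 1 otE otE)) (otN 16290917 1 (otN 4482175 0 (otN 11105430 0
    (otN 5215371 0 otE (otN 1631861 1 otE otE)) (otN 8881652 1 (otN 5657811 1 (otN 3724476 0 otE otE) otE)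
    otE)) (otN 736209 1 (otN 2083596 0 otE (otN 7882666 1 (otN 12892080 0 (otN 2729817 0 otE otE) otE) otE))
    otE)) otE)) (otN 11749344 1 (otN 5420837 0 (otN 1140602 0 (otN 9604286 1 (otN 14867537 1 otE otE) otE)
    (otN 4397946 1 (otN 10103708 0 otE otE) otE)) (otN 5400735 1 (otN 10082482 0 (otN 964841 0 otE (otN
    3857925 1 otE otE)) (otN 14798180 1 otE otE)) otE)) otE)) otE)) otE)) otE) (otN 6486298 1 (otN 14227928 0
    (otN 9341245 0 (otN 12347715 0 (otN 6642085 0 (otN 3629894 1 (otN 7541670 0 (otN 5415866 0 (otN 10068976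
    0 otE otE) (otN 5499466 1 (otN 9640692 0 otE otE) otE)) (otN 5548270 1 (otN 10594550 0 (otN 4958407 0 otE
    otE) otE) otE)) otE) (otN 2927015 1 (otN 6678978 0 (otN 6527444 0 (otN 7435970 1 (otN 1174204 1 otE otE)
    otE) (otN 3535014 1 (otN 6533354 0 otE otE) otE)) otE) otE)) (otN 15603011 1 (otN 7619997 0 (otN 15258930
    0 (otN 4994521 0 (otN 11388188 0 otE (otN 9258930 1 otE otE)) (otN 767511 1 (otN 2049738 0 (otN 11966116
    0 otE otE) (otN 5805944 1 (otN 9185148 0 otE (otN 9117338 1 otE otE)) otE)) otE)) (otN 8744278 1 (otN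
    2825607 0 otE (otN 3441911 1 (otN 6874342 0 otE (otN 458192 1 otE otE)) otE)) otE)) (otN 5088147 1 (otN
    3130320 0 otE (otN 1955114 1 (otN 10394134 1 (otN 3934955 0 otE (otN 7118409 1 (otN 14962268 0 (otN
    15212055 0 otE otE) otE) otE)) otE) otE)) otE)) otE)) (otN 12144259 1 (otN 4644513 0 (otN 3210840 0 (otN
    13180524 0 (otN 8793631 0 (otN 14976377 1 (otN 8861075 1 (otN 3917193 0 otE otE) otE) otE) otE) (otN
    10501820 1 (otN 13217291 0 otE otE) otE)) (otN 6771484 1 (otN 16388890 0 (otN 14418873 0 (otN 11330353 0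
    otE (otN 9391371 1 otE otE)) otE) (otN 13968974 1 (otN 10684087 0 (otN 5957251 0 (otN 1431280 0 (otN
    2799212 0 otE otE) (otN 4839740 1 otE otE)) (otN 5432665 1 (otN 12656054 1 otE otE) otE)) otE) otE))
    otE)) (otN 3729693 1 (otN 13457762 0 (otN 2505117 0 (otN 16369930 0 (otN 12982769 0 (otN 6768515 1 otE
    otE) otE) (otN 14968674 1 (otN 6371221 0 otE (otN 499903 1 (otN 14079328 1 otE otE) otE)) otE)) (otN
    4162183 1 (otN 7783138 0 (otN 7385844 0 otE (otN 4716684 1 otE otE)) (otN 6093128 1 (otN 10819964 0 otE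
    otE) otE)) otE)) (otN 11025766 1 (otN 4533647 0 (otN 11911538 1 otE otE) (otN 2794227 1 (otN 4912552 1
    otE otE) otE)) otE)) otE)) otE)) (otN 14792230 1 (otN 4400859 0 (otN 10208916 0 (otN 5790813 1 (otN
    9198654 0 (otN 11287691 0 (otN 15060105 0 otE otE) (otN 11437653 1 otE otE)) (otN 11079636 1 (otN 5148423
    0 (otN 3428306 0 otE otE) (otN 3695835 1 (otN 13489316 0 (otN 2052693 1 otE otE) otE) otE)) otE)) otE)
    (otN 13747640 1 (otN 9657367 1 (otN 1727659 0 (otN 9764008 0 (otN 10599529 0 otE (otN 10902069 1 (otN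
    7895563 0 otE otE) otE)) (otN 15387412 1 (otN 6036307 0 (otN 2985866 1 (otN 15110080 0 otE otE) otE) (otN
    6894671 1 (otN 13059230 0 otE otE) otE)) otE)) (otN 7376725 1 (otN 4738934 0 (otN 802710 0 otE (otN
    2852062 1 (otN 14582982 0 otE (otN 14218448 1 otE otE)) otE)) (otN 2178522 1 (otN 13340044 0 (otN 9866579
    0 (otN 3689957 0 otE otE) (otN 16339027 1 otE otE)) (otN 11593394 1 (otN 4830945 0 otE (otN 195645 1 otE
    otE)) otE)) otE)) otE)) otE) otE)) (otN 1290873 1 (otN 10183276 0 (otN 9908775 0 (otN 3367595 0 (otN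
    13890208 0 (otN 5462573 1 otE otE) (otN 13822252 1 (otN 14882919 1 otE otE) otE)) (otN 5671785 1 (otN
    11561844 0 (otN 4799271 0 otE (otN 2239727 1 (otN 14868976 1 otE otE) otE)) (otN 15145354 1 (otN 15894937
    0 (otN 14207345 0 otE otE) otE) otE)) otE)) (otN 14289133 1 (otN 9758775 0 (otN 2717923 0 otE (otN
    2530661 1 (otN 7368014 0 otE (otN 6697938 1 otE otE)) otE)) (otN 15419841 1 (otN 5691669 0 (otN 3692922 0
    otE otE) (otN 7954823 1 (otN 1698150 1 (otN 3840230 1 otE otE) otE) otE)) otE)) otE)) (otN 13770664 1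
    (otN 9482041 0 (otN 9006945 0 (otN 3801535 1 (otN 13299010 1 otE otE) otE) (otN 10624315 1 otE otE)) (otN
    14895643 1 (otN 14310033 0 otE otE) otE)) otE)) otE)) otE)) otE)) (otN 7653467 1 (otN 15227124 0 (otN
    5027871 0 (otN 11356378 0 (otN 15636613 0 (otN 7172929 1 (otN 1909678 1 (otN 10405994 1 (otN 11811045 0
    (otN 6416431 0 otE otE) otE) otE) otE) otE) (otN 12379269 1 (otN 6673507 0 (otN 6452444 0 (otN 14259230 0
    (otN 9307387 0 otE otE) (otN 12674804 1 (otN 1262845 1 (otN 10155046 0 otE otE) otE) otE)) (otN 1553300 1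
    (otN 3900266 0 (otN 14033892 0 otE otE) (otN 5529194 1 (otN 10979996 1 otE otE) otE)) otE)) (otN 817525 1
    (otN 2980110 0 (otN 12362342 1 (otN 6628071 0 (otN 6546070 0 otE otE) otE) otE) (otN 3016678 1 (otN
    7645062 0 (otN 391290 1 otE otE) (otN 5169370 1 otE otE)) otE)) otE)) otE)) (otN 11376480 1 (otN 6694733
    0 (otN 15812374 0 (otN 1158239 1 otE otE) (otN 12919290 1 (otN 11248021 0 (otN 6275395 0 (otN 3559924 0
    (otN 4615878 1 otE otE) (otN 6134150 1 otE otE)) otE) (otN 9946275 1 (otN 3339489 0 (otN 5370988 0 (otN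
    8598654 0 otE otE) otE) otE) otE)) otE)) (otN 1979035 1 (otN 12436136 0 (otN 15118945 0 (otN 4666281 1
    otE otE) otE) otE) otE)) otE)) otE) (otN 10861956 1 (otN 6524235 0 (otN 13782484 0 (otN 1613111 0 (otN
    814570 0 (otN 11452598 1 (otN 8171715 0 (otN 6668540 0 (otN 15380566 0 (otN 6095071 0 otE otE) (otN
    9925828 1 otE otE)) (otN 916384 1 (otN 4084270 1 otE otE) otE)) (otN 5174341 1 (otN 3495006 0 (otN
    15340718 0 otE (otN 9744084 1 (otN 2723431 0 otE otE) otE)) (otN 5051380 1 otE otE)) otE)) otE) (otN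
    2793298 1 (otN 6033356 0 (otN 10784566 0 (otN 6827971 0 (otN 4575124 0 otE (otN 2744762 1 otE otE)) (otN
    2536539 1 (otN 16336076 0 otE otE) otE)) otE) (otN 6862490 1 (otN 13469400 0 otE (otN 9041464 1 (otN
    10098237 1 otE otE) otE)) otE)) otE)) (otN 6376663 1 (otN 4906134 0 (otN 1875162 0 (otN 11329168 1 (otN
    2913821 1 otE otE) otE) (otN 6936148 1 (otN 5117534 0 otE (otN 1652444 1 otE otE)) otE)) (otN 3270100 1
    (otN 4953446 0 (otN 6001362 1 (otN 5889672 1 (otN 8822392 0 otE otE) otE) otE) (otN 1080566 1 (otN 638126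
    0 (otN 8891594 0 otE (otN 12243568 1 (otN 4865677 1 otE otE) otE)) (otN 2281204 1 (otN 5815878 0 otE otE)
    otE)) otE)) otE)) otE)) (otN 15839634 1 (otN 4948473 0 (otN 10412372 0 (otN 4002151 0 (otN 6709678 0 otE
    (otN 2010050 1 otE otE)) (otN 4988135 1 (otN 2419870 0 (otN 10810484 1 otE otE) otE) otE)) (otN 14374274
    1 otE otE)) (otN 1179171 1 (otN 229096 0 (otN 9682444 0 (otN 9637483 0 (otN 9596581 0 otE otE) (otN
    15735417 1 (otN 13134397 0 otE (otN 10694537 1 (otN 15753531 1 otE otE) otE)) otE)) (otN 15876796 1 (otN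
    12807245 1 (otN 15794677 1 (otN 4907319 0 otE otE) otE) otE) otE)) (otN 3316540 1 (otN 14827082 1 (otN
    13700765 0 (otN 9096755 0 otE (otN 11619673 1 otE otE)) (otN 14787257 1 (otN 13361745 0 otE (otN 9663785
    1 (otN 13765431 1 otE otE) otE)) otE)) otE) otE)) otE)) otE)) (otN 3437171 1 (otN 6910636 0 (otN 13087258
    0 (otN 12255961 0 (otN 14598693 0 (otN 5183821 1 (otN 11946270 0 (otN 16259491 0 otE otE) otE) otE) (otN
    14183817 1 (otN 8772913 0 (otN 2784585 0 otE (otN 3544855 1 otE otE)) (otN 11094327 1 (otN 5142915 0 (otN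
    3529112 0 otE (otN 7193382 1 otE otE)) (otN 3843399 1 (otN 4766194 1 otE otE) otE)) otE)) otE)) (otN
    13997609 1 (otN 10643065 0 (otN 14251525 0 (otN 480827 0 (otN 12220040 0 otE (otN 14059292 1 otE otE))
    (otN 1641341 1 (otN 9333542 0 otE otE) otE)) otE) (otN 9902873 1 (otN 12208937 0 (otN 15345935 1 otE otE)
    (otN 15994635 1 (otN 14700465 0 (otN 4783889 0 otE otE) (otN 10856731 1 otE otE)) otE)) otE)) otE)) otE)
    (otN 438188 1 (otN 11644738 0 (otN 4394981 0 (otN 1240854 0 (otN 1646562 0 otE (otN 6331518 1 (otN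
    13118686 0 (otN 9276567 0 otE otE) (otN 10729168 1 (otN 5273273 1 otE otE) otE)) otE)) (otN 7553498 1
    (otN 14324148 0 (otN 1876347 0 otE otE) (otN 13757574 1 (otN 3266677 1 (otN 3293124 1 otE otE) otE) otE))
    otE)) (otN 3193019 1 (otN 13232360 0 (otN 8894549 0 (otN 3885135 0 otE otE) (otN 12275877 1 otE otE))
    (otN 10682144 1 (otN 5324617 0 (otN 8605500 0 otE (otN 11602874 1 (otN 13282209 0 otE (otN 11725835 1 otE
    otE)) otE)) (otN 6435391 1 (otN 14246554 0 otE otE) otE)) otE)) otE)) (otN 15093882 1 (otN 16265373 0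
    (otN 13484091 0 (otN 11432145 0 (otN 5007269 1 (otN 999806 1 otE otE) otE) (otN 10458373 1 otE otE)) otE)
    (otN 13084293 1 (otN 3393107 0 (otN 5920484 0 (otN 1357374 0 otE (otN 4934364 1 otE otE)) (otN 5291420 1
    (otN 9014650 0 (otN 12227731 1 otE otE) (otN 10575474 1 otE otE)) otE)) (otN 5591417 1 (otN 11170108 0
    otE otE) otE)) otE)) otE)) otE)) otE)) otE)) otE)) (otN 16285946 1 (otN 13410549 0 (otN 3006551 0 (otN
    7295174 0 (otN 7770270 0 (otN 12975680 1 (otN 2301533 0 (otN 14306830 0 (otN 15304797 1 otE otE) (otN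
    15738840 1 otE otE)) (otN 3478205 1 (otN 15393322 0 (otN 13348909 1 otE otE) (otN 9858888 1 (otN 14944447
    1 (otN 11003201 1 (otN 5517751 1 otE otE) otE) otE) otE)) otE)) otE) (otN 6152900 1 (otN 2593398 0 (otN
    8004302 0 (otN 13992630 0 otE otE) (otN 5682888 1 (otN 11634300 0 (otN 13248103 0 otE (otN 9583833 1 (otN
    10079277 0 (otN 12196181 1 (otN 6048047 0 otE otE) otE) otE) otE)) (otN 12933816 1 (otN 11188761 0 (otN
    14502473 0 (otN 12388749 1 otE otE) otE) (otN 12011021 1 (otN 15881763 0 otE (otN 13904221 1 otE otE))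
    otE)) otE)) otE)) (otN 1923308 1 (otN 10926126 0 (otN 15804619 0 (otN 12830901 0 (otN 7558469 1 (otN
    5395774 0 (otN 9975226 0 otE otE) otE) otE) (otN 11659681 1 (otN 4454753 0 otE (otN 3307815 1 otE otE))
    otE)) otE) (otN 12470980 1 (otN 7641639 0 (otN 6318842 0 otE (otN 2603848 1 (otN 15928140 0 otE (otN
    16003754 1 otE otE)) otE)) (otN 7104717 1 (otN 11362788 1 (otN 6795527 0 otE (otN 1990887 1 (otN 5163492
    1 otE otE) otE)) otE) otE)) otE)) otE)) otE)) (otN 1881572 1 (otN 2467182 0 (otN 14886342 0 (otN 5473687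
    0 (otN 1754610 0 otE (otN 5365074 1 (otN 663036 0 otE (otN 3251862 1 (otN 4886250 0 otE otE) otE)) otE))
    (otN 5366003 1 (otN 782580 0 (otN 2076750 0 (otN 11993326 0 (otN 15900839 0 otE otE) otE) otE) (otN
    1301924 1 (otN 1228138 0 (otN 14850738 1 otE otE) (otN 7494230 1 (otN 5774014 0 otE (otN 6401740 1 (otN
    12815958 0 otE otE) otE)) otE)) otE)) otE)) (otN 9875698 1 (otN 3776749 0 (otN 13099110 0 (otN 3354839 0
    otE (otN 5738725 1 (otN 3334270 0 otE otE) otE)) (otN 10123744 1 (otN 1423661 0 (otN 10709354 0 otE (otN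
    11934562 1 (otN 7351213 0 otE otE) otE)) (otN 6965927 1 otE otE)) otE)) otE) otE)) (otN 940786 1 (otN
    3979916 0 (otN 15043178 0 (otN 12038281 1 (otN 15974505 0 (otN 13791349 0 otE (otN 13842821 1 otE otE))
    (otN 13925153 1 (otN 2194233 0 (otN 13335304 0 otE (otN 11675438 1 otE otE)) (otN 2558767 1 (otN 15887234
    0 otE (otN 16163146 1 otE otE)) otE)) otE)) otE) (otN 11303528 1 (otN 15022605 0 (otN 11871081 1 (otN
    9841067 1 (otN 15124771 1 otE otE) otE) otE) (otN 11412141 1 (otN 16114179 0 otE (otN 13525353 1 (otN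
    11890965 0 (otN 7033131 0 otE otE) otE) otE)) otE)) otE)) (otN 7259788 1 (otN 13463644 1 (otN 10290917 1
    (otN 2549287 0 (otN 4632956 1 otE otE) (otN 1984985 1 otE otE)) otE) otE) otE)) otE)) otE)) (otN 1005025
    1 (otN 3601676 0 (otN 15799658 0 (otN 12723645 0 (otN 10085651 0 otE (otN 12797299 1 (otN 1734037 0 otE
    otE) otE)) (otN 9677459 1 (otN 1821409 0 (otN 1505892 0 (otN 3226222 0 (otN 12790446 0 otE (otN 11709160
    1 (otN 13740645 0 otE otE) otE)) (otN 6691564 1 (otN 15772190 0 (otN 13175539 0 otE otE) otE) otE)) (otN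
    8018316 1 (otN 13932858 0 (otN 10984963 1 (otN 7491273 0 otE otE) otE) otE) otE)) (otN 7396649 1 (otN
    12615032 0 (otN 8994077 0 (otN 12060531 1 (otN 699803 1 (otN 10341824 0 otE otE) otE) otE) otE) (otN
    10697494 1 (otN 7382635 1 (otN 8632760 1 (otN 10201417 0 otE otE) otE) otE) otE)) otE)) otE)) (otN
    12860022 1 (otN 2697887 0 (otN 13617794 0 (otN 3578577 0 (otN 7916140 0 (otN 11221196 1 (otN 16278241 1
    otE otE) otE) otE) (otN 8245261 1 (otN 10304324 1 otE otE) otE)) otE) (otN 2590441 1 (otN 14053784 1 (otN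
    12161337 0 (otN 10108675 1 otE otE) (otN 12930599 1 (otN 2260627 0 (otN 6350652 1 otE otE) (otN 3637597 1
    (otN 16400742 0 otE (otN 13909442 1 otE otE)) otE)) otE)) otE) otE)) otE)) (otN 6177686 1 (otN 3969970 0
    (otN 7119848 0 (otN 15049556 0 (otN 7013207 0 (otN 5875146 1 otE otE) (otN 1389803 1 (otN 10740908 0 (otN
    13874243 0 (otN 5348273 1 otE otE) otE) (otN 9882544 1 (otN 3717985 0 otE (otN 6708239 1 otE otE)) otE))
    otE)) (otN 9400490 1 otE otE)) (otN 982538 1 (otN 15503932 1 (otN 15475291 0 (otN 15549077 0 (otN 7262739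
    0 otE otE) (otN 9282985 1 (otN 10375475 1 (otN 3961257 0 otE otE) otE) otE)) (otN 9385545 1 otE otE))
    otE) otE)) (otN 5098574 1 (otN 10886358 0 (otN 7900303 0 (otN 12897522 0 (otN 2669781 0 otE otE) (otN
    11139408 1 (otN 3684007 1 (otN 4581034 0 (otN 9949244 1 (otN 12202091 0 otE otE) otE) (otN 715640 1 otE
    otE)) otE) otE)) (otN 6612689 1 (otN 357820 1 (otN 9848438 1 otE otE) otE) otE)) (otN 12423380 1 (otN
    7241839 0 (otN 16015574 0 (otN 6918327 0 (otN 1832768 1 otE otE) (otN 388325 1 (otN 2358342 0 otE otE)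
    otE)) (otN 13611456 1 (otN 6116003 1 (otN 2552504 0 (otN 16364104 0 otE otE) otE) otE) otE)) (otN 1867457
    1 (otN 2481708 0 (otN 11940444 1 (otN 16319023 0 otE (otN 12857065 1 otE otE)) otE) (otN 2902972 1 (otN
    11428942 1 (otN 16061575 0 (otN 1436497 1 otE otE) otE) otE) otE)) otE)) otE)) otE)) otE)) otE)) (otN
    9174145 1 (otN 1563721 0 (otN 11689068 0 (otN 13646895 0 (otN 8481979 0 (otN 11715893 1 (otN 5797219 0
    (otN 756662 1 otE otE) (otN 4341079 1 (otN 1658270 0 (otN 9346466 0 (otN 3452361 0 (otN 10779058 1 otE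
    otE) otE) otE) (otN 6391794 1 (otN 1307802 1 (otN 13688372 1 otE otE) otE) otE)) otE)) otE) (otN 10718065
    1 (otN 5925701 0 (otN 1399606 0 (otN 2767786 0 (otN 14003080 0 otE otE) (otN 3575374 1 (otN 14989528 1
    otE otE) otE)) (otN 6883822 1 (otN 13019542 0 (otN 3770835 0 (otN 3734914 1 (otN 2685494 1 otE otE) otE)
    otE) (otN 12312770 1 (otN 5830821 1 (otN 2841444 1 (otN 5651214 0 otE otE) otE) otE) otE)) otE)) (otN
    7484811 1 (otN 12708658 1 (otN 3380271 1 (otN 13788394 0 (otN 9548981 0 otE otE) (otN 13810512 1 otE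
    otE)) otE) otE) otE)) otE)) (otN 14822101 1 (otN 5884439 0 (otN 3775820 1 (otN 12979566 0 (otN 11546007 0
    otE (otN 15171795 1 (otN 5633409 1 (otN 2348408 0 otE otE) otE) otE)) otE) otE) (otN 6383081 1 (otN
    12842260 0 otE (otN 9658806 1 (otN 1814947 0 (otN 1565160 0 (otN 11776356 0 (otN 5389027 1 otE otE) (otN
    14047398 1 (otN 6801989 1 otE otE) otE)) (otN 5954338 1 (otN 1326072 0 (otN 11119404 0 otE (otN 10899114
    1 (otN 15130653 1 otE otE) otE)) (otN 7051790 1 (otN 14027482 0 (otN 12094133 0 otE otE) otE) otE)) otE))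
    (otN 5426279 1 otE otE)) otE)) otE)) otE)) (otN 15997844 1 (otN 6851387 0 (otN 13396944 0 (otN 2988821 0
    (otN 7228234 0 (otN 15573134 1 (otN 10350689 1 (otN 1973157 1 otE otE) otE) otE) (otN 3946314 1 (otN
    9218746 1 (otN 11381441 0 otE otE) otE) otE)) (otN 2966703 1 (otN 15135874 0 (otN 7443673 0 otE (otN
    4583989 1 (otN 1513324 1 otE otE) otE)) otE) otE)) (otN 11253002 1 (otN 14091721 0 (otN 13978003 1 (otN
    2808241 0 otE (otN 3525895 1 (otN 6446562 0 otE (otN 3455318 1 (otN 2408162 1 otE otE) otE)) otE)) otE)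
    (otN 14201395 1 (otN 877305 0 (otN 11530756 0 (otN 7803467 0 otE (otN 6042221 1 otE otE)) otE) (otN
    761641 1 otE otE)) otE)) otE)) (otN 2453067 1 (otN 14900868 0 (otN 5414427 0 (otN 9981688 0 (otN 9223717
    0 (otN 3019641 1 (otN 16540428 0 (otN 15012659 0 otE otE) otE) otE) (otN 11160733 1 (otN 15230293 1 otE
    otE) otE)) (otN 14786328 1 (otN 13242201 0 otE (otN 11613723 1 (otN 13321897 0 otE otE) otE)) otE)) (otN
    7430749 1 (otN 13324854 0 (otN 5998157 1 otE otE) (otN 9514476 1 (otN 8629543 0 (otN 1273283 0 otE otE)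
    (otN 11684083 1 otE otE)) otE)) otE)) (otN 11837884 1 (otN 15311203 0 (otN 4678101 0 (otN 3920150 0 (otN
    6164970 0 otE otE) (otN 5588454 1 (otN 1558742 1 otE otE) otE)) otE) (otN 8813667 1 (otN 3243149 0 (otN
    12835882 0 (otN 15962645 1 otE otE) otE) (otN 6718389 1 (otN 7922514 0 otE (otN 4683082 1 (otN 11736476 0
    (otN 14320939 0 otE otE) otE) otE)) otE)) otE)) otE)) otE)) otE)) (otN 7885621 1 (otN 5010234 0 (otN
    11350936 0 (otN 15696649 0 (otN 16139089 0 otE (otN 14496011 1 (otN 10961337 0 (otN 16445697 0 otE otE)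
    (otN 10324771 1 (otN 2517985 0 (otN 7469828 0 otE otE) otE) otE)) otE)) (otN 10249771 1 (otN 10843809 0
    (otN 6551049 0 (otN 13850200 0 otE (otN 13710140 1 (otN 9118523 0 (otN 10445697 0 (otN 3658529 0 otE otE)
    otE) otE) otE)) (otN 1467197 1 (otN 12153634 0 (otN 1747503 1 (otN 15374696 1 otE otE) otE) otE) otE))
    otE) otE)) (otN 9405998 1 (otN 11937475 0 (otN 7456421 0 (otN 4388466 0 (otN 4429500 1 otE otE) (otN
    1276252 1 (otN 10164526 0 (otN 16419395 1 (otN 5524213 0 otE (otN 6928777 1 otE otE)) otE) (otN 15732454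
    1 (otN 4239031 0 (otN 650962 0 otE otE) (otN 2353369 1 otE otE)) otE)) otE)) (otN 4516281 1 (otN 10966310
    1 (otN 5677655 1 (otN 4562408 1 (otN 10661212 0 otE otE) otE) otE) otE) otE)) (otN 14585945 1 (otN
    12337277 0 (otN 15495207 0 (otN 6647963 0 (otN 15454360 0 otE (otN 9824036 1 (otN 1448063 1 otE otE)
    otE)) (otN 1024869 1 otE otE)) (otN 9317829 1 otE otE)) otE) otE)) otE)) otE) otE)) otE)) otE)) (otN
    3282682 1 (otN 14198444 0 (otN 8758899 0 (otN 2844357 0 (otN 5756422 0 (otN 5610076 1 (otN 11143806 0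
    (otN 14428807 0 (otN 2476723 0 (otN 7011008 0 otE otE) (otN 3000681 1 (otN 15104324 0 (otN 7411999 0 (otN
    13257146 0 otE otE) otE) (otN 12464518 1 (otN 7700907 0 otE (otN 5040739 1 otE otE)) otE)) otE)) (otN
    15377609 1 (otN 14009429 0 (otN 1383893 1 (otN 2805038 0 otE otE) otE) (otN 13201841 1 (otN 1044761 0
    (otN 14423846 1 otE otE) otE) otE)) otE)) (otN 11869896 1 (otN 14847533 0 (otN 13659731 0 (otN 614069 0
    otE (otN 2198973 1 otE otE)) (otN 14889305 1 (otN 14369053 0 (otN 14224711 1 (otN 413111 0 otE otE) otE)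
    (otN 13707171 1 (otN 255921 0 otE (otN 1296699 1 otE otE)) otE)) otE)) (otN 11823769 1 (otN 10775853 1
    (otN 14777603 0 (otN 4414873 0 (otN 10149144 0 otE otE) (otN 3253047 1 otE otE)) (otN 10887543 1 otE
    otE)) otE) otE)) otE)) otE) (otN 5792252 1 (otN 9285942 0 (otN 2004579 1 (otN 3434220 0 (otN 8808700 1
    (otN 12171271 0 (otN 4671723 0 otE otE) (otN 15090917 1 otE otE)) otE) (otN 5151640 1 (otN 12356440 0 otE
    (otN 15554058 1 (otN 15079065 0 (otN 16303641 0 otE (otN 12936985 1 (otN 9766207 1 otE otE) otE)) (otN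
    10330653 1 (otN 11485795 0 otE (otN 10231145 1 otE otE)) otE)) otE)) otE)) otE) (otN 9129190 1 (otN
    1490055 0 (otN 3263722 0 (otN 12762340 0 (otN 6509297 1 (otN 5960220 0 otE (otN 5465996 1 otE otE)) otE)
    (otN 11729044 1 (otN 5871723 0 (otN 12295040 1 otE otE) (otN 6323813 1 (otN 4292126 0 otE otE) otE))
    otE)) (otN 6609776 1 (otN 6830940 0 (otN 13437726 0 (otN 11406227 0 (otN 7136523 1 otE otE) otE) (otN
    11085546 1 otE otE)) (otN 2569870 1 (otN 15959690 0 (otN 13797105 0 otE otE) (otN 13951608 1 (otN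
    11088501 0 (otN 1714153 1 otE otE) (otN 8854701 1 otE otE)) otE)) otE)) otE)) (otN 8044757 1 (otN 6082678
    0 (otN 2896126 0 (otN 9365216 1 (otN 5132477 1 (otN 12382234 0 (otN 15536361 0 otE otE) (otN 13584196 1
    otE otE)) otE) otE) (otN 1023684 1 (otN 8147672 1 (otN 9268876 1 otE otE) otE) otE)) (otN 4816324 1 (otN
    3752694 1 (otN 1764556 1 otE otE) otE) otE)) otE)) otE)) otE)) (otN 1480121 1 (otN 12117352 0 (otN
    12924261 0 (otN 2319647 0 (otN 13673846 1 (otN 599543 0 otE (otN 236787 1 (otN 7526288 1 otE otE) otE))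
    otE) (otN 1508339 1 (otN 3859364 0 (otN 5616482 0 (otN 2302972 0 (otN 14394118 0 otE otE) (otN 1546922 1
    (otN 16177672 1 otE otE) otE)) (otN 4880494 1 (otN 9779358 0 otE (otN 15434468 1 (otN 5992649 1 otE otE)
    otE)) otE)) (otN 5688714 1 (otN 11574768 0 (otN 4762989 0 otE otE) (otN 15063062 1 (otN 3520069 1 otE
    otE) otE)) otE)) otE)) (otN 9058487 1 (otN 1960075 0 (otN 11000032 0 (otN 7518285 0 (otN 13715582 0 (otN
    11766981 1 (otN 7371217 1 otE otE) otE) (otN 14760928 1 (otN 4434717 0 (otN 10177362 0 otE otE) otE)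
    otE)) (otN 7762565 1 (otN 7459386 0 (otN 13251320 0 otE otE) (otN 4549484 1 otE otE)) otE)) (otN 12376356
    1 (otN 3029575 1 (otN 7686798 0 (otN 11921484 1 otE otE) otE) otE) otE)) (otN 6997857 1 (otN 5535572 0
    (otN 2692926 0 (otN 13510538 0 (otN 11896721 0 (otN 1342747 1 otE otE) otE) (otN 10135130 1 otE otE))
    (otN 331518 1 (otN 11185798 0 (otN 5607107 0 otE otE) (otN 11977944 1 (otN 12876949 1 otE otE) otE))
    otE)) (otN 4927902 1 (otN 10453402 0 (otN 12485089 0 otE (otN 14474243 1 (otN 2383097 0 otE otE) otE))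
    (otN 14272098 1 (otN 407285 0 (otN 4605944 1 otE otE) (otN 1808541 1 otE otE)) otE)) otE)) otE)) otE))
    (otN 13000466 1 (otN 6653471 1 (otN 15353554 0 (otN 6067861 0 (otN 2934394 0 (otN 15480516 0 otE otE)
    (otN 876376 1 (otN 11411212 0 otE (otN 12322462 1 (otN 15500963 0 otE otE) otE)) otE)) (otN 4842653 1
    (otN 10048884 1 (otN 931119 0 (otN 13534066 1 (otN 3941333 0 otE otE) otE) (otN 1707735 1 (otN 1887910 0
    otE otE) otE)) otE) otE)) (otN 9811288 1 (otN 11208045 0 (otN 14050567 0 (otN 3233203 0 otE (otN 4557175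
    1 (otN 2779606 0 otE otE) otE)) (otN 14295507 1 (otN 4836771 1 otE otE) otE)) (otN 9707187 1 (otN 2682537
    0 otE otE) otE)) otE)) otE) otE)) otE)) (otN 9132153 1 (otN 10385421 0 (otN 11884587 0 (otN 14842025 0
    (otN 13760537 0 (otN 11607845 1 (otN 4353835 0 (otN 9535376 0 (otN 3165759 1 otE otE) (otN 14909758 1 otE
    otE)) (otN 3287899 1 (otN 14240676 0 otE (otN 14724522 1 (otN 10743859 1 otE otE) otE)) otE)) otE) (otN
    14902053 1 (otN 5468947 0 (otN 1790904 0 (otN 10400552 0 otE otE) (otN 5345070 1 (otN 8531954 0 (otN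
    1683333 0 (otN 511842 0 otE otE) (otN 6472891 1 otE otE)) (otN 11769946 1 (otN 15777409 1 otE otE) otE))
    otE)) (otN 5448047 1 (otN 13863394 1 (otN 1223157 0 otE (otN 7592067 1 (otN 5429496 0 otE otE) otE)) otE)
    otE)) otE)) (otN 11971333 1 (otN 7424867 0 (otN 4357044 0 (otN 1686298 0 (otN 9374696 0 otE (otN 12099114
    1 otE otE)) (otN 6506094 1 (otN 13776534 0 (otN 1672891 0 otE (otN 4312697 1 (otN 9076308 0 (otN 1908239
    0 otE otE) otE) otE)) (otN 13869276 1 (otN 10190967 0 otE (otN 13720801 1 (otN 3361685 1 otE otE) otE))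
    otE)) otE)) (otN 3385742 1 (otN 15792226 1 (otN 2341541 1 (otN 7500648 1 otE otE) otE) otE) otE)) (otN
    6568299 1 (otN 14772636 0 (otN 13342995 0 (otN 7968515 1 otE otE) (otN 11625575 1 (otN 4420775 0 otE otE)
    otE)) (otN 10986402 1 (otN 7578561 0 (otN 5489524 0 (otN 5446862 1 otE otE) (otN 5339562 1 (otN 11782694
    1 otE otE) otE)) (otN 5697579 1 (otN 11628792 0 otE (otN 13081380 1 otE otE)) otE)) otE)) otE)) otE))
    (otN 15469413 1 (otN 6581015 0 (otN 6904722 0 (otN 3794446 1 (otN 13047522 0 (otN 3319453 0 otE (otN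
    5751449 1 (otN 13982988 1 (otN 11864663 1 otE otE) otE) otE)) (otN 10008700 1 (otN 9250927 0 otE (otN
    11149025 1 (otN 5565965 0 otE (otN 6972313 1 (otN 14537488 0 otE otE) otE)) otE)) otE)) otE) otE) (otN
    3088843 1 (otN 16236932 0 (otN 7508339 0 (otN 4439938 1 otE otE) (otN 5601351 1 (otN 3509220 1 (otN
    6466406 0 (otN 5319638 0 otE otE) otE) otE) otE)) (otN 14475682 1 (otN 2470385 0 (otN 7070028 0 (otN
    14094678 0 otE (otN 14233830 1 otE otE)) otE) (otN 1038375 1 (otN 3569866 0 (otN 15833260 0 (otN 12757115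
    0 (otN 10053845 0 otE otE) (otN 11762241 1 otE otE)) (otN 15002276 1 (otN 2584685 1 (otN 15953934 0 otE
    otE) otE) otE)) (otN 8295236 1 (otN 7603070 0 (otN 15213494 0 (otN 779371 1 otE otE) otE) (otN 5061322 1
    otE otE)) otE)) otE)) otE)) otE)) otE)) (otN 16385925 1 (otN 5556019 0 (otN 2652144 0 (otN 5093132 0 (otN
    10946394 0 (otN 13935771 1 (otN 11126001 0 otE otE) otE) (otN 10293882 1 (otN 10391177 1 (otN 11849313 0
    otE (otN 15489305 1 (otN 11347719 1 otE otE) otE)) otE) otE)) (otN 681662 1 (otN 10335874 0 (otN 1890873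
    1 otE otE) (otN 13288572 1 (otN 10237015 0 otE (otN 13309141 1 (otN 2016287 0 (otN 13409620 1 otE otE)
    (otN 5851089 1 otE otE)) otE)) otE)) otE)) (otN 498974 1 (otN 12193226 0 (otN 13929893 0 (otN 2157939 0
    (otN 2274742 1 otE otE) (otN 2578771 1 otE otE)) (otN 15263891 1 (otN 5101777 0 (otN 3070044 0 (otN
    16521294 0 otE otE) otE) (otN 2749733 1 (otN 1717110 1 otE otE) otE)) otE)) (otN 16029266 1 (otN 6817533
    0 (otN 13428246 0 (otN 2954963 0 otE (otN 889981 1 otE otE)) (otN 9135576 1 (otN 14173367 1 (otN 773461 1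
    otE otE) otE) otE)) (otN 376473 1 (otN 11259464 0 (otN 14032453 0 otE otE) (otN 11818808 1 (otN 15218473
    0 otE otE) otE)) otE)) otE)) otE)) (otN 4811099 1 (otN 9394580 0 (otN 4102411 0 (otN 16009704 0 (otN
    14727477 0 (otN 2307939 1 otE otE) (otN 10971271 1 (otN 7659877 1 (otN 6386038 0 (otN 1287910 1 otE otE)
    (otN 473574 1 otE otE)) otE) otE)) (otN 15514370 1 (otN 6622169 0 (otN 11888010 1 (otN 14914977 0 otE
    otE) otE) (otN 2994731 1 (otN 15164104 0 (otN 13983917 1 (otN 9914725 1 otE otE) otE) otE) otE)) otE))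
    (otN 8144455 1 (otN 6575798 0 (otN 517724 1 (otN 12260934 0 (otN 5637807 0 (otN 13093208 1 otE otE) (otN
    5810905 1 (otN 11099560 1 (otN 12214807 1 otE otE) otE) otE)) otE) otE) (otN 895452 1 (otN 11503942 0
    (otN 7735751 0 (otN 7391670 0 otE otE) otE) (otN 12342498 1 (otN 6599853 0 (otN 14804058 0 otE (otN
    8876912 1 otE otE)) (otN 977557 1 (otN 4053570 0 otE (otN 7099756 1 otE otE)) otE)) otE)) otE)) otE))
    (otN 12158374 1 (otN 4629987 0 (otN 4706738 1 (otN 3846616 0 (otN 14516588 0 otE (otN 13139618 1 otE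
    otE)) otE) otE) (otN 1767507 1 (otN 6856612 1 (otN 4501338 0 otE (otN 2847322 1 (otN 14619276 0 (otN
    11960891 0 (otN 13024521 1 otE otE) otE) otE) otE)) otE) otE)) otE)) otE)) otE)) otE)) (otN 12775064 1
    (otN 10067537 0 (otN 937581 0 (otN 11828742 0 (otN 6364843 0 (otN 11789080 1 (otN 14357345 0 (otN 5966731
    1 otE otE) otE) otE) (otN 2402941 1 (otN 15297094 0 (otN 4659863 0 (otN 3852954 0 (otN 14457568 0 (otN
    3103369 1 otE otE) (otN 15268876 1 (otN 12917851 0 otE otE) otE)) (otN 7718728 1 (otN 14817140 0 (otN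
    5777183 0 otE otE) otE) otE)) otE) (otN 10892776 1 (otN 15836429 0 (otN 9517427 1 (otN 747949 0 (otN
    9959682 0 (otN 3348969 0 otE otE) otE) otE) otE) (otN 13001395 1 (otN 4703533 1 (otN 11695442 0 (otN
    5838253 0 otE otE) otE) otE) otE)) otE)) otE)) (otN 15598044 1 (otN 16548119 0 (otN 7094771 0 (otN
    7139732 0 (otN 7180634 0 otE (otN 882278 1 (otN 1999612 1 otE otE) otE)) (otN 1041798 1 (otN 3642818 0
    (otN 7505388 0 (otN 12810450 1 otE otE) (otN 5569170 1 (otN 2726648 0 (otN 13544012 0 otE otE) otE) otE))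
    otE) otE)) (otN 900419 1 (otN 2575820 0 (otN 15899910 0 (otN 6404691 1 otE otE) otE) otE) otE)) (otN
    13460675 1 (otN 2610325 0 (otN 8049738 0 (otN 13899004 0 (otN 8867537 1 otE otE) (otN 13220500 1 (otN
    1018459 0 otE (otN 3757673 1 (otN 13006380 0 (otN 13042301 1 otE otE) otE) otE)) otE)) otE) (otN 1950133
    1 (otN 3076450 0 (otN 7680460 0 (otN 9792226 1 otE otE) (otN 5157542 1 (otN 3515098 0 otE otE) otE)) (otN
    1989958 1 (otN 3415470 0 (otN 10938962 1 (otN 7936709 0 otE otE) otE) (otN 7113430 1 (otN 3011784 1 (otN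
    10252980 1 otE otE) otE) otE)) otE)) otE)) otE)) otE)) (otN 3678105 1 (otN 13422376 0 (otN 10764113 0
    (otN 6901517 0 (otN 12132702 1 (otN 13566375 0 (otN 3596691 0 (otN 7983584 0 (otN 1800838 1 otE otE) (otN
    4521254 1 otE otE)) otE) (otN 10005731 1 otE otE)) otE) (otN 2369467 1 (otN 15329152 0 (otN 4691793 0
    (otN 3819356 0 otE (otN 5576602 1 (otN 11175864 0 otE (otN 9817626 1 otE otE)) otE)) (otN 1667135 1 otE
    otE)) (otN 8840506 1 (otN 12137921 0 (otN 1600435 1 otE otE) (otN 13014071 1 otE otE)) otE)) otE)) (otN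
    11472927 1 (otN 16662667 0 (otN 16044209 0 (otN 6877305 0 (otN 9123748 1 (otN 1550091 0 otE (otN 5915259
    1 otE otE)) otE) (otN 491269 1 (otN 3366666 0 otE otE) otE)) (otN 13494533 1 otE otE)) (otN 14460737 1
    (otN 2443125 0 (otN 6977286 0 (otN 4825726 1 (otN 9380566 0 (otN 6079721 1 otE otE) (otN 10196200 1 otE
    otE)) otE) (otN 1451486 1 otE otE)) (otN 858555 1 (otN 11463048 0 (otN 16095553 0 (otN 6441341 0 (otN
    14186774 0 otE otE) (otN 3488643 1 (otN 6540200 0 otE (otN 3468074 1 otE otE)) otE)) otE) (otN 12502786 1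
    (otN 7608289 0 (otN 486298 1 otE otE) otE) otE)) otE)) otE)) otE)) (otN 11038490 1 (otN 13442945 0 (otN
    2543385 0 (otN 16277312 0 (otN 4464445 0 otE otE) (otN 14955806 1 (otN 15271323 0 (otN 13550993 0 (otN
    3986769 0 otE (otN 5068055 1 otE otE)) otE) otE) otE)) (otN 4014875 1 (otN 15618976 0 (otN 7648025 0 (otN
    15287160 0 (otN 10167439 1 otE otE) (otN 8732458 1 otE otE)) (otN 5202447 1 (otN 12014226 0 (otN 8032937
    0 otE otE) otE) otE)) (otN 10267918 1 (otN 10816995 0 (otN 6483333 0 otE otE) (otN 11311219 1 (otN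
    3061633 1 otE otE) otE)) otE)) otE)) (otN 11052095 1 (otN 9090417 1 (otN 1926477 0 otE (otN 4855731 1
    (otN 1894296 0 otE (otN 4966170 1 (otN 10360784 0 (otN 3966765 0 (otN 9320794 1 otE otE) (otN 5000859 1
    otE otE)) otE) otE)) otE)) otE) otE)) otE)) otE)) (otN 14767165 1 (otN 13267995 0 (otN 10310809 0 (otN
    11457577 0 (otN 16020553 0 (otN 8727477 1 (otN 2878211 0 (otN 5725120 0 otE (otN 7909678 1 (otN 9157218 1
    (otN 1518285 0 otE otE) otE) otE)) (otN 3556715 1 (otN 15758756 0 (otN 223863 1 otE otE) otE) otE)) otE)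
    (otN 13513493 1 (otN 5048171 1 (otN 10905492 0 otE otE) otE) otE)) (otN 10243861 1 (otN 2907939 0 (otN
    6586248 0 (otN 10838590 1 (otN 15413891 0 otE (otN 9872493 1 otE otE)) otE) (otN 3056414 1 (otN 16581570
    0 otE (otN 13415530 1 (otN 10822877 0 (otN 15451143 0 (otN 5878101 1 otE otE) (otN 9725425 1 otE otE))
    (otN 9409201 1 (otN 6182665 1 otE otE) otE)) otE)) otE)) (otN 2887007 1 (otN 15486342 0 (otN 6593939 0
    (otN 6868440 0 otE (otN 2488082 1 (otN 7018440 0 otE otE) otE)) otE) (otN 11314642 1 (otN 7177669 0 (otN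
    6735190 0 (otN 7869910 0 otE (otN 4568278 1 otE otE)) (otN 1929682 1 (otN 3117484 0 otE otE) otE)) (otN
    849075 1 (otN 972596 1 otE otE) otE)) otE)) otE)) otE)) (otN 13207349 1 (otN 943955 0 (otN 4020100 0 (otN
    6723370 0 otE (otN 1862238 1 (otN 11344550 0 (otN 6728331 0 (otN 15846096 0 (otN 4889205 0 otE otE) (otN
    15069480 1 otE otE)) (otN 4121161 1 (otN 16077412 0 otE (otN 13384108 1 otE otE)) otE)) (otN 11308268 1
    (otN 14986311 0 otE otE) otE)) otE)) (otN 5014974 1 (otN 9426002 1 (otN 4068557 0 (otN 16041006 0 (otN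
    14693619 0 otE otE) otE) otE) otE) otE)) (otN 1774939 1 (otN 10372524 0 (otN 11842851 0 (otN 441139 1
    (otN 3763144 0 (otN 12085422 1 (otN 12957859 0 otE otE) otE) otE) otE) (otN 13518935 1 (otN 3954839 0
    (otN 7133354 0 otE otE) otE) otE)) (otN 14192530 1 (otN 823281 0 (otN 2944836 0 (otN 6627142 0 (otN
    6426526 0 otE otE) otE) (otN 3036570 1 (otN 16553352 0 (otN 9271827 1 otE otE) otE) otE)) (otN 2743323 1
    (otN 13524168 0 (otN 11836445 0 (otN 15223915 0 otE otE) otE) (otN 12105492 1 (otN 540283 1 otE otE)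
    otE)) otE)) otE)) otE)) otE)) (otN 9643861 1 (otN 1787687 0 (otN 1472418 0 (otN 3258280 0 (otN 12822376 0
    (otN 13832379 1 (otN 10150073 0 (otN 13262117 1 otE otE) (otN 13881089 1 (otN 1204081 0 otE otE) otE))
    otE) (otN 9599546 1 (otN 10042025 0 (otN 8907305 0 (otN 16126253 1 (otN 13052739 1 otE otE) otE) otE)
    otE) otE)) (otN 4639294 1 (otN 12073682 0 (otN 5081773 0 (otN 12538184 1 otE otE) otE) (otN 15176780 1
    (otN 15860831 0 (otN 12692945 1 otE otE) (otN 13972177 1 (otN 2867773 0 (otN 14578242 0 otE (otN 14300492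
    1 otE otE)) (otN 1396649 1 otE otE)) otE)) otE)) otE)) (otN 5933406 1 (otN 10226166 0 (otN 3067075 1 (otN
    7658692 0 (otN 2456276 1 otE otE) otE) otE) (otN 15310018 1 (otN 4623581 0 (otN 12110934 0 otE (otN
    15029712 1 (otN 6984989 0 (otN 14435674 0 otE (otN 13186898 1 otE otE)) (otN 1402519 1 (otN 2872994 0 otE
    otE) otE)) otE)) (otN 3797649 1 (otN 5231208 0 otE (otN 1605420 1 otE otE)) otE)) otE)) otE)) (otN
    5246459 1 (otN 8973748 0 (otN 2774135 1 (otN 6059150 0 (otN 10851514 0 (otN 9893393 1 otE otE) (otN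
    9292404 1 otE otE)) (otN 4892628 1 (otN 1935190 0 otE otE) otE)) otE) (otN 10734994 1 (otN 5938625 0 (otN
    1363324 0 otE otE) (otN 7402519 1 (otN 4805882 0 (otN 9352348 0 (otN 12420171 0 (otN 10271121 1 otE otE)
    (otN 13391473 1 (otN 984989 1 otE otE) otE)) otE) otE) otE)) otE)) otE)) otE)) otE)) otE)) otE))

set_option maxRecDepth 1000000 in
/-- orbit tree for the class with invariant 4 (495 elements) -/
def dodTree4 : OT :=
    (otN 12283140 0 (otN 5709091 0 (otN 3304888 0 (otN 14269728 0 (otN 3873331 1 (otN 6187688 0 (otN 15681580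
    1 otE otE) (otN 8040200 1 (otN 13963120 0 (otN 2764597 0 (otN 6123266 0 (otN 2564016 0 otE otE) otE) otE)
    (otN 15284282 1 (otN 13576345 0 (otN 12568593 0 (otN 8280161 0 otE (otN 8142085 1 (otN 6638906 0 otE otE)
    otE)) (otN 16598305 1 (otN 2042135 1 otE otE) otE)) (otN 12297761 1 (otN 5727841 0 (otN 5704124 1 otE
    otE) (otN 5912889 1 otE otE)) otE)) otE)) otE)) otE) (otN 14838838 1 (otN 5848211 0 (otN 1035448 0 (otN
    12500032 0 (otN 7670893 0 (otN 12003792 1 otE otE) otE) (otN 16667668 1 (otN 8131643 0 (otN 9416464 1 otE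
    otE) otE) otE)) (otN 3788592 1 (otN 5128032 0 (otN 3485468 0 (otN 15404834 0 (otN 5648273 0 otE (otN
    8101915 1 otE otE)) otE) (otN 7275194 1 otE otE)) (otN 3816478 1 (otN 14486698 0 otE otE) otE)) otE))
    (otN 6530165 1 (otN 5989462 0 (otN 5868788 1 (otN 961654 0 (otN 4009158 0 (otN 6786214 0 otE (otN 3991792
    1 otE otE)) (otN 7247088 1 otE otE)) otE) otE) (otN 5453296 1 (otN 1811772 0 (otN 10429794 0 (otN 3614117
    0 (otN 5663090 1 otE otE) (otN 6195379 1 otE otE)) (otN 14294130 1 (otN 7048849 1 otE otE) otE)) (otN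
    5459634 1 (otN 1752752 0 (otN 1945192 0 (otN 12458168 1 otE otE) otE) (otN 7588892 1 (otN 15809620 1 otE
    otE) otE)) otE)) otE)) otE)) otE)) (otN 7834386 1 (otN 7998448 0 (otN 6073140 0 (otN 2960242 0 (otN
    7285636 0 (otN 8216682 1 (otN 15151284 0 otE (otN 10463396 1 (otN 3647587 0 (otN 7563492 0 otE otE) otE)
    otE)) otE) otE) (otN 3087466 1 (otN 16133260 0 (otN 15830067 0 (otN 3390737 1 otE otE) (otN 15034481 1
    (otN 7043093 0 (otN 7939940 1 otE otE) otE) otE)) (otN 16687760 1 (otN 5078057 1 (otN 12518196 1 (otN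
    6171723 1 otE otE) otE) otE) otE)) otE)) (otN 7040138 1 (otN 14130320 0 (otN 3837049 0 (otN 14445668 0
    (otN 2440247 0 otE otE) (otN 15351184 1 (otN 6130969 0 otE otE) otE)) (otN 7691793 1 (otN 6970936 0 otE
    otE) otE)) (otN 16375860 1 (otN 5189747 0 (otN 6260640 1 (otN 3581808 0 (otN 4603066 1 otE otE) (otN
    6248474 1 otE otE)) otE) (otN 1784933 1 (otN 1535022 0 (otN 11746466 0 (otN 5483689 0 otE otE) otE) otE)
    otE)) otE)) otE)) (otN 7715850 1 (otN 14879992 0 (otN 14330901 0 (otN 6888817 1 (otN 5139740 0 (otN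
    12393746 0 (otN 7212457 0 otE otE) (otN 15533174 1 (otN 7218327 0 (otN 8242322 0 otE otE) otE) otE)) (otN
    3876754 1 (otN 5827642 1 (otN 9256176 0 otE (otN 11246644 1 otE otE)) otE) otE)) otE) (otN 15950993 1
    (otN 5336373 1 otE otE) otE)) (otN 11909680 1 (otN 7023209 0 (otN 14117396 0 otE (otN 16458152 1 (otN
    14131505 0 otE (otN 14379043 1 (otN 8096037 1 (otN 8075586 1 otE otE) otE) otE)) otE)) (otN 3554857 1
    (otN 15822376 0 (otN 12795441 0 (otN 7538489 1 (otN 13839642 1 otE otE) otE) (otN 11741245 1 otE otE))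
    (otN 15084344 1 (otN 16329489 0 (otN 3747115 1 (otN 13069728 0 otE (otN 12233010 1 (otN 6994979 1 otE
    otE) otE)) otE) (otN 15148075 1 otE otE)) otE)) otE)) otE)) otE)) otE)) (otN 7874679 1 (otN 5073078 0
    (otN 3127442 0 (otN 8358088 0 (otN 16156788 0 (otN 6765761 1 (otN 7693232 1 (otN 7058224 0 otE otE) otE)
    otE) (otN 16611456 1 (otN 6789177 0 (otN 16201472 1 (otN 5581371 1 otE otE) otE) (otN 4024869 1 (otN
    6781474 0 (otN 7840300 1 (otN 15934066 0 otE otE) otE) (otN 4073836 1 (otN 16066854 0 otE otE) otE))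
    otE)) otE)) (otN 8189472 1 (otN 6633080 0 (otN 15410716 0 (otN 14616083 0 (otN 4081329 0 otE otE) (otN
    14230649 1 (otN 10161585 1 otE otE) otE)) (otN 9905848 1 (otN 14044217 1 (otN 12090417 0 otE otE) otE)
    otE)) (otN 997948 1 (otN 12528138 0 (otN 16190113 0 (otN 7531057 0 (otN 6503724 1 otE otE) (otN 7825673 1
    (otN 15948080 0 otE otE) otE)) (otN 16558121 1 otE otE)) (otN 16647784 1 otE otE)) otE)) otE)) (otN
    4179044 1 (otN 7746662 0 (otN 7414974 0 (otN 9694320 1 (otN 7478453 1 otE otE) otE) (otN 4696816 1 (otN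
    3910228 0 (otN 6228582 0 (otN 3549878 0 (otN 7973538 0 otE otE) otE) (otN 7879912 1 (otN 12954684 0 otE
    (otN 11233968 1 (otN 8021037 1 (otN 13314420 1 otE otE) otE) otE)) otE)) (otN 7820456 1 (otN 15905848 0
    otE otE) otE)) otE)) (otN 6174932 1 (otN 4032574 0 (otN 15608034 0 (otN 7710869 0 (otN 3505504 1 otE otE)
    (otN 7332001 1 (otN 7860304 0 (otN 5586596 1 otE otE) otE) otE)) otE) (otN 7163616 1 (otN 6733332 0 (otN
    7933530 0 (otN 12168344 1 otE otE) otE) (otN 4153500 1 (otN 16748578 0 (otN 7741689 0 otE (otN 6273537 1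
    (otN 3623544 0 otE otE) otE)) otE) otE)) otE)) otE)) otE)) (otN 2862560 1 (otN 5745988 0 (otN 3345782 0
    (otN 5909926 0 (otN 1420722 0 (otN 3595314 1 otE otE) (otN 7063666 1 (otN 8107140 1 (otN 5735546 0 otE
    (otN 5864048 1 otE otE)) otE) otE)) (otN 7515346 1 (otN 6421680 1 (otN 3372596 1 (otN 5977642 0 otE otE)
    otE) otE) otE)) (otN 7674098 1 (otN 6990012 0 (otN 15430752 1 (otN 5714973 0 (otN 12272698 0 otE otE)
    (otN 5972661 1 (otN 2089522 0 (otN 4141792 0 otE otE) (otN 5983592 1 (otN 16451734 1 otE otE) otE)) otE))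
    otE) (otN 3665536 1 (otN 7577184 0 (otN 5385852 0 (otN 10038838 0 otE otE) (otN 7551640 1 (otN 14387768 0
    otE otE) otE)) (otN 7632956 1 (otN 10956388 1 (otN 7548423 0 (otN 7448952 1 otE otE) otE) otE) otE))
    otE)) otE)) (otN 8024242 1 (otN 6140088 0 (otN 11509880 0 (otN 16719941 0 (otN 7815223 0 otE (otN 6105569
    1 (otN 2615604 0 otE (otN 4147618 1 (otN 7780768 0 otE otE) otE)) otE)) (otN 14562465 1 (otN 3531833 0
    (otN 9846068 1 otE otE) (otN 5196593 1 otE otE)) otE)) (otN 10444320 1 otE otE)) (otN 4976164 1 (otN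
    8065148 1 (otN 14557246 0 (otN 12394675 0 (otN 2026785 1 (otN 7215414 1 otE otE) otE) (otN 13601889 1
    (otN 3566677 0 otE (otN 8327569 1 otE otE)) otE)) (otN 14364352 1 (otN 1543733 0 (otN 3829346 0 otE (otN
    7740760 1 otE otE)) otE) otE)) otE) otE)) otE)) otE)) otE)) (otN 16123314 1 (otN 7906737 0 (otN 5105008 0
    (otN 3093844 0 (otN 8324366 0 (otN 14526546 1 (otN 3082485 0 (otN 8316934 0 (otN 7190628 1 otE otE) otE)
    (otN 4037793 1 (otN 6745192 0 otE (otN 4094736 1 (otN 8198952 0 otE otE) otE)) otE)) otE) (otN 6039282 1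
    (otN 2991796 0 (otN 7317058 0 (otN 7800532 0 (otN 5598424 1 (otN 11881652 1 otE otE) otE) otE) (otN
    1995896 1 (otN 12399660 0 (otN 10365553 1 otE otE) (otN 13504180 1 (otN 3976723 0 otE (otN 7291993 1 otE
    otE)) otE)) otE)) otE) otE)) (otN 2036918 1 (otN 4105386 0 (otN 16098528 0 (otN 1538225 1 (otN 3930152 0
    (otN 14104680 0 otE (otN 16398884 1 otE otE)) (otN 7753508 1 (otN 7356210 0 (otN 2338362 1 otE otE) (otN
    6760542 1 otE otE)) otE)) otE) (otN 13563952 1 (otN 4012121 0 (otN 12332960 1 otE otE) (otN 7280165 1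
    (otN 7759386 0 otE (otN 6234968 1 otE otE)) otE)) otE)) (otN 6213200 1 (otN 3939956 0 (otN 7089710 0 (otN
    15019666 0 otE otE) otE) (otN 7150748 1 (otN 15633434 0 (otN 15578129 1 (otN 1914673 1 otE otE) otE) (otN
    12412496 1 (otN 1846461 1 (otN 11398178 0 (otN 4108341 1 otE otE) (otN 11423088 1 otE otE)) otE) otE))
    otE)) otE)) otE)) (otN 752946 1 (otN 2047368 0 (otN 12029224 0 (otN 15871329 0 (otN 6498739 1 (otN
    6023568 0 (otN 7953446 1 otE otE) (otN 7595298 1 (otN 5486646 1 (otN 1779962 0 otE otE) otE) otE)) otE)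
    (otN 16136211 1 (otN 7948473 0 otE (otN 6663969 1 (otN 6516560 0 otE (otN 3617082 1 otE otE)) otE)) otE))
    (otN 16534066 1 (otN 7092913 0 (otN 7203352 0 otE (otN 3106600 1 otE otE)) (otN 3124237 1 (otN 16206914 0
    otE (otN 16527728 1 (otN 7151933 0 (otN 15687954 0 otE otE) (otN 994979 1 (otN 8307000 1 otE otE) otE))
    otE)) otE)) otE)) (otN 8029750 1 (otN 4963416 1 (otN 10423388 0 (otN 12454951 0 (otN 7629987 0 otE (otN
    7252305 1 (otN 8210772 0 otE (otN 7157154 1 otE otE)) otE)) (otN 16518353 1 (otN 7130165 0 otE (otN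
    2977169 1 (otN 7331072 0 otE (otN 3958070 1 otE otE)) otE)) otE)) (otN 16324272 1 (otN 5154361 0 (otN
    13571384 1 (otN 12461337 0 otE otE) otE) (otN 1797657 1 (otN 16256316 1 (otN 13380915 0 otE (otN 11218003
    1 (otN 6245509 0 otE otE) otE)) otE) otE)) otE)) otE) otE)) otE)) (otN 4713491 1 (otN 3890384 0 (otN
    6200364 0 (otN 11807866 0 (otN 15281317 0 (otN 3891569 1 (otN 6254884 0 otE otE) otE) (otN 10923185 1
    (otN 7990337 0 (otN 4676724 0 otE (otN 3750324 1 (otN 5220650 0 otE otE) otE)) (otN 6714673 1 (otN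
    7959832 0 otE (otN 4663094 1 otE otE)) otE)) otE)) (otN 15669840 1 (otN 8260125 0 (otN 15543624 1 (otN
    15142165 0 (otN 8015123 0 (otN 6925590 1 otE otE) (otN 7677267 1 otE otE)) otE) otE) (otN 8201865 1 (otN
    15189552 0 (otN 8009297 0 (otN 6112828 0 otE (otN 4796344 1 otE otE)) otE) (otN 10316088 1 (otN 11483425
    0 (otN 8266531 1 otE otE) otE) otE)) otE)) otE)) (otN 7892628 1 (otN 5086770 0 (otN 3026648 0 (otN
    16616964 0 (otN 6688371 0 (otN 6792600 1 (otN 16483664 0 otE (otN 13988914 1 otE otE)) otE) otE) (otN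
    15492280 1 (otN 9397301 1 (otN 4158467 0 otE (otN 6161781 1 (otN 5180882 1 otE otE) otE)) otE) otE)) (otN
    4167192 1 (otN 14433816 1 (otN 11341369 0 (otN 15625729 0 otE otE) otE) otE) otE)) (otN 2714748 1 (otN
    13581318 0 (otN 3607707 0 (otN 16436384 0 (otN 5553265 0 otE otE) (otN 16051472 1 otE otE)) (otN 8225393
    1 (otN 7234164 0 (otN 8204822 0 otE (otN 5186796 1 (otN 12035094 0 (otN 8062179 0 otE otE) (otN 14631152
    1 otE otE)) otE)) otE) otE)) (otN 12199156 1 (otN 6136871 0 (otN 2581746 0 (otN 5694644 1 (otN 3781746 0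
    otE otE) otE) (otN 2070896 1 (otN 8265346 1 otE otE) otE)) (otN 4877553 1 (otN 1965076 0 otE (otN 7030196
    1 otE otE)) otE)) otE)) otE)) otE)) (otN 7705908 1 (otN 6956410 0 (otN 14493076 0 (otN 3114291 0 (otN
    8283584 0 otE (otN 6206738 1 (otN 3999224 0 (otN 15639844 0 otE (otN 10382482 1 otE otE)) otE) otE)) (otN
    1920115 1 (otN 3046564 0 otE (otN 4099476 1 (otN 8162658 0 (otN 6565364 0 otE otE) (otN 7109714 1 otE
    otE)) otE)) otE)) (otN 13345970 1 (otN 2073809 0 (otN 6053296 1 (otN 2932024 0 (otN 11417138 1 otE otE)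
    (otN 3100182 1 (otN 8168540 1 otE otE) otE)) otE) (otN 6018097 1 (otN 5971732 1 (otN 1969978 0 otE otE)
    otE) otE)) otE)) (otN 1523282 1 (otN 3870380 0 (otN 14069282 0 (otN 3223281 0 otE otE) (otN 16410712 1
    (otN 14489653 0 (otN 3041339 0 otE (otN 4132673 1 (otN 8137114 1 (otN 15567280 0 otE otE) otE) otE)) otE)
    otE)) (otN 7638712 1 (otN 15249008 0 (otN 5058133 0 otE (otN 2831545 1 (otN 14672904 0 (otN 11998321 0
    otE otE) (otN 14313264 1 (otN 4918335 1 otE otE) otE)) otE)) (otN 10976280 1 (otN 16456713 0 otE (otN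
    16000565 1 (otN 6907443 0 (otN 5207696 0 otE otE) otE) otE)) otE)) otE)) otE)) otE)) otE)) otE))

set_option maxRecDepth 1000000 in
/-- orbit tree for the class with invariant 0 (1 elements) -/
def dodTree0 : OT :=
    otE

/-- the classes: invariant, base mask, tree certificate -/
def dodClasses : List OrbClassT :=
  [(12, 8442831, dodTree12), (8, 28637, dodTree8), (6, 114548, dodTree6), (4, 470393, dodTree4), (0, 8334384, dodTree0)]

end Cfsg.Agent.Lib.Helper27
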