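import Mathlib
import Cfsg.Agent.Lib.Helper27.M24Classes

/-!
# Generators of the stabilizer in `M24` of (∞, 0 in base octad), with orbit certificates on octads through both
AUTO-GENERATED data (Python search); everything is re-checked by the kernel.
-/

set_option autoImplicit false

namespace Cfsg.Agent.Lib.Helper27

open Cfsg Cfsg.Agent.Lib.Helper7

/-- straight-line program in the three generators of `M24` -/
def twoProg : List (ℕ × ℕ) :=
  [
   (0, 0), (3, 3), (3, 4), (4, 4), (6, 6), (5, 7), (2, 2), (9, 9), (1, 2), (11, 0), (12, 2), (13, 0),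
   (14, 2), (15, 0), (16, 1), (2, 0), (18, 10), (19, 10), (20, 0), (21, 10), (22, 0), (23, 2), (24, 8), (25, 2),
   (26, 0), (27, 10), (28, 8), (29, 2), (30, 2)]

/-- stack positions of the chosen stabilizer elements -/
def twoIdx : List ℕ := [17, 31]

/-- their tables -/
def twoT : List (List ℕ) :=
  [[0, 1, 5, 17, 18, 2, 16, 12, 8, 9, 21, 15, 7, 20, 14, 11, 6, 3, 4, 19, 13, 10, 22, 23],
   [0, 17, 14, 5, 11, 2, 22, 16, 19, 7, 21, 20, 10, 4, 3, 9, 13, 1, 6, 12, 15, 18, 8, 23]]

/-- orbit certificate for the class with invariant 8 (1 elements) -/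
def twoCert8 : List (ℕ × ℕ × ℕ) :=
  [
]

/-- orbit certificate for the class with invariant 4 (60 elements) -/
def twoCert4 : List (ℕ × ℕ × ℕ) :=
  [
   (10846245, 8391797, 0), (15747077, 8391797, 1), (8675909, 10846245, 1), (12641313, 15747077, 0), (9748745, 15747077, 1), (9519665, 8675909, 0),
   (12599513, 8675909, 1), (10486557, 12641313, 1), (8546577, 9748745, 0), (8946281, 9748745, 1), (8431757, 9519665, 1), (13062145, 12599513, 0),
   (12650793, 12599513, 1), (8783649, 10486557, 0), (9193633, 10486557, 1), (9963547, 8546577, 1), (9112069, 8946281, 0), (12587685, 8946281, 1),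
   (9607201, 8431757, 0), (8398155, 13062145, 1), (12747077, 12650793, 0), (9969957, 12650793, 1), (11010247, 8783649, 1), (8966165, 9193633, 0),
   (9506893, 9193633, 1), (9347075, 9963547, 0), (9465987, 9112069, 1), (8471941, 12587685, 1), (9471495, 9607201, 1), (11731203, 8398155, 0),
   (15335473, 8398155, 1), (13124355, 12747077, 1), (8983587, 11010247, 0), (8412681, 8966165, 1), (8593633, 9506893, 0), (8524371, 9347075, 1),
   (8619033, 9465987, 1), (10506593, 8471941, 0), (11100169, 8471941, 1), (10496547, 9471495, 0), (10666625, 9471495, 1), (13370381, 15335473, 0),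
   (8657159, 15335473, 1), (9048457, 13124355, 1), (10630149, 8983587, 1), (11535529, 8412681, 1), (12656663, 8593633, 1), (8716939, 8524371, 0),
   (12717187, 8524371, 1), (10881097, 8619033, 0), (10110017, 11100169, 0), (8663097, 11100169, 1), (9830549, 10496547, 1), (8421811, 8657159, 0),
   (10765331, 10630149, 1), (13893731, 12656663, 0), (14716939, 12717187, 0), (8505411, 9830549, 1), (13771273, 8505411, 1)]

/-- orbit certificate for the class with invariant 2 (16 elements) -/
def twoCert2 : List (ℕ × ℕ × ℕ) :=
  [
   (9440193, 8499969, 0), (8922769, 8499969, 1), (14254209, 9440193, 1), (12325377, 8922769, 0), (10557585, 8922769, 1), (13121601, 14254209, 0),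
   (8688833, 12325377, 1), (9776129, 10557585, 1), (13636881, 13121601, 1), (14747201, 8688833, 1), (11575377, 9776129, 0), (14950785, 13636881, 0),
   (11046145, 13636881, 1), (12880401, 11575377, 1), (9240913, 14950785, 1)]

/-- the classes: invariant, base mask, certificate -/
def twoClasses : List (ℕ × ℕ × List (ℕ × ℕ × ℕ)) :=
  [(8, 8536111, twoCert8), (4, 8391797, twoCert4), (2, 8499969, twoCert2)]

end Cfsg.Agent.Lib.Helper27
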