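import Mathlib
import Cfsg.Agent.Lib.Helper8.HSGroup
import Cfsg.Agent.Lib.Helper27.SuborbitSimple
import Cfsg.Agent.Lib.Helper27.McL2Trans
import Cfsg.Agent.S1634

/-!
# The stabiliser of a McLaughlin pair is simple of order 898128000

The stabiliser `Mstd` of the standard pair `(4,4,0^22)`, `(1,-3,1^22)` acts transitively on the 2025
vectors of `F2`; the stabiliser of `yU = (4,-4,0^22)` consists of coordinate permutations from `M24`
fixing the first two points, and has orbits of sizes 330, 462, 1232 on the other vectors.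
-/

set_option autoImplicit false

namespace Cfsg.Agent.Lib.Helper27
open Cfsg Cfsg.Agent.Lib.Helper7 Cfsg.Agent.Lib.Helper8 Cfsg.Spor
open scoped Pointwise

/-- the stabiliser of the standard McLaughlin pair -/
def Mstd : Subgroup Co0 := MulAction.stabilizer Co0 leechU ⊓ MulAction.stabilizer Co0 wL

theorem mem_Mstd (g : Co0) : g ∈ Mstd ↔ g • leechU = leechU ∧ g • wL = wL := by
  unfold Mstd
  rw [Subgroup.mem_inf, MulAction.mem_stabilizer_iff, MulAction.mem_stabilizer_iff]

theorem mstd_smul_def (g : Mstd) (x : leechLattice) : g • x = (g : Co0) • x := rfl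

theorem u3std_eq : u3std = wL + leechU - yU := by
  apply Subtype.ext
  rw [u3std_coe]
  show u3 = wF + vecU - (Pi.single none 4 + Pi.single (some 0) (-4) : GolayPt → ℤ)
  decide +kernel

/-- an automorphism fixing the standard pair and `yU` is a coordinate permutation -/
theorem exists_perm_of_fix_mcl (g : Co0) (h1 : g • leechU = leechU) (h2 : g • wL = wL)
    (h3 : g • yU = yU) :
    ∃ σ, ∃ hσ : σ ∈ M24, σ none = none ∧ σ (some 0) = some 0 ∧ g = permCo0 σ hσ := by
  have e1 : g • u3std = u3std := by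
    rw [u3std_eq, co0_smul_sub, co0_smul_add, h1, h2, h3]
  have e2 : g • w3std = w3std := by
    unfold w3std
    rw [co0_smul_sub, co0_smul_neg, h3, e1]
  exact exists_perm_of_fix g e1 e2 h1

theorem permCo0_fix_mcl (σ : Equiv.Perm GolayPt) (hσ : σ ∈ M24) (h0 : σ none = none)
    (h1 : σ (some 0) = some 0) :
    permCo0 σ hσ • leechU = leechU ∧ permCo0 σ hσ • wL = wL ∧ permCo0 σ hσ • yU = yU :=
  mono_fix_std σ hσ h0 h1

/-- the embedding of the two-point stabiliser of `M24` into `Mstd` -/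
noncomputable def phiMcL : M22' →* Mstd where
  toFun τ := ⟨permCo0 τ.1.1 τ.1.2, (mem_Mstd _).2
    ⟨(permCo0_fix_mcl _ _ ((mem_M22' τ.1).1 τ.2).1 ((mem_M22' τ.1).1 τ.2).2).1,
      (permCo0_fix_mcl _ _ ((mem_M22' τ.1).1 τ.2).1 ((mem_M22' τ.1).1 τ.2).2).2.1⟩⟩
  map_one' := Subtype.ext permCo0_one
  map_mul' a b := Subtype.ext (permCo0_mul _ _ a.1.2 b.1.2)

theorem phiMcL_coe (τ : M22') : ((phiMcL τ : Mstd) : Co0) = permCo0 τ.1.1 τ.1.2 := rfl

theorem phiMcL_injective : Function.Injective phiMcL := by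
  intro a b h
  have h1 : permCo0 a.1.1 a.1.2 = permCo0 b.1.1 b.1.2 := by
    rw [← phiMcL_coe, ← phiMcL_coe, h]
  exact Subtype.ext (Subtype.ext (permCo0_injective h1))

theorem phiMcL_range : phiMcL.range = MulAction.stabilizer Mstd yU := by
  ext g
  rw [MonoidHom.mem_range, MulAction.mem_stabilizer_iff]
  constructor
  · rintro ⟨τ, rfl⟩
    rw [mstd_smul_def, phiMcL_coe]
    exact (permCo0_fix_mcl _ _ ((mem_M22' τ.1).1 τ.2).1 ((mem_M22' τ.1).1 τ.2).2).2.2
  · intro h
    rw [mstd_smul_def] at h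
    obtain ⟨h1, h2⟩ := (mem_Mstd _).1 g.2
    obtain ⟨σ, hσ, s0, s1, hg⟩ := exists_perm_of_fix_mcl g.1 h1 h2 h
    refine ⟨⟨⟨σ, hσ⟩, (mem_M22' _).2 ⟨s0, s1⟩⟩, ?_⟩
    apply Subtype.ext
    rw [phiMcL_coe, hg]

/-- the point stabiliser is the two-point stabiliser of `M24` -/
noncomputable def stabEquivMcL : M22' ≃* MulAction.stabilizer Mstd yU :=
  (MonoidHom.ofInjective phiMcL_injective).trans (MulEquiv.subgroupCongr phiMcL_range)

theorem isSimpleGroup_stab_mcl : IsSimpleGroup (MulAction.stabilizer Mstd yU) := by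
  have : IsSimpleGroup M22' :=
    isSimpleGroup_stabilizer_pair_M24 (p := none) (q := some 0) (by decide)
  exact MulEquiv.isSimpleGroup stabEquivMcL.symm

theorem card_stab_mcl : Nat.card (MulAction.stabilizer Mstd yU) = 443520 := by
  rw [← Nat.card_congr stabEquivMcL.toEquiv]
  exact card_stabilizer_pair_M24 (p := none) (q := some 0) (by decide)

/-! ### the action on the 2025 vectors -/

/-- the 2025 vectors -/
def S2025 : Set leechLattice := {y | (y : GolayPt → ℤ) ∈ F2}

theorem yU_mem_S2025 : yU ∈ S2025 := yU_mem_F2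

theorem smul_mem_S2025 (g : Mstd) {x : leechLattice} (hx : x ∈ S2025) : g • x ∈ S2025 := by
  obtain ⟨h1, h2⟩ := (mem_Mstd _).1 g.2
  obtain ⟨-, hn, hv, hw⟩ := hx
  rw [mstd_smul_def]
  refine ⟨((g : Co0) • x).2, by rw [co0_sqNorm]; exact hn, ?_, ?_⟩
  · have := co0_dotInt (g : Co0) leechU x
    rw [h1, leechU_coe] at this
    rw [this]; exact hv
  · have := co0_dotInt (g : Co0) wL x
    rw [h2, wL_coe] at this
    rw [this]; exact hw

theorem mstd_to_yU (x : leechLattice) (hx : x ∈ S2025) : ∃ g : Mstd, g • x = yU := by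
  obtain ⟨-, hn, hv, hw⟩ := hx
  obtain ⟨g, h1, h2, h3⟩ := exists_to_std2 leechU wL x sqNorm_vecU sqNorm_wF dotInt_vecU_wF hn hv hw
  exact ⟨⟨g, (mem_Mstd g).2 ⟨h1, h2⟩⟩, h3⟩

theorem mstd_transitive (x y : leechLattice) (hx : x ∈ S2025) (hy : y ∈ S2025) :
    ∃ g : Mstd, g • x = y := by
  obtain ⟨g, hg⟩ := mstd_to_yU x hx
  obtain ⟨g', hg'⟩ := mstd_to_yU y hy
  refine ⟨g'⁻¹ * g, ?_⟩
  rw [mul_smul, hg, inv_smul_eq_iff, hg']

theorem ncard_S2025 : S2025.ncard = 2025 := Cfsg.Agent.S1634.ncard_std2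

theorem orbit_mstd : MulAction.orbit Mstd yU = S2025 := by
  ext y
  constructor
  · rintro ⟨g, rfl⟩
    exact smul_mem_S2025 g yU_mem_S2025
  · intro hy
    obtain ⟨g, hg⟩ := mstd_transitive yU y yU_mem_S2025 hy
    exact ⟨g, hg⟩

theorem card_Mstd : Nat.card Mstd = 898128000 := by
  have h1 : (MulAction.stabilizer Mstd yU).index = (MulAction.orbit Mstd yU).ncard :=
    MulAction.index_stabilizer Mstd yU
  have h2 := Subgroup.card_mul_index (MulAction.stabilizer Mstd yU)
  rw [h1, orbit_mstd, ncard_S2025, card_stab_mcl] at h2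
  omega

/-- an octad through `∞`, `0` and a given third point -/
theorem exists_oct_through : ∀ p : GolayPt,
    ∃ m ∈ octL, m.testBit 23 = true ∧ m.testBit 0 = true ∧ m.testBit (idx p) = true := by
  decide +kernel

theorem mstd_faithful (g : Mstd) (h : ∀ x ∈ S2025, g • x = x) : g = 1 := by
  obtain ⟨h1, h2⟩ := (mem_Mstd _).1 g.2
  have h3 := h yU yU_mem_S2025
  rw [mstd_smul_def] at h3
  obtain ⟨σ, hσ, s0, s1, hg⟩ := exists_perm_of_fix_mcl g.1 h1 h2 h3
  have hσ1 : σ = 1 := by
    apply Equiv.ext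
    intro j
    by_cases hjn : j = none
    · rw [hjn]; exact s0
    by_cases hj0 : j = some 0
    · rw [hj0]; exact s1
    obtain ⟨m, hm, b1, b2, b3⟩ := exists_oct_through j
    have hO : setOf m ∈ octads := setOf_mem_octads7 hm
    have m1 : (none : GolayPt) ∈ setOf m := by rw [mem_setOf, idx_none']; exact b1
    have m2 : (some 0 : GolayPt) ∈ setOf m := by rw [mem_setOf, idx_zero']; exact b2
    have m3 : j ∈ setOf m := by rw [mem_setOf]; exact b3
    have hmem : mixF (setOf m) j ∈ F2 := mixF_mem_F2 hO m1 m2 m3 hjn hj0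
    have hfix := h ⟨mixF (setOf m) j, hmem.1⟩ hmem
    rw [mstd_smul_def, hg] at hfix
    have e : ((permCo0 σ hσ • (⟨mixF (setOf m) j, hmem.1⟩ : leechLattice) : leechLattice) :
        GolayPt → ℤ) = signedPerm σ ∅ (mixF (setOf m) j) := monoCo0_apply σ hσ ∅ _ _
    have hval : mixF (σ • setOf m) (σ j) = mixF (setOf m) j := by
      rw [← mono_mixF σ s1, ← e, hfix]
    have hv := congrFun hval (σ j)
    rw [mixF_apply, mixF_apply, if_pos rfl] at hv
    have hσj0 : σ j ≠ some 0 := by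
      intro hc
      rw [← s1] at hc
      exact hj0 (σ.injective hc)
    rw [if_neg hσj0] at hv
    by_contra hne
    have hne' : ¬ σ j = j := hne
    rw [if_neg hne'] at hv
    split_ifs at hv <;> omega
  apply Subtype.ext
  rw [hg]
  subst hσ1
  exact permCo0_one

/-! ### the suborbits -/

/-- the three inner products -/
def dMcL : Fin 3 → ℤ := ![0, 16, 8]

/-- the three subdegrees -/
def cMcL : Fin 3 → ℕ := ![330, 462, 1232]

/-- the three suborbits -/
def OMcL (i : Fin 3) : Set leechLattice := {y | (y : GolayPt → ℤ) ∈ H2 (dMcL i)}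

theorem ncard_OMcL (i : Fin 3) : (OMcL i).ncard = cMcL i := by
  unfold OMcL
  rw [Cfsg.Agent.S1634.ncard_lvl]
  fin_cases i
  · exact ncard_H2_0
  · exact ncard_H2_16
  · exact ncard_H2_8

theorem OMcL_trans (i : Fin 3) : ∀ x ∈ OMcL i, ∀ y ∈ OMcL i,
    ∃ g : Mstd, g • yU = yU ∧ g • x = y := by
  intro x hx y hy
  have key : ∃ g : Co0, g • leechU = leechU ∧ g • wL = wL ∧ g • yU = yU ∧ g • x = y := by
    fin_cases i
    · exact std2_trans0 x y hx hy
    · exact std2_trans16 x y hx hy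
    · exact std2_trans8 x y hx hy
  obtain ⟨g, g1, g2, g3, g4⟩ := key
  exact ⟨⟨g, (mem_Mstd g).2 ⟨g1, g2⟩⟩, g3, g4⟩

theorem dMcL_ne (i : Fin 3) : dMcL i ≠ 32 := by
  fin_cases i <;> simp [dMcL]

theorem dMcL_injective : Function.Injective dMcL := by
  intro i j h
  fin_cases i <;> fin_cases j <;> simp [dMcL] at h ⊢

/-- **The stabiliser of the standard McLaughlin pair is simple of order 898128000.** -/
theorem isMcL_Mstd : IsMcL Mstd := by
  have hfin : Finite Mstd := Nat.finite_of_card_ne_zero (by rw [card_Mstd]; norm_num)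
  have hsfin : S2025.Finite := Set.finite_of_ncard_ne_zero (by rw [ncard_S2025]; norm_num)
  refine ⟨?_, card_Mstd⟩
  refine isSimpleGroup_of_suborbits (G := Mstd) (Ω := leechLattice) S2025 hsfin
    (fun g x hx => smul_mem_S2025 g hx) mstd_faithful
    (fun x hx y hy => mstd_transitive x y hx hy) yU yU_mem_S2025 isSimpleGroup_stab_mcl
    OMcL cMcL ?_ ?_ ?_ ncard_OMcL ?_ OMcL_trans ?_ 5 3 (by norm_num) (by norm_num) (by norm_num)
    (by rw [ncard_S2025]; norm_num) (by rw [ncard_S2025]; norm_num) ?_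
  · -- cover
    intro x hx hne
    have hx' : (x : GolayPt → ℤ) ∈ F2 := hx
    rw [F2_eq] at hx'
    rcases hx' with ((h | h) | h) | h
    · exact absurd (Subtype.ext h) hne
    · exact ⟨0, h⟩
    · exact ⟨1, h⟩
    · exact ⟨2, h⟩
  · intro i x hx
    exact hx.1
  · intro i h
    have := h.2
    rw [dot_yU_yU] at this
    exact dMcL_ne i this.symm
  · intro i j hij
    rw [Set.disjoint_left]
    intro x hx hx'
    exact hij (dMcL_injective (hx.2.symm.trans hx'.2))
  · rw [card_Mstd]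
    unfold cMcL
    decide +kernel
  · unfold cMcL
    decide +kernel

/-- **The stabiliser of any McLaughlin pair is simple of order 898128000.** -/
theorem isMcL_stabilizer (v w : leechLattice) (hv : sqNorm (v : GolayPt → ℤ) = 32)
    (hw : sqNorm (w : GolayPt → ℤ) = 32)
    (hvw : dotInt (v : GolayPt → ℤ) (w : GolayPt → ℤ) = -8) :
    IsMcL ↥(MulAction.stabilizer Co0 v ⊓ MulAction.stabilizer Co0 w) := by
  obtain ⟨g, hg1, hg2⟩ := exists_to_std2_pair v w hv hw hvw
  have hmem : ∀ x : Co0, x ∈ MulAction.stabilizer Co0 v ⊓ MulAction.stabilizer Co0 w ↔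
      (g⁻¹)⁻¹ * x * g⁻¹ ∈ Mstd := by
    intro x
    rw [mem_Mstd, Subgroup.mem_inf, MulAction.mem_stabilizer_iff, MulAction.mem_stabilizer_iff,
      inv_inv, mul_smul, mul_smul, mul_smul, mul_smul, ← hg1, ← hg2, inv_smul_smul, inv_smul_smul]
    constructor
    · rintro ⟨h1, h2⟩
      rw [h1, h2]
      exact ⟨rfl, rfl⟩
    · rintro ⟨h1, h2⟩
      exact ⟨MulAction.injective g h1, MulAction.injective g h2⟩
  have e := conjSubgroupEquiv g⁻¹ Mstd
    (MulAction.stabilizer Co0 v ⊓ MulAction.stabilizer Co0 w) hmem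
  obtain ⟨h1, h2⟩ := isMcL_Mstd
  exact ⟨MulEquiv.isSimpleGroup e, by rw [Nat.card_congr e.toEquiv]; exact h2⟩

end Cfsg.Agent.Lib.Helper27
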