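import Mathlib
import Cfsg.Prelude.Def_SporadicCombinatorics

set_option autoImplicit false

namespace Cfsg.Agent.Lib.Helper27

open Cfsg

section
variable {α F : Type*} [Field F]

/-- a monomial map preserves the subspace `H` -/
def MonoPres (H : Submodule F (α → F)) (σ : Equiv.Perm α) (c : α → Fˣ) : Prop :=
  ∀ x ∈ H, monomialMap σ c x ∈ H

theorem monomialMap_apply (σ : Equiv.Perm α) (c : α → Fˣ) (x : α → F) (i : α) :
    monomialMap σ c x i = (c i : F) * x (σ.symm i) := rfl

theorem monomialMap_add (σ : Equiv.Perm α) (c : α → Fˣ) (x y : α → F) :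
    monomialMap σ c (x + y) = monomialMap σ c x + monomialMap σ c y := by
  funext i
  simp only [monomialMap_apply, Pi.add_apply, mul_add]

theorem monomialMap_smul (σ : Equiv.Perm α) (c : α → Fˣ) (a : F) (x : α → F) :
    monomialMap σ c (a • x) = a • monomialMap σ c x := by
  funext i
  simp only [monomialMap_apply, Pi.smul_apply, smul_eq_mul]
  ring

/-- the monomial map as a linear map -/
def monoLin (σ : Equiv.Perm α) (c : α → Fˣ) : (α → F) →ₗ[F] (α → F) where
  toFun := monomialMap σ c
  map_add' := monomialMap_add σ c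
  map_smul' := monomialMap_smul σ c

theorem monoLin_apply (σ : Equiv.Perm α) (c : α → Fˣ) (x : α → F) :
    monoLin σ c x = monomialMap σ c x := rfl

theorem monomialMap_comp (σ τ : Equiv.Perm α) (c d : α → Fˣ) (x : α → F) :
    monomialMap σ c (monomialMap τ d x) =
      monomialMap (σ * τ) (fun i => c i * d (σ.symm i)) x := by
  funext i
  simp only [monomialMap_apply, Units.val_mul]
  have : (σ * τ).symm i = τ.symm (σ.symm i) := rfl
  rw [this]
  ring

theorem monomialMap_injective (σ : Equiv.Perm α) (c : α → Fˣ) :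
    Function.Injective (monomialMap σ c : (α → F) → (α → F)) := by
  intro x y h
  funext i
  have := congrFun h (σ i)
  simp only [monomialMap_apply, Equiv.symm_apply_apply] at this
  exact mul_left_cancel₀ (Units.ne_zero _) this

theorem monoPres_one (H : Submodule F (α → F)) : MonoPres H 1 (fun _ => 1) := by
  intro x hx
  have : monomialMap 1 (fun _ => (1 : Fˣ)) x = x := by
    funext i
    simp only [monomialMap_apply, Units.val_one, one_mul]
    rfl
  rw [this]; exact hx

theorem monoPres_mul {H : Submodule F (α → F)} {σ τ : Equiv.Perm α} {c d : α → Fˣ}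
    (h1 : MonoPres H σ c) (h2 : MonoPres H τ d) :
    MonoPres H (σ * τ) (fun i => c i * d (σ.symm i)) := by
  intro x hx
  rw [← monomialMap_comp]
  exact h1 _ (h2 _ hx)

/-- preservation can be checked on a spanning set -/
theorem monoPres_of_span {s : Set (α → F)} {σ : Equiv.Perm α} {c : α → Fˣ}
    (h : ∀ x ∈ s, monomialMap σ c x ∈ Submodule.span F s) :
    MonoPres (Submodule.span F s) σ c := by
  intro x hx
  have : Submodule.span F s ≤ (Submodule.span F s).comap (monoLin σ c) := by
    rw [Submodule.span_le]
    intro y hy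
    exact h y hy
  exact this hx

/-- on a finite invariant subspace a monomial map is onto -/
theorem monoPres_surjOn {H : Submodule F (α → F)} [Finite H] {σ : Equiv.Perm α} {c : α → Fˣ}
    (h : MonoPres H σ c) (x : α → F) (hx : x ∈ H) : ∃ y ∈ H, monomialMap σ c y = x := by
  let f : H → H := fun y => ⟨monomialMap σ c y.1, h y.1 y.2⟩
  have hinj : Function.Injective f := by
    intro y y' hyy
    exact Subtype.ext (monomialMap_injective σ c (congrArg Subtype.val hyy))
  obtain ⟨y, hy⟩ := (Finite.injective_iff_surjective.mp hinj) ⟨x, hx⟩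
  exact ⟨y.1, y.2, congrArg Subtype.val hy⟩

/-- two monomial automorphisms with the same permutation part differ by a diagonal one -/
theorem monoPres_div {H : Submodule F (α → F)} [Finite H] {σ : Equiv.Perm α} {c c0 : α → Fˣ}
    (h : MonoPres H σ c) (h0 : MonoPres H σ c0) :
    MonoPres H 1 (fun i => c i / c0 i) := by
  intro x hx
  obtain ⟨y, hy, rfl⟩ := monoPres_surjOn h0 x hx
  have : monomialMap 1 (fun i => c i / c0 i) (monomialMap σ c0 y) = monomialMap σ c y := by
    funext i
    simp only [monomialMap_apply, Units.val_div_eq_div_val]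
    have e : (1 : Equiv.Perm α).symm i = i := rfl
    rw [e]
    have hne : (c0 i : F) ≠ 0 := Units.ne_zero _
    field_simp
  rw [this]
  exact h y hy

theorem monoPres_scale {H : Submodule F (α → F)} {σ : Equiv.Perm α} {c0 : α → Fˣ}
    (h0 : MonoPres H σ c0) (u : Fˣ) : MonoPres H σ (fun i => u * c0 i) := by
  intro x hx
  have : monomialMap σ (fun i => u * c0 i) x = (u : F) • monomialMap σ c0 x := by
    funext i
    simp only [monomialMap_apply, Units.val_mul, Pi.smul_apply, smul_eq_mul]
    ring
  rw [this]
  exact H.smul_mem _ (h0 x hx)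

/-- if the diagonal automorphisms are the scalars, the monomial automorphism group is an
extension of the group of permutation parts by the scalars -/
theorem monoAut_card {H : Submodule F (α → F)} [Finite H] (i0 : α)
    (hdiag : ∀ c : α → Fˣ, MonoPres H 1 c → ∀ i j, c i = c j) :
    Nat.card {f : Equiv.Perm α × (α → Fˣ) // MonoPres H f.1 f.2} =
      Nat.card {σ : Equiv.Perm α // ∃ c : α → Fˣ, MonoPres H σ c} * Nat.card Fˣ := by
  classical
  rw [← Nat.card_prod]
  symm
  refine Nat.card_congr (Equiv.ofBijective
    (fun p : {σ : Equiv.Perm α // ∃ c : α → Fˣ, MonoPres H σ c} × Fˣ =>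
      (⟨(p.1.1, fun i => p.2 * (Classical.choose p.1.2) i),
        monoPres_scale (Classical.choose_spec p.1.2) p.2⟩ :
        {f : Equiv.Perm α × (α → Fˣ) // MonoPres H f.1 f.2})) ⟨?_, ?_⟩)
  · rintro ⟨⟨σ, hσ⟩, u⟩ ⟨⟨τ, hτ⟩, v⟩ h
    have h1 := congrArg Subtype.val h
    simp only [Prod.mk.injEq] at h1
    obtain ⟨hστ, hc⟩ := h1
    subst hστ
    have := congrFun hc i0
    simp only [mul_left_inj] at this
    subst this
    rfl
  · rintro ⟨⟨σ, c⟩, hc⟩
    have hσ : ∃ c : α → Fˣ, MonoPres H σ c := ⟨c, hc⟩
    have hd := monoPres_div hc (Classical.choose_spec hσ)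
    have hconst := hdiag _ hd
    refine ⟨(⟨σ, hσ⟩, c i0 / Classical.choose hσ i0), ?_⟩
    apply Subtype.ext
    simp only [Prod.mk.injEq, true_and]
    funext i
    have := hconst i i0
    simp only at this
    rw [← this, div_mul_cancel]

end

end Cfsg.Agent.Lib.Helper27
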