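import Mathlib
import Cfsg.Prelude.Def_SporadicCombinatorics
import Cfsg.Agent.Lib.Helper7.M12General
import Cfsg.Agent.Lib.Helper27.M24Flag
import Cfsg.Agent.Lib.Helper27.M24DodData
import Cfsg.Agent.Lib.Helper27.QuartetData

/-!
# The quartets of a dodecad

* `smul_mem_quartets_iff`: `M24` maps quartets of `d` to quartets of `g • d`;
* `mem_quartets_d0`: the quartets of the base dodecad are exactly the 220 sets `qSet q`, `q ∈ quartetL`;
* `ncard_quartets`: every dodecad has exactly 220 quartets;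
* `quartets_trans`: the stabilizer of a dodecad is transitive on its quartets.
-/

set_option autoImplicit false

namespace Cfsg.Agent.Lib.Helper27

open Cfsg Cfsg.Agent.Lib.Helper7
open scoped Pointwise

/-! ### equivariance -/

theorem smul_mem_hexadsOn {g : Equiv.Perm GolayPt} (hg : g ∈ M24) {d h : Finset GolayPt}
    (hh : h ∈ hexadsOn d) : g • h ∈ hexadsOn (g • d) := by
  obtain ⟨hc, o, ho, rfl⟩ := hh
  refine ⟨by rw [Finset.card_smul_finset]; exact hc, g • o, smul_mem_octads hg ho, ?_⟩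
  rw [Finset.smul_finset_inter]

theorem smul_mem_quartets {g : Equiv.Perm GolayPt} (hg : g ∈ M24) {d : Finset GolayPt}
    {Q : Finset (Finset GolayPt)} (hQ : Q ∈ quartets d) : g • Q ∈ quartets (g • d) := by
  obtain ⟨hc, h3, hp⟩ := hQ
  refine ⟨by rw [Finset.card_smul_finset]; exact hc, ?_, ?_⟩
  · intro t ht
    obtain ⟨t0, ht0, rfl⟩ := Finset.mem_smul_finset.1 ht
    exact ⟨by rw [Finset.card_smul_finset]; exact (h3 t0 ht0).1,
      Finset.smul_finset_subset_smul_finset (h3 t0 ht0).2⟩
  · intro t ht u hu htu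
    obtain ⟨t0, ht0, rfl⟩ := Finset.mem_smul_finset.1 ht
    obtain ⟨u0, hu0, rfl⟩ := Finset.mem_smul_finset.1 hu
    have hne : t0 ≠ u0 := fun h => htu (by rw [h])
    rw [← Finset.smul_finset_union]
    exact smul_mem_hexadsOn hg (hp t0 ht0 u0 hu0 hne)

theorem smul_mem_quartets_iff {g : Equiv.Perm GolayPt} (hg : g ∈ M24) {d : Finset GolayPt}
    {Q : Finset (Finset GolayPt)} : g • Q ∈ quartets (g • d) ↔ Q ∈ quartets d := by
  constructor
  · intro h
    have := smul_mem_quartets (M24.inv_mem hg) h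
    rwa [inv_smul_smul, inv_smul_smul] at this
  · exact smul_mem_quartets hg

/-! ### the base dodecad: hexads and triples -/

theorem exists_octL_of_mem_octads {o : Finset GolayPt} (ho : o ∈ octads) :
    ∃ m ∈ octL, setOf m = o := by
  refine ⟨_, (Cfsg.Agent.Lib.Helper26.mem_octads_iff_mem_list o).1 ho, ?_⟩
  rw [setOf_eq_setOf26, Cfsg.Agent.Lib.Helper26.setOf_maskOfSet]

theorem hexLit_check1 : octL.all (fun o => pc (o &&& d0Mask) != 6 ||
    hexLit.contains (o &&& d0Mask)) = true := by decide +kernel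

theorem hexLit_check2 : hexLit.all (fun m => pc m == 6 && decide (m < 2 ^ 24) &&
    octL.any (fun o => o &&& d0Mask == m)) = true := by decide +kernel

theorem hexLit_lt {m : ℕ} (hm : m ∈ hexLit) : m < 2 ^ 24 := by
  have := List.all_eq_true.1 hexLit_check2 m hm
  simp only [Bool.and_eq_true, beq_iff_eq, decide_eq_true_eq] at this
  exact this.1.2

theorem setOf_mem_hexadsOn_d0 {m : ℕ} (hm : m ∈ hexLit) : setOf m ∈ hexadsOn d0 := by
  have := List.all_eq_true.1 hexLit_check2 m hm
  simp only [Bool.and_eq_true, beq_iff_eq, decide_eq_true_eq, List.any_eq_true] at this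
  obtain ⟨⟨h6, _⟩, o, ho, hom⟩ := this
  refine ⟨by rw [card_setOf]; exact h6, setOf o, setOf_mem_octads7 ho, ?_⟩
  unfold d0
  rw [← setOf_and, hom]

theorem mem_hexLit_of_mem_hexadsOn {m : ℕ} (hm : m < 2 ^ 24) (h : setOf m ∈ hexadsOn d0) :
    m ∈ hexLit := by
  obtain ⟨hc, o, ho, hom⟩ := h
  obtain ⟨mo, hmo, rfl⟩ := exists_octL_of_mem_octads ho
  unfold d0 at hom
  rw [← setOf_and] at hom
  have hlt : mo &&& d0Mask < 2 ^ 24 := Nat.and_lt_two_pow _ (by decide)
  have heq : mo &&& d0Mask = m := setOf_injOn hlt hm hom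
  have := List.all_eq_true.1 hexLit_check1 mo hmo
  rw [heq] at this
  rw [card_setOf] at hc
  simpa [hc] using this

/-- the bit positions of the base dodecad -/
def d0Bits : List ℕ := [0, 1, 2, 3, 6, 7, 8, 9, 12, 14, 15, 23]

theorem d0Bits_spec : ∀ i < 24, d0Mask.testBit i = true → i ∈ d0Bits := by decide

theorem tripleL_check1 : d0Bits.all (fun i => d0Bits.all fun j => d0Bits.all fun k =>
    i == j || i == k || j == k || tripleL.contains (2 ^ i ||| 2 ^ j ||| 2 ^ k)) = true := by
  decide +kernel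

theorem tripleL_check2 : tripleL.all (fun a => pc a == 3 && (a &&& d0Mask == a) &&
    decide (a < 2 ^ 24)) = true := by decide +kernel

theorem tripleL_spec {a : ℕ} (ha : a ∈ tripleL) : pc a = 3 ∧ a &&& d0Mask = a ∧ a < 2 ^ 24 := by
  have := List.all_eq_true.1 tripleL_check2 a ha
  simpa [and_assoc] using this

theorem idx_mem_d0Bits {x : GolayPt} (hx : x ∈ d0) : idx x ∈ d0Bits := by
  unfold d0 at hx
  rw [mem_setOf] at hx
  exact d0Bits_spec _ (idx_lt x) hx

theorem exists_triple_mask {t : Finset GolayPt} (ht : t.card = 3) (htd : t ⊆ d0) :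
    ∃ a ∈ tripleL, setOf a = t := by
  obtain ⟨x, y, z, hxy, hxz, hyz, rfl⟩ := Finset.card_eq_three.1 ht
  have hx : x ∈ d0 := htd (by simp)
  have hy : y ∈ d0 := htd (by simp)
  have hz : z ∈ d0 := htd (by simp)
  refine ⟨2 ^ idx x ||| 2 ^ idx y ||| 2 ^ idx z, ?_, ?_⟩
  · have h1 := List.all_eq_true.1 tripleL_check1 _ (idx_mem_d0Bits hx)
    have h2 := List.all_eq_true.1 h1 _ (idx_mem_d0Bits hy)
    have h3 := List.all_eq_true.1 h2 _ (idx_mem_d0Bits hz)
    simp only [Bool.or_eq_true, beq_iff_eq, List.contains_iff_mem] at h3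
    rcases h3 with ((h | h) | h) | h
    · exact absurd (idx_injective h) hxy
    · exact absurd (idx_injective h) hxz
    · exact absurd (idx_injective h) hyz
    · exact h
  · rw [setOf_or, setOf_or, setOf_two_pow (idx_lt x), setOf_two_pow (idx_lt y),
      setOf_two_pow (idx_lt z), pt_idx, pt_idx, pt_idx]
    ext p
    simp only [Finset.mem_union, Finset.mem_singleton, Finset.mem_insert]
    tauto

end Cfsg.Agent.Lib.Helper27
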