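import Mathlib
import Cfsg.Prelude.Def_SporadicCombinatorics
import Cfsg.Agent.Lib.Helper27.QuartetsBase

/-!
# The quartets of a dodecad: enumeration for the base dodecad
-/

set_option autoImplicit false

namespace Cfsg.Agent.Lib.Helper27

open Cfsg Cfsg.Agent.Lib.Helper7
open scoped Pointwise

/-- the union of two triple masks is a hexad mask -/
def hx (a b : ℕ) : Bool := (a &&& b == 0) && hexLit.contains (a ||| b)

/-- the 12 bits of a mask at the positions of the base dodecad, packed -/
def compress12 (m : ℕ) : ℕ :=
  (m &&& 15) ||| ((m >>> 6 &&& 15) <<< 4) ||| ((m >>> 12 &&& 1) <<< 8) ||| ((m >>> 14 &&& 3) <<< 9) |||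
    ((m >>> 23) <<< 11)

/-- bitmap of the hexads (indexed by the packed 12 bits) -/
def hexBitmap : ℕ := 0x400000001000000000000000001000020000000000001000000000002000010000000000000000240001004000008000000000000000000020000010000100000000000000004100000020040000008000000001000000400000400000200008001000008002000000000200040000000000000000000001000010000000002000000000000020400000010080040000000000100000000080000004004200000000400201000000002000000000080000000000401000000000000200008400000100200000000800400000020000000000200000040200010000800000000000000400008000000008000000000000000000000000001000000001000020000000000000010000800040200000040000000000400000020010000000040080000021000040000000000008020000000000100000000004000000008040020000000042002000000100000000080000000000200100800000020400000000000004000000000800008000000000000000000000200040000000004001000008001000040000020000020000008000000001000000200400000082000000000000000080000800000400000000000000000001000002008000240000000000000000800004000000000008000000000000400008000000000000000008000000020000000000000000000000000000000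

/-- fast version of the hexad test -/
def hxB (a b : ℕ) : Bool := (a &&& b == 0) && hexBitmap.testBit (compress12 (a ||| b))

theorem hexBitmap_check : hexLit.all (fun h => hexBitmap.testBit (compress12 h)) = true := by
  decide +kernel

theorem hxB_of_hx {a b : ℕ} (h : hx a b = true) : hxB a b = true := by
  unfold hx at h
  unfold hxB
  rw [Bool.and_eq_true, List.contains_iff_mem] at h
  rw [Bool.and_eq_true]
  exact ⟨h.1, List.all_eq_true.1 hexBitmap_check _ h.2⟩

/-- a code is a quartet code -/
def quartetOK (q : List ℕ) : Bool :=
  (q.length == 4) && Cfsg.Agent.Lib.Helper26.strictSorted q && (q.all fun a => tripleL.contains a) &&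
    q.all fun a => q.all fun b => a == b || hx a b

theorem quartetL_ok : quartetL.all quartetOK = true := by decide +kernel

/-- chains inside the candidate list `C` of triples compatible with `a1` -/
def chainCheck (a1 : ℕ) (C : List ℕ) : Bool :=
  C.all fun a2 => C.all fun a3 => !(decide (a2 < a3) && hxB a2 a3) ||
      C.all fun a4 => !(decide (a3 < a4) && hxB a2 a4 && hxB a3 a4) ||
        quartetL.contains [a1, a2, a3, a4]

/-- every increasing chain of pairwise compatible triples is in the list -/
def quartetComplete : Bool :=
  tripleL.all fun a1 => chainCheck a1 (tripleL.filter fun b => decide (a1 < b) && hxB a1 b)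

theorem quartetComplete_true : quartetComplete = true := by decide +kernel

theorem quartet_complete {a1 a2 a3 a4 : ℕ} (h1 : a1 ∈ tripleL) (h2 : a2 ∈ tripleL)
    (h3 : a3 ∈ tripleL) (h4 : a4 ∈ tripleL) (h12 : a1 < a2) (h23 : a2 < a3) (h34 : a3 < a4)
    (c12 : hx a1 a2 = true) (c13 : hx a1 a3 = true) (c14 : hx a1 a4 = true)
    (c23 : hx a2 a3 = true) (c24 : hx a2 a4 = true) (c34 : hx a3 a4 = true) :
    [a1, a2, a3, a4] ∈ quartetL := by
  have h := quartetComplete_true
  unfold quartetComplete at h
  have e1 := List.all_eq_true.1 h a1 h1
  unfold chainCheck at e1
  have hC : ∀ b ∈ tripleL, a1 < b → hx a1 b = true →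
      b ∈ tripleL.filter fun b => decide (a1 < b) && hxB a1 b := by
    intro b hb hlt hc
    rw [List.mem_filter]
    exact ⟨hb, by simp [hlt, hxB_of_hx hc]⟩
  have e2 := List.all_eq_true.1 e1 a2 (hC a2 h2 h12 c12)
  have e3 := List.all_eq_true.1 e2 a3 (hC a3 h3 (lt_trans h12 h23) c13)
  simp only [h23, hxB_of_hx c23, decide_true, Bool.and_self, Bool.not_true, Bool.false_or] at e3
  have e4 := List.all_eq_true.1 e3 a4 (hC a4 h4 (lt_trans (lt_trans h12 h23) h34) c14)
  simp only [h34, hxB_of_hx c24, hxB_of_hx c34, decide_true, Bool.and_self,
    Bool.not_true, Bool.false_or, List.contains_iff_mem] at e4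
  exact e4

end Cfsg.Agent.Lib.Helper27
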