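import Mathlib
import Cfsg.Prelude.Def_SporadicCombinatorics
import Cfsg.Agent.Lib.Helper27.Quartets

/-!
# The quartets of the base dodecad are exactly the 220 listed ones
-/

set_option autoImplicit false

namespace Cfsg.Agent.Lib.Helper27

open Cfsg Cfsg.Agent.Lib.Helper7
open scoped Pointwise

theorem setOf_maskOfSet7 (t : Finset GolayPt) :
    setOf (Cfsg.Agent.Lib.Helper26.maskOfSet t) = t := by
  rw [setOf_eq_setOf26, Cfsg.Agent.Lib.Helper26.setOf_maskOfSet]

theorem maskOfSet_setOf7 {a : ℕ} (ha : a < 2 ^ 24) :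
    Cfsg.Agent.Lib.Helper26.maskOfSet (setOf a) = a := by
  rw [setOf_eq_setOf26, Cfsg.Agent.Lib.Helper26.maskOfSet_setOf_of_lt ha]

theorem hx_of_union_mem {a b : ℕ} (ha : a ∈ tripleL) (hb : b ∈ tripleL)
    (h : setOf a ∪ setOf b ∈ hexadsOn d0) : hx a b = true := by
  obtain ⟨ha3, _, halt⟩ := tripleL_spec ha
  obtain ⟨hb3, _, hblt⟩ := tripleL_spec hb
  have hor : a ||| b < 2 ^ 24 := Nat.or_lt_two_pow halt hblt
  have hdisj : Disjoint (setOf a) (setOf b) := by
    rw [← Finset.card_union_eq_card_add_card, h.1, card_setOf, card_setOf, ha3, hb3]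
  have hand : a &&& b = 0 := by
    have h0 : setOf (a &&& b) = setOf 0 := by
      rw [setOf_and, setOf_zero]
      exact Finset.disjoint_iff_inter_eq_empty.1 hdisj
    exact setOf_injOn (Nat.and_lt_two_pow _ hblt) (by norm_num) h0
  rw [← setOf_or] at h
  unfold hx
  rw [Bool.and_eq_true, beq_iff_eq, List.contains_iff_mem]
  exact ⟨hand, mem_hexLit_of_mem_hexadsOn hor h⟩

theorem exists_code_of_mem_quartets {Q : Finset (Finset GolayPt)} (hQ : Q ∈ quartets d0) :
    ∃ q ∈ quartetL, qSet q = Q := by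
  classical
  obtain ⟨hc, h3, hp⟩ := hQ
  set M : Finset ℕ := Q.image Cfsg.Agent.Lib.Helper26.maskOfSet with hM
  have hMcard : M.card = 4 := by
    rw [hM, Finset.card_image_of_injective _ Cfsg.Agent.Lib.Helper26.maskOfSet_injective, hc]
  have hM3 : ∀ a ∈ M, a ∈ tripleL := by
    intro a ha
    obtain ⟨t, ht, rfl⟩ := Finset.mem_image.1 ha
    obtain ⟨b, hb, hbt⟩ := exists_triple_mask (h3 t ht).1 (h3 t ht).2
    have : Cfsg.Agent.Lib.Helper26.maskOfSet t = b := by
      rw [← hbt, maskOfSet_setOf7 (tripleL_spec hb).2.2]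
    rw [this]
    exact hb
  have hMhx : ∀ a ∈ M, ∀ b ∈ M, a ≠ b → hx a b = true := by
    intro a ha b hb hab
    have ha3 := hM3 a ha
    have hb3 := hM3 b hb
    obtain ⟨t, ht, rfl⟩ := Finset.mem_image.1 ha
    obtain ⟨u, hu, rfl⟩ := Finset.mem_image.1 hb
    have htu : t ≠ u := fun h => hab (by rw [h])
    apply hx_of_union_mem ha3 hb3
    rw [setOf_maskOfSet7, setOf_maskOfSet7]
    exact hp t ht u hu htu
  obtain ⟨a1, a2, a3, a4, hq⟩ := List.length_eq_four.1
    (by rw [Finset.length_sort, hMcard] : (M.sort).length = 4)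
  have hsorted : [a1, a2, a3, a4].Pairwise (· < ·) := by
    rw [← hq]
    exact (Finset.sortedLT_sort M).pairwise
  have hmem : ∀ a, a ∈ [a1, a2, a3, a4] ↔ a ∈ M := by
    intro a
    rw [← hq, Finset.mem_sort]
  simp only [List.pairwise_cons, List.mem_cons, List.not_mem_nil, or_false, forall_eq_or_imp,
    forall_eq, IsEmpty.forall_iff, implies_true, List.Pairwise.nil, and_true] at hsorted
  obtain ⟨⟨h12, h13, h14⟩, ⟨h23, h24⟩, h34⟩ := hsorted
  have m1 : a1 ∈ M := (hmem a1).1 (by simp)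
  have m2 : a2 ∈ M := (hmem a2).1 (by simp)
  have m3 : a3 ∈ M := (hmem a3).1 (by simp)
  have m4 : a4 ∈ M := (hmem a4).1 (by simp)
  refine ⟨[a1, a2, a3, a4], quartet_complete (hM3 _ m1) (hM3 _ m2) (hM3 _ m3) (hM3 _ m4) h12 h23 h34
    (hMhx _ m1 _ m2 h12.ne) (hMhx _ m1 _ m3 h13.ne) (hMhx _ m1 _ m4 h14.ne)
    (hMhx _ m2 _ m3 h23.ne) (hMhx _ m2 _ m4 h24.ne) (hMhx _ m3 _ m4 h34.ne), ?_⟩
  ext t
  rw [mem_qSet]
  constructor
  · rintro ⟨a, ha, rfl⟩
    obtain ⟨t', ht', rfl⟩ := Finset.mem_image.1 ((hmem a).1 ha)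
    rw [setOf_maskOfSet7]
    exact ht'
  · intro ht
    exact ⟨_, (hmem _).2 (Finset.mem_image_of_mem _ ht), setOf_maskOfSet7 t⟩

theorem quartetOK_spec {q : List ℕ} (hq : q ∈ quartetL) :
    q.length = 4 ∧ q.Pairwise (· < ·) ∧ (∀ a ∈ q, a ∈ tripleL) ∧
      ∀ a ∈ q, ∀ b ∈ q, a ≠ b → hx a b = true := by
  have h := List.all_eq_true.1 quartetL_ok q hq
  unfold quartetOK at h
  simp only [Bool.and_eq_true, beq_iff_eq, List.all_eq_true, List.contains_iff_mem,
    Bool.or_eq_true] at h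
  obtain ⟨⟨⟨h1, h2⟩, h3⟩, h4⟩ := h
  refine ⟨h1, Cfsg.Agent.Lib.Helper26.strictSorted_pairwise q h2, h3, ?_⟩
  intro a ha b hb hab
  rcases h4 a ha b hb with h | h
  · exact absurd h hab
  · exact h

theorem setOf_injOn_tripleL {a b : ℕ} (ha : a ∈ tripleL) (hb : b ∈ tripleL)
    (h : setOf a = setOf b) : a = b :=
  setOf_injOn (tripleL_spec ha).2.2 (tripleL_spec hb).2.2 h

theorem qSet_mem_quartets {q : List ℕ} (hq : q ∈ quartetL) : qSet q ∈ quartets d0 := by
  classical
  obtain ⟨hlen, hsorted, h3, hhx⟩ := quartetOK_spec hq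
  have hnd : q.Nodup := hsorted.imp (fun h => ne_of_lt h)
  refine ⟨?_, ?_, ?_⟩
  · unfold qSet
    rw [List.toFinset_card_of_nodup, List.length_map, hlen]
    exact hnd.map_on (fun a ha b hb h => setOf_injOn_tripleL (h3 a ha) (h3 b hb) h)
  · intro t ht
    obtain ⟨a, ha, rfl⟩ := mem_qSet.1 ht
    obtain ⟨hpc, hsub, hlt⟩ := tripleL_spec (h3 a ha)
    refine ⟨by rw [card_setOf]; exact hpc, ?_⟩
    unfold d0
    rw [← hsub, setOf_and]
    exact Finset.inter_subset_right
  · intro t ht u hu htu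
    obtain ⟨a, ha, rfl⟩ := mem_qSet.1 ht
    obtain ⟨b, hb, rfl⟩ := mem_qSet.1 hu
    have hab : a ≠ b := fun h => htu (by rw [h])
    have := hhx a ha b hb hab
    unfold hx at this
    rw [Bool.and_eq_true, List.contains_iff_mem] at this
    rw [← setOf_or]
    exact setOf_mem_hexadsOn_d0 this.2

/-- **The quartets of the base dodecad.** -/
theorem mem_quartets_d0 {Q : Finset (Finset GolayPt)} :
    Q ∈ quartets d0 ↔ ∃ q ∈ quartetL, qSet q = Q :=
  ⟨exists_code_of_mem_quartets, by rintro ⟨q, hq, rfl⟩; exact qSet_mem_quartets hq⟩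

theorem qSet_injOn_quartetL {q q' : List ℕ} (hq : q ∈ quartetL) (hq' : q' ∈ quartetL)
    (h : qSet q = qSet q') : q = q' := by
  classical
  obtain ⟨_, hsorted, h3, _⟩ := quartetOK_spec hq
  obtain ⟨_, hsorted', h3', _⟩ := quartetOK_spec hq'
  have hsub : ∀ {p p' : List ℕ}, (∀ a ∈ p, a ∈ tripleL) → (∀ a ∈ p', a ∈ tripleL) →
      qSet p = qSet p' → ∀ a ∈ p, a ∈ p' := by
    intro p p' hp hp' hpp a ha
    have : setOf a ∈ qSet p' := by rw [← hpp]; exact mem_qSet.2 ⟨a, ha, rfl⟩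
    obtain ⟨b, hb, hba⟩ := mem_qSet.1 this
    rw [← setOf_injOn_tripleL (hp' b hb) (hp a ha) hba]
    exact hb
  apply List.Perm.eq_of_pairwise (le := (· < ·)) ?_ hsorted hsorted'
  · rw [List.perm_ext_iff_of_nodup (hsorted.imp (fun h => ne_of_lt h))
      (hsorted'.imp (fun h => ne_of_lt h))]
    intro a
    exact ⟨hsub h3 h3' h a, hsub h3' h3 h.symm a⟩
  · intro a b _ _ hab hba
    exact absurd hab (lt_asymm hba)

theorem quartetL_length : quartetL.length = 220 := by decide +kernel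

theorem quartetL_nodup : quartetL.Nodup := by decide +kernel

theorem ncard_quartets_d0 : (quartets d0).ncard = 220 := by
  classical
  have hset : quartets d0 = ↑(quartetL.toFinset.image qSet) := by
    ext Q
    simp only [Finset.coe_image, Set.mem_image, Finset.mem_coe, List.mem_toFinset]
    exact mem_quartets_d0
  rw [hset, Set.ncard_coe_finset, Finset.card_image_of_injOn, List.toFinset_card_of_nodup
    quartetL_nodup, quartetL_length]
  intro q hq q' hq' h
  rw [Finset.mem_coe, List.mem_toFinset] at hq hq'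
  exact qSet_injOn_quartetL hq hq' h

end Cfsg.Agent.Lib.Helper27
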