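import Mathlib
import Cfsg.Prelude.Def_SporadicCombinatorics
import Cfsg.Agent.Lib.Helper27.QuartetsChar

/-!
# Every dodecad has 220 quartets, permuted transitively by its stabilizer
-/

set_option autoImplicit false

namespace Cfsg.Agent.Lib.Helper27

open Cfsg Cfsg.Agent.Lib.Helper7
open scoped Pointwise

theorem dodT_eq' : slpT dodProg dodIdx = dodT := by decide +kernel

theorem dod_fix' : dodT.all (fixesOK [] [d0Mask]) = true := by decide +kernel

/-- the first quartet of the list -/
def q0 : List ℕ := [7, 584, 49280, 8392960]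

theorem q0_mem : q0 ∈ quartetL := by decide +kernel

theorem quartet_classesOK : classesOKQ dodT [(0, q0, quartetCert)] = true := by decide +kernel

theorem quartet_coverOK :
    coverOKQ quartetL (fun _ => true) (fun _ => 0) [(0, q0, quartetCert)] = true := by
  decide +kernel

/-- the stabilizer of the base dodecad is transitive on the listed quartets -/
theorem quartet_orbits : ∀ q ∈ quartetL, ∀ q' ∈ quartetL,
    ∃ g ∈ cfgStab [] [setOf d0Mask], g • qSet q = qSet q' := fun q hq q' hq' =>
  cfg_orbitsQ quartetL dodProg dodIdx dodT dodT_eq' [] [d0Mask] (by decide) dod_fix'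
    (fun _ => true) (fun _ => 0) [(0, q0, quartetCert)] (by decide) quartet_classesOK
    quartet_coverOK q hq q' hq' rfl rfl rfl

theorem quartets_trans_d0 {Q Q' : Finset (Finset GolayPt)} (hQ : Q ∈ quartets d0)
    (hQ' : Q' ∈ quartets d0) : ∃ g ∈ M24, g • d0 = d0 ∧ g • Q = Q' := by
  obtain ⟨q, hq, rfl⟩ := mem_quartets_d0.1 hQ
  obtain ⟨q', hq', rfl⟩ := mem_quartets_d0.1 hQ'
  obtain ⟨g, hg, hgq⟩ := quartet_orbits q hq q' hq'
  rw [mem_cfgStab] at hg
  exact ⟨g, hg.1, hg.2.2 _ (by simp [d0]), hgq⟩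

/-- transport of `ncard` along a group element, for any action -/
theorem ncard_smul_transport_gen {G α : Type*} [Group G] [MulAction G α] (g : G)
    (P Q : α → Prop) (h : ∀ s, P s ↔ Q (g • s)) : {s | P s}.ncard = {s | Q s}.ncard := by
  have himg : {s | Q s} = (fun s : α => g • s) '' {s | P s} := by
    ext s
    simp only [Set.mem_ofPred_eq, Set.mem_image]
    constructor
    · intro hs
      refine ⟨g⁻¹ • s, ?_, smul_inv_smul g s⟩
      rw [h, smul_inv_smul]
      exact hs
    · rintro ⟨t, ht, rfl⟩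
      exact (h t).1 ht
  rw [himg, Set.ncard_image_of_injective _ (MulAction.injective g)]

/-- **Every dodecad has exactly 220 quartets.** -/
theorem ncard_quartets {d : Finset GolayPt} (hd : d ∈ dodecads) : (quartets d).ncard = 220 := by
  obtain ⟨g0, hg0, hg0d⟩ := exists_map_dodecad hd
  rw [← ncard_quartets_d0]
  apply ncard_smul_transport_gen g0 (fun Q => Q ∈ quartets d) (fun Q => Q ∈ quartets d0)
  intro Q
  rw [← hg0d, smul_mem_quartets_iff hg0]

/-- **The stabilizer of a dodecad is transitive on its quartets.** -/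
theorem quartets_trans {d : Finset GolayPt} (hd : d ∈ dodecads) {Q Q' : Finset (Finset GolayPt)}
    (hQ : Q ∈ quartets d) (hQ' : Q' ∈ quartets d) : ∃ g ∈ M24, g • d = d ∧ g • Q = Q' := by
  obtain ⟨g0, hg0, hg0d⟩ := exists_map_dodecad hd
  have h1 : g0 • Q ∈ quartets d0 := by rw [← hg0d, smul_mem_quartets_iff hg0]; exact hQ
  have h2 : g0 • Q' ∈ quartets d0 := by rw [← hg0d, smul_mem_quartets_iff hg0]; exact hQ'
  obtain ⟨h, hh, hhd, hhQ⟩ := quartets_trans_d0 h1 h2
  refine ⟨g0⁻¹ * h * g0, M24.mul_mem (M24.mul_mem (M24.inv_mem hg0) hh) hg0, ?_, ?_⟩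
  · rw [mul_smul, mul_smul, hg0d, hhd, ← hg0d, inv_smul_smul]
  · rw [mul_smul, mul_smul, hhQ, inv_smul_smul]

end Cfsg.Agent.Lib.Helper27
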