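import Mathlib
import Cfsg.Prelude.Def_SporadicCombinatorics
import Cfsg.Agent.Lib.Helper27.QuartetsTrans
import Cfsg.Agent.Lib.Helper27.QuartetStabData

/-!
# Orbits of a quartet stabilizer on the quartets of its dodecad: 1, 12, 27, 72, 108

The invariant `invF Q X` (number of pairs of triples meeting in two points, plus ten times the
number of common triples) takes the values 40 (only for `X = Q`), 10, 4, 3, 1 on the quartets `X`,
with 12, 27, 72, 108 quartets respectively, and two quartets with the same value are conjugate under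
the stabilizer of the dodecad and `Q` in `M24`.
-/

set_option autoImplicit false

namespace Cfsg.Agent.Lib.Helper27

open Cfsg Cfsg.Agent.Lib.Helper7
open scoped Pointwise

/-- weight of an intersection size -/
def fW (k : ℕ) : ℕ := if k = 2 then 1 else if k = 3 then 10 else 0

/-- the invariant of a pair of sets of sets of points -/
def invF (Q X : Finset (Finset GolayPt)) : ℕ := ∑ a ∈ Q, ∑ b ∈ X, fW (a ∩ b).card

theorem invF_smul (g : Equiv.Perm GolayPt) (Q X : Finset (Finset GolayPt)) :
    invF (g • Q) (g • X) = invF Q X := by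
  unfold invF
  have hinj : Function.Injective (fun s : Finset GolayPt => g • s) := MulAction.injective g
  have hQ : g • Q = Q.image (fun s : Finset GolayPt => g • s) := rfl
  have hX : g • X = X.image (fun s : Finset GolayPt => g • s) := rfl
  rw [hQ, hX, Finset.sum_image (fun a _ b _ h => hinj h)]
  apply Finset.sum_congr rfl
  intro a _
  rw [Finset.sum_image (fun a _ b _ h => hinj h)]
  apply Finset.sum_congr rfl
  intro b _
  rw [card_smul_inter_smul]

/-- the invariant computed on codes -/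
def invC (p q : List ℕ) : ℕ := (p.map fun a => (q.map fun b => fW (pc (a &&& b))).sum).sum

theorem invF_qSet {p q : List ℕ} (hp : (p.map Cfsg.Agent.Lib.Helper7.setOf).Nodup)
    (hq : (q.map Cfsg.Agent.Lib.Helper7.setOf).Nodup) :
    invF (qSet p) (qSet q) = invC p q := by
  classical
  unfold invF invC qSet
  rw [List.sum_toFinset _ hp, List.map_map]
  congr 1
  apply List.map_congr_left
  intro a _
  simp only [Function.comp_apply]
  rw [List.sum_toFinset _ hq, List.map_map]
  congr 1
  apply List.map_congr_left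
  intro b _
  simp only [Function.comp_apply]
  rw [card_setOf_inter]

theorem nodup_map_setOf {q : List ℕ} (hq : q ∈ quartetL) :
    (q.map Cfsg.Agent.Lib.Helper7.setOf).Nodup := by
  obtain ⟨_, hsorted, h3, _⟩ := quartetOK_spec hq
  have hnd : q.Nodup := hsorted.imp (fun h => ne_of_lt h)
  exact hnd.map_on (fun a ha b hb h => setOf_injOn_tripleL (h3 a ha) (h3 b hb) h)

/-- the base quartet -/
abbrev Q0 : Finset (Finset GolayPt) := qSet q0

theorem Q0_mem : Q0 ∈ quartets d0 := qSet_mem_quartets q0_mem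

theorem invF_Q0 {q : List ℕ} (hq : q ∈ quartetL) : invF Q0 (qSet q) = invC q0 q :=
  invF_qSet (nodup_map_setOf q0_mem) (nodup_map_setOf hq)

/-- subgroup of `M24` fixing a set of points and a set of sets of points -/
def qStab (d : Finset GolayPt) (Q : Finset (Finset GolayPt)) :
    Subgroup (Equiv.Perm GolayPt) where
  carrier := {g | g ∈ M24 ∧ g • d = d ∧ g • Q = Q}
  one_mem' := ⟨M24.one_mem, one_smul _ _, one_smul _ _⟩
  mul_mem' := by
    rintro a b ⟨ha, had, haQ⟩ ⟨hb, hbd, hbQ⟩
    exact ⟨M24.mul_mem ha hb, by rw [mul_smul, hbd, had], by rw [mul_smul, hbQ, haQ]⟩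
  inv_mem' := by
    rintro a ⟨ha, had, haQ⟩
    exact ⟨M24.inv_mem ha, by rw [inv_smul_eq_iff, had], by rw [inv_smul_eq_iff, haQ]⟩

theorem mem_qStab {d : Finset GolayPt} {Q : Finset (Finset GolayPt)} {g : Equiv.Perm GolayPt} :
    g ∈ qStab d Q ↔ g ∈ M24 ∧ g • d = d ∧ g • Q = Q := Iff.rfl

theorem qstabT_eq : slpT qstabProg qstabIdx = qstabT := by decide +kernel

theorem qstab_fix : ∀ k < 2, (mapsInto (qstabT.getD k idT) d0Mask d0Mask &&
    mapsQ (qstabT.getD k idT) q0 (qstabImg.getD k []) && sameSet (qstabImg.getD k []) q0) = true := by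
  decide +kernel

theorem qstab_mem : ∀ g ∈ slpP qstabProg qstabIdx, g ∈ qStab d0 Q0 := by
  intro g hg
  obtain ⟨k, hk, hgk⟩ := List.getElem_of_mem hg
  have hgD : g = (slpP qstabProg qstabIdx).getD k 1 := by
    rw [List.getD_eq_getElem _ _ hk, hgk]
  have hlen : (slpP qstabProg qstabIdx).length = 2 := by
    unfold slpP; rw [List.length_map]; rfl
  rw [hlen] at hk
  have hM := slp_match qstabProg qstabIdx
  rw [qstabT_eq] at hM
  have hmk : Matches g (qstabT.getD k idT) := by
    rw [hgD]
    exact forall₂_getD hM matches_one k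
  have hfix := qstab_fix k hk
  simp only [Bool.and_eq_true] at hfix
  obtain ⟨⟨h1, h2⟩, h3⟩ := hfix
  refine ⟨slpP_mem_M24 qstabProg qstabIdx _ hg, ?_, ?_⟩
  · unfold d0
    exact smul_setOf_eq_of_mapsInto hmk h1 le_rfl
  · rw [smul_qSet_of_mapsQ hmk q0 _ h2, qSet_eq_of_sameSet h3]

theorem qstab_classesOK : classesOKQ qstabT qstabClasses = true := by decide +kernel

theorem qstab_coverOK :
    coverOKQ quartetL (fun _ => true) (invC q0) qstabClasses = true := by decide +kernel

theorem qstab_orbits : ∀ q ∈ quartetL, ∀ q' ∈ quartetL, invC q0 q = invC q0 q' →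
    ∃ g ∈ qStab d0 Q0, g • qSet q = qSet q' := by
  intro q hq q' hq' h
  have hM := slp_match qstabProg qstabIdx
  rw [qstabT_eq] at hM
  exact orbits_of_classesQ quartetL (qStab d0 Q0) (slpP qstabProg qstabIdx) qstabT hM qstab_mem
    (fun _ => true) (invC q0) qstabClasses (by decide) qstab_classesOK qstab_coverOK q hq q' hq'
    rfl rfl h

theorem invC_values : quartetL.all (fun q => [40, 10, 4, 3, 1].contains (invC q0 q) &&
    (invC q0 q != 40 || q == q0)) = true := by decide +kernel

theorem count10 : (quartetL.filter fun q => invC q0 q == 10).length = 12 := by decide +kernel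
theorem count4 : (quartetL.filter fun q => invC q0 q == 4).length = 27 := by decide +kernel
theorem count3 : (quartetL.filter fun q => invC q0 q == 3).length = 72 := by decide +kernel
theorem count1 : (quartetL.filter fun q => invC q0 q == 1).length = 108 := by decide +kernel

/-- counting quartets of the base dodecad with a property decided on codes -/
theorem ncard_quartets_filter (P : Finset (Finset GolayPt) → Prop) (p : List ℕ → Bool)
    (h : ∀ q ∈ quartetL, (P (qSet q) ↔ p q = true)) :
    {X : Finset (Finset GolayPt) | X ∈ quartets d0 ∧ P X}.ncard = (quartetL.filter p).length := by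
  classical
  have hset : {X : Finset (Finset GolayPt) | X ∈ quartets d0 ∧ P X} =
      ↑((quartetL.filter p).toFinset.image qSet) := by
    ext X
    simp only [Set.mem_ofPred_eq, Finset.coe_image, Set.mem_image, Finset.mem_coe,
      List.mem_toFinset, List.mem_filter]
    constructor
    · rintro ⟨hX, hP⟩
      obtain ⟨q, hq, rfl⟩ := mem_quartets_d0.1 hX
      exact ⟨q, ⟨hq, (h q hq).1 hP⟩, rfl⟩
    · rintro ⟨q, ⟨hq, hp⟩, rfl⟩
      exact ⟨qSet_mem_quartets hq, (h q hq).2 hp⟩
  rw [hset, Set.ncard_coe_finset, Finset.card_image_of_injOn, List.toFinset_card_of_nodup]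
  · exact quartetL_nodup.filter _
  · intro q hq q' hq' hqq
    rw [Finset.mem_coe, List.mem_toFinset, List.mem_filter] at hq hq'
    exact qSet_injOn_quartetL hq.1 hq'.1 hqq

theorem base_ncard (v : ℕ) :
    {X : Finset (Finset GolayPt) | X ∈ quartets d0 ∧ invF Q0 X = v}.ncard =
      (quartetL.filter fun q => invC q0 q == v).length := by
  apply ncard_quartets_filter (fun X => invF Q0 X = v)
  intro q hq
  rw [invF_Q0 hq, beq_iff_eq]

theorem base_values {X : Finset (Finset GolayPt)} (hX : X ∈ quartets d0) :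
    (invF Q0 X = 40 ∨ invF Q0 X = 10 ∨ invF Q0 X = 4 ∨ invF Q0 X = 3 ∨ invF Q0 X = 1) ∧
      (invF Q0 X = 40 → X = Q0) := by
  obtain ⟨q, hq, rfl⟩ := mem_quartets_d0.1 hX
  rw [invF_Q0 hq]
  have h := List.all_eq_true.1 invC_values q hq
  simp only [Bool.and_eq_true, List.contains_iff_mem, List.mem_cons, List.not_mem_nil, or_false,
    Bool.or_eq_true, bne_iff_ne, ne_eq, beq_iff_eq] at h
  refine ⟨h.1, fun h40 => ?_⟩
  rcases h.2 with h' | h'
  · exact absurd h40 h'
  · rw [h']

theorem base_conj {X X' : Finset (Finset GolayPt)} (hX : X ∈ quartets d0)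
    (hX' : X' ∈ quartets d0) (h : invF Q0 X = invF Q0 X') :
    ∃ g ∈ M24, g • d0 = d0 ∧ g • Q0 = Q0 ∧ g • X = X' := by
  obtain ⟨q, hq, rfl⟩ := mem_quartets_d0.1 hX
  obtain ⟨q', hq', rfl⟩ := mem_quartets_d0.1 hX'
  rw [invF_Q0 hq, invF_Q0 hq'] at h
  obtain ⟨g, hg, hgq⟩ := qstab_orbits q hq q' hq' h
  rw [mem_qStab] at hg
  exact ⟨g, hg.1, hg.2.1, hg.2.2, hgq⟩

/-! ### general dodecad and quartet -/

theorem exists_map_quartet {d : Finset GolayPt} (hd : d ∈ dodecads)
    {Q : Finset (Finset GolayPt)} (hQ : Q ∈ quartets d) :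
    ∃ g ∈ M24, g • d = d0 ∧ g • Q = Q0 := by
  obtain ⟨g1, hg1, hg1d⟩ := exists_map_dodecad hd
  have h1 : g1 • Q ∈ quartets d0 := by rw [← hg1d, smul_mem_quartets_iff hg1]; exact hQ
  obtain ⟨h, hh, hhd, hhQ⟩ := quartets_trans_d0 h1 Q0_mem
  exact ⟨h * g1, M24.mul_mem hh hg1, by rw [mul_smul, hg1d, hhd], by rw [mul_smul, hhQ]⟩

theorem quartet_class_ncard {d : Finset GolayPt} (hd : d ∈ dodecads)
    {Q : Finset (Finset GolayPt)} (hQ : Q ∈ quartets d) (v : ℕ) :
    {X : Finset (Finset GolayPt) | X ∈ quartets d ∧ invF Q X = v}.ncard =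
      (quartetL.filter fun q => invC q0 q == v).length := by
  obtain ⟨g0, hg0, hg0d, hg0Q⟩ := exists_map_quartet hd hQ
  rw [← base_ncard v]
  apply ncard_smul_transport_gen g0 (fun X => X ∈ quartets d ∧ invF Q X = v)
    (fun X => X ∈ quartets d0 ∧ invF Q0 X = v)
  intro X
  rw [← hg0d, smul_mem_quartets_iff hg0, ← hg0Q, invF_smul]

theorem quartet_values {d : Finset GolayPt} (hd : d ∈ dodecads)
    {Q : Finset (Finset GolayPt)} (hQ : Q ∈ quartets d) {X : Finset (Finset GolayPt)}
    (hX : X ∈ quartets d) :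
    (invF Q X = 40 ∨ invF Q X = 10 ∨ invF Q X = 4 ∨ invF Q X = 3 ∨ invF Q X = 1) ∧
      (invF Q X = 40 → X = Q) := by
  obtain ⟨g0, hg0, hg0d, hg0Q⟩ := exists_map_quartet hd hQ
  have h1 : g0 • X ∈ quartets d0 := by rw [← hg0d, smul_mem_quartets_iff hg0]; exact hX
  have := base_values h1
  rw [← hg0Q, invF_smul] at this
  refine ⟨this.1, fun h => ?_⟩
  exact smul_left_cancel g0 (this.2 h)

theorem quartet_conj {d : Finset GolayPt} (hd : d ∈ dodecads)
    {Q : Finset (Finset GolayPt)} (hQ : Q ∈ quartets d) {X X' : Finset (Finset GolayPt)}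
    (hX : X ∈ quartets d) (hX' : X' ∈ quartets d) (h : invF Q X = invF Q X') :
    ∃ g ∈ M24, g • d = d ∧ g • Q = Q ∧ g • X = X' := by
  obtain ⟨g0, hg0, hg0d, hg0Q⟩ := exists_map_quartet hd hQ
  have h1 : g0 • X ∈ quartets d0 := by rw [← hg0d, smul_mem_quartets_iff hg0]; exact hX
  have h2 : g0 • X' ∈ quartets d0 := by rw [← hg0d, smul_mem_quartets_iff hg0]; exact hX'
  obtain ⟨k, hk, hkd, hkQ, hkX⟩ := base_conj h1 h2 (by rw [← hg0Q, invF_smul, invF_smul]; exact h)
  refine ⟨g0⁻¹ * k * g0, M24.mul_mem (M24.mul_mem (M24.inv_mem hg0) hk) hg0, ?_, ?_, ?_⟩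
  · rw [mul_smul, mul_smul, hg0d, hkd, ← hg0d, inv_smul_smul]
  · rw [mul_smul, mul_smul, hg0Q, hkQ, ← hg0Q, inv_smul_smul]
  · rw [mul_smul, mul_smul, hkX, inv_smul_smul]

end Cfsg.Agent.Lib.Helper27
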