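import Mathlib

/-!
# Element orders in a semidirect product `V ⋊ G` with `V` an elementary abelian 2-group
-/

set_option autoImplicit false

namespace Cfsg.Agent.Lib.Helper27.SemiSpec

open Multiplicative

variable {G V : Type*} [Group G] [AddCommGroup V] [DistribMulAction G V]

/-- the action of `G` on `Multiplicative V` by automorphisms -/
def actHom (G V : Type*) [Group G] [AddCommGroup V] [DistribMulAction G V] :
    G →* MulAut (Multiplicative V) where
  toFun g :=
    { toFun := fun x => ofAdd (g • x.toAdd)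
      invFun := fun x => ofAdd (g⁻¹ • x.toAdd)
      left_inv := fun x => by simp
      right_inv := fun x => by simp
      map_mul' := fun x y => by
        change ofAdd (g • (x.toAdd + y.toAdd)) = ofAdd (g • x.toAdd) * ofAdd (g • y.toAdd)
        rw [smul_add]; rfl }
  map_one' := by
    ext x
    change ofAdd ((1 : G) • x.toAdd) = x
    rw [one_smul]; rfl
  map_mul' g h := by
    ext x
    change ofAdd ((g * h) • x.toAdd) = ofAdd (g • (ofAdd (h • x.toAdd)).toAdd)
    rw [mul_smul]; rfl

@[simp] theorem actHom_apply (g : G) (v : V) : actHom G V g (ofAdd v) = ofAdd (g • v) := rfl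

/-- the semidirect product `V ⋊ G` -/
abbrev Semi (G V : Type*) [Group G] [AddCommGroup V] [DistribMulAction G V] : Type _ :=
  Multiplicative V ⋊[actHom G V] G

/-- the element `(v, g)` -/
def mk (v : V) (g : G) : Semi G V := ⟨ofAdd v, g⟩

theorem exists_mk (x : Semi G V) : ∃ v g, x = mk v g := ⟨x.left.toAdd, x.right, rfl⟩

@[simp] theorem mk_left (v : V) (g : G) : (mk v g).left = ofAdd v := rfl
@[simp] theorem mk_right (v : V) (g : G) : (mk v g).right = g := rfl

theorem mk_mul (v w : V) (g h : G) : mk v g * mk w h = mk (v + g • w) (g * h) := rfl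

theorem mk_one : mk (0 : V) (1 : G) = 1 := rfl

theorem mk_inj {v w : V} {g h : G} : mk v g = mk w h ↔ v = w ∧ g = h := by
  constructor
  · intro e
    have h1 := congrArg SemidirectProduct.left e
    have h2 := congrArg SemidirectProduct.right e
    exact ⟨Multiplicative.ofAdd.injective h1, h2⟩
  · rintro ⟨rfl, rfl⟩; rfl

/-- `v + g v + ⋯ + g^(n-1) v` -/
def normSum (g : G) (n : ℕ) (v : V) : V := ∑ i ∈ Finset.range n, g ^ i • v

theorem mk_pow (v : V) (g : G) (n : ℕ) : mk v g ^ n = mk (normSum g n v) (g ^ n) := by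
  induction n with
  | zero => simp [normSum, mk_one]
  | succ n ih =>
    rw [pow_succ', ih, mk_mul, mk_inj]
    refine ⟨?_, (pow_succ' g n).symm⟩
    rw [normSum, normSum, Finset.sum_range_succ', Finset.smul_sum, pow_zero, one_smul, add_comm]
    congr 1
    apply Finset.sum_congr rfl
    intro i _
    rw [pow_succ', mul_smul]

theorem mk_eq_one {v : V} {g : G} : mk v g = 1 ↔ v = 0 ∧ g = 1 := by
  rw [← mk_one, mk_inj]

theorem orderOf_dvd_mk (v : V) (g : G) : orderOf g ∣ orderOf (mk v g) := by
  apply orderOf_dvd_of_pow_eq_one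
  have h1 := pow_orderOf_eq_one (mk v g)
  rw [mk_pow, mk_eq_one] at h1
  exact h1.2

theorem mk_pow_orderOf (v : V) (g : G) :
    mk v g ^ orderOf g = mk (normSum g (orderOf g) v) 1 := by
  rw [mk_pow, pow_orderOf_eq_one]

/-- the order of `(v, g)` is the order `m` of `g` if the norm sum vanishes -/
theorem orderOf_mk_of_zero (v : V) (g : G) (h0 : normSum g (orderOf g) v = 0) :
    orderOf (mk v g) = orderOf g := by
  apply Nat.dvd_antisymm _ (orderOf_dvd_mk v g)
  apply orderOf_dvd_of_pow_eq_one
  rw [mk_pow_orderOf, h0, mk_one]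

/-- the order of `(v, g)` is `2m` if the norm sum does not vanish -/
theorem orderOf_mk_of_ne (hV : ∀ v : V, v + v = 0) (v : V) (g : G) (hg : 0 < orderOf g)
    (h0 : normSum g (orderOf g) v ≠ 0) : orderOf (mk v g) = 2 * orderOf g := by
  have hm := mk_pow_orderOf v g
  have h2 : mk v g ^ (2 * orderOf g) = 1 := by
    rw [mul_comm, pow_mul, hm, pow_two, mk_mul, one_smul, hV, mul_one, mk_one]
  have hd2 : orderOf (mk v g) ∣ 2 * orderOf g := orderOf_dvd_of_pow_eq_one h2
  obtain ⟨c, hc⟩ := orderOf_dvd_mk v g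
  have hne : orderOf (mk v g) ≠ orderOf g := by
    intro e
    have h1 := pow_orderOf_eq_one (mk v g)
    rw [e, hm, mk_eq_one] at h1
    exact h0 h1.1
  rw [hc] at hd2 hne ⊢
  have hc2 : c ∣ 2 := by
    rw [mul_comm 2] at hd2
    exact Nat.dvd_of_mul_dvd_mul_left hg hd2
  have hc' : c = 1 ∨ c = 2 := by
    have := Nat.le_of_dvd (by norm_num) hc2
    interval_cases c
    · simp at hc2
    · left; rfl
    · right; rfl
  rcases hc' with rfl | rfl
  · exact absurd (mul_one _) hne
  · exact mul_comm _ _

theorem normSum_pi {ι : Type*} (g : G) (n : ℕ) (w : ι → V) (i : ι) :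
    normSum g n w i = normSum g n (w i) := by
  simp only [normSum, Finset.sum_apply, Pi.smul_apply]

end Cfsg.Agent.Lib.Helper27.SemiSpec
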