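import Mathlib
import Cfsg.Prelude.Def_SporadicCombinatorics
import Cfsg.Agent.Lib.Helper27.M24Cfg

/-!
# Sets of sets of points encoded by lists of masks; orbit certificates on them

`qSet q` is the finset of finsets `{setOf a | a ∈ q}`.  A table maps the code `q` onto the code `q'`
(`mapsQ`) when it maps the `j`-th mask of `q` onto the `j`-th mask of `q'`.  Orbit certificates on
codes are lists of `(target, source, generator index)`; the source must literally be a code reached
before.  Used for quartets of a dodecad (lists of four masks).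
-/

set_option autoImplicit false

namespace Cfsg.Agent.Lib.Helper27

open Cfsg Cfsg.Agent.Lib.Helper7
open scoped Pointwise

/-- the finset of finsets encoded by a list of masks -/
def qSet (q : List ℕ) : Finset (Finset GolayPt) := (q.map Cfsg.Agent.Lib.Helper7.setOf).toFinset

theorem mem_qSet {q : List ℕ} {t : Finset GolayPt} : t ∈ qSet q ↔ ∃ a ∈ q, setOf a = t := by
  unfold qSet
  rw [List.mem_toFinset, List.mem_map]

theorem qSet_nil : qSet [] = ∅ := rfl

theorem qSet_cons (a : ℕ) (q : List ℕ) : qSet (a :: q) = insert (setOf a) (qSet q) := by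
  unfold qSet
  rw [List.map_cons, List.toFinset_cons]

/-- the table maps the `j`-th mask of `q` onto the `j`-th mask of `q'` -/
def mapsQ (t : List ℕ) : List ℕ → List ℕ → Bool
  | [], [] => true
  | a :: q, a' :: q' => mapsInto t a a' && decide (pc a' ≤ pc a) && mapsQ t q q'
  | _, _ => false

theorem smul_qSet_of_mapsQ {g : Equiv.Perm GolayPt} {t : List ℕ} (h : Matches g t) :
    ∀ q q' : List ℕ, mapsQ t q q' = true → g • qSet q = qSet q'
  | [], [], _ => by rw [qSet_nil, Finset.smul_finset_empty]
  | a :: q, a' :: q', hm => by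
    simp only [mapsQ, Bool.and_eq_true, decide_eq_true_eq] at hm
    rw [qSet_cons, qSet_cons, Finset.smul_finset_insert, smul_qSet_of_mapsQ h q q' hm.2,
      smul_setOf_eq_of_mapsInto h hm.1.1 hm.1.2]
  | [], _ :: _, hm => by simp [mapsQ] at hm
  | _ :: _, [], hm => by simp [mapsQ] at hm

/-- the two codes contain the same masks -/
def sameSet (q q' : List ℕ) : Bool := (q.all fun a => q'.contains a) && q'.all fun a => q.contains a

theorem qSet_eq_of_sameSet {q q' : List ℕ} (h : sameSet q q' = true) : qSet q = qSet q' := by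
  unfold sameSet at h
  simp only [Bool.and_eq_true, List.all_eq_true, List.contains_iff_mem] at h
  ext t
  rw [mem_qSet, mem_qSet]
  constructor
  · rintro ⟨a, ha, rfl⟩; exact ⟨a, h.1 a ha, rfl⟩
  · rintro ⟨a, ha, rfl⟩; exact ⟨a, h.2 a ha, rfl⟩

/-- the orbit checker on codes -/
def orbCheckQ (ts : List (List ℕ)) : List (List ℕ) → List (List ℕ × List ℕ × ℕ) → Bool
  | _, [] => true
  | reached, (t, s, k) :: rest =>
    reached.contains s && mapsQ (ts.getD k idT) s t && orbCheckQ ts (t :: reached) rest

theorem orbCheckQ_sound (H : Subgroup (Equiv.Perm GolayPt)) (gs : List (Equiv.Perm GolayPt))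
    (ts : List (List ℕ)) (hM : List.Forall₂ Matches gs ts) (hH : ∀ g ∈ gs, g ∈ H) (b : List ℕ) :
    ∀ (cert : List (List ℕ × List ℕ × ℕ)) (reached : List (List ℕ)),
      (∀ r ∈ reached, ∃ g ∈ H, g • qSet b = qSet r) → orbCheckQ ts reached cert = true →
      ∀ e ∈ cert, ∃ g ∈ H, g • qSet b = qSet e.1 := by
  intro cert
  induction cert with
  | nil => intro _ _ _ e he; exact absurd he (List.not_mem_nil)
  | cons c rest ih =>
    intro reached hr hc e he
    obtain ⟨t, s, k⟩ := c
    simp only [orbCheckQ, Bool.and_eq_true] at hc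
    obtain ⟨⟨hs, hmap⟩, hrest⟩ := hc
    have hs' : s ∈ reached := by simpa using hs
    obtain ⟨g, hg, hgs⟩ := hr s hs'
    have hk : gs.getD k 1 ∈ H := getD_mem_of_forall hH k
    have hmk : Matches (gs.getD k 1) (ts.getD k idT) := forall₂_getD hM matches_one k
    have ht : ∃ g' ∈ H, g' • qSet b = qSet t := by
      refine ⟨gs.getD k 1 * g, H.mul_mem hk hg, ?_⟩
      rw [mul_smul, hgs]
      exact smul_qSet_of_mapsQ hmk s t hmap
    rcases List.mem_cons.mp he with rfl | he'
    · exact ht
    · refine ih (t :: reached) ?_ hrest e he'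
      intro r hr'
      rcases List.mem_cons.mp hr' with rfl | hr''
      · exact ht
      · exact hr r hr''

/-- all codes reached by a certificate starting from `b` -/
def reachedQ (b : List ℕ) (cert : List (List ℕ × List ℕ × ℕ)) : List (List ℕ) :=
  b :: cert.map fun e => e.1

theorem orbitQ_of_cert (H : Subgroup (Equiv.Perm GolayPt)) (gs : List (Equiv.Perm GolayPt))
    (ts : List (List ℕ)) (hM : List.Forall₂ Matches gs ts) (hH : ∀ g ∈ gs, g ∈ H) (b : List ℕ)
    (cert : List (List ℕ × List ℕ × ℕ)) (hc : orbCheckQ ts [b] cert = true) :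
    ∀ m ∈ reachedQ b cert, ∃ g ∈ H, g • qSet b = qSet m := by
  intro m hm
  unfold reachedQ at hm
  rcases List.mem_cons.mp hm with rfl | hm'
  · exact ⟨1, H.one_mem, one_smul _ _⟩
  · rw [List.mem_map] at hm'
    obtain ⟨e, he, rfl⟩ := hm'
    refine orbCheckQ_sound H gs ts hM hH b cert [b] ?_ hc e he
    intro r hr
    rw [List.mem_singleton] at hr
    subst hr
    exact ⟨1, H.one_mem, one_smul _ _⟩

/-- two codes reached from the same base are in one orbit -/
theorem orbitQ_pair (H : Subgroup (Equiv.Perm GolayPt)) {b m m' : List ℕ}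
    (h : ∃ g ∈ H, g • qSet b = qSet m) (h' : ∃ g ∈ H, g • qSet b = qSet m') :
    ∃ g ∈ H, g • qSet m = qSet m' := by
  obtain ⟨g, hg, hgm⟩ := h
  obtain ⟨g', hg', hgm'⟩ := h'
  refine ⟨g' * g⁻¹, H.mul_mem hg' (H.inv_mem hg), ?_⟩
  rw [mul_smul, ← hgm, inv_smul_smul, hgm']

/-- invariant, base code, certificate -/
abbrev OrbClassQ := ℕ × List ℕ × List (List ℕ × List ℕ × ℕ)

/-- all certificates are accepted -/
def classesOKQ (ts : List (List ℕ)) (classes : List OrbClassQ) : Bool :=
  classes.all fun c => orbCheckQ ts [c.2.1] c.2.2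

/-- every selected code of `L` is (up to order) reached in the class of its invariant -/
def coverOKQ (L : List (List ℕ)) (sel : List ℕ → Bool) (inv : List ℕ → ℕ)
    (classes : List OrbClassQ) : Bool :=
  L.all fun q => !sel q || classes.any fun c =>
    inv q == c.1 && (reachedQ c.2.1 c.2.2).any fun r => sameSet r q

theorem orbits_of_classesQ (L : List (List ℕ)) (H : Subgroup (Equiv.Perm GolayPt))
    (gs : List (Equiv.Perm GolayPt))
    (ts : List (List ℕ)) (hM : List.Forall₂ Matches gs ts) (hH : ∀ g ∈ gs, g ∈ H)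
    (sel : List ℕ → Bool) (inv : List ℕ → ℕ) (classes : List OrbClassQ)
    (hnd : (classes.map fun c => c.1).Nodup)
    (hc : classesOKQ ts classes = true) (hall : coverOKQ L sel inv classes = true) :
    ∀ q ∈ L, ∀ q' ∈ L, sel q = true → sel q' = true → inv q = inv q' →
      ∃ g ∈ H, g • qSet q = qSet q' := by
  intro m hm m' hm' hs hs' hinv
  have key : ∀ n ∈ L, sel n = true → ∃ c ∈ classes, inv n = c.1 ∧
      ∃ g ∈ H, g • qSet c.2.1 = qSet n := by
    intro n hn hsn
    have h1 := List.all_eq_true.1 hall n hn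
    rw [hsn] at h1
    simp only [Bool.not_true, Bool.false_or, List.any_eq_true, Bool.and_eq_true, beq_iff_eq] at h1
    obtain ⟨c, hcm, hic, r, hr, hrn⟩ := h1
    refine ⟨c, hcm, hic, ?_⟩
    have h2 := List.all_eq_true.1 hc c hcm
    obtain ⟨g, hg, hgr⟩ := orbitQ_of_cert H gs ts hM hH c.2.1 c.2.2 h2 r hr
    exact ⟨g, hg, by rw [hgr, qSet_eq_of_sameSet hrn]⟩
  obtain ⟨c, hcm, hic, hg⟩ := key m hm hs
  obtain ⟨c', hcm', hic', hg'⟩ := key m' hm' hs'
  have hcc : c = c' := by
    have h1 : c.1 = c'.1 := by rw [← hic, ← hic', hinv]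
    exact List.inj_on_of_nodup_map hnd hcm hcm' h1
  subst hcc
  exact orbitQ_pair H hg hg'

/-- conjugacy of selected codes with equal invariant under a configuration stabilizer -/
theorem cfg_orbitsQ (L : List (List ℕ)) (prog : List (ℕ × ℕ)) (idxs : List ℕ) (T : List (List ℕ))
    (hT : slpT prog idxs = T) (pis ms : List ℕ) (hpis : ∀ i ∈ pis, i < 24)
    (hfix : T.all (fixesOK pis ms) = true)
    (sel : List ℕ → Bool) (inv : List ℕ → ℕ) (classes : List OrbClassQ)
    (hnd : (classes.map fun c => c.1).Nodup)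
    (hc : classesOKQ T classes = true) (hall : coverOKQ L sel inv classes = true) :
    ∀ q ∈ L, ∀ q' ∈ L, sel q = true → sel q' = true → inv q = inv q' →
      ∃ g ∈ cfgStab (pis.map pt) (ms.map setOf), g • qSet q = qSet q' := by
  have hM := slp_match prog idxs
  rw [hT] at hM
  exact orbits_of_classesQ L _ (slpP prog idxs) T hM
    (slpP_mem_cfgStab prog idxs T hT pis ms hpis hfix) sel inv classes hnd hc hall

end Cfsg.Agent.Lib.Helper27
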