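import Mathlib

/-!
# The element orders of the symmetric group of degree 8
-/

set_option autoImplicit false

namespace Cfsg.Agent.Lib.Helper27.SpecS8

theorem lcm_mem_of_list : ∀ l : List ℕ, (∀ x ∈ l, 2 ≤ x) → l.sum ≤ 8 →
    l.foldr Nat.lcm 1 ∈ ({1, 2, 3, 4, 5, 6, 7, 8, 10, 12, 15} : Set ℕ) := by
  intro l h2 hs
  match l, h2, hs with
  | [], _, _ => simp
  | [a], h2, hs =>
    have ha := h2 a (by simp)
    simp only [List.sum_cons, List.sum_nil] at hs
    have : a ≤ 8 := by omega
    interval_cases a <;> simp
  | [a, b], h2, hs =>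
    have ha := h2 a (by simp)
    have hb := h2 b (by simp)
    simp only [List.sum_cons, List.sum_nil] at hs
    have : a ≤ 6 := by omega
    have : b ≤ 6 := by omega
    interval_cases a <;> interval_cases b <;> first | omega | (simp [Nat.lcm]; done) | decide
  | [a, b, c], h2, hs =>
    have ha := h2 a (by simp)
    have hb := h2 b (by simp)
    have hc := h2 c (by simp)
    simp only [List.sum_cons, List.sum_nil] at hs
    have : a ≤ 4 := by omega
    have : b ≤ 4 := by omega
    have : c ≤ 4 := by omega
    interval_cases a <;> interval_cases b <;> interval_cases c <;>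
      first | omega | (simp [Nat.lcm]; done) | decide
  | [a, b, c, d], h2, hs =>
    have ha := h2 a (by simp)
    have hb := h2 b (by simp)
    have hc := h2 c (by simp)
    have hd := h2 d (by simp)
    simp only [List.sum_cons, List.sum_nil] at hs
    obtain rfl : a = 2 := by omega
    obtain rfl : b = 2 := by omega
    obtain rfl : c = 2 := by omega
    obtain rfl : d = 2 := by omega
    simp [Nat.lcm]
  | a :: b :: c :: d :: e :: l, h2, hs =>
    exfalso
    have ha := h2 a (by simp)
    have hb := h2 b (by simp)
    have hc := h2 c (by simp)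
    have hd := h2 d (by simp)
    have he := h2 e (by simp)
    simp only [List.sum_cons] at hs
    omega

theorem coe_lcm (l : List ℕ) : Multiset.lcm (↑l : Multiset ℕ) = l.foldr Nat.lcm 1 := by
  induction l with
  | nil => simp
  | cons a l ih =>
    rw [← Multiset.cons_coe, Multiset.lcm_cons, ih]
    rfl

theorem lcm_mem_of_multiset (m : Multiset ℕ) (h2 : ∀ x ∈ m, 2 ≤ x) (hs : m.sum ≤ 8) :
    m.lcm ∈ ({1, 2, 3, 4, 5, 6, 7, 8, 10, 12, 15} : Set ℕ) := by
  induction m using Quotient.inductionOn with
  | _ l =>
    have e : Multiset.lcm (↑l : Multiset ℕ) = l.foldr Nat.lcm 1 := coe_lcm l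
    have e' : Multiset.lcm (Quotient.mk (List.isSetoid ℕ) l) = l.foldr Nat.lcm 1 := e
    rw [e']
    exact lcm_mem_of_list l (fun x hx => h2 x (by simpa using hx)) (by simpa using hs)

theorem range_orderOf_perm8 :
    Set.range (orderOf : Equiv.Perm (Fin 8) → ℕ) = {1, 2, 3, 4, 5, 6, 7, 8, 10, 12, 15} := by
  ext n
  constructor
  · rintro ⟨σ, rfl⟩
    rw [← Equiv.Perm.lcm_cycleType]
    apply lcm_mem_of_multiset
    · intro x hx; exact Equiv.Perm.two_le_of_mem_cycleType hx
    · have := Equiv.Perm.sum_cycleType_le σ
      simpa using this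
  · intro hn
    have key : ∀ m : Multiset ℕ, m.sum ≤ 8 → (∀ a ∈ m, 2 ≤ a) → m.lcm ∈ Set.range (orderOf : Equiv.Perm (Fin 8) → ℕ) := by
      intro m h1 h2
      obtain ⟨g, hg⟩ := (Equiv.Perm.exists_with_cycleType_iff (α := Fin 8)).2 ⟨by simpa using h1, h2⟩
      exact ⟨g, by rw [← Equiv.Perm.lcm_cycleType, hg]⟩
    simp only [Set.mem_insert_iff, Set.mem_singleton_iff] at hn
    rcases hn with rfl | rfl | rfl | rfl | rfl | rfl | rfl | rfl | rfl | rfl | rfl
    · simpa using key 0 (by simp) (by simp)
    · simpa using key {2} (by simp) (by simp)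
    · simpa using key {3} (by simp) (by simp)
    · simpa using key {4} (by simp) (by simp)
    · simpa using key {5} (by simp) (by simp)
    · simpa using key {6} (by simp) (by simp)
    · simpa using key {7} (by simp) (by simp)
    · simpa using key {8} (by simp) (by simp)
    · have := key {5, 2} (by simp) (by simp)
      have e : Multiset.lcm ({5, 2} : Multiset ℕ) = 10 := by
        rw [Multiset.insert_eq_cons, Multiset.lcm_cons, Multiset.lcm_singleton]; rfl
      rwa [e] at this
    · have := key {4, 3} (by simp) (by simp)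
      have e : Multiset.lcm ({4, 3} : Multiset ℕ) = 12 := by
        rw [Multiset.insert_eq_cons, Multiset.lcm_cons, Multiset.lcm_singleton]; rfl
      rwa [e] at this
    · have := key {5, 3} (by simp) (by simp)
      have e : Multiset.lcm ({5, 3} : Multiset ℕ) = 15 := by
        rw [Multiset.insert_eq_cons, Multiset.lcm_cons, Multiset.lcm_singleton]; rfl
      rwa [e] at this

end Cfsg.Agent.Lib.Helper27.SpecS8
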