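import Mathlib
import Cfsg.Prelude.Def_SporadicCombinatorics

set_option autoImplicit false

namespace Cfsg.Agent.Lib.Helper27

open Cfsg

/-- parameter space for the length-12 ternary code -/
abbrev P6 : Type := ZMod 3 × ZMod 3 × ZMod 3 × ZMod 3 × ZMod 3 × ZMod 3

/-- The systematic generator map of the ternary code: the parameters are the entries at
positions (0,0),(0,1),(0,2),(1,0),(1,1),(2,0). -/
def tgGen (c : P6) : ArrayPt → ZMod 3 := fun p =>
  match c with
  | (x00, x01, x02, x10, x11, x20) =>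
    (![(![x00, x01, x02] : Fin 3 → ZMod 3),
       ![x10, x11, x00 + x01 + x02 - x10 - x11],
       ![x20, -x01 + x02 - x10 + x11 + x20, x00 - x01 + x10 - x11 + x20],
       ![x00 - x01 - x02 - x10 - x20, x00 + x02 + x10 + x11 - x20, -x00 - x01 + x02 - x11 - x20]] p.1) p.2

/-- read off the parameters of a word -/
def tgProj (x : ArrayPt → ZMod 3) : P6 :=
  (x (0, 0), x (0, 1), x (0, 2), x (1, 0), x (1, 1), x (2, 0))

theorem tgProj_tgGen (c : P6) : tgProj (tgGen c) = c := by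
  rcases c with ⟨x00, x01, x02, x10, x11, x20⟩
  rfl

theorem sum_zmod3 (f : ZMod 3 → ZMod 3) : ∑ r : ZMod 3, f r = f 0 + f 1 + f 2 :=
  Fin.sum_univ_three f

theorem h3 : (3 : ZMod 3) = 0 := by decide

theorem zmod3_cases (r : ZMod 3) : r = 0 ∨ r = 1 ∨ r = 2 := by
  revert r; decide

theorem fin4_cases (i : Fin 4) : i = 0 ∨ i = 1 ∨ i = 2 ∨ i = 3 := by
  revert i; decide

theorem tet_mem (a b : ZMod 3) : (![b, a, a + b, a + 2 * b] : Fin 4 → ZMod 3) ∈ tetracode := by
  refine Submodule.mem_span_pair.mpr ⟨a, b, ?_⟩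
  funext i
  rcases fin4_cases i with h | h | h | h <;> subst h <;> simp [mul_comm]

theorem tet_mem_iff (t : Fin 4 → ZMod 3) :
    t ∈ tetracode ↔ ∃ a b : ZMod 3, t = ![b, a, a + b, a + 2 * b] := by
  constructor
  · intro h
    obtain ⟨a, b, hab⟩ := Submodule.mem_span_pair.mp h
    refine ⟨a, b, ?_⟩
    rw [← hab]
    funext i
    rcases fin4_cases i with h | h | h | h <;> subst h <;> simp [mul_comm]
  · rintro ⟨a, b, rfl⟩
    exact tet_mem a b

/-- decidable form of the defining predicate -/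
def IsTGWordDec (x : ArrayPt → ZMod 3) : Prop :=
  ∃ s : ZMod 3, (∀ i : Fin 4, ∑ r : ZMod 3, x (i, r) = -s) ∧
    ∀ a b : ZMod 3, ∑ i : Fin 4, x (i, (![b, a, a + b, a + 2 * b] : Fin 4 → ZMod 3) i) = s

instance instDecidableIsTGWordDec (x : ArrayPt → ZMod 3) : Decidable (IsTGWordDec x) := by
  unfold IsTGWordDec; infer_instance

theorem isTGWord_iff (x : ArrayPt → ZMod 3) : IsTernaryGolayWord x ↔ IsTGWordDec x := by
  unfold IsTernaryGolayWord IsTGWordDec
  constructor
  · rintro ⟨s, h1, h2⟩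
    exact ⟨s, h1, fun a b => h2 _ (tet_mem a b)⟩
  · rintro ⟨s, h1, h2⟩
    refine ⟨s, h1, fun t ht => ?_⟩
    obtain ⟨a, b, rfl⟩ := (tet_mem_iff t).mp ht
    exact h2 a b

theorem mem_tg_iff (x : ArrayPt → ZMod 3) : x ∈ ternaryGolayCode ↔ IsTGWordDec x :=
  isTGWord_iff x

set_option maxRecDepth 100000 in
theorem tgGen_mem_dec : ∀ c : P6, IsTGWordDec (tgGen c) := by
  decide +kernel

theorem tgGen_mem (c : P6) : tgGen c ∈ ternaryGolayCode :=
  (mem_tg_iff _).mpr (tgGen_mem_dec c)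

theorem tgGen_tgProj (x : ArrayPt → ZMod 3) (hx : x ∈ ternaryGolayCode) : tgGen (tgProj x) = x := by
  obtain ⟨s, hcol, htet⟩ := hx
  have hc0 := hcol 0
  have hc1 := hcol 1
  have hc2 := hcol 2
  have hc3 := hcol 3
  rw [sum_zmod3] at hc0 hc1 hc2 hc3
  have ht00 := htet ![0, 0, 0, 0] ((tet_mem_iff _).mpr ⟨0, 0, by decide⟩)
  have ht01 := htet ![1, 0, 1, 2] ((tet_mem_iff _).mpr ⟨0, 1, by decide⟩)
  have ht10 := htet ![0, 1, 1, 1] ((tet_mem_iff _).mpr ⟨1, 0, by decide⟩)
  rw [Fin.sum_univ_four] at ht00 ht01 ht10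
  simp only [Matrix.cons_val_zero, Matrix.cons_val_one, Matrix.cons_val] at ht00 ht01 ht10
  have h3 := h3
  funext ⟨i, r⟩
  rcases fin4_cases i with h | h | h | h <;> subst h <;>
  rcases zmod3_cases r with h | h | h <;> subst h
  · rfl
  · rfl
  · rfl
  · rfl
  · rfl
  · show x (0, 0) + x (0, 1) + x (0, 2) - x (1, 0) - x (1, 1) = x (1, 2)
    linear_combination -(-hc0 + hc1) - (0) * h3
  · rfl
  · show -x (0, 1) + x (0, 2) - x (1, 0) + x (1, 1) + x (2, 0) = x (2, 1)
    linear_combination -(-hc0 + hc3 - ht00 - ht01 - ht10) - (x (0, 0) + x (0, 1) + x (1, 0) + x (2, 1) - s) * h3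
  · show x (0, 0) - x (0, 1) + x (1, 0) - x (1, 1) + x (2, 0) = x (2, 2)
    linear_combination -(hc2 - hc3 + ht00 + ht01 + ht10) - (-x (0, 0) - x (1, 0) - x (2, 0) - x (2, 1) + s) * h3
  · show x (0, 0) - x (0, 1) - x (0, 2) - x (1, 0) - x (2, 0) = x (3, 0)
    linear_combination -(hc0 + ht00) - (-x (0, 0)) * h3
  · show x (0, 0) + x (0, 2) + x (1, 0) + x (1, 1) - x (2, 0) = x (3, 1)
    linear_combination -(-hc0 - hc3 + ht00 + ht01 - ht10) - (-x (1, 0) + x (3, 1) + s) * h3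
  · show -x (0, 0) - x (0, 1) + x (0, 2) - x (1, 1) - x (2, 0) = x (3, 2)
    linear_combination -(-hc0 - hc3 + ht00 - ht01 + ht10) - (x (0, 1) + x (3, 2) + s) * h3

theorem tgGen_injective : Function.Injective tgGen := by
  intro c d h
  rw [← tgProj_tgGen c, ← tgProj_tgGen d, h]

theorem mem_tg_iff_exists (x : ArrayPt → ZMod 3) : x ∈ ternaryGolayCode ↔ ∃ c : P6, tgGen c = x :=
  ⟨fun h => ⟨tgProj x, tgGen_tgProj x h⟩, fun ⟨c, hc⟩ => hc ▸ tgGen_mem c⟩

/-- the code is in bijection with the parameter space -/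
def tgEquiv : ternaryGolayCode ≃ P6 where
  toFun x := tgProj x.1
  invFun c := ⟨tgGen c, tgGen_mem c⟩
  left_inv x := Subtype.ext (tgGen_tgProj x.1 x.2)
  right_inv c := tgProj_tgGen c

theorem tg_card : Nat.card ternaryGolayCode = 729 := by
  rw [Nat.card_congr tgEquiv, Nat.card_eq_fintype_card]
  simp only [Fintype.card_prod, ZMod.card]

/-- transfer of counting problems to the parameter space -/
theorem tg_ncard (P : (ArrayPt → ZMod 3) → Prop) [DecidablePred P] :
    {x : ArrayPt → ZMod 3 | x ∈ ternaryGolayCode ∧ P x}.ncard =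
      (Finset.univ.filter fun c : P6 => P (tgGen c)).card := by
  have : {x : ArrayPt → ZMod 3 | x ∈ ternaryGolayCode ∧ P x} =
      tgGen '' ((Finset.univ.filter fun c : P6 => P (tgGen c)) : Set P6) := by
    ext x
    simp only [Set.mem_ofPred_eq, Set.mem_image, Finset.coe_filter, Finset.mem_univ, true_and]
    constructor
    · rintro ⟨hx, hP⟩
      exact ⟨tgProj x, by rw [tgGen_tgProj x hx]; exact hP, tgGen_tgProj x hx⟩
    · rintro ⟨c, hP, rfl⟩
      exact ⟨tgGen_mem c, hP⟩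
  rw [this, Set.ncard_image_of_injective _ tgGen_injective, Set.ncard_coe_finset]

end Cfsg.Agent.Lib.Helper27
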