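import Mathlib
import Cfsg.Prelude.Def_SporadicCombinatorics
import Cfsg.Agent.Lib.Helper27.TernaryGolay

set_option autoImplicit false

namespace Cfsg.Agent.Lib.Helper27

open Cfsg

set_option maxRecDepth 100000 in
theorem tgGen_wt_cases : ∀ c : P6, tgGen c ≠ 0 → (ternarySupport (tgGen c)).card = 6 ∨
    (ternarySupport (tgGen c)).card = 9 ∨ (ternarySupport (tgGen c)).card = 12 := by
  decide +kernel

theorem tg_wt_cases (x : ArrayPt → ZMod 3) (hx : x ∈ ternaryGolayCode) (h0 : x ≠ 0) :
    (ternarySupport x).card = 6 ∨ (ternarySupport x).card = 9 ∨ (ternarySupport x).card = 12 := by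
  obtain ⟨c, rfl⟩ := (mem_tg_iff_exists x).mp hx
  exact tgGen_wt_cases c h0

theorem tg_wt_ge (x : ArrayPt → ZMod 3) (hx : x ∈ ternaryGolayCode) (h0 : x ≠ 0) :
    6 ≤ (ternarySupport x).card := by
  rcases tg_wt_cases x hx h0 with h | h | h <;> omega

theorem zmod3_pointwise : ∀ a b : ZMod 3,
    (if a + b ≠ 0 then 1 else 0) + (if a - b ≠ 0 then 1 else 0) +
      3 * (if (a ≠ 0 ∧ b ≠ 0) then 1 else 0) =
    2 * (if a ≠ 0 then 1 else 0) + 2 * (if b ≠ 0 then (1 : ℕ) else 0) := by
  decide

/-- the basic weight identity for ternary words -/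
theorem wt_add_sub {α : Type*} [Fintype α] [DecidableEq α] (x y : α → ZMod 3) :
    (ternarySupport (x + y)).card + (ternarySupport (x - y)).card +
      3 * (ternarySupport x ∩ ternarySupport y).card =
    2 * (ternarySupport x).card + 2 * (ternarySupport y).card := by
  have hinter : ternarySupport x ∩ ternarySupport y =
      Finset.univ.filter fun a => (x a ≠ 0 ∧ y a ≠ 0) := by
    ext a
    simp [ternarySupport]
  rw [hinter]
  unfold ternarySupport
  simp only [Finset.card_filter, Finset.mul_sum, ← Finset.sum_add_distrib]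
  refine Finset.sum_congr rfl fun a _ => ?_
  exact zmod3_pointwise (x a) (y a)

theorem ternarySupport_neg {α : Type*} [Fintype α] [DecidableEq α] (x : α → ZMod 3) :
    ternarySupport (-x) = ternarySupport x := by
  ext a
  simp [ternarySupport]

/-- two weight-6 codewords with distinct supports meet in at most 4 positions -/
theorem tg_inter_le (x y : ArrayPt → ZMod 3) (hx : x ∈ ternaryGolayCode) (hy : y ∈ ternaryGolayCode)
    (hx6 : (ternarySupport x).card = 6) (hy6 : (ternarySupport y).card = 6)
    (hne : ternarySupport x ≠ ternarySupport y) :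
    (ternarySupport x ∩ ternarySupport y).card ≤ 4 := by
  have h1 : x + y ≠ 0 := by
    intro h
    apply hne
    have : x = -y := eq_neg_of_add_eq_zero_left h
    rw [this, ternarySupport_neg]
  have h2 : x - y ≠ 0 := by
    intro h
    apply hne
    rw [sub_eq_zero.mp h]
  have h3 := tg_wt_ge _ (ternaryGolayCode.add_mem hx hy) h1
  have h4 := tg_wt_ge _ (ternaryGolayCode.sub_mem hx hy) h2
  have h5 := wt_add_sub x y
  omega

/-- two weight-6 codewords with the same support are equal or opposite -/
theorem tg_same_support (x y : ArrayPt → ZMod 3) (hx : x ∈ ternaryGolayCode)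
    (hy : y ∈ ternaryGolayCode) (hx6 : (ternarySupport x).card = 6)
    (hxy : ternarySupport x = ternarySupport y) : y = x ∨ y = -x := by
  by_contra hcon
  rw [not_or] at hcon
  have h1 : x + y ≠ 0 := by
    intro h
    exact hcon.2 (eq_neg_of_add_eq_zero_right h)
  have h2 : x - y ≠ 0 := by
    intro h
    exact hcon.1 (sub_eq_zero.mp h).symm
  have h3 := tg_wt_ge _ (ternaryGolayCode.add_mem hx hy) h1
  have h4 := tg_wt_ge _ (ternaryGolayCode.sub_mem hx hy) h2
  have h5 := wt_add_sub x y
  rw [← hxy, Finset.inter_self] at h5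
  omega

end Cfsg.Agent.Lib.Helper27
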