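import Mathlib
import Cfsg.Prelude.Def_SporadicCombinatorics
import Cfsg.Agent.Lib.Helper27.TernaryGolay
import Cfsg.Agent.Lib.Helper27.TernaryWeights

set_option autoImplicit false

namespace Cfsg.Agent.Lib.Helper27

open Cfsg

/-- the hexads of the ternary code, as a Finset -/
def hexF : Finset (Finset ArrayPt) :=
  (Finset.univ.filter (fun c : P6 => (ternarySupport (tgGen c)).card = 6)).image
    (fun c => ternarySupport (tgGen c))

/-- the hexads of the ternary code, as in the statements -/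
def hexSet : Set (Finset ArrayPt) :=
  {h : Finset ArrayPt | ∃ x ∈ ternaryGolayCode, ternarySupport x = h ∧ h.card = 6}

theorem hexSet_eq : hexSet = (hexF : Set (Finset ArrayPt)) := by
  ext h
  simp only [hexSet, hexF, Set.mem_ofPred_eq, Finset.coe_image, Finset.coe_filter, Finset.mem_univ,
    true_and, Set.mem_image]
  constructor
  · rintro ⟨x, hx, rfl, h6⟩
    obtain ⟨c, rfl⟩ := (mem_tg_iff_exists x).mp hx
    exact ⟨c, h6, rfl⟩
  · rintro ⟨c, h6, rfl⟩
    exact ⟨tgGen c, tgGen_mem c, rfl, h6⟩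

set_option maxRecDepth 100000 in
theorem hexF_card : hexF.card = 132 := by
  decide +kernel

attribute [irreducible] hexF

theorem hexF_mem_iff {b : Finset ArrayPt} : b ∈ hexF ↔
    ∃ x ∈ ternaryGolayCode, ternarySupport x = b ∧ b.card = 6 := by
  have := Set.ext_iff.mp hexSet_eq b
  simp only [hexSet, Set.mem_ofPred_eq, Finset.mem_coe] at this
  exact this.symm

theorem hexF_card_mem {b : Finset ArrayPt} (hb : b ∈ hexF) : b.card = 6 := by
  obtain ⟨x, _, _, h6⟩ := hexF_mem_iff.mp hb
  exact h6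

theorem hexF_inter {b b' : Finset ArrayPt} (hb : b ∈ hexF) (hb' : b' ∈ hexF) (hne : b ≠ b') :
    (b ∩ b').card ≤ 4 := by
  obtain ⟨x, hx, hxb, h6⟩ := hexF_mem_iff.mp hb
  obtain ⟨y, hy, hyb, h6'⟩ := hexF_mem_iff.mp hb'
  rw [← hxb] at h6 hne ⊢
  rw [← hyb] at h6' hne ⊢
  exact tg_inter_le x y hx hy h6 h6' hne

theorem card_arraypt : Fintype.card ArrayPt = 12 := by
  simp [ArrayPt, Fintype.card_prod, ZMod.card]

/-- every 5-set of positions lies in a hexad -/
theorem hexF_cover (s : Finset ArrayPt) (hs : s.card = 5) : ∃ b ∈ hexF, s ⊆ b := by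
  classical
  set T : Finset (Finset ArrayPt) := hexF.biUnion (fun b => b.powersetCard 5) with hT
  have hsub : T ⊆ (Finset.univ : Finset ArrayPt).powersetCard 5 := by
    intro u hu
    rw [hT, Finset.mem_biUnion] at hu
    obtain ⟨b, _, hub⟩ := hu
    rw [Finset.mem_powersetCard] at hub ⊢
    exact ⟨Finset.subset_univ _, hub.2⟩
  have hdisj : ∀ b ∈ hexF, ∀ b' ∈ hexF, b ≠ b' →
      Disjoint (b.powersetCard 5) (b'.powersetCard 5) := by
    intro b hb b' hb' hne
    rw [Finset.disjoint_left]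
    intro u hu hu'
    rw [Finset.mem_powersetCard] at hu hu'
    have h1 : u ⊆ b ∩ b' := Finset.subset_inter hu.1 hu'.1
    have h2 := Finset.card_le_card h1
    have h3 := hexF_inter hb hb' hne
    omega
  have hcard : T.card = 792 := by
    rw [hT, Finset.card_biUnion hdisj]
    have : ∀ b ∈ hexF, (b.powersetCard 5).card = 6 := by
      intro b hb
      rw [Finset.card_powersetCard, hexF_card_mem hb]
      rfl
    rw [Finset.sum_congr rfl this, Finset.sum_const, hexF_card]
    rfl
  have hall : ((Finset.univ : Finset ArrayPt).powersetCard 5).card = 792 := by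
    rw [Finset.card_powersetCard, Finset.card_univ, card_arraypt]
    rfl
  have hTeq : T = (Finset.univ : Finset ArrayPt).powersetCard 5 :=
    Finset.eq_of_subset_of_card_le hsub (by rw [hcard, hall])
  have hsT : s ∈ T := by
    rw [hTeq, Finset.mem_powersetCard]
    exact ⟨Finset.subset_univ _, hs⟩
  rw [hT, Finset.mem_biUnion] at hsT
  obtain ⟨b, hb, hsb⟩ := hsT
  exact ⟨b, hb, (Finset.mem_powersetCard.mp hsb).1⟩

theorem hexSet_steiner : IsSteinerSystem 5 6 hexSet := by
  rw [hexSet_eq]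
  refine ⟨fun b hb => hexF_card_mem hb, fun s hs => ?_⟩
  obtain ⟨b, hb, hsb⟩ := hexF_cover s hs
  refine ⟨b, ⟨hb, hsb⟩, ?_⟩
  rintro b' ⟨hb', hsb'⟩
  by_contra hne
  have h1 : s ⊆ b' ∩ b := Finset.subset_inter hsb' hsb
  have h2 := Finset.card_le_card h1
  have h3 := hexF_inter hb' hb hne
  omega

theorem hexSet_ncard : hexSet.ncard = 132 := by
  rw [hexSet_eq, Set.ncard_coe_finset, hexF_card]

end Cfsg.Agent.Lib.Helper27
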